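import Mathlib
import Groth.Prelude.Def_RDerDelta

set_option autoImplicit false
universe v u v' u'
open CategoryTheory CategoryTheory.Limits

namespace Groth.Agent.Helper24.Horseshoe

variable {C : Type u} [Category.{v} C] [Abelian C]

section Components

lemma mono_of_components {S S' : ShortComplex C} (f : S ⟶ S')
    (h₁ : Mono f.τ₁) (h₂ : Mono f.τ₂) (h₃ : Mono f.τ₃) : Mono f := by
  constructor
  intro Z a b h
  ext
  · rw [← cancel_mono f.τ₁, ← ShortComplex.comp_τ₁, h, ShortComplex.comp_τ₁]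
  · rw [← cancel_mono f.τ₂, ← ShortComplex.comp_τ₂, h, ShortComplex.comp_τ₂]
  · rw [← cancel_mono f.τ₃, ← ShortComplex.comp_τ₃, h, ShortComplex.comp_τ₃]

lemma isZero_of_components {S : ShortComplex C} (h₁ : IsZero S.X₁) (h₂ : IsZero S.X₂)
    (h₃ : IsZero S.X₃) : IsZero S := by
  rw [IsZero.iff_id_eq_zero]
  ext
  · exact h₁.eq_of_src _ _
  · exact h₂.eq_of_src _ _
  · exact h₃.eq_of_src _ _

lemma exact_of_components (K : ShortComplex (ShortComplex C))
    (h₁ : (K.map ShortComplex.π₁).Exact) (h₂ : (K.map ShortComplex.π₂).Exact)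
    (h₃ : (K.map ShortComplex.π₃).Exact) : K.Exact := by
  rw [ShortComplex.exact_iff_isZero_homology] at h₁ h₂ h₃ ⊢
  apply isZero_of_components
  · exact IsZero.of_iso h₁ (K.mapHomologyIso ShortComplex.π₁).symm
  · exact IsZero.of_iso h₂ (K.mapHomologyIso ShortComplex.π₂).symm
  · exact IsZero.of_iso h₃ (K.mapHomologyIso ShortComplex.π₃).symm

/-- A short exact sequence of injectives is an injective object of `ShortComplex C`. -/
lemma injective_of_good (J : ShortComplex C) (hJ : J.ShortExact) [Injective J.X₁]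
    [Injective J.X₂] [Injective J.X₃] : Injective J := by
  have := hJ.mono_f
  have := hJ.epi_g
  let σ : J.Splitting := ShortComplex.Splitting.ofExactOfRetraction J hJ.exact
    (Injective.factorThru (𝟙 _) J.f) (by simp) inferInstance
  constructor
  intro A B k m hm
  have hm₂ : Mono m.τ₂ := (inferInstance : Mono (ShortComplex.π₂.map m))
  have hm₃ : Mono m.τ₃ := (inferInstance : Mono (ShortComplex.π₃.map m))
  let l₃ : B.X₃ ⟶ J.X₃ := Injective.factorThru k.τ₃ m.τ₃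
  let b : B.X₂ ⟶ J.X₁ := Injective.factorThru (k.τ₂ ≫ σ.r) m.τ₂
  let l₂ : B.X₂ ⟶ J.X₂ := b ≫ J.f + B.g ≫ l₃ ≫ σ.s
  have hl₃ : m.τ₃ ≫ l₃ = k.τ₃ := Injective.comp_factorThru _ _
  have hb : m.τ₂ ≫ b = k.τ₂ ≫ σ.r := Injective.comp_factorThru _ _
  have hl₂ : m.τ₂ ≫ l₂ = k.τ₂ := by
    simp only [l₂, Preadditive.comp_add, reassoc_of% hb]
    rw [m.comm₂₃_assoc, reassoc_of% hl₃, ← k.comm₂₃_assoc, ← Preadditive.comp_add, σ.id,
      Category.comp_id]
  have hl₂g : l₂ ≫ J.g = B.g ≫ l₃ := by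
    simp [l₂]
  have hfl₂ : B.f ≫ l₂ ≫ σ.r ≫ J.f = B.f ≫ l₂ := by
    have h1 : σ.r ≫ J.f = 𝟙 _ - J.g ≫ σ.s := by
      rw [eq_sub_iff_add_eq, σ.id]
    rw [h1, Preadditive.comp_sub, Preadditive.comp_sub, Category.comp_id, reassoc_of% hl₂g,
      B.zero_assoc, zero_comp, sub_zero]
  refine ⟨ShortComplex.homMk (B.f ≫ l₂ ≫ σ.r) l₂ l₃ (by simpa using hfl₂) hl₂g, ?_⟩
  ext
  · simp only [ShortComplex.comp_τ₁, ShortComplex.homMk_τ₁]
    rw [m.comm₁₂_assoc, reassoc_of% hl₂, ← k.comm₁₂_assoc, σ.f_r, Category.comp_id]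
  · simpa using hl₂
  · simpa using hl₃

end Components

section MkRes

universe v₁ u₁
variable {A : Type u₁} [Category.{v₁} A] [Abelian A]

/-- Build an injective resolution from exactness data. -/
noncomputable def mkRes (Z : A) (K : CochainComplex A ℕ) (hinj : ∀ n, Injective (K.X n))
    (ι₀ : Z ⟶ K.X 0) (w : ι₀ ≫ K.d 0 1 = 0) (hmono : Mono ι₀)
    (h0 : (ShortComplex.mk ι₀ (K.d 0 1) w).Exact) (hsucc : ∀ n, K.ExactAt (n + 1)) :
    InjectiveResolution Z where
  cocomplex := K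
  injective := hinj
  ι := (CochainComplex.fromSingle₀Equiv _ _).symm ⟨ι₀, w⟩
  quasiIso := ⟨fun n => by
    cases n
    · rw [CochainComplex.quasiIsoAt₀_iff, ShortComplex.quasiIso_iff_of_zeros _ rfl rfl
        (K.shape _ _ (by simp))]
      refine (ShortComplex.exact_and_mono_f_iff_of_iso ?_).2 ⟨h0, hmono⟩
      exact ShortComplex.isoMk (Iso.refl _) (Iso.refl _) (Iso.refl _)
        (by dsimp; simp; erw [Category.id_comp, Category.comp_id])
        (by dsimp; simp; erw [Category.id_comp, Category.comp_id])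
    · rw [quasiIsoAt_iff_exactAt]
      · apply hsucc
      · apply CochainComplex.exactAt_succ_single_obj⟩

@[simp]
lemma mkRes_cocomplex (Z : A) (K : CochainComplex A ℕ) (hinj : ∀ n, Injective (K.X n))
    (ι₀ : Z ⟶ K.X 0) (w : ι₀ ≫ K.d 0 1 = 0) (hmono : Mono ι₀)
    (h0 : (ShortComplex.mk ι₀ (K.d 0 1) w).Exact) (hsucc : ∀ n, K.ExactAt (n + 1)) :
    (mkRes Z K hinj ι₀ w hmono h0 hsucc).cocomplex = K := rfl

lemma mkRes_ι_f_zero (Z : A) (K : CochainComplex A ℕ) (hinj : ∀ n, Injective (K.X n))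
    (ι₀ : Z ⟶ K.X 0) (w : ι₀ ≫ K.d 0 1 = 0) (hmono : Mono ι₀)
    (h0 : (ShortComplex.mk ι₀ (K.d 0 1) w).Exact) (hsucc : ∀ n, K.ExactAt (n + 1)) :
    (mkRes Z K hinj ι₀ w hmono h0 hsucc).ι.f 0 = ι₀ := by
  simp [mkRes]

end MkRes

section B1

variable {S : ShortComplex C} (T : RDer.SESRes S)

/-- The degree `n` part of an `SESRes`. -/
abbrev scAt (n : ℕ) : ShortComplex C :=
  ShortComplex.mk (T.f.f n) (T.g.f n)
    (by rw [← HomologicalComplex.comp_f, T.zero, HomologicalComplex.zero_f])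

lemma scAt_shortExact (n : ℕ) : (scAt T n).ShortExact :=
  T.shortExact.map_of_exact (HomologicalComplex.eval C _ n)

/-- An `SESRes` as a cochain complex of short complexes. -/
noncomputable def toCx : CochainComplex (ShortComplex C) ℕ where
  X n := scAt T n
  d i j := ShortComplex.homMk (T.I₁.cocomplex.d i j) (T.I₂.cocomplex.d i j)
    (T.I₃.cocomplex.d i j) (by simp) (by simp)
  shape i j h := by
    ext
    · exact T.I₁.cocomplex.shape i j h
    · exact T.I₂.cocomplex.shape i j h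
    · exact T.I₃.cocomplex.shape i j h
  d_comp_d' i j k _ _ := by ext <;> simp

lemma ι_f_zero₁₂ : T.I₁.ι.f 0 ≫ T.f.f 0 = S.f ≫ T.I₂.ι.f 0 := by
  have := congr_arg (fun φ => φ.f 0) T.ι_f
  simpa using this

lemma ι_f_zero₂₃ : T.I₂.ι.f 0 ≫ T.g.f 0 = S.g ≫ T.I₃.ι.f 0 := by
  have := congr_arg (fun φ => φ.f 0) T.ι_g
  simpa using this

/-- The augmentation. -/
noncomputable def ι₀ : S ⟶ (toCx T).X 0 :=
  ShortComplex.homMk (T.I₁.ι.f 0) (T.I₂.ι.f 0) (T.I₃.ι.f 0) (ι_f_zero₁₂ T) (ι_f_zero₂₃ T)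

lemma ι₀_d : ι₀ T ≫ (toCx T).d 0 1 = 0 := by
  ext
  · exact T.I₁.ι_f_zero_comp_complex_d
  · exact T.I₂.ι_f_zero_comp_complex_d
  · exact T.I₃.ι_f_zero_comp_complex_d

/-- An `SESRes` gives an injective resolution in the abelian category of short complexes. -/
noncomputable def toRes : InjectiveResolution S :=
  mkRes S (toCx T)
    (fun n => by
      have := T.I₁.injective n
      have := T.I₂.injective n
      have := T.I₃.injective n
      exact injective_of_good (scAt T n) (scAt_shortExact T n))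
    (ι₀ T) (ι₀_d T)
    (mono_of_components _ (inferInstanceAs (Mono (T.I₁.ι.f 0)))
      (inferInstanceAs (Mono (T.I₂.ι.f 0))) (inferInstanceAs (Mono (T.I₃.ι.f 0))))
    (exact_of_components _ T.I₁.exact₀ T.I₂.exact₀ T.I₃.exact₀)
    (fun n => by
      rw [HomologicalComplex.exactAt_iff' _ n (n + 1) (n + 2) (by simp) (by simp)]
      exact exact_of_components _ (T.I₁.exact_succ n) (T.I₂.exact_succ n) (T.I₃.exact_succ n))

lemma toRes_ι_f_zero : (toRes T).ι.f 0 = ι₀ T := mkRes_ι_f_zero ..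

end B1

section Key

variable {S S' : ShortComplex C} (T : RDer.SESRes S) (T' : RDer.SESRes S')

/-- First component of a morphism of complexes of short complexes. -/
noncomputable def proj₁ (a : toCx T ⟶ toCx T') : T.I₁.cocomplex ⟶ T'.I₁.cocomplex where
  f n := (a.f n).τ₁
  comm' i j _ := by
    have := congr_arg ShortComplex.Hom.τ₁ (a.comm i j)
    simpa [toCx] using this

/-- Second component. -/
noncomputable def proj₂ (a : toCx T ⟶ toCx T') : T.I₂.cocomplex ⟶ T'.I₂.cocomplex where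
  f n := (a.f n).τ₂
  comm' i j _ := by
    have := congr_arg ShortComplex.Hom.τ₂ (a.comm i j)
    simpa [toCx] using this

/-- Third component. -/
noncomputable def proj₃ (a : toCx T ⟶ toCx T') : T.I₃.cocomplex ⟶ T'.I₃.cocomplex where
  f n := (a.f n).τ₃
  comm' i j _ := by
    have := congr_arg ShortComplex.Hom.τ₃ (a.comm i j)
    simpa [toCx] using this

lemma proj₁₂ (a : toCx T ⟶ toCx T') : proj₁ T T' a ≫ T'.f = T.f ≫ proj₂ T T' a := by
  ext n
  exact (a.f n).comm₁₂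

lemma proj₂₃ (a : toCx T ⟶ toCx T') : proj₂ T T' a ≫ T'.g = T.g ≫ proj₃ T T' a := by
  ext n
  exact (a.f n).comm₂₃

/-- The morphism of short complexes of complexes. -/
noncomputable def projHom (a : toCx T ⟶ toCx T') : T.cx ⟶ T'.cx :=
  ShortComplex.homMk (proj₁ T T' a) (proj₂ T T' a) (proj₃ T T' a) (proj₁₂ T T' a) (proj₂₃ T T' a)

variable [HasInjectiveResolutions C] {D : Type u'} [Category.{v'} D] [Abelian D]
  (F : C ⥤ D) [F.Additive]

/-- Key lemma: naturality of the connecting morphisms computed from arbitrary resolutions. -/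
theorem delta_natural (φ : S ⟶ S') (n₀ n₁ : ℕ) (h : n₀ + 1 = n₁) :
    (F.rightDerived n₀).map φ.τ₃ ≫ T'.delta F n₀ n₁ h =
      T.delta F n₀ n₁ h ≫ (F.rightDerived n₁).map φ.τ₁ := by
  let a : toCx T ⟶ toCx T' := InjectiveResolution.desc φ (toRes T') (toRes T)
  have ha : ι₀ T ≫ a.f 0 = φ ≫ ι₀ T' := by
    have := InjectiveResolution.desc_commutes_zero φ (toRes T') (toRes T)
    rw [toRes_ι_f_zero, toRes_ι_f_zero] at this
    exact this
  have ha₁ : T.I₁.ι.f 0 ≫ (proj₁ T T' a).f 0 = φ.τ₁ ≫ T'.I₁.ι.f 0 :=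
    congr_arg ShortComplex.Hom.τ₁ ha
  have ha₃ : T.I₃.ι.f 0 ≫ (proj₃ T T' a).f 0 = φ.τ₃ ≫ T'.I₃.ι.f 0 :=
    congr_arg ShortComplex.Hom.τ₃ ha
  let FF := F.mapHomologicalComplex (ComplexShape.up ℕ)
  let i₃ : (F.rightDerived n₀).obj S.X₃ ⟶ (FF.obj T.I₃.cocomplex).homology n₀ :=
    (T.I₃.isoRightDerivedObj F n₀).hom
  let i₁ : (F.rightDerived n₁).obj S.X₁ ⟶ (FF.obj T.I₁.cocomplex).homology n₁ :=
    (T.I₁.isoRightDerivedObj F n₁).hom
  let i₃' : (F.rightDerived n₀).obj S'.X₃ ⟶ (FF.obj T'.I₃.cocomplex).homology n₀ :=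
    (T'.I₃.isoRightDerivedObj F n₀).hom
  let i₁' : (F.rightDerived n₁).obj S'.X₁ ⟶ (FF.obj T'.I₁.cocomplex).homology n₁ :=
    (T'.I₁.isoRightDerivedObj F n₁).hom
  let d : (FF.obj T.I₃.cocomplex).homology n₀ ⟶ (FF.obj T.I₁.cocomplex).homology n₁ :=
    (T.map_shortExact F).δ n₀ n₁ h
  let d' : (FF.obj T'.I₃.cocomplex).homology n₀ ⟶ (FF.obj T'.I₁.cocomplex).homology n₁ :=
    (T'.map_shortExact F).δ n₀ n₁ h
  let m₃ : (FF.obj T.I₃.cocomplex).homology n₀ ⟶ (FF.obj T'.I₃.cocomplex).homology n₀ :=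
    HomologicalComplex.homologyMap (FF.map (proj₃ T T' a)) n₀
  let m₁ : (FF.obj T.I₁.cocomplex).homology n₁ ⟶ (FF.obj T'.I₁.cocomplex).homology n₁ :=
    HomologicalComplex.homologyMap (FF.map (proj₁ T T' a)) n₁
  have hδ : d ≫ m₁ = m₃ ≫ d' := HomologicalComplex.HomologySequence.δ_naturality
    ((F.mapHomologicalComplex (ComplexShape.up ℕ)).mapShortComplex.map (projHom T T' a))
    (T.map_shortExact F) (T'.map_shortExact F) n₀ n₁ h
  have h₃ : (F.rightDerived n₀).map φ.τ₃ ≫ i₃' = i₃ ≫ m₃ :=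
    InjectiveResolution.isoRightDerivedObj_hom_naturality φ.τ₃ T.I₃ T'.I₃
      (proj₃ T T' a) ha₃ F n₀
  have h₁ : (F.rightDerived n₁).map φ.τ₁ ≫ i₁' = i₁ ≫ m₁ :=
    InjectiveResolution.isoRightDerivedObj_hom_naturality φ.τ₁ T.I₁ T'.I₁
      (proj₁ T T' a) ha₁ F n₁
  have e : T.delta F n₀ n₁ h ≫ i₁ = i₃ ≫ d := T.delta_comp_isoRightDerivedObj_hom F n₀ n₁ h
  have e' : T'.delta F n₀ n₁ h ≫ i₁' = i₃' ≫ d' :=
    T'.delta_comp_isoRightDerivedObj_hom F n₀ n₁ h
  have hi : Mono i₁' := inferInstanceAs (Mono (T'.I₁.isoRightDerivedObj F n₁).hom)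
  rw [← cancel_mono i₁', Category.assoc, Category.assoc, e', reassoc_of% h₃, ← hδ,
    ← reassoc_of% e, h₁]

end Key

end Groth.Agent.Helper24.Horseshoe
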