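import Mathlib
import Groth.Prelude.Def_RDerDelta
import Groth.Agent.Lib.Helper24.Horseshoe1

set_option autoImplicit false
universe v u v' u'
open CategoryTheory CategoryTheory.Limits

namespace Groth.Agent.Helper24.Horseshoe

variable {C : Type u} [Category.{v} C] [Abelian C]

section Step

variable [EnoughInjectives C]

/-- A split short exact sequence of injectives receiving `S`. -/
noncomputable def E (S : ShortComplex C) : ShortComplex C :=
  ShortComplex.mk
    (biprod.inl : Injective.under S.X₂ ⟶ Injective.under S.X₂ ⊞ Injective.under S.X₃)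
    biprod.snd (by simp)

/-- The canonical map `S ⟶ E S`. -/
noncomputable def e (S : ShortComplex C) : S ⟶ E S :=
  ShortComplex.homMk (S.f ≫ Injective.ι S.X₂)
    (biprod.lift (Injective.ι S.X₂) (S.g ≫ Injective.ι S.X₃)) (Injective.ι S.X₃)
    (by dsimp [E]; ext <;> simp) (by simp [E])

lemma E_shortExact (S : ShortComplex C) : (E S).ShortExact :=
  (ShortComplex.Splitting.ofHasBinaryBiproduct _ _).shortExact

instance (S : ShortComplex C) : Injective (E S).X₁ := inferInstanceAs (Injective (Injective.under S.X₂))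
instance (S : ShortComplex C) : Injective (E S).X₂ :=
  inferInstanceAs (Injective (Injective.under S.X₂ ⊞ Injective.under S.X₃))
instance (S : ShortComplex C) : Injective (E S).X₃ := inferInstanceAs (Injective (Injective.under S.X₃))

lemma injective_E (S : ShortComplex C) : Injective (E S) :=
  injective_of_good (E S) (E_shortExact S)

lemma mono_e_τ₃ (S : ShortComplex C) : Mono (e S).τ₃ := inferInstanceAs (Mono (Injective.ι S.X₃))

lemma mono_e_τ₂ (S : ShortComplex C) : Mono (e S).τ₂ := by
  have : (e S).τ₂ ≫ biprod.fst = Injective.ι S.X₂ := biprod.lift_fst _ _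
  exact mono_of_mono_fac this

lemma mono_e (S : ShortComplex C) (hf : Mono S.f) : Mono (e S) :=
  mono_of_components _ (inferInstanceAs (Mono (S.f ≫ Injective.ι S.X₂))) (mono_e_τ₂ S) (mono_e_τ₃ S)

/-- The snake input. -/
noncomputable def snake (S : ShortComplex C) (hS : S.ShortExact) : ShortComplex.SnakeInput C where
  L₀ := kernel (e S)
  L₁ := S
  L₂ := E S
  L₃ := cokernel (e S)
  v₀₁ := kernel.ι _
  v₁₂ := e S
  v₂₃ := cokernel.π _
  w₀₂ := kernel.condition _
  w₁₃ := cokernel.condition _
  h₀ := kernelIsKernel _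
  h₃ := cokernelIsCokernel _
  L₁_exact := hS.exact
  epi_L₁_g := hS.epi_g
  L₂_exact := (E_shortExact S).exact
  mono_L₂_f := (E_shortExact S).mono_f

lemma cokernel_shortExact (S : ShortComplex C) (hS : S.ShortExact) :
    (cokernel (e S)).ShortExact := by
  have hE := E_shortExact S
  have : Epi (snake S hS).L₂.g := hE.epi_g
  have hz : IsZero (snake S hS).L₀.X₃ := by
    have h1 : (snake S hS).v₀₁.τ₃ ≫ (e S).τ₃ = 0 := (snake S hS).w₀₂_τ₃
    have := mono_e_τ₃ S
    have h2 : (snake S hS).v₀₁.τ₃ = 0 := (cancel_mono (e S).τ₃).1 (h1.trans zero_comp.symm)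
    exact IsZero.of_mono_eq_zero _ h2
  have hmono : Mono (snake S hS).L₃.f :=
    ((snake S hS).L₂'.exact_iff_mono (hz.eq_of_src _ _)).1 (snake S hS).L₂'_exact
  exact
    { exact := (snake S hS).L₃_exact
      mono_f := hmono
      epi_g := (snake S hS).epi_L₃_g }

end Step

section Splice

universe v₁ u₁
variable {A : Type u₁} [Category.{v₁} A] [Abelian A]

lemma exact_splice {X Y Z W V : A} (p : X ⟶ Y) [Epi p] (i : Y ⟶ Z) (q : Z ⟶ W) (wq : i ≫ q = 0)
    (hq : (ShortComplex.mk i q wq).Exact) (i' : W ⟶ V) [Mono i']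
    (d₁ : X ⟶ Z) (d₂ : Z ⟶ V) (h₁ : d₁ = p ≫ i) (h₂ : d₂ = q ≫ i')
    (w : d₁ ≫ d₂ = 0) : (ShortComplex.mk d₁ d₂ w).Exact := by
  subst h₁ h₂
  have w' : (p ≫ i) ≫ q = 0 := by rw [Category.assoc, wq, comp_zero]
  let α : ShortComplex.mk (p ≫ i) q w' ⟶ ShortComplex.mk i q wq :=
    ShortComplex.homMk p (𝟙 _) (𝟙 _) (by simp) (by simp)
  let β : ShortComplex.mk (p ≫ i) q w' ⟶ ShortComplex.mk (p ≫ i) (q ≫ i') w :=
    ShortComplex.homMk (𝟙 _) (𝟙 _) i' (by simp) (by simp)
  have : Epi α.τ₁ := inferInstanceAs (Epi p)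
  have : IsIso α.τ₂ := inferInstanceAs (IsIso (𝟙 Z))
  have : Mono α.τ₃ := inferInstanceAs (Mono (𝟙 W))
  have : Epi β.τ₁ := inferInstanceAs (Epi (𝟙 X))
  have : IsIso β.τ₂ := inferInstanceAs (IsIso (𝟙 Z))
  have : Mono β.τ₃ := inferInstanceAs (Mono i')
  rw [← ShortComplex.exact_iff_of_epi_of_isIso_of_mono β,
    ShortComplex.exact_iff_of_epi_of_isIso_of_mono α]
  exact hq

end Splice

section Rec

variable [EnoughInjectives C]

/-- The successive cokernels. -/
noncomputable def Q (S : ShortComplex C) : ℕ → ShortComplex C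
  | 0 => S
  | n + 1 => cokernel (e (Q S n))

/-- The projection to the cokernel. -/
noncomputable def πQ (S : ShortComplex C) (n : ℕ) : E (Q S n) ⟶ Q S (n + 1) :=
  cokernel.π (e (Q S n))

instance (S : ShortComplex C) (n : ℕ) : Epi (πQ S n) := inferInstanceAs (Epi (cokernel.π (e (Q S n))))

@[reassoc]
lemma e_πQ (S : ShortComplex C) (n : ℕ) : e (Q S n) ≫ πQ S n = 0 := cokernel.condition _

lemma e_πQ_exact (S : ShortComplex C) (n : ℕ) :
    (ShortComplex.mk (e (Q S n)) (πQ S n) (e_πQ S n)).Exact :=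
  ShortComplex.exact_cokernel (e (Q S n))

lemma Q_shortExact (S : ShortComplex C) (hS : S.ShortExact) : ∀ n, (Q S n).ShortExact
  | 0 => hS
  | n + 1 => cokernel_shortExact _ (Q_shortExact S hS n)

/-- The differential. -/
noncomputable def dK (S : ShortComplex C) (n : ℕ) : E (Q S n) ⟶ E (Q S (n + 1)) :=
  πQ S n ≫ e (Q S (n + 1))

/-- The resolving complex. -/
noncomputable def K (S : ShortComplex C) : CochainComplex (ShortComplex C) ℕ :=
  CochainComplex.of (fun n => E (Q S n)) (dK S) (fun n => by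
    dsimp only [dK]
    rw [Category.assoc, e_πQ_assoc, zero_comp, comp_zero])

lemma K_d (S : ShortComplex C) (n : ℕ) : (K S).d n (n + 1) = dK S n := by
  unfold K
  exact CochainComplex.of_d (fun n => E (Q S n)) (dK S) n

/-- The injective resolution of a short exact `S` in the category of short complexes. -/
noncomputable def res (S : ShortComplex C) (hS : S.ShortExact) : InjectiveResolution S :=
  mkRes S (K S) (fun n => injective_E _) (e S)
    (by
      rw [K_d]
      exact e_πQ_assoc S 0 _ |>.trans zero_comp)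
    (mono_e S hS.mono_f)
    (by
      have : Mono (e (Q S 1)) := mono_e _ (Q_shortExact S hS 1).mono_f
      exact exact_splice (𝟙 S) (e S) (πQ S 0) (e_πQ S 0) (e_πQ_exact S 0) (e (Q S 1)) _ _
        (Category.id_comp _).symm (K_d S 0) _)
    (fun n => by
      rw [HomologicalComplex.exactAt_iff' _ n (n + 1) (n + 2) (by simp) (by simp)]
      have : Mono (e (Q S (n + 2))) := mono_e _ (Q_shortExact S hS (n + 2)).mono_f
      exact exact_splice (πQ S n) (e (Q S (n + 1))) (πQ S (n + 1)) (e_πQ S (n + 1))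
        (e_πQ_exact S (n + 1)) (e (Q S (n + 2))) _ _
        (K_d S n) (K_d S (n + 1)) _)

lemma res_X (S : ShortComplex C) (hS : S.ShortExact) (n : ℕ) :
    (res S hS).cocomplex.X n = E (Q S n) := rfl

end Rec

section B2

universe v₁ u₁ v₂ u₂
variable {A : Type u₁} [Category.{v₁} A] [Abelian A] {B : Type u₂} [Category.{v₂} B] [Abelian B]

/-- Image of an injective resolution under an exact functor sending its terms to injectives. -/
noncomputable def mapRes (G : A ⥤ B) [G.PreservesZeroMorphisms] [PreservesFiniteLimits G]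
    [PreservesFiniteColimits G] {Z : A} (J : InjectiveResolution Z)
    (hinj : ∀ n, Injective (G.obj (J.cocomplex.X n))) : InjectiveResolution (G.obj Z) :=
  mkRes (G.obj Z) ((G.mapHomologicalComplex _).obj J.cocomplex) hinj (G.map (J.ι.f 0))
    (by
      change G.map (J.ι.f 0) ≫ G.map (J.cocomplex.d 0 1) = 0
      rw [← G.map_comp, J.ι_f_zero_comp_complex_d, G.map_zero])
    (inferInstanceAs (Mono (G.map (J.ι.f 0))))
    (J.exact₀.map G)
    (fun n => by
      rw [HomologicalComplex.exactAt_iff' _ n (n + 1) (n + 2) (by simp) (by simp)]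
      exact (J.exact_succ n).map G)

lemma mapRes_ι_f_zero (G : A ⥤ B) [G.PreservesZeroMorphisms] [PreservesFiniteLimits G]
    [PreservesFiniteColimits G] {Z : A} (J : InjectiveResolution Z)
    (hinj : ∀ n, Injective (G.obj (J.cocomplex.X n))) :
    (mapRes G J hinj).ι.f 0 = G.map (J.ι.f 0) := mkRes_ι_f_zero ..

end B2

section OfRes

variable {S : ShortComplex C} (J : InjectiveResolution S)
  (hJ : ∀ n, (J.cocomplex.X n).ShortExact)
  (h₁ : ∀ n, Injective (J.cocomplex.X n).X₁) (h₂ : ∀ n, Injective (J.cocomplex.X n).X₂)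
  (h₃ : ∀ n, Injective (J.cocomplex.X n).X₃)

/-- A resolution of `S` by short exact sequences of injectives gives an `SESRes`. -/
noncomputable def ofRes : RDer.SESRes S where
  I₁ := mapRes ShortComplex.π₁ J h₁
  I₂ := mapRes ShortComplex.π₂ J h₂
  I₃ := mapRes ShortComplex.π₃ J h₃
  f := (NatTrans.mapHomologicalComplex ShortComplex.π₁Toπ₂ _).app J.cocomplex
  g := (NatTrans.mapHomologicalComplex ShortComplex.π₂Toπ₃ _).app J.cocomplex
  zero := by
    ext n
    exact (J.cocomplex.X n).zero
  ι_f := by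
    apply HomologicalComplex.from_single_hom_ext
    refine (HomologicalComplex.comp_f _ _ _).trans (Eq.trans ?_ (HomologicalComplex.comp_f _ _ _).symm)
    rw [CochainComplex.single₀_map_f_zero]
    refine (congrArg (· ≫ _) (mapRes_ι_f_zero ShortComplex.π₁ J h₁)).trans (Eq.trans ?_
      (congrArg (_ ≫ ·) (mapRes_ι_f_zero ShortComplex.π₂ J h₂)).symm)
    exact (J.ι.f 0).comm₁₂
  ι_g := by
    apply HomologicalComplex.from_single_hom_ext
    refine (HomologicalComplex.comp_f _ _ _).trans (Eq.trans ?_ (HomologicalComplex.comp_f _ _ _).symm)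
    rw [CochainComplex.single₀_map_f_zero]
    refine (congrArg (· ≫ _) (mapRes_ι_f_zero ShortComplex.π₂ J h₂)).trans (Eq.trans ?_
      (congrArg (_ ≫ ·) (mapRes_ι_f_zero ShortComplex.π₃ J h₃)).symm)
    exact (J.ι.f 0).comm₂₃
  shortExact := HomologicalComplex.shortExact_of_degreewise_shortExact _ (fun n => hJ n)

end OfRes

/-- The horseshoe lemma. -/
theorem horseshoe [EnoughInjectives C] (S : ShortComplex C) (hS : S.ShortExact) :
    Nonempty (RDer.SESRes S) :=
  ⟨ofRes (res S hS) (fun n => E_shortExact _) (fun n => inferInstanceAs (Injective (E (Q S n)).X₁))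
    (fun n => inferInstanceAs (Injective (E (Q S n)).X₂))
    (fun n => inferInstanceAs (Injective (E (Q S n)).X₃))⟩

end Groth.Agent.Helper24.Horseshoe
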