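import Mathlib
import Groth.Prelude.Def_RDerDelta
import Groth.Agent.Lib.Helper24.Horseshoe2

set_option autoImplicit false
universe v u v' u'
open CategoryTheory CategoryTheory.Limits

namespace Groth.Agent.Helper24.Horseshoe

variable {C : Type u} [Category.{v} C] [Abelian C] [HasInjectiveResolutions C]
  {D : Type u'} [Category.{v'} D] [Abelian D] (F : C ⥤ D) [F.Additive]

section LES

variable {S : ShortComplex C} (T : RDer.SESRes S)

/-- shorthand: the comparison isomorphisms with explicit types. -/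
noncomputable def iso₁ (n : ℕ) : (F.rightDerived n).obj S.X₁ ≅
    ((T.cx.map (F.mapHomologicalComplex (ComplexShape.up ℕ))).X₁).homology n :=
  T.I₁.isoRightDerivedObj F n

noncomputable def iso₂ (n : ℕ) : (F.rightDerived n).obj S.X₂ ≅
    ((T.cx.map (F.mapHomologicalComplex (ComplexShape.up ℕ))).X₂).homology n :=
  T.I₂.isoRightDerivedObj F n

noncomputable def iso₃ (n : ℕ) : (F.rightDerived n).obj S.X₃ ≅
    ((T.cx.map (F.mapHomologicalComplex (ComplexShape.up ℕ))).X₃).homology n :=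
  T.I₃.isoRightDerivedObj F n

lemma map_f_iso (n : ℕ) : (F.rightDerived n).map S.f ≫ (iso₂ F T n).hom =
    (iso₁ F T n).hom ≫ HomologicalComplex.homologyMap
      (T.cx.map (F.mapHomologicalComplex (ComplexShape.up ℕ))).f n :=
  InjectiveResolution.isoRightDerivedObj_hom_naturality S.f T.I₁ T.I₂ T.f (ι_f_zero₁₂ T) F n

lemma map_g_iso (n : ℕ) : (F.rightDerived n).map S.g ≫ (iso₃ F T n).hom =
    (iso₂ F T n).hom ≫ HomologicalComplex.homologyMap
      (T.cx.map (F.mapHomologicalComplex (ComplexShape.up ℕ))).g n :=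
  InjectiveResolution.isoRightDerivedObj_hom_naturality S.g T.I₂ T.I₃ T.g (ι_f_zero₂₃ T) F n

lemma delta_iso (n₀ n₁ : ℕ) (h : n₀ + 1 = n₁) :
    T.delta F n₀ n₁ h ≫ (iso₁ F T n₁).hom = (iso₃ F T n₀).hom ≫ (T.map_shortExact F).δ n₀ n₁ h :=
  T.delta_comp_isoRightDerivedObj_hom F n₀ n₁ h

lemma comp_delta (n₀ n₁ : ℕ) (h : n₀ + 1 = n₁) :
    (F.rightDerived n₀).map S.g ≫ T.delta F n₀ n₁ h = 0 := by
  rw [← cancel_mono (iso₁ F T n₁).hom, Category.assoc, delta_iso, reassoc_of% (map_g_iso F T n₀),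
    zero_comp]
  have := (T.map_shortExact F).comp_δ n₀ n₁ h
  rw [this, comp_zero]

lemma delta_comp (n₀ n₁ : ℕ) (h : n₀ + 1 = n₁) :
    T.delta F n₀ n₁ h ≫ (F.rightDerived n₁).map S.f = 0 := by
  rw [← cancel_mono (iso₂ F T n₁).hom, Category.assoc, map_f_iso, reassoc_of% (delta_iso F T n₀ n₁ h),
    zero_comp]
  have := (T.map_shortExact F).δ_comp n₀ n₁ h
  rw [this, comp_zero]

include T in
lemma exact₂ (n : ℕ) :
    (ShortComplex.mk ((F.rightDerived n).map S.f) ((F.rightDerived n).map S.g)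
      (by rw [← Functor.map_comp, S.zero, Functor.map_zero])).Exact := by
  refine ShortComplex.exact_of_iso ?_ ((T.map_shortExact F).homology_exact₂ n)
  exact (ShortComplex.isoMk (iso₁ F T n) (iso₂ F T n) (iso₃ F T n)
    (map_f_iso F T n).symm (map_g_iso F T n).symm).symm

lemma exact₃ (n₀ n₁ : ℕ) (h : n₀ + 1 = n₁) :
    (ShortComplex.mk _ _ (comp_delta F T n₀ n₁ h)).Exact := by
  refine ShortComplex.exact_of_iso ?_ ((T.map_shortExact F).homology_exact₃ n₀ n₁ h)
  exact (ShortComplex.isoMk (iso₂ F T n₀) (iso₃ F T n₀) (iso₁ F T n₁)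
    (map_g_iso F T n₀).symm (delta_iso F T n₀ n₁ h).symm).symm

lemma exact₁ (n₀ n₁ : ℕ) (h : n₀ + 1 = n₁) :
    (ShortComplex.mk _ _ (delta_comp F T n₀ n₁ h)).Exact := by
  refine ShortComplex.exact_of_iso ?_ ((T.map_shortExact F).homology_exact₁ n₀ n₁ h)
  exact (ShortComplex.isoMk (iso₃ F T n₀) (iso₁ F T n₁) (iso₂ F T n₁)
    (delta_iso F T n₀ n₁ h).symm (map_f_iso F T n₁).symm).symm

end LES

section Assemble

omit [HasInjectiveResolutions C] in
/-- Existence of the connecting morphisms with long exact sequence. -/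
noncomputable def derivedLES [EnoughInjectives C] : RDer.DerivedLES F where
  δ S hS n₀ n₁ h := (horseshoe S hS).some.delta F n₀ n₁ h
  δ_eq S hS T n₀ n₁ h := by
    have := delta_natural (horseshoe S hS).some T F (𝟙 S) n₀ n₁ h
    have h₃ : (F.rightDerived n₀).map (𝟙 S : S ⟶ S).τ₃ = 𝟙 _ := (F.rightDerived n₀).map_id _
    have h₁ : (F.rightDerived n₁).map (𝟙 S : S ⟶ S).τ₁ = 𝟙 _ := (F.rightDerived n₁).map_id _
    rw [h₃, h₁, Category.id_comp, Category.comp_id] at this
    exact this.symm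
  δ_natural hS hS' φ n₀ n₁ h := delta_natural _ _ F φ n₀ n₁ h
  exact₂ S hS n := exact₂ F (horseshoe S hS).some n
  comp_δ S hS n₀ n₁ h := comp_delta F (horseshoe S hS).some n₀ n₁ h
  exact₃ S hS n₀ n₁ h := exact₃ F (horseshoe S hS).some n₀ n₁ h
  δ_comp S hS n₀ n₁ h := delta_comp F (horseshoe S hS).some n₀ n₁ h
  exact₁ S hS n₀ n₁ h := exact₁ F (horseshoe S hS).some n₀ n₁ h

end Assemble

end Groth.Agent.Helper24.Horseshoe
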