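import Mathlib

set_option autoImplicit false
universe u
open CategoryTheory

namespace Groth.Agent.Helper24.CechRes

section Algebra

variable (T : ℕ → Type u) (d : ∀ n, Fin (n + 2) → T (n + 1) → T n) (s : ∀ n, T n → T (n + 1))

theorem homotopy_succ
    (h0 : ∀ n x, d n 0 (s n x) = x)
    (hs : ∀ n (i : Fin (n + 2)) x, d (n + 1) i.succ (s (n + 1) x) = s n (d n i x))
    (n : ℕ) (z : FreeAbelianGroup (T (n + 1))) :
    (∑ i : Fin (n + 3), (-1 : ℤ) ^ (i : ℕ) • FreeAbelianGroup.map (d (n + 1) i)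
        (FreeAbelianGroup.map (s (n + 1)) z)) +
      FreeAbelianGroup.map (s n) (∑ i : Fin (n + 2), (-1 : ℤ) ^ (i : ℕ) •
        FreeAbelianGroup.map (d n i) z) = z := by
  have key : (∑ i : Fin (n + 3), (-1 : ℤ) ^ (i : ℕ) • (FreeAbelianGroup.map (d (n + 1) i)).comp
        (FreeAbelianGroup.map (s (n + 1)))) +
      (FreeAbelianGroup.map (s n)).comp (∑ i : Fin (n + 2), (-1 : ℤ) ^ (i : ℕ) •
        FreeAbelianGroup.map (d n i)) = AddMonoidHom.id _ := by
    apply FreeAbelianGroup.lift_ext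
    intro x
    rw [Fin.sum_univ_succ]
    simp only [AddMonoidHom.add_apply, AddMonoidHom.finsetSum_apply, AddMonoidHom.smul_apply,
      AddMonoidHom.comp_apply, FreeAbelianGroup.map_of_apply, Fin.val_zero, pow_zero, one_smul, h0,
      Fin.val_succ, hs, map_sum, map_zsmul, pow_succ, AddMonoidHom.id_apply]
    simp only [mul_neg, mul_one, neg_smul, Finset.sum_neg_distrib]
    abel
  have := DFunLike.congr_fun key z
  simpa only [AddMonoidHom.add_apply, AddMonoidHom.finsetSum_apply, AddMonoidHom.smul_apply,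
      AddMonoidHom.comp_apply, AddMonoidHom.id_apply] using this

theorem exists_boundary_succ
    (h0 : ∀ n x, d n 0 (s n x) = x)
    (hs : ∀ n (i : Fin (n + 2)) x, d (n + 1) i.succ (s (n + 1) x) = s n (d n i x))
    (n : ℕ) (z : FreeAbelianGroup (T (n + 1)))
    (hz : ∑ i : Fin (n + 2), (-1 : ℤ) ^ (i : ℕ) • FreeAbelianGroup.map (d n i) z = 0) :
    ∃ w : FreeAbelianGroup (T (n + 2)),
      ∑ i : Fin (n + 3), (-1 : ℤ) ^ (i : ℕ) • FreeAbelianGroup.map (d (n + 1) i) w = z := by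
  refine ⟨FreeAbelianGroup.map (s (n + 1)) z, ?_⟩
  have := homotopy_succ T d s h0 hs n z
  rw [hz, map_zero, add_zero] at this
  exact this

end Algebra

theorem exists_boundary_zero {T0 T1 B : Type u} (d : Fin 2 → T1 → T0) (ε : T0 → B) (s : T0 → T1)
    (c : B → T0) (h0 : ∀ x, d 0 (s x) = x) (h1 : ∀ x, d 1 (s x) = c (ε x))
    (z : FreeAbelianGroup T0) (hz : FreeAbelianGroup.map ε z = 0) :
    ∃ w : FreeAbelianGroup T1,
      ∑ i : Fin 2, (-1 : ℤ) ^ (i : ℕ) • FreeAbelianGroup.map (d i) w = z := by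
  refine ⟨FreeAbelianGroup.map s z, ?_⟩
  have key : (∑ i : Fin 2, (-1 : ℤ) ^ (i : ℕ) • (FreeAbelianGroup.map (d i)).comp
        (FreeAbelianGroup.map s)) +
      (FreeAbelianGroup.map c).comp (FreeAbelianGroup.map ε) = AddMonoidHom.id _ := by
    apply FreeAbelianGroup.lift_ext
    intro x
    simp [Fin.sum_univ_two, h0, h1]
  have := DFunLike.congr_fun key z
  simp only [AddMonoidHom.add_apply, AddMonoidHom.finsetSum_apply, AddMonoidHom.smul_apply,
      AddMonoidHom.comp_apply, AddMonoidHom.id_apply] at this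
  rw [hz, map_zero, add_zero] at this
  exact this


section Cech
open Limits Simplicial Opposite Classical
variable {𝒞 : Type*} [Category 𝒞] (F : Arrow 𝒞)
  [∀ n : ℕ, HasWidePullback F.right (fun _ : Fin (n + 1) => F.left) fun _ => F.hom]
  (y : 𝒞)

/-- chosen partial section on Hom(y, -) -/
noncomputable def sig (a₀ : y ⟶ F.left) (b : y ⟶ F.right) : y ⟶ F.left :=
  if h : ∃ a : y ⟶ F.left, a ≫ F.hom = b then h.choose else a₀

lemma sig_comp (a₀ : y ⟶ F.left) (b : y ⟶ F.right) (h : ∃ a : y ⟶ F.left, a ≫ F.hom = b) :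
    sig F y a₀ b ≫ F.hom = b := by
  rw [sig, dif_pos h]; exact h.choose_spec

lemma sig_comp_base (a₀ : y ⟶ F.left) (n : ℕ) (x : y ⟶ F.cechNerve.obj (op ⦋n⦌)) :
    sig F y a₀ (x ≫ WidePullback.base _) ≫ F.hom = x ≫ WidePullback.base _ :=
  sig_comp F y a₀ _ ⟨x ≫ WidePullback.π _ 0, by simp⟩

noncomputable def sH (a₀ : y ⟶ F.left) (n : ℕ) (x : y ⟶ F.cechNerve.obj (op ⦋n⦌)) :
    y ⟶ F.cechNerve.obj (op ⦋n + 1⦌) :=
  WidePullback.lift (x ≫ WidePullback.base _)
    (Fin.cases (sig F y a₀ (x ≫ WidePullback.base _)) (fun j => x ≫ WidePullback.π _ j))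
    (fun i => by
      cases i using Fin.cases with
      | zero => exact sig_comp_base F y a₀ n x
      | succ j => simp)

@[simp] lemma sH_π_zero (a₀ : y ⟶ F.left) (n : ℕ) (x : y ⟶ F.cechNerve.obj (op ⦋n⦌)) :
    sH F y a₀ n x ≫ WidePullback.π _ 0 = sig F y a₀ (x ≫ WidePullback.base _) :=
  WidePullback.lift_π _ _ _ _ _

@[simp] lemma sH_π_succ (a₀ : y ⟶ F.left) (n : ℕ) (x : y ⟶ F.cechNerve.obj (op ⦋n⦌)) (j : Fin (n + 1)) :
    sH F y a₀ n x ≫ WidePullback.π _ j.succ = x ≫ WidePullback.π _ j :=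
  WidePullback.lift_π _ _ _ _ _

@[simp] lemma sH_base (a₀ : y ⟶ F.left) (n : ℕ) (x : y ⟶ F.cechNerve.obj (op ⦋n⦌)) :
    sH F y a₀ n x ≫ WidePullback.base _ = x ≫ WidePullback.base _ :=
  WidePullback.lift_base _ _ _ _

lemma δ_π (n : ℕ) (i : Fin (n + 2)) (j : Fin (n + 1)) :
    F.cechNerve.δ i ≫ WidePullback.π _ j = WidePullback.π _ (i.succAbove j) := by
  dsimp [SimplicialObject.δ, SimplexCategory.δ]
  exact WidePullback.lift_π _ _ _ _ _

lemma δ_base (n : ℕ) (i : Fin (n + 2)) :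
    F.cechNerve.δ i ≫ WidePullback.base _ = WidePullback.base _ := by
  dsimp [SimplicialObject.δ, SimplexCategory.δ]
  exact WidePullback.lift_base _ _ _ _

lemma sH_δ_zero (a₀ : y ⟶ F.left) (n : ℕ) (x : y ⟶ F.cechNerve.obj (op ⦋n⦌)) :
    sH F y a₀ n x ≫ F.cechNerve.δ 0 = x := by
  refine WidePullback.hom_ext _ _ _ (fun j => ?_) ?_
  · rw [Category.assoc, δ_π, Fin.succAbove_zero]
    exact sH_π_succ F y a₀ n x j
  · rw [Category.assoc, δ_base, sH_base]

lemma sH_δ_succ (a₀ : y ⟶ F.left) (n : ℕ) (x : y ⟶ F.cechNerve.obj (op ⦋n + 1⦌)) (i : Fin (n + 2)) :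
    sH F y a₀ (n + 1) x ≫ F.cechNerve.δ i.succ = sH F y a₀ n (x ≫ F.cechNerve.δ i) := by
  refine WidePullback.hom_ext _ _ _ (fun j => ?_) ?_
  · rw [Category.assoc, δ_π]
    cases j using Fin.cases with
    | zero =>
      rw [Fin.succ_succAbove_zero]
      erw [sH_π_zero, sH_π_zero]
      rw [Category.assoc, δ_base]
    | succ j' =>
      rw [Fin.succ_succAbove_succ]
      erw [sH_π_succ, sH_π_succ]
      rw [Category.assoc, δ_π]
  · rw [Category.assoc, δ_base, sH_base, sH_base, Category.assoc, δ_base]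

noncomputable def cH (a₀ : y ⟶ F.left) (b : y ⟶ F.right) : y ⟶ F.cechNerve.obj (op ⦋0⦌) :=
  WidePullback.lift (sig F y a₀ b ≫ F.hom) (fun _ => sig F y a₀ b) (fun _ => rfl)

lemma cH_π (a₀ : y ⟶ F.left) (b : y ⟶ F.right) (j : Fin 1) :
    cH F y a₀ b ≫ WidePullback.π _ j = sig F y a₀ b :=
  WidePullback.lift_π (fun _ : Fin 1 => F.hom) (sig F y a₀ b ≫ F.hom) (fun _ => sig F y a₀ b)
    (fun _ => rfl) j

lemma cH_base (a₀ : y ⟶ F.left) (b : y ⟶ F.right) :
    cH F y a₀ b ≫ WidePullback.base _ = sig F y a₀ b ≫ F.hom :=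
  WidePullback.lift_base (fun _ : Fin 1 => F.hom) (sig F y a₀ b ≫ F.hom) (fun _ => sig F y a₀ b)
    (fun _ => rfl)

lemma sH_δ_one (a₀ : y ⟶ F.left) (x : y ⟶ F.cechNerve.obj (op ⦋0⦌)) :
    sH F y a₀ 0 x ≫ F.cechNerve.δ 1 = cH F y a₀ (x ≫ WidePullback.base _) := by
  refine WidePullback.hom_ext _ _ _ (fun j => ?_) ?_
  · rw [Category.assoc, δ_π]
    obtain rfl : j = (0 : Fin 1) := Subsingleton.elim (α := Fin 1) j 0
    have : (1 : Fin 2).succAbove (0 : Fin 1) = 0 := rfl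
    rw [this]
    erw [sH_π_zero]
    exact (cH_π F y a₀ _ 0).symm
  · rw [Category.assoc, δ_base, sH_base]
    exact ((cH_base F y a₀ _).trans (sig_comp_base F y a₀ 0 x)).symm

end Cech

section Sheaf
open Limits Simplicial Opposite

variable {C : Type u} [SmallCategory C] (J : GrothendieckTopology C)

/-- sheafified representable -/
noncomputable abbrev yS (U : C) : Sheaf J (Type u) := (presheafToSheaf J (Type u)).obj (yoneda.obj U)

/-- sections as morphisms from the sheafified representable -/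
noncomputable def secEquiv (U : C) (F : Sheaf J (Type u)) :
    (yS J U ⟶ F) ≃ F.obj.obj (op U) :=
  ((sheafificationAdjunction J (Type u)).homEquiv (yoneda.obj U) F).trans yonedaEquiv

lemma secEquiv_comp (U : C) {F G : Sheaf J (Type u)} (x : yS J U ⟶ F) (φ : F ⟶ G) :
    secEquiv J U G (x ≫ φ) = φ.hom.app (op U) (secEquiv J U F x) := by
  unfold secEquiv
  simp only [Equiv.trans_apply]
  rw [Adjunction.homEquiv_naturality_right, yonedaEquiv_comp]
  rfl

lemma secEquiv_symm_map (U : C) {F G : Sheaf J (Type u)} (t : F.obj.obj (op U)) (φ : F ⟶ G) :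
    (secEquiv J U G).symm (φ.hom.app (op U) t) = (secEquiv J U F).symm t ≫ φ := by
  apply (secEquiv J U G).injective
  rw [Equiv.apply_symm_apply, secEquiv_comp, Equiv.apply_symm_apply]

variable {J}
variable {K' K : Sheaf J (Type u)} (f : K' ⟶ K) (U : C)

/-- sections over `U` of the `n`-th term of the Cech nerve -/
abbrev TT (n : ℕ) : Type u := ((Arrow.mk f).cechNerve.obj (op ⦋n⦌)).obj.obj (op U)

/-- face maps on sections -/
noncomputable def dd (n : ℕ) (i : Fin (n + 2)) : TT f U (n + 1) → TT f U n :=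
  fun t => ((Arrow.mk f).cechNerve.δ i).hom.app (op U) t

/-- augmentation on sections -/
noncomputable def epsU : TT f U 0 → K.obj.obj (op U) :=
  fun t => ((Arrow.mk f).augmentedCechNerve.hom.app (op ⦋0⦌)).hom.app (op U) t

lemma isEmpty_TT (hne : ¬ Nonempty (yS J U ⟶ K')) (n : ℕ) : IsEmpty (TT f U n) :=
  ⟨fun t => hne ⟨(secEquiv J U _).symm t ≫ WidePullback.π _ 0⟩⟩

/-- the extra degeneracy on sections -/
noncomputable def ss (a₀ : yS J U ⟶ K') (n : ℕ) : TT f U n → TT f U (n + 1) :=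
  fun t => secEquiv J U _ (sH (Arrow.mk f) (yS J U) a₀ n ((secEquiv J U _).symm t))

lemma dd_zero_ss (a₀ : yS J U ⟶ K') (n : ℕ) (t : TT f U n) :
    dd f U n 0 (ss f U a₀ n t) = t := by
  unfold dd ss
  rw [← secEquiv_comp, sH_δ_zero, Equiv.apply_symm_apply]

lemma dd_succ_ss (a₀ : yS J U ⟶ K') (n : ℕ) (i : Fin (n + 2)) (t : TT f U (n + 1)) :
    dd f U (n + 1) i.succ (ss f U a₀ (n + 1) t) = ss f U a₀ n (dd f U n i t) := by
  unfold dd ss
  rw [← secEquiv_comp, sH_δ_succ, secEquiv_symm_map]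

theorem eval_exact_succ (n : ℕ) (z : FreeAbelianGroup (TT f U (n + 1)))
    (hz : ∑ i : Fin (n + 2), (-1 : ℤ) ^ (i : ℕ) • FreeAbelianGroup.map (dd f U n i) z = 0) :
    ∃ w : FreeAbelianGroup (TT f U (n + 2)),
      ∑ i : Fin (n + 3), (-1 : ℤ) ^ (i : ℕ) • FreeAbelianGroup.map (dd f U (n + 1) i) w = z := by
  by_cases hne : Nonempty (yS J U ⟶ K')
  · obtain ⟨a₀⟩ := hne
    exact exists_boundary_succ (TT f U) (dd f U) (ss f U a₀) (dd_zero_ss f U a₀)
      (dd_succ_ss f U a₀) n z hz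
  · have := isEmpty_TT f U hne (n + 1)
    exact ⟨0, by simp [Subsingleton.elim z 0]⟩

/-- the constant map -/
noncomputable def cc (a₀ : yS J U ⟶ K') : K.obj.obj (op U) → TT f U 0 :=
  fun b => secEquiv J U _ (cH (Arrow.mk f) (yS J U) a₀ ((secEquiv J U K).symm b))

lemma dd_one_ss (a₀ : yS J U ⟶ K') (t : TT f U 0) :
    dd f U 0 1 (ss f U a₀ 0 t) = cc f U a₀ (epsU f U t) := by
  unfold dd ss cc epsU
  rw [← secEquiv_comp, sH_δ_one]
  congr 2
  exact (secEquiv_symm_map J U t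
    (WidePullback.base _ : (Arrow.mk f).cechNerve.obj (op ⦋0⦌) ⟶ K)).symm

theorem eval_exact_zero (z : FreeAbelianGroup (TT f U 0))
    (hz : FreeAbelianGroup.map (epsU f U) z = 0) :
    ∃ w : FreeAbelianGroup (TT f U 1),
      ∑ i : Fin 2, (-1 : ℤ) ^ (i : ℕ) • FreeAbelianGroup.map (dd f U 0 i) w = z := by
  by_cases hne : Nonempty (yS J U ⟶ K')
  · obtain ⟨a₀⟩ := hne
    exact exists_boundary_zero (dd f U 0) (epsU f U) (ss f U a₀ 0) (cc f U a₀)
      (dd_zero_ss f U a₀ 0) (dd_one_ss f U a₀) z hz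
  · have := isEmpty_TT f U hne 0
    exact ⟨0, by simp [Subsingleton.elim z 0]⟩

end Sheaf

end Groth.Agent.Helper24.CechRes
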