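import Mathlib
import Groth.Prelude.Def_CechEdge

universe u
set_option linter.unusedSectionVars false
open CategoryTheory CategoryTheory.Limits Opposite

namespace Groth.Agent.Helper24.CechEv

section General
variable {D : Type u} [Category.{u} D] [HasFiniteProducts D] {ι : Type u} (Y : ι → D)
  (Q : Dᵒᵖ ⥤ AddCommGrpCat.{u})

/-- cosimplicial object -/
noncomputable abbrev cosimp : CosimplicialObject AddCommGrpCat.{u} :=
  (FormalCoproduct.cosimplicialObjectFunctor (FormalCoproduct.mk _ Y).cech).obj Q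

noncomputable abbrev cech : CochainComplex AddCommGrpCat.{u} ℕ := (cechComplexFunctor Y).obj Q

lemma cech_X (n : ℕ) : (cech Y Q).X n = ∏ᶜ fun a : Fin (n+1) → ι => Q.obj (op (∏ᶜ (Y ∘ a))) := rfl

/-- coface maps typed on the terms of the Čech complex -/
noncomputable def coface {n : ℕ} (j : Fin (n+2)) : (cech Y Q).X n ⟶ (cech Y Q).X (n+1) :=
  (cosimp Y Q).δ j

lemma cech_d (n : ℕ) : (cech Y Q).d n (n+1) =
    ∑ j : Fin (n+2), (-1:ℤ)^(j:ℕ) • coface Y Q j := by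
  exact CochainComplex.of_d (fun n => (cosimp Y Q).obj (SimplexCategory.mk n))
    (AlgebraicTopology.AlternatingCofaceMapComplex.objD (cosimp Y Q)) n

abbrev Sg (T : D) := Σ i : ι, (T ⟶ Y i)

noncomputable def ev {n : ℕ} (T : D) (σ : Fin (n+1) → Sg Y T) :
    (cech Y Q).X n ⟶ Q.obj (op T) :=
  Pi.π (fun a : Fin (n+1) → ι => Q.obj (op (∏ᶜ (Y ∘ a)))) (fun k => (σ k).1) ≫
    Q.map (Pi.lift (fun k => (σ k).2) : T ⟶ ∏ᶜ (Y ∘ fun k => (σ k).1)).op

lemma coface_eq {n : ℕ} (j : Fin (n+2)) :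
    coface Y Q j = (Pi.lift fun b : Fin (n+2) → ι =>
      Pi.π (fun a : Fin (n+1) → ι => Q.obj (op (∏ᶜ (Y ∘ a)))) (b ∘ (SimplexCategory.δ j).toOrderHom) ≫
      Q.map (Pi.lift (fun k => Pi.π (Y ∘ b) ((SimplexCategory.δ j).toOrderHom k)) :
        ∏ᶜ (Y ∘ b) ⟶ ∏ᶜ (Y ∘ (b ∘ (SimplexCategory.δ j).toOrderHom))).op :
      (cech Y Q).X n ⟶ (cech Y Q).X (n+1)) := by
  rfl

lemma coface_ev {n : ℕ} (T : D) (σ : Fin (n+2) → Sg Y T) (j : Fin (n+2)) :
    coface Y Q j ≫ ev Y Q T σ = ev Y Q T (σ ∘ (SimplexCategory.δ j).toOrderHom) := by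
  rw [coface_eq]
  unfold ev
  erw [Pi.lift_π_assoc]
  refine (Category.assoc _ _ _).trans ?_
  have this : (Pi.lift (fun k => (σ k).2) : T ⟶ ∏ᶜ (Y ∘ fun k => (σ k).1)) ≫
      (Pi.lift (fun k => Pi.π (Y ∘ fun k => (σ k).1) ((SimplexCategory.δ j).toOrderHom k)) :
        ∏ᶜ (Y ∘ fun k => (σ k).1) ⟶ ∏ᶜ (Y ∘ ((fun k => (σ k).1) ∘ (SimplexCategory.δ j).toOrderHom))) =
      (Pi.lift (fun k => ((σ ∘ (SimplexCategory.δ j).toOrderHom) k).2) :
        T ⟶ ∏ᶜ (Y ∘ fun k => ((σ ∘ (SimplexCategory.δ j).toOrderHom) k).1)) := by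
    apply Pi.hom_ext
    intro k
    erw [Category.assoc, Pi.lift_π, Pi.lift_π, Pi.lift_π]
    rfl
  have key : Q.map (Pi.lift (fun k => Pi.π (Y ∘ fun k => (σ k).1) ((SimplexCategory.δ j).toOrderHom k)) :
        ∏ᶜ (Y ∘ fun k => (σ k).1) ⟶ ∏ᶜ (Y ∘ ((fun k => (σ k).1) ∘ (SimplexCategory.δ j).toOrderHom))).op ≫
      Q.map (Pi.lift (fun k => (σ k).2) : T ⟶ ∏ᶜ (Y ∘ fun k => (σ k).1)).op =
      Q.map (Pi.lift (fun k => ((σ ∘ (SimplexCategory.δ j).toOrderHom) k).2) :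
        T ⟶ ∏ᶜ (Y ∘ fun k => ((σ ∘ (SimplexCategory.δ j).toOrderHom) k).1)).op := by
    rw [← Q.map_comp, ← op_comp, this]
  exact congrArg (CategoryStruct.comp (Pi.π (fun a : Fin (n+1) → ι => Q.obj (op (∏ᶜ (Y ∘ a))))
    (fun k => ((σ ∘ (SimplexCategory.δ j).toOrderHom) k).1))) key


lemma d_ev {n : ℕ} (T : D) (σ : Fin (n+2) → Sg Y T) :
    (cech Y Q).d n (n+1) ≫ ev Y Q T σ =
      ∑ j : Fin (n+2), (-1:ℤ)^(j:ℕ) • ev Y Q T (σ ∘ (SimplexCategory.δ j).toOrderHom) := by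
  rw [cech_d, Preadditive.sum_comp]
  refine Finset.sum_congr rfl fun j _ => ?_
  rw [Preadditive.zsmul_comp, coface_ev]

/-- pull back a tuple along a morphism -/
def pullσ {n : ℕ} {T T' : D} (m : T' ⟶ T) (σ : Fin (n+1) → Sg Y T) : Fin (n+1) → Sg Y T' :=
  fun k => ⟨(σ k).1, m ≫ (σ k).2⟩

lemma ev_map {n : ℕ} {T T' : D} (m : T' ⟶ T) (σ : Fin (n+1) → Sg Y T) :
    ev Y Q T σ ≫ Q.map m.op = ev Y Q T' (pullσ Y m σ) := by
  unfold ev
  refine (Category.assoc _ _ _).trans ?_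
  have this : m ≫ (Pi.lift (fun k => (σ k).2) : T ⟶ ∏ᶜ (Y ∘ fun k => (σ k).1)) =
      (Pi.lift (fun k => (pullσ Y m σ k).2) : T' ⟶ ∏ᶜ (Y ∘ fun k => (pullσ Y m σ k).1)) := by
    apply Pi.hom_ext
    intro k
    erw [Category.assoc, Pi.lift_π, Pi.lift_π]
    rfl
  have key : Q.map (Pi.lift (fun k => (σ k).2) : T ⟶ ∏ᶜ (Y ∘ fun k => (σ k).1)).op ≫ Q.map m.op =
      Q.map (Pi.lift (fun k => (pullσ Y m σ k).2) : T' ⟶ ∏ᶜ (Y ∘ fun k => (pullσ Y m σ k).1)).op := by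
    rw [← Q.map_comp, ← op_comp, this]
    rfl
  exact congrArg (CategoryStruct.comp (Pi.π (fun a : Fin (n+1) → ι => Q.obj (op (∏ᶜ (Y ∘ a))))
    (fun k => (pullσ Y m σ k).1))) key

/-- the tautological tuple on the product -/
noncomputable def tautσ {n : ℕ} (b : Fin (n+1) → ι) : Fin (n+1) → Sg Y (∏ᶜ (Y ∘ b)) :=
  fun k => ⟨b k, Pi.π (Y ∘ b) k⟩

lemma ev_taut {n : ℕ} (b : Fin (n+1) → ι) :
    ev Y Q (∏ᶜ (Y ∘ b)) (tautσ Y b) =
      Pi.π (fun a : Fin (n+1) → ι => Q.obj (op (∏ᶜ (Y ∘ a)))) b := by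
  unfold ev
  have : (Pi.lift (fun k => (tautσ Y b k).2) : ∏ᶜ (Y ∘ b) ⟶ ∏ᶜ (Y ∘ fun k => (tautσ Y b k).1)) =
      𝟙 _ := by
    apply Pi.hom_ext
    intro k
    erw [Pi.lift_π, Category.id_comp]
    rfl
  erw [this, op_id, Q.map_id, Category.comp_id]
  rfl

lemma hom_ext {n : ℕ} {Z : AddCommGrpCat.{u}} (g g' : Z ⟶ (cech Y Q).X n)
    (h : ∀ (T : D) (σ : Fin (n+1) → Sg Y T), g ≫ ev Y Q T σ = g' ≫ ev Y Q T σ) : g = g' := by
  refine Pi.hom_ext (f := fun a : Fin (n+1) → ι => Q.obj (op (∏ᶜ (Y ∘ a)))) _ _ fun b => ?_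
  have := h _ (tautσ Y b)
  rwa [ev_taut] at this

variable {Q} in
lemma map_ev {Q' : Dᵒᵖ ⥤ AddCommGrpCat.{u}} (φ : Q ⟶ Q') {n : ℕ} (T : D)
    (σ : Fin (n+1) → Sg Y T) :
    ((cechComplexFunctor Y).map φ).f n ≫ ev Y Q' T σ = ev Y Q T σ ≫ φ.app (op T) := by
  have h1 : ((cechComplexFunctor Y).map φ).f n =
      Limits.Pi.map (fun a : Fin (n+1) → ι => φ.app (op (∏ᶜ (Y ∘ a)))) := rfl
  rw [h1]
  unfold ev
  erw [Limits.Pi.map_π_assoc]
  refine Eq.trans ?_ (Category.assoc _ _ _).symm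
  congr 1
  exact (φ.naturality _).symm


lemma ext_elem {n : ℕ} (x x' : (cech Y Q).X n)
    (h : ∀ (T : D) (σ : Fin (n+1) → Sg Y T), ev Y Q T σ x = ev Y Q T σ x') : x = x' := by
  apply (Concrete.productEquiv (fun a : Fin (n+1) → ι => Q.obj (op (∏ᶜ (Y ∘ a))))).injective
  funext b
  have := h _ (tautσ Y b)
  rw [ev_taut] at this
  exact ((Concrete.productEquiv_apply_apply _ _ _).trans this).trans
    (Concrete.productEquiv_apply_apply _ _ _).symm

end General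

section OverS
variable {C : Type u} [SmallCategory C] [HasPullbacks C] {U : C} {ι : Type u} (Y : ι → Over U)
  (P : Cᵒᵖ ⥤ AddCommGrpCat.{u})

abbrev QP : (Over U)ᵒᵖ ⥤ AddCommGrpCat.{u} := (Over.forget U).op ⋙ P

lemma cx_eq : CechEdge.cx P Y = cech Y (QP P) := rfl

lemma toCech₀_ev (T : Over U) (σ : Fin 1 → Sg Y T) :
    CechEdge.toCech₀ P Y ≫ ev Y (QP P) T σ = P.map T.hom.op := by
  unfold CechEdge.toCech₀ ev
  erw [Pi.lift_π_assoc]
  have key : P.map (∏ᶜ (Y ∘ fun k => (σ k).1)).hom.op ≫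
      P.map ((Pi.lift (fun k => (σ k).2) : T ⟶ ∏ᶜ (Y ∘ fun k => (σ k).1)).left).op =
      P.map T.hom.op := by
    rw [← P.map_comp, ← op_comp, Over.w]
  exact key


/-- the constant 1-tuple -/
def single {T : Over U} (i : ι) (g : T ⟶ Y i) : Fin 1 → Sg Y T := fun _ => ⟨i, g⟩

/-- the 2-tuple -/
def pair {T : Over U} (s₀ s₁ : Sg Y T) : Fin 2 → Sg Y T := ![s₀, s₁]

lemma pair_δ₀ {T : Over U} (s₀ s₁ : Sg Y T) :
    pair Y s₀ s₁ ∘ (SimplexCategory.δ (0 : Fin 2)).toOrderHom = fun _ => s₁ := by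
  funext k
  fin_cases k
  rfl

lemma pair_δ₁ {T : Over U} (s₀ s₁ : Sg Y T) :
    pair Y s₀ s₁ ∘ (SimplexCategory.δ (1 : Fin 2)).toOrderHom = fun _ => s₀ := by
  funext k
  fin_cases k
  rfl

lemma toCech_apply (s : P.obj (op U)) :
    CechEdge.toCech Y P s =
      ((CechEdge.cx P Y).homologyπ 0).hom ((CechEdge.toCycles P Y).hom s) := rfl

lemma iCycles_toCycles (s : P.obj (op U)) :
    ((CechEdge.cx P Y).iCycles 0).hom ((CechEdge.toCycles P Y).hom s) =
      (CechEdge.toCech₀ P Y).hom s := by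
  rw [← CechEdge.toCycles_i]
  rfl

lemma toCech₀_ev_apply (T : Over U) (σ : Fin 1 → Sg Y T) (s : P.obj (op U)) :
    (ev Y (QP P) T σ).hom ((CechEdge.toCech₀ P Y).hom s) = (P.map T.hom.op).hom s := by
  rw [← toCech₀_ev Y P T σ]
  rfl

/-- cocycle condition at the level of elements -/
lemma cocycle_ev {T : Over U} (x : (cech Y (QP P)).X 0)
    (hx : ((cech Y (QP P)).d 0 1).hom x = 0) (s₀ s₁ : Sg Y T) :
    (ev Y (QP P) T (fun _ => s₁)).hom x = (ev Y (QP P) T (fun _ => s₀)).hom x := by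
  have h := d_ev Y (QP P) T (pair Y s₀ s₁)
  rw [Fin.sum_univ_two, pair_δ₀, pair_δ₁] at h
  have h2 := congrArg (fun m => m.hom x) h
  simp only [AddCommGrpCat.hom_comp, AddMonoidHom.comp_apply, hx, map_zero, Fin.val_zero,
    pow_zero, one_smul, Fin.val_one, pow_one, neg_smul, AddCommGrpCat.hom_add,
    AddCommGrpCat.hom_neg, AddMonoidHom.add_apply, AddMonoidHom.neg_apply] at h2
  exact (sub_eq_zero.1 (by rw [sub_eq_add_neg]; exact h2.symm))


lemma single_eq_pull {T : Over U} (σ : Fin 1 → Sg Y T) :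
    σ = pullσ Y (σ 0).2 (single Y (σ 0).1 (𝟙 _)) := by
  funext k
  fin_cases k
  simp [pullσ, single]

variable (J : GrothendieckTopology C)

lemma presieve_isSheaf_of_isSheaf (hP : Presheaf.IsSheaf J P) :
    Presieve.IsSheaf J (P ⋙ forget AddCommGrpCat) :=
  (isSheaf_iff_isSheaf_of_type _ _).1 ((Presheaf.isSheaf_iff_isSheaf_forget J P (forget _)).1 hP)

theorem toCech_bijective (hP : Presheaf.IsSheaf J P)
    (hY : Sieve.ofArrows (fun i => (Y i).left) (fun i => (Y i).hom) ∈ J U) :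
    Function.Bijective (CechEdge.toCech Y P) := by
  have hP' := presieve_isSheaf_of_isSheaf P J hP
  have hS := (Presieve.isSheafFor_iff_generate _).2 (hP' _ hY)
  rw [Presieve.isSheafFor_arrows_iff] at hS
  have hπ : Function.Bijective ((CechEdge.cx P Y).homologyπ 0).hom :=
    ConcreteCategory.bijective_of_isIso ((CechEdge.cx P Y).homologyπ 0)
  have hi : Function.Injective ((CechEdge.cx P Y).iCycles 0).hom :=
    (AddCommGrpCat.mono_iff_injective _).1 inferInstance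
  constructor
  · intro s s' h
    rw [toCech_apply, toCech_apply] at h
    have h1 : (CechEdge.toCech₀ P Y).hom s = (CechEdge.toCech₀ P Y).hom s' := by
      rw [← iCycles_toCycles, ← iCycles_toCycles, hπ.1 h]
    have h2 : ∀ i, (P.map (Y i).hom.op).hom s = (P.map (Y i).hom.op).hom s' := fun i => by
      rw [← toCech₀_ev_apply Y P (Y i) (single Y i (𝟙 _)), ← toCech₀_ev_apply Y P (Y i) (single Y i (𝟙 _)), h1]
    obtain ⟨t, ht, hu⟩ := hS (fun i => (P.map (Y i).hom.op).hom s')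
      (Presieve.Arrows.toCompatible (P ⋙ forget AddCommGrpCat) (fun i => (Y i).hom) s').property
    exact (hu s h2).trans (hu s' (fun i => rfl)).symm
  · intro y
    obtain ⟨z, rfl⟩ := hπ.2 y
    set x : (cech Y (QP P)).X 0 := ((CechEdge.cx P Y).iCycles 0).hom z with hxdef
    have hx : ((cech Y (QP P)).d 0 1).hom x = 0 := by
      have := (CechEdge.cx P Y).iCycles_d 0 1
      exact congrArg (fun m => m.hom z) this
    obtain ⟨t, ht, -⟩ := hS (fun i => (ev Y (QP P) (Y i) (single Y i (𝟙 _))).hom x) (by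
      intro i j Z gi gj hg
      let T : Over U := Over.mk (gi ≫ (Y i).hom)
      let mi : T ⟶ Y i := Over.homMk gi rfl
      let mj : T ⟶ Y j := Over.homMk gj hg.symm
      have e1 := congrArg (fun m => m.hom x) (ev_map Y (QP P) mi (single Y i (𝟙 _)))
      have e2 := congrArg (fun m => m.hom x) (ev_map Y (QP P) mj (single Y j (𝟙 _)))
      have e3 := cocycle_ev Y P x hx (T := T) ⟨i, mi ≫ 𝟙 _⟩ ⟨j, mj ≫ 𝟙 _⟩
      exact (e1.trans e3.symm).trans e2.symm)
    refine ⟨t, ?_⟩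
    rw [toCech_apply]
    congr 1
    apply hi
    rw [iCycles_toCycles]
    apply ext_elem
    intro T σ
    rw [toCech₀_ev_apply, single_eq_pull Y σ]
    have e1 := congrArg (fun m => m.hom x) (ev_map Y (QP P) (σ 0).2 (single Y (σ 0).1 (𝟙 _)))
    refine Eq.trans ?_ e1
    have e2 := ht (σ 0).1
    simp only [AddCommGrpCat.hom_comp, AddMonoidHom.comp_apply]
    refine Eq.trans ?_ (congrArg (fun w => ((QP P).map (σ 0).2.op).hom w) e2)
    have e3 : (σ 0).2.left ≫ (Y (σ 0).1).hom = T.hom := Over.w _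
    rw [← e3, op_comp, P.map_comp]
    rfl


/-- the 0-cochain attached to a family of sections -/
noncomputable def cochainOfFamily (x : ∀ i, P.obj (op (Y i).left)) : (cech Y (QP P)).X 0 :=
  (Concrete.productEquiv (fun a : Fin 1 → ι => (QP P).obj (op (∏ᶜ (Y ∘ a))))).symm
    (fun a => (P.map ((Pi.π (Y ∘ a) 0).left).op).hom (x (a 0)))

lemma ev_cochainOfFamily (x : ∀ i, P.obj (op (Y i).left)) (T : Over U) (σ : Fin 1 → Sg Y T) :
    (ev Y (QP P) T σ).hom (cochainOfFamily Y P x) = (P.map ((σ 0).2.left).op).hom (x (σ 0).1) := by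
  unfold ev
  have h1 : (Pi.π (fun a : Fin 1 → ι => (QP P).obj (op (∏ᶜ (Y ∘ a)))) (fun k => (σ k).1)).hom
      (cochainOfFamily Y P x) =
      (P.map ((Pi.π (Y ∘ fun k => (σ k).1) 0).left).op).hom (x (σ 0).1) :=
    Concrete.productEquiv_symm_apply_π _ _ _
  have h2 : (Pi.lift (fun k => (σ k).2) : T ⟶ ∏ᶜ (Y ∘ fun k => (σ k).1)).left ≫
      (Pi.π (Y ∘ fun k => (σ k).1) 0).left = (σ 0).2.left := by
    rw [← Over.comp_left, Pi.lift_π]
  have h3 : (Pi.π (fun a : Fin 1 → ι => (QP P).obj (op (∏ᶜ (Y ∘ a)))) (fun k => (σ k).1) ≫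
      (QP P).map (Pi.lift (fun k => (σ k).2) : T ⟶ ∏ᶜ (Y ∘ fun k => (σ k).1)).op).hom
        (cochainOfFamily Y P x) =
      ((QP P).map (Pi.lift (fun k => (σ k).2) : T ⟶ ∏ᶜ (Y ∘ fun k => (σ k).1)).op).hom
        ((Pi.π (fun a : Fin 1 → ι => (QP P).obj (op (∏ᶜ (Y ∘ a)))) (fun k => (σ k).1)).hom
          (cochainOfFamily Y P x)) := rfl
  refine h3.trans ?_
  rw [h1, ← h2, op_comp, P.map_comp]
  rfl

/-- lifting a cocycle to the cycles -/
lemma exists_cycle (K : CochainComplex AddCommGrpCat.{u} ℕ) (c : K.X 0) (hc : (K.d 0 1).hom c = 0) :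
    ∃ z : K.cycles 0, (K.iCycles 0).hom z = c := by
  let A : AddCommGrpCat.{u} := AddCommGrpCat.of (K.d 0 1).hom.ker
  let k : A ⟶ K.X 0 := AddCommGrpCat.ofHom (K.d 0 1).hom.ker.subtype
  have hk : k ≫ K.d 0 1 = 0 := by
    ext ⟨w, hw⟩
    exact hw
  refine ⟨(K.liftCycles k 1 (by simp) hk).hom ⟨c, hc⟩, ?_⟩
  have := congrArg (fun m => m.hom (⟨c, hc⟩ : A)) (K.liftCycles_i k 1 (by simp) hk)
  exact this

theorem isSheaf_of_toCech_bijective
    (h : ∀ (U : C) (ι : Type u) (Y : ι → Over U),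
      Sieve.ofArrows (fun i => (Y i).left) (fun i => (Y i).hom) ∈ J U →
        Function.Bijective (CechEdge.toCech Y P)) : Presheaf.IsSheaf J P := by
  rw [Presheaf.isSheaf_iff_isSheaf_forget J P (forget _), isSheaf_iff_isSheaf_of_type]
  intro X S hS
  let Y : S.arrows.category → Over X := fun f => f.obj
  have hgen : Sieve.ofArrows (fun i => (Y i).left) (fun i => (Y i).hom) = S :=
    Sieve.ofArrows_category S
  have hb := h X _ Y (by rw [hgen]; exact hS)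
  rw [← hgen]
  refine (Presieve.isSheafFor_iff_generate _).1 ?_
  rw [Presieve.isSheafFor_arrows_iff]
  intro x hx
  have hπ : Function.Bijective ((CechEdge.cx P Y).homologyπ 0).hom :=
    ConcreteCategory.bijective_of_isIso ((CechEdge.cx P Y).homologyπ 0)
  have hi : Function.Injective ((CechEdge.cx P Y).iCycles 0).hom :=
    (AddCommGrpCat.mono_iff_injective _).1 inferInstance
  set c := cochainOfFamily Y P x with hcdef
  have hc : ((cech Y (QP P)).d 0 1).hom c = 0 := by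
    apply ext_elem
    intro T σ
    have h := d_ev Y (QP P) T σ
    rw [Fin.sum_univ_two] at h
    have h2 := congrArg (fun m => m.hom c) h
    simp only [AddCommGrpCat.hom_comp, AddMonoidHom.comp_apply, Fin.val_zero,
      pow_zero, one_smul, Fin.val_one, pow_one, neg_smul, AddCommGrpCat.hom_add,
      AddCommGrpCat.hom_neg, AddMonoidHom.add_apply, AddMonoidHom.neg_apply] at h2
    rw [h2, map_zero, ev_cochainOfFamily, ev_cochainOfFamily]
    have := hx (σ 0).1 (σ 1).1 T.left (σ 0).2.left (σ 1).2.left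
      ((Over.w (σ 0).2).trans (Over.w (σ 1).2).symm)
    refine add_neg_eq_zero.2 ?_
    exact this.symm
  obtain ⟨z, hz⟩ := exists_cycle (CechEdge.cx P Y) c hc
  have key : ∀ t : P.obj (op X), (∀ i, (P.map (Y i).hom.op).hom t = x i) →
      (CechEdge.toCech₀ P Y).hom t = c := by
    intro t ht
    apply ext_elem
    intro T σ
    rw [toCech₀_ev_apply, ev_cochainOfFamily, ← ht, ← Over.w (σ 0).2, op_comp, P.map_comp]
    rfl
  obtain ⟨t, ht⟩ := hb.2 (((CechEdge.cx P Y).homologyπ 0).hom z)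
  rw [toCech_apply] at ht
  have ht2 : (CechEdge.toCech₀ P Y).hom t = c := by
    rw [← iCycles_toCycles, hπ.1 ht, hz]
  refine ⟨t, fun i => ?_, fun t' ht' => ?_⟩
  · have e1 := toCech₀_ev_apply Y P (Y i) (single Y i (𝟙 _)) t
    rw [ht2, ev_cochainOfFamily] at e1
    refine e1.symm.trans ?_
    show (P.map (𝟙 (Y i).left).op).hom (x i) = x i
    rw [op_id, P.map_id]
    rfl
  · apply hb.1
    rw [toCech_apply, toCech_apply]
    congr 1
    apply hi
    rw [iCycles_toCycles, iCycles_toCycles, ht2, key t' ht']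

end OverS
end Groth.Agent.Helper24.CechEv
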