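import Mathlib
import Groth.Prelude.Def_CechEdge
import Groth.Prelude.Def_DeltaF
import Groth.Agent.Lib.Helper24.CechEv

universe u
set_option linter.unusedSectionVars false
open CategoryTheory CategoryTheory.Limits Opposite

namespace Groth.Agent.Helper24.CechDelta

section PiExact

variable {I : Type u} {A B D : I → AddCommGrpCat.{u}}

lemma pi_map_apply (f : ∀ i, A i ⟶ B i) (x : (∏ᶜ A : AddCommGrpCat.{u})) (i : I) :
    (Pi.π B i).hom ((Limits.Pi.map f).hom x) = (f i).hom ((Pi.π A i).hom x) := by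
  have := congrArg (fun m => m.hom x) (Limits.Pi.map_π f i)
  exact this

lemma pi_ext (x y : (∏ᶜ A : AddCommGrpCat.{u})) (h : ∀ i, (Pi.π A i).hom x = (Pi.π A i).hom y) :
    x = y := by
  apply (Concrete.productEquiv A).injective
  funext i
  exact ((Concrete.productEquiv_apply_apply _ _ _).trans (h i)).trans
    (Concrete.productEquiv_apply_apply _ _ _).symm

lemma pi_shortExact (f : ∀ i, A i ⟶ B i) (g : ∀ i, B i ⟶ D i)
    (w : ∀ i, f i ≫ g i = 0) (h : ∀ i, (ShortComplex.mk (f i) (g i) (w i)).ShortExact) :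
    (ShortComplex.mk (Limits.Pi.map f) (Limits.Pi.map g) (by
      apply Limits.Pi.hom_ext; intro i; simp [w i])).ShortExact := by
  have hmono : ∀ i, Function.Injective (f i).hom := fun i =>
    (AddCommGrpCat.mono_iff_injective _).1 (h i).mono_f
  have hepi : ∀ i, Function.Surjective (g i).hom := fun i =>
    (AddCommGrpCat.epi_iff_surjective _).1 (h i).epi_g
  have hex : ∀ i (x : B i), (g i).hom x = 0 → ∃ y, (f i).hom y = x := fun i =>
    (ShortComplex.ab_exact_iff _).1 (h i).exact
  refine ShortComplex.ShortExact.mk' ?_ ?_ ?_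
  · rw [ShortComplex.ab_exact_iff]
    intro x hx
    have : ∀ i, ∃ y, (f i).hom y = (Pi.π B i).hom x := fun i => by
      apply hex
      have := congrArg (Pi.π D i).hom hx
      rw [map_zero] at this
      rw [← this]
      exact (pi_map_apply g x i).symm
    choose y hy using this
    refine ⟨(Concrete.productEquiv A).symm y, ?_⟩
    apply pi_ext
    intro i
    refine (pi_map_apply f _ i).trans ?_
    rw [Concrete.productEquiv_symm_apply_π, hy]
  · rw [AddCommGrpCat.mono_iff_injective]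
    intro x y hxy
    apply pi_ext
    intro i
    apply hmono
    rw [← pi_map_apply, ← pi_map_apply]
    exact congrArg _ hxy
  · rw [AddCommGrpCat.epi_iff_surjective]
    intro x
    have : ∀ i, ∃ y, (g i).hom y = (Pi.π D i).hom x := fun i => hepi i _
    choose y hy using this
    refine ⟨(Concrete.productEquiv B).symm y, ?_⟩
    apply pi_ext
    intro i
    refine (pi_map_apply g _ i).trans ?_
    rw [Concrete.productEquiv_symm_apply_π, hy]

end PiExact


section Functor

variable {C : Type u} [SmallCategory C] [HasPullbacks C] {U : C} {ι : Type u} (Y : ι → Over U)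

lemma cxFunctor_map_f {P Q : Cᵒᵖ ⥤ AddCommGrpCat.{u}} (φ : P ⟶ Q) (n : ℕ) :
    ((CechEdge.cxFunctor Y).map φ).f n =
      (Limits.Pi.map (fun a : Fin (n+1) → ι => φ.app (op (∏ᶜ (Y ∘ a)).left)) :
        (CechEdge.cx P Y).X n ⟶ (CechEdge.cx Q Y).X n) := rfl

instance additive_cxFunctor : (CechEdge.cxFunctor (C := C) Y).Additive where
  map_add {P Q φ ψ} := by
    apply HomologicalComplex.hom_ext
    intro n
    rw [HomologicalComplex.add_f_apply, cxFunctor_map_f, cxFunctor_map_f, cxFunctor_map_f]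
    apply Limits.Pi.hom_ext
    intro a
    erw [Preadditive.add_comp, Limits.Pi.map_π, Limits.Pi.map_π, Limits.Pi.map_π]
    rw [NatTrans.app_add]
    exact Preadditive.comp_add _ _ _ _ _ _

lemma shortExact_map (S : ShortComplex (Cᵒᵖ ⥤ AddCommGrpCat.{u})) (hS : S.ShortExact) :
    (S.map (CechEdge.cxFunctor Y)).ShortExact := by
  apply HomologicalComplex.shortExact_of_degreewise_shortExact
  intro n
  have := pi_shortExact (I := Fin (n+1) → ι)
    (fun a => S.f.app (op (∏ᶜ (Y ∘ a)).left)) (fun a => S.g.app (op (∏ᶜ (Y ∘ a)).left))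
    (fun a => by rw [← NatTrans.comp_app, S.zero]; rfl)
    (fun a => hS.map_of_exact ((evaluation _ _).obj (op (∏ᶜ (Y ∘ a)).left)))
  exact this


/-- Čech cohomology as a cohomological δ-functor on presheaves. -/
noncomputable def TC : DeltaF.CohDeltaFunctor (Cᵒᵖ ⥤ AddCommGrpCat.{u}) AddCommGrpCat.{u} ℕ where
  F n := CechEdge.cxFunctor Y ⋙ HomologicalComplex.homologyFunctor _ _ n
  additive n := inferInstance
  δ S hS n₀ n₁ h := (shortExact_map Y S hS).δ n₀ n₁ h
  δ_natural {S S'} hS hS' φ n₀ n₁ h :=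
    (HomologicalComplex.HomologySequence.δ_naturality
      ((CechEdge.cxFunctor Y).mapShortComplex.map φ) (shortExact_map Y S hS)
      (shortExact_map Y S' hS') n₀ n₁ h).symm
  exact₂ S hS n := (shortExact_map Y S hS).homology_exact₂ n
  comp_δ S hS n₀ n₁ h := (shortExact_map Y S hS).comp_δ n₀ n₁ h
  exact₃ S hS n₀ n₁ h := (shortExact_map Y S hS).homology_exact₃ n₀ n₁ h
  δ_comp S hS n₀ n₁ h := (shortExact_map Y S hS).δ_comp n₀ n₁ h
  exact₁ S hS n₀ n₁ h := (shortExact_map Y S hS).homology_exact₁ n₀ n₁ h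

lemma TC_F_obj (n : ℕ) (P : Cᵒᵖ ⥤ AddCommGrpCat.{u}) :
    ((TC Y).F n).obj P = CohCx.cechH P Y n := rfl

lemma TC_F_map (n : ℕ) {P Q : Cᵒᵖ ⥤ AddCommGrpCat.{u}} (φ : P ⟶ Q) :
    (((TC Y).F n).map φ).hom = CechEdge.cechHMap Y φ n := rfl

lemma TC_δ (S : ShortComplex (Cᵒᵖ ⥤ AddCommGrpCat.{u})) (hS : S.ShortExact)
    (hC : (S.map (CechEdge.cxFunctor Y)).ShortExact) (n : ℕ) :
    (TC Y).δ S hS n (n+1) rfl = hC.δ n (n+1) rfl := rfl

end Functor

end Groth.Agent.Helper24.CechDelta
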