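import Mathlib
import Groth.Prelude.Def_CechEdge
import Groth.Prelude.Def_DeltaF
import Groth.Agent.Lib.Helper24.CechEv

universe u
set_option linter.unusedSectionVars false
open CategoryTheory CategoryTheory.Limits Opposite

namespace Groth.Agent.Helper24.CechEff

open Groth.Agent.Helper24.CechEv

section Eff
variable {C : Type u} [SmallCategory C] (P : Cᵒᵖ ⥤ AddCommGrpCat.{u})

/-- the presheaf `W ↦ ∏_V ∏_{g : V ⟶ W} P(V)` -/
noncomputable def Eff : Cᵒᵖ ⥤ AddCommGrpCat.{u} where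
  obj W := AddCommGrpCat.of (∀ (V : C) (_ : V ⟶ W.unop), P.obj (op V))
  map {W W'} h := AddCommGrpCat.ofHom
    { toFun := fun s V g => s V (g ≫ h.unop)
      map_zero' := rfl
      map_add' := fun _ _ => rfl }
  map_id W := by
    ext s V g
    show s V (g ≫ 𝟙 _) = s V g
    rw [Category.comp_id]
  map_comp {W W' W''} h h' := by
    ext s V g
    show s V (g ≫ (h'.unop ≫ h.unop)) = s V ((g ≫ h'.unop) ≫ h.unop)
    rw [Category.assoc]

lemma Eff_map_apply {W W' : Cᵒᵖ} (h : W ⟶ W') (s : (Eff P).obj W) (V : C) (g : V ⟶ W'.unop) :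
    ((Eff P).map h).hom s V g = s V (g ≫ h.unop) := rfl

/-- evaluation -/
noncomputable def evE (W V : C) (g : V ⟶ W) : (Eff P).obj (op W) ⟶ P.obj (op V) :=
  AddCommGrpCat.ofHom
    { toFun := fun s => s V g
      map_zero' := rfl
      map_add' := fun _ _ => rfl }

lemma evE_apply (W V : C) (g : V ⟶ W) (s : (Eff P).obj (op W)) : (evE P W V g).hom s = s V g := rfl

lemma Eff_map_evE {W W' : C} (h : W' ⟶ W) (V : C) (g : V ⟶ W') :
    (Eff P).map h.op ≫ evE P W' V g = evE P W V (g ≫ h) := rfl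

lemma Eff_hom_ext {Z : AddCommGrpCat.{u}} {W : C} (a b : Z ⟶ (Eff P).obj (op W))
    (h : ∀ V (g : V ⟶ W), a ≫ evE P W V g = b ≫ evE P W V g) : a = b := by
  ext z
  funext V g
  exact congrArg (fun m => m.hom z) (h V g)

/-- the embedding `P ⟶ Eff P` -/
noncomputable def toEff : P ⟶ Eff P where
  app W := AddCommGrpCat.ofHom
    { toFun := fun s V g => (P.map g.op).hom s
      map_zero' := by funext V g; exact map_zero _
      map_add' := fun x y => by funext V g; exact map_add _ _ _ }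
  naturality {W W'} h := by
    ext s
    funext V g
    show (P.map g.op).hom ((P.map h).hom s) = (P.map (g ≫ h.unop).op).hom s
    rw [op_comp, P.map_comp]
    rfl

instance mono_toEff : Mono (toEff P) := by
  have : ∀ W, Mono ((toEff P).app W) := fun W => by
    rw [AddCommGrpCat.mono_iff_injective]
    intro s s' h
    have := congrFun (congrFun h W.unop) (𝟙 _)
    change (P.map (𝟙 _)).hom s = (P.map (𝟙 _)).hom s' at this
    simpa using this
  exact NatTrans.mono_of_mono_app _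

end Eff


section Contr
variable {C : Type u} [SmallCategory C] [HasPullbacks C] {U : C} {ι : Type u} (Y : ι → Over U)
  (P : Cᵒᵖ ⥤ AddCommGrpCat.{u})

noncomputable abbrev QE : (Over U)ᵒᵖ ⥤ AddCommGrpCat.{u} := QP (Eff P)

/-- evaluation, typed on `QE` -/
noncomputable def evQ (T : Over U) (V : C) (k : V ⟶ T.left) : (QE P).obj (op T) ⟶ P.obj (op V) :=
  evE P T.left V k

lemma evQ_apply (T : Over U) (V : C) (k : V ⟶ T.left) (s : (QE P).obj (op T)) :
    (evQ P T V k).hom s = s V k := rfl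

lemma QE_map_evQ {T T' : Over U} (m : T' ⟶ T) (V : C) (k : V ⟶ T'.left) :
    (QE P).map m.op ≫ evQ P T' V k = evQ P T V (k ≫ m.left) := rfl

lemma QE_hom_ext {Z : AddCommGrpCat.{u}} {T : Over U} (a b : Z ⟶ (QE P).obj (op T))
    (h : ∀ V (k : V ⟶ T.left), a ≫ evQ P T V k = b ≫ evQ P T V k) : a = b :=
  Eff_hom_ext P a b h

/-- scalar evaluation -/
noncomputable def sev {n : ℕ} (T : Over U) (σ : Fin (n+1) → Sg Y T) :
    (cech Y (QE P)).X n ⟶ P.obj (op T.left) :=
  ev Y (QE P) T σ ≫ evQ P T T.left (𝟙 _)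

lemma ev_evQ {n : ℕ} (T : Over U) (σ : Fin (n+1) → Sg Y T) (V : C) (k : V ⟶ T.left) :
    ev Y (QE P) T σ ≫ evQ P T V k =
      sev Y P (Over.mk (k ≫ T.hom)) (pullσ Y (Over.homMk k rfl : Over.mk (k ≫ T.hom) ⟶ T) σ) := by
  unfold sev
  rw [← ev_map]
  refine Eq.trans ?_ (Category.assoc _ _ _).symm
  congr 1
  have := QE_map_evQ P (Over.homMk k rfl : Over.mk (k ≫ T.hom) ⟶ T) V (𝟙 V)
  refine Eq.trans ?_ this.symm
  congr 1
  exact (Category.id_comp _).symm

lemma sev_hom_ext {n : ℕ} {Z : AddCommGrpCat.{u}} (g g' : Z ⟶ (cech Y (QE P)).X n)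
    (h : ∀ (T : Over U) (σ : Fin (n+1) → Sg Y T), g ≫ sev Y P T σ = g' ≫ sev Y P T σ) :
    g = g' := by
  apply CechEv.hom_ext
  intro T σ
  apply QE_hom_ext
  intro V k
  rw [Category.assoc, Category.assoc, ev_evQ]
  exact h _ _

lemma coface_sev {n : ℕ} (T : Over U) (σ : Fin (n+2) → Sg Y T) (j : Fin (n+2)) :
    coface Y (QE P) j ≫ sev Y P T σ = sev Y P T (σ ∘ (SimplexCategory.δ j).toOrderHom) := by
  unfold sev
  rw [← Category.assoc, coface_ev]

lemma d_sev {n : ℕ} (T : Over U) (σ : Fin (n+2) → Sg Y T) :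
    (cech Y (QE P)).d n (n+1) ≫ sev Y P T σ =
      ∑ j : Fin (n+2), (-1:ℤ)^(j:ℕ) • sev Y P T (σ ∘ (SimplexCategory.δ j).toOrderHom) := by
  unfold sev
  rw [← Category.assoc, d_ev, Preadditive.sum_comp]
  refine Finset.sum_congr rfl fun j _ => ?_
  rw [Preadditive.zsmul_comp]


/-- the tuple attached to a morphism into the product -/
noncomputable def σof {n : ℕ} (b : Fin (n+1) → ι) {T : Over U} (m : T ⟶ ∏ᶜ (Y ∘ b)) :
    Fin (n+1) → Sg Y T :=
  pullσ Y m (tautσ Y b)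

lemma σof_lift {n : ℕ} {T : Over U} (σ : Fin (n+1) → Sg Y T) :
    σof Y (fun k => (σ k).1) (Pi.lift (fun k => (σ k).2) : T ⟶ ∏ᶜ (Y ∘ fun k => (σ k).1)) = σ := by
  funext k
  refine Sigma.ext rfl (heq_of_eq ?_)
  exact Pi.lift_π _ _

/-- prepend a chosen element -/
noncomputable def consσ {n : ℕ} {T : Over U} (σ : Fin (n+1) → Sg Y T) : Fin (n+2) → Sg Y T :=
  Fin.cons (α := fun _ => Sg Y T) (Classical.choice ⟨σ 0⟩) σ

lemma consσ_δ_zero {n : ℕ} {T : Over U} (σ : Fin (n+1) → Sg Y T) :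
    consσ Y σ ∘ (SimplexCategory.δ (0 : Fin (n+2))).toOrderHom = σ := by
  funext k
  show consσ Y σ (Fin.succAbove 0 k) = σ k
  rw [Fin.succAbove_zero]
  rfl

lemma consσ_δ_succ {n : ℕ} {T : Over U} (σ : Fin (n+2) → Sg Y T) (j : Fin (n+2)) :
    consσ Y σ ∘ (SimplexCategory.δ j.succ).toOrderHom =
      consσ Y (σ ∘ (SimplexCategory.δ j).toOrderHom) := by
  funext k
  show consσ Y σ (Fin.succAbove j.succ k) = _
  refine Fin.cases ?_ (fun k' => ?_) k
  · rw [Fin.succ_succAbove_zero]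
    rfl
  · rw [Fin.succ_succAbove_succ]
    rfl

/-- the contracting homotopy -/
noncomputable def contr (n : ℕ) : (cech Y (QE P)).X (n+1) ⟶ (cech Y (QE P)).X n :=
  Pi.lift (fun b : Fin (n+1) → ι =>
    (AddCommGrpCat.ofHom
      { toFun := fun f V g => (sev Y P (Over.mk (g ≫ (∏ᶜ (Y ∘ b)).hom))
          (consσ Y (σof Y b (Over.homMk g rfl)))).hom f
        map_zero' := by funext V g; exact map_zero _
        map_add' := fun x y => by funext V g; exact map_add _ _ _ } :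
      (cech Y (QE P)).X (n+1) ⟶ (QE P).obj (op (∏ᶜ (Y ∘ b)))))

lemma contr_π_apply {n : ℕ} (b : Fin (n+1) → ι) (f : (cech Y (QE P)).X (n+1)) (V : C) (c : V ⟶ U)
    (g : V ⟶ (∏ᶜ (Y ∘ b)).left) (w : g ≫ (∏ᶜ (Y ∘ b)).hom = c) :
    ((Pi.π (fun a : Fin (n+1) → ι => (QE P).obj (op (∏ᶜ (Y ∘ a)))) b).hom ((contr Y P n).hom f)) V g =
      (sev Y P (Over.mk c) (consσ Y (σof Y b (Over.homMk g w)))).hom f := by
  subst w
  have := congrArg (fun m => m.hom f) (Pi.lift_π (fun b : Fin (n+1) → ι =>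
    (AddCommGrpCat.ofHom
      { toFun := fun f V g => (sev Y P (Over.mk (g ≫ (∏ᶜ (Y ∘ b)).hom))
          (consσ Y (σof Y b (Over.homMk g rfl)))).hom f
        map_zero' := by funext V g; exact map_zero _
        map_add' := fun x y => by funext V g; exact map_add _ _ _ } :
      (cech Y (QE P)).X (n+1) ⟶ (QE P).obj (op (∏ᶜ (Y ∘ b))))) b)
  exact congrFun (congrFun this V) g

lemma contr_sev {n : ℕ} (T : Over U) (σ : Fin (n+1) → Sg Y T) :
    contr Y P n ≫ sev Y P T σ = sev Y P T (consσ Y σ) := by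
  ext f
  let m : T ⟶ ∏ᶜ (Y ∘ fun k => (σ k).1) := Pi.lift (fun k => (σ k).2)
  have hw : (𝟙 T.left ≫ m.left) ≫ (∏ᶜ (Y ∘ fun k => (σ k).1)).hom = T.hom :=
    (congrArg (· ≫ (∏ᶜ (Y ∘ fun k => (σ k).1)).hom) (Category.id_comp m.left)).trans (Over.w m)
  have h1 : (contr Y P n ≫ sev Y P T σ).hom f =
      ((Pi.π (fun a : Fin (n+1) → ι => (QE P).obj (op (∏ᶜ (Y ∘ a)))) (fun k => (σ k).1)).hom
        ((contr Y P n).hom f)) T.left (𝟙 T.left ≫ m.left) := rfl
  refine h1.trans ((contr_π_apply Y P (fun k => (σ k).1) f T.left T.hom _ hw).trans ?_)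
  have h2 : (Over.homMk (𝟙 T.left ≫ m.left) hw : Over.mk T.hom ⟶ ∏ᶜ (Y ∘ fun k => (σ k).1)) = m := by
    apply Over.OverMorphism.ext
    exact Category.id_comp _
  rw [h2, σof_lift]
  rfl

lemma homotopy_id (n : ℕ) :
    contr Y P n ≫ (cech Y (QE P)).d n (n+1) +
      (cech Y (QE P)).d (n+1) (n+2) ≫ contr Y P (n+1) = 𝟙 _ := by
  apply sev_hom_ext
  intro T σ
  rw [Preadditive.add_comp, Category.assoc, Category.assoc, d_sev, contr_sev, d_sev,
    Category.id_comp, Preadditive.comp_sum, Fin.sum_univ_succ (n := n+2)]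
  simp only [Fin.val_zero, pow_zero, one_smul, consσ_δ_zero, Fin.val_succ, consσ_δ_succ,
    Preadditive.comp_zsmul, contr_sev]
  refine (add_left_comm _ _ _).trans ?_
  rw [← Finset.sum_add_distrib, Finset.sum_eq_zero, add_zero]
  intro j _
  rw [pow_succ, mul_neg_one, neg_smul, add_neg_cancel]

lemma exact_succ (n : ℕ) (x : (cech Y (QE P)).X (n+1)) (hx : ((cech Y (QE P)).d (n+1) (n+2)).hom x = 0) :
    ∃ y, ((cech Y (QE P)).d n (n+1)).hom y = x := by
  refine ⟨(contr Y P n).hom x, ?_⟩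
  have := congrArg (fun m => m.hom x) (homotopy_id Y P n)
  simp only [AddCommGrpCat.hom_add, AddCommGrpCat.hom_comp, AddMonoidHom.add_apply,
    AddMonoidHom.comp_apply, hx, map_zero, add_zero, AddCommGrpCat.hom_id, AddMonoidHom.id_apply] at this
  exact this

lemma isZero_homology (n : ℕ) : IsZero ((CechEdge.cx (Eff P) Y).homology (n+1)) := by
  rw [← HomologicalComplex.exactAt_iff_isZero_homology,
    HomologicalComplex.exactAt_iff' _ n (n+1) (n+2) (by simp) (by simp),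
    ShortComplex.ab_exact_iff]
  intro x hx
  exact exact_succ Y P n x hx

end Contr


end Groth.Agent.Helper24.CechEff
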