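import Mathlib
import Groth.Prelude.Def_CechEdge
import Groth.Prelude.Def_DeltaF

universe w v u v' u'
set_option linter.unusedSectionVars false
open CategoryTheory CategoryTheory.Limits Opposite

namespace Groth.Agent.Helper24.CechH

section ExtDelta

variable {A : Type u} [Category.{v} A] [Abelian A] [HasExt.{w} A] (X : A)

open Abelian

lemma ext_nat {S S' : ShortComplex A} (hS : S.ShortExact) (hS' : S'.ShortExact) (φ : S ⟶ S')
    (n₀ n₁ : ℕ) (h : n₀ + 1 = n₁) (x : Ext X S.X₃ n₀) :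
    (x.comp (Ext.mk₀ φ.τ₃) (add_zero n₀)).comp hS'.extClass h =
      (x.comp hS.extClass h).comp (Ext.mk₀ φ.τ₁) (add_zero n₁) := by
  rw [Ext.comp_assoc_of_second_deg_zero, Ext.comp_assoc_of_third_deg_zero,
    ShortComplex.ShortExact.extClass_naturality hS hS' φ]

lemma ext_comp_δ {S : ShortComplex A} (hS : S.ShortExact)
    (n₀ n₁ : ℕ) (h : n₀ + 1 = n₁) (x : Ext X S.X₂ n₀) :
    (x.comp (Ext.mk₀ S.g) (add_zero n₀)).comp hS.extClass h = 0 := by
  rw [Ext.comp_assoc_of_second_deg_zero, ShortComplex.ShortExact.comp_extClass, Ext.comp_zero]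

lemma ext_δ_comp {S : ShortComplex A} (hS : S.ShortExact)
    (n₀ n₁ : ℕ) (h : n₀ + 1 = n₁) (x : Ext X S.X₃ n₀) :
    (x.comp hS.extClass h).comp (Ext.mk₀ S.f) (add_zero n₁) = 0 := by
  rw [Ext.comp_assoc_of_third_deg_zero, ShortComplex.ShortExact.extClass_comp, Ext.comp_zero]

/-- `Ext^•(X, -)` as a δ-functor -/
noncomputable def extDelta : DeltaF.CohDeltaFunctor A AddCommGrpCat.{w} ℕ where
  F n := extFunctorObj X n
  additive n := inferInstance
  δ S hS n₀ n₁ h := AddCommGrpCat.ofHom (hS.extClass.postcomp X h)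
  δ_natural {S S'} hS hS' φ n₀ n₁ h := by
    ext x
    exact ext_nat X hS hS' φ n₀ n₁ h x
  exact₂ S hS n := Ext.covariant_sequence_exact₂' X hS n
  comp_δ S hS n₀ n₁ h := by
    ext x
    exact ext_comp_δ X hS n₀ n₁ h x
  exact₃ S hS n₀ n₁ h := Ext.covariant_sequence_exact₃' X hS n₀ n₁ h
  δ_comp S hS n₀ n₁ h := by
    ext x
    exact ext_δ_comp X hS n₀ n₁ h x
  exact₁ S hS n₀ n₁ h := Ext.covariant_sequence_exact₁' X hS n₀ n₁ h

end ExtDelta

section Comap

variable {A' : Type u'} [Category.{v'} A'] [Abelian A'] {A : Type u} [Category.{v} A] [Abelian A]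
  {B : Type*} [Category B] [Abelian B]
  (G : A' ⥤ A) [G.Additive] [PreservesFiniteLimits G] [PreservesFiniteColimits G]
  (T : DeltaF.CohDeltaFunctor A B ℕ)

/-- pull back a δ-functor along an exact functor -/
noncomputable def comap : DeltaF.CohDeltaFunctor A' B ℕ where
  F n := G ⋙ T.F n
  additive n := inferInstance
  δ S hS n₀ n₁ h := T.δ (S.map G) (hS.map_of_exact G) n₀ n₁ h
  δ_natural {S S'} hS hS' φ n₀ n₁ h :=
    T.δ_natural (hS.map_of_exact G) (hS'.map_of_exact G) (G.mapShortComplex.map φ) n₀ n₁ h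
  exact₂ S hS n := T.exact₂ (S.map G) (hS.map_of_exact G) n
  comp_δ S hS n₀ n₁ h := T.comp_δ (S.map G) (hS.map_of_exact G) n₀ n₁ h
  exact₃ S hS n₀ n₁ h := T.exact₃ (S.map G) (hS.map_of_exact G) n₀ n₁ h
  δ_comp S hS n₀ n₁ h := T.δ_comp (S.map G) (hS.map_of_exact G) n₀ n₁ h
  exact₁ S hS n₀ n₁ h := T.exact₁ (S.map G) (hS.map_of_exact G) n₀ n₁ h

end Comap


section TH

variable {C : Type u} [SmallCategory C] (J : GrothendieckTopology C) (U : C)

/-- the δ-functor `P ↦ H^n(U, P^#)` on presheaves -/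
noncomputable def TH : DeltaF.CohDeltaFunctor (Cᵒᵖ ⥤ AddCommGrpCat.{u}) AddCommGrpCat.{u} ℕ :=
  comap (presheafToSheaf J AddCommGrpCat.{u}) (extDelta (CohCx.freeSheaf J U))

lemma TH_F_obj (n : ℕ) (P : Cᵒᵖ ⥤ AddCommGrpCat.{u}) :
    ((TH J U).F n).obj P = AddCommGrpCat.of (CohSite.HU (CechEdge.shf J P) n U) := rfl

lemma TH_F_map (n : ℕ) {P Q : Cᵒᵖ ⥤ AddCommGrpCat.{u}} (φ : P ⟶ Q) :
    (((TH J U).F n).map φ).hom = CechEdge.HUmap (CechEdge.shfMap J φ) n U := rfl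

lemma TH_δ (S : ShortComplex (Cᵒᵖ ⥤ AddCommGrpCat.{u})) (hS : S.ShortExact) (n : ℕ) :
    ((TH J U).δ S hS n (n+1) rfl).hom =
      CechEdge.extδ (hS.map_of_exact (presheafToSheaf J AddCommGrpCat.{u})) U n := rfl

end TH

end Groth.Agent.Helper24.CechH
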