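import Mathlib
import Groth.Prelude.Def_CechEdge
import Groth.Prelude.Def_DeltaF
import Groth.Agent.Lib.Helper24.CechEv
import Groth.Agent.Lib.Helper24.CechDelta
import Groth.Agent.Lib.Helper24.CechEff
import Groth.Agent.Lib.Helper24.CechH
import Groth.Agent.S6773

universe u
set_option linter.unusedSectionVars false
open CategoryTheory CategoryTheory.Limits Opposite

namespace Groth.Agent.Helper24.CechEdgeLib

open Groth.Agent.Helper24.CechEv Groth.Agent.Helper24.CechDelta Groth.Agent.Helper24.CechEff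
  Groth.Agent.Helper24.CechH

variable {C : Type u} [SmallCategory C] [HasPullbacks C] {U : C} {ι : Type u} (Y : ι → Over U)

lemma isEffaceable : (TC Y).IsEffaceable := fun n P =>
  ⟨Eff P, toEff P, inferInstance, (isZero_homology Y P n).eq_of_tgt _ _⟩

theorem isUniversal : (TC Y).IsUniversal := Groth.Agent.S6773.result _ (isEffaceable Y)

section Nat

variable {P Q : Cᵒᵖ ⥤ AddCommGrpCat.{u}} (ψ : P ⟶ Q)

lemma toCech₀_naturality :
    CechEdge.toCech₀ P Y ≫ ((CechEdge.cxFunctor Y).map ψ).f 0 = ψ.app (op U) ≫ CechEdge.toCech₀ Q Y := by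
  rw [cxFunctor_map_f]
  apply Limits.Pi.hom_ext
  intro a
  unfold CechEdge.toCech₀
  erw [Category.assoc, Category.assoc, Limits.Pi.map_π, Pi.lift_π, Pi.lift_π_assoc]
  exact ψ.naturality _

lemma toCycles_naturality :
    CechEdge.toCycles P Y ≫ HomologicalComplex.cyclesMap ((CechEdge.cxFunctor Y).map ψ) 0 =
      ψ.app (op U) ≫ CechEdge.toCycles Q Y := by
  rw [← cancel_mono ((CechEdge.cx Q Y).iCycles 0), Category.assoc, Category.assoc]
  have h1 : HomologicalComplex.cyclesMap ((CechEdge.cxFunctor Y).map ψ) 0 ≫ (CechEdge.cx Q Y).iCycles 0 =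
      (CechEdge.cx P Y).iCycles 0 ≫ ((CechEdge.cxFunctor Y).map ψ).f 0 :=
    HomologicalComplex.cyclesMap_i ((CechEdge.cxFunctor Y).map ψ) 0
  refine (congrArg (CechEdge.toCycles P Y ≫ ·) h1).trans ?_
  refine (Category.assoc _ _ _).symm.trans ?_
  refine (congrArg (· ≫ ((CechEdge.cxFunctor Y).map ψ).f 0) (CechEdge.toCycles_i P Y)).trans ?_
  refine (toCech₀_naturality Y ψ).trans ?_
  exact congrArg (ψ.app (op U) ≫ ·) (CechEdge.toCycles_i Q Y).symm

lemma toCech_naturality (s : P.obj (op U)) :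
    CechEdge.cechHMap Y ψ 0 (CechEdge.toCech Y P s) = CechEdge.toCech Y Q ((ψ.app (op U)).hom s) := by
  have h : (CechEdge.toCycles P Y ≫ (CechEdge.cx P Y).homologyπ 0) ≫
      HomologicalComplex.homologyMap ((CechEdge.cxFunctor Y).map ψ) 0 =
      ψ.app (op U) ≫ CechEdge.toCycles Q Y ≫ (CechEdge.cx Q Y).homologyπ 0 := by
    rw [Category.assoc]
    erw [HomologicalComplex.homologyπ_naturality]
    rw [← Category.assoc, toCycles_naturality, Category.assoc]
    rfl
  exact congrArg (fun m => m.hom s) h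

end Nat


section Sect
variable (J : GrothendieckTopology C)

omit [HasPullbacks C] in
lemma sectH0_apply (U : C) (F : Sheaf J AddCommGrpCat.{u}) (s : F.obj.obj (op U)) :
    CechEdge.sectH0 J U F s = Abelian.Ext.mk₀ (CohFree.ofSect J U F s) := rfl

omit [HasPullbacks C] in
lemma ofSect_comp {F G : Sheaf J AddCommGrpCat.{u}} (ψ : F ⟶ G) (U : C) (s : F.obj.obj (op U)) :
    CohFree.ofSect J U F s ≫ ψ = CohFree.ofSect J U G ((ψ.hom.app (op U)).hom s) := by
  apply (CohFree.homEquivSect J U G).injective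
  rw [CohFree.homEquivSect_apply, CohFree.homEquivSect_apply, CohFree.evalGen_ofSect]
  show (ψ.hom.app (op U)).hom (CohFree.evalGen J U F (CohFree.ofSect J U F s)) = _
  rw [CohFree.evalGen_ofSect]

omit [HasPullbacks C] in
lemma sectH0_naturality {F G : Sheaf J AddCommGrpCat.{u}} (ψ : F ⟶ G) (U : C) (s : F.obj.obj (op U)) :
    CechEdge.HUmap ψ 0 U (CechEdge.sectH0 J U F s) =
      CechEdge.sectH0 J U G ((ψ.hom.app (op U)).hom s) := by
  rw [sectH0_apply, sectH0_apply, ← ofSect_comp]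
  show (Abelian.Ext.mk₀ _).comp (Abelian.Ext.mk₀ ψ) (add_zero 0) = _
  rw [Abelian.Ext.mk₀_comp_mk₀]

end Sect


section Edge
variable (J : GrothendieckTopology C)
  (hY : Sieve.ofArrows (fun i => (Y i).left) (fun i => (Y i).hom) ∈ J U)

/-- `toCech` as an additive equivalence, for a sheaf and a covering family -/
noncomputable def toCechEquiv (F : Sheaf J AddCommGrpCat.{u}) :
    F.obj.obj (op U) ≃+ CohCx.cechH F.obj Y 0 :=
  AddEquiv.ofBijective (CechEdge.toCech Y F.obj) (toCech_bijective Y F.obj J F.property hY)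

lemma toCechEquiv_apply (F : Sheaf J AddCommGrpCat.{u}) (s : F.obj.obj (op U)) :
    toCechEquiv Y J hY F s = CechEdge.toCech Y F.obj s := rfl

lemma toCechEquiv_symm_naturality {F G : Sheaf J AddCommGrpCat.{u}} (ψ : F ⟶ G)
    (x : CohCx.cechH F.obj Y 0) :
    (toCechEquiv Y J hY G).symm (CechEdge.cechHMap Y ψ.hom 0 x) =
      (ψ.hom.app (op U)).hom ((toCechEquiv Y J hY F).symm x) := by
  apply (toCechEquiv Y J hY G).injective
  rw [AddEquiv.apply_symm_apply, toCechEquiv_apply, ← toCech_naturality, ← toCechEquiv_apply Y J hY F,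
    AddEquiv.apply_symm_apply]

/-- the degree zero comparison map -/
noncomputable def t0 (P : Cᵒᵖ ⥤ AddCommGrpCat.{u}) :
    CohCx.cechH P Y 0 →+ CohSite.HU (CechEdge.shf J P) 0 U :=
  ((CechEdge.sectH0 J U (CechEdge.shf J P)).toAddMonoidHom.comp
    (toCechEquiv Y J hY (CechEdge.shf J P)).symm.toAddMonoidHom).comp
      (CechEdge.cechHMap Y (toSheafify J P) 0)

lemma t0_apply (P : Cᵒᵖ ⥤ AddCommGrpCat.{u}) (x : CohCx.cechH P Y 0) :
    t0 Y J hY P x = CechEdge.sectH0 J U (CechEdge.shf J P)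
      ((toCechEquiv Y J hY (CechEdge.shf J P)).symm (CechEdge.cechHMap Y (toSheafify J P) 0 x)) := rfl

lemma t0_toCech (P : Cᵒᵖ ⥤ AddCommGrpCat.{u}) (s : P.obj (op U)) :
    t0 Y J hY P (CechEdge.toCech Y P s) =
      CechEdge.sectH0 J U (CechEdge.shf J P) (((toSheafify J P).app (op U)).hom s) := by
  rw [t0_apply, toCech_naturality, ← toCechEquiv_apply Y J hY (CechEdge.shf J P),
    AddEquiv.symm_apply_apply]

lemma cechHMap_comp {P Q R : Cᵒᵖ ⥤ AddCommGrpCat.{u}} (φ : P ⟶ Q) (ψ : Q ⟶ R) (n : ℕ)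
    (x : CohCx.cechH P Y n) :
    CechEdge.cechHMap Y (φ ≫ ψ) n x = CechEdge.cechHMap Y ψ n (CechEdge.cechHMap Y φ n x) := by
  have := ((TC Y).F n).map_comp φ ψ
  exact congrArg (fun m => m.hom x) this

lemma t0_naturality {P Q : Cᵒᵖ ⥤ AddCommGrpCat.{u}} (φ : P ⟶ Q) (x : CohCx.cechH P Y 0) :
    t0 Y J hY Q (CechEdge.cechHMap Y φ 0 x) =
      CechEdge.HUmap (CechEdge.shfMap J φ) 0 U (t0 Y J hY P x) := by
  rw [t0_apply, t0_apply, sectH0_naturality, ← toCechEquiv_symm_naturality, ← cechHMap_comp,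
    ← cechHMap_comp]
  congr 3
  exact congrArg (fun m => CechEdge.cechHMap Y m 0) (toSheafify_naturality J φ)

/-- the degree zero natural transformation -/
noncomputable def tNat : (TC Y).F 0 ⟶ (TH J U).F 0 where
  app P := AddCommGrpCat.ofHom (t0 Y J hY P)
  naturality {P Q} φ := by
    ext x
    exact t0_naturality Y J hY φ x

/-- the morphism of δ-functors extending `tNat` -/
noncomputable def τ : TC Y ⟶ TH J U := (isUniversal Y (TH J U) (tNat Y J hY)).exists.choose

lemma τ_zero : (τ Y J hY).app 0 = tNat Y J hY :=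
  (isUniversal Y (TH J U) (tNat Y J hY)).exists.choose_spec

/-- the edge family -/
noncomputable def edge (P : Cᵒᵖ ⥤ AddCommGrpCat.{u}) (p : ℕ) :
    CohCx.cechH P Y p →+ CohSite.HU (CechEdge.shf J P) p U :=
  (((τ Y J hY).app p).app P).hom

theorem isEdge_edge : CechEdge.IsEdge J Y (edge Y J hY) where
  cover := hY
  zero P s := by
    have h : edge Y J hY P 0 = t0 Y J hY P := by
      unfold edge
      rw [τ_zero]
      rfl
    rw [h, t0_toCech]
  natural P Q φ p x := by
    have := ((τ Y J hY).app p).naturality φ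
    exact congrArg (fun m => m.hom x) this
  delta S hS hC p x := by
    have := (τ Y J hY).comm S hS p (p+1) rfl
    exact congrArg (fun m => m.hom x) this

end Edge

end Groth.Agent.Helper24.CechEdgeLib
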