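import Mathlib
import Groth.Prelude.Def_CechEdge
import Groth.Prelude.Def_DeltaF

universe w v u
set_option linter.unusedSectionVars false
open CategoryTheory CategoryTheory.Limits Opposite

namespace Groth.Agent.Helper24.DeltaChase

variable {A : Type u} [Category.{v} A] [Abelian A]
  {T T' : DeltaF.CohDeltaFunctor A AddCommGrpCat.{w} ℕ} (τ : T ⟶ T')
  (S : ShortComplex A) (hS : S.ShortExact) (n : ℕ)

include hS in
/-- dimension shifting: injectivity -/
lemma injective_succ
    (h2 : IsZero ((T.F (n+1)).obj S.X₂))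
    (hsurj : Function.Surjective ((τ.app n).app S.X₂).hom)
    (hinj : Function.Injective ((τ.app n).app S.X₃).hom) :
    Function.Injective ((τ.app (n+1)).app S.X₁).hom := by
  rw [injective_iff_map_eq_zero]
  intro x hx
  -- x = δ y
  have ex1 := (ShortComplex.ab_exact_iff _).1 (T.exact₁ S hS n (n+1) rfl)
  obtain ⟨y, hy⟩ := ex1 x (by
    have : Subsingleton ((T.F (n+1)).obj S.X₂) := AddCommGrpCat.subsingleton_of_isZero h2
    exact Subsingleton.elim _ _)
  -- τ (δ y) = δ' (τ y)
  have hc := congrArg (fun m => m.hom y) (τ.comm S hS n (n+1) rfl)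
  simp only [AddCommGrpCat.hom_comp, AddMonoidHom.comp_apply] at hc
  change (T.δ S hS n (n+1) rfl).hom y = x at hy
  rw [hy, hx] at hc
  -- τ y comes from X₂
  have ex3 := (ShortComplex.ab_exact_iff _).1 (T'.exact₃ S hS n (n+1) rfl)
  obtain ⟨w, hw⟩ := ex3 _ hc.symm
  obtain ⟨w', rfl⟩ := hsurj w
  have hn := congrArg (fun m => m.hom w') ((τ.app n).naturality S.g)
  simp only [AddCommGrpCat.hom_comp, AddMonoidHom.comp_apply] at hn
  change ((T'.F n).map S.g).hom _ = _ at hw
  rw [← hn] at hw
  have hyw := hinj hw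
  rw [← hy, ← hyw]
  have := congrArg (fun m => m.hom w') (T.comp_δ S hS n (n+1) rfl)
  simpa using this

include hS in
/-- dimension shifting: surjectivity -/
lemma surjective_succ
    (h2 : IsZero ((T'.F (n+1)).obj S.X₂))
    (hsurj : Function.Surjective ((τ.app n).app S.X₃).hom) :
    Function.Surjective ((τ.app (n+1)).app S.X₁).hom := by
  intro z
  have ex1 := (ShortComplex.ab_exact_iff _).1 (T'.exact₁ S hS n (n+1) rfl)
  obtain ⟨v, hv⟩ := ex1 z (by
    have : Subsingleton ((T'.F (n+1)).obj S.X₂) := AddCommGrpCat.subsingleton_of_isZero h2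
    exact Subsingleton.elim _ _)
  obtain ⟨y, rfl⟩ := hsurj v
  refine ⟨(T.δ S hS n (n+1) rfl).hom y, ?_⟩
  have hc := congrArg (fun m => m.hom y) (τ.comm S hS n (n+1) rfl)
  simp only [AddCommGrpCat.hom_comp, AddMonoidHom.comp_apply] at hc
  exact hc.trans hv

end Groth.Agent.Helper24.DeltaChase
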