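import Mathlib
import Groth.Prelude.Def_CechEdge
import Groth.Prelude.Def_DeltaF
import Groth.Agent.Lib.Helper24.CechEdgeLib
import Groth.Agent.Lib.Helper24.DeltaChase
import Groth.Agent.S16020

universe u
set_option linter.unusedSectionVars false
open CategoryTheory CategoryTheory.Limits Opposite

namespace Groth.Agent.Helper24.CechInj

open Groth.Agent.Helper24.CechEv Groth.Agent.Helper24.CechDelta Groth.Agent.Helper24.CechEff
  Groth.Agent.Helper24.CechH Groth.Agent.Helper24.CechEdgeLib

section Inj
variable {C : Type u} [SmallCategory C] (J : GrothendieckTopology C)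

instance injective_obj (I : Sheaf J AddCommGrpCat.{u}) [Injective I] : Injective I.obj :=
  Injective.injective_of_adjoint (sheafificationAdjunction J AddCommGrpCat.{u}) I

variable [HasPullbacks C] {U : C} {ι : Type u} (Y : ι → Over U)

lemma isZero_cech_of_injective (E' : Cᵒᵖ ⥤ AddCommGrpCat.{u}) [Injective E'] (n : ℕ) :
    IsZero (((TC Y).F (n+1)).obj E') := by
  let r := Injective.factorThru (𝟙 E') (toEff E')
  have hr : toEff E' ≫ r = 𝟙 E' := Injective.comp_factorThru _ _
  have h1 : 𝟙 (((TC Y).F (n+1)).obj E') =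
      ((TC Y).F (n+1)).map (toEff E') ≫ ((TC Y).F (n+1)).map r := by
    rw [← CategoryTheory.Functor.map_comp, hr, CategoryTheory.Functor.map_id]
  have hz : IsZero (((TC Y).F (n+1)).obj (Eff E')) := isZero_homology Y E' n
  rw [IsZero.iff_id_eq_zero, h1, hz.eq_of_tgt (((TC Y).F (n+1)).map (toEff E')) 0, zero_comp]

end Inj

section SES
variable {C : Type u} [SmallCategory C] {J : GrothendieckTopology C}
  {F I : Sheaf J AddCommGrpCat.{u}} (i : F ⟶ I) [Mono i]

instance mono_hom : Mono i.hom :=
  inferInstanceAs (Mono ((sheafToPresheaf J AddCommGrpCat.{u}).map i))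

/-- the presheaf-level short exact sequence `F → I → I/F` -/
noncomputable def sesP : ShortComplex (Cᵒᵖ ⥤ AddCommGrpCat.{u}) :=
  ShortComplex.mk i.hom (cokernel.π i.hom) (cokernel.condition _)

lemma sesP_shortExact : (sesP i).ShortExact :=
  { exact := ShortComplex.exact_cokernel i.hom
    mono_f := mono_hom i
    epi_g := inferInstanceAs (Epi (cokernel.π i.hom)) }

/-- the sheaf-level short exact sequence `F → I → I/F` -/
noncomputable def sesS : ShortComplex (Sheaf J AddCommGrpCat.{u}) :=
  ShortComplex.mk i (cokernel.π i) (cokernel.condition _)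

lemma sesS_shortExact : (sesS i).ShortExact :=
  { exact := ShortComplex.exact_cokernel i
    mono_f := inferInstanceAs (Mono i)
    epi_g := inferInstanceAs (Epi (cokernel.π i)) }

/-- the comparison from the presheaf cokernel to the sheaf cokernel -/
noncomputable def γ : (sesP i).X₃ ⟶ (cokernel i).obj :=
  cokernel.desc i.hom (cokernel.π i).hom (by
    show (i ≫ cokernel.π i).hom = 0
    rw [cokernel.condition]
    rfl)

lemma γ_app_injective (W : Cᵒᵖ) : Function.Injective ((γ i).app W).hom := by
  rw [injective_iff_map_eq_zero]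
  intro y hy
  have hsurj : Function.Surjective ((cokernel.π i.hom).app W).hom := by
    have := ((sesP_shortExact i).map_of_exact ((evaluation _ _).obj W)).epi_g
    exact (AddCommGrpCat.epi_iff_surjective _).1 this
  obtain ⟨s, rfl⟩ := hsurj y
  have h1 : ((γ i).app W).hom (((cokernel.π i.hom).app W).hom s) =
      ((cokernel.π i).hom.app W).hom s := by
    have := cokernel.π_desc i.hom (cokernel.π i).hom (by
      show (i ≫ cokernel.π i).hom = 0
      rw [cokernel.condition]
      rfl)
    exact congrArg (fun m => (m.app W).hom s) this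
  rw [h1] at hy
  have hex : ((sesS i).map (sheafToPresheaf J AddCommGrpCat.{u} ⋙ (evaluation _ _).obj W)).Exact :=
    (sesS_shortExact i).exact.map_of_mono_of_preservesKernel _ (sesS_shortExact i).mono_f inferInstance
  obtain ⟨t, ht⟩ := (ShortComplex.ab_exact_iff _).1 hex s hy
  change (i.hom.app W).hom t = s at ht
  rw [← ht]
  have := cokernel.condition i.hom
  exact congrArg (fun m => (m.app W).hom t) this

lemma toSheafify_app_injective (W : Cᵒᵖ) :
    Function.Injective ((toSheafify J (sesP i).X₃).app W).hom := by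
  intro y y' h
  apply γ_app_injective i W
  have hf : toSheafify J _ ≫ sheafifyLift J (γ i) (cokernel i).property = γ i :=
    toSheafify_sheafifyLift J _ _
  rw [← hf]
  simp only [NatTrans.comp_app, AddCommGrpCat.hom_comp, AddMonoidHom.comp_apply, h]

end SES


section EdgeZero
variable {C : Type u} [SmallCategory C] [HasPullbacks C] (J : GrothendieckTopology C) {U : C}
  {ι : Type u} (Y : ι → Over U)
  (e : ∀ (P : Cᵒᵖ ⥤ AddCommGrpCat.{u}) (p : ℕ),
      CohCx.cechH P Y p →+ CohSite.HU (CechEdge.shf J P) p U)
  (he : CechEdge.IsEdge J Y e)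

include he in
lemma edge_zero_bijective (R : Sheaf J AddCommGrpCat.{u}) : Function.Bijective (e R.obj 0) := by
  have hb := toCech_bijective Y R.obj J R.property he.cover
  have hiso : IsIso (toSheafify J R.obj) := isIso_toSheafify J R.property
  have hb2 : Function.Bijective ((toSheafify J R.obj).app (op U)).hom :=
    ConcreteCategory.bijective_of_isIso ((toSheafify J R.obj).app (op U))
  have hb3 := (CechEdge.sectH0 J U (CechEdge.shf J R.obj)).bijective
  have h : (e R.obj 0) ∘ (CechEdge.toCech Y R.obj) =
      (CechEdge.sectH0 J U (CechEdge.shf J R.obj)) ∘ ((toSheafify J R.obj).app (op U)).hom :=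
    funext (he.zero R.obj)
  refine (Function.Bijective.of_comp_iff _ hb).1 ?_
  rw [h]
  exact hb3.comp hb2

lemma cechHMap_zero_injective {P Q : Cᵒᵖ ⥤ AddCommGrpCat.{u}} (φ : P ⟶ Q)
    (hφ : ∀ W, Function.Injective (φ.app W).hom) :
    Function.Injective (CechEdge.cechHMap Y φ 0) := by
  rw [injective_iff_map_eq_zero]
  intro x hx
  have hπP : Function.Bijective ((CechEdge.cx P Y).homologyπ 0).hom :=
    ConcreteCategory.bijective_of_isIso ((CechEdge.cx P Y).homologyπ 0)
  have hπQ : Function.Bijective ((CechEdge.cx Q Y).homologyπ 0).hom :=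
    ConcreteCategory.bijective_of_isIso ((CechEdge.cx Q Y).homologyπ 0)
  have hiP : Function.Injective ((CechEdge.cx P Y).iCycles 0).hom :=
    (AddCommGrpCat.mono_iff_injective _).1 inferInstance
  obtain ⟨z, rfl⟩ := hπP.2 x
  have h1 := congrArg (fun m => m.hom z)
    (HomologicalComplex.homologyπ_naturality ((CechEdge.cxFunctor Y).map φ) 0)
  simp only [AddCommGrpCat.hom_comp, AddMonoidHom.comp_apply] at h1
  have h2 : ((CechEdge.cx Q Y).homologyπ 0).hom
      ((HomologicalComplex.cyclesMap ((CechEdge.cxFunctor Y).map φ) 0).hom z) = 0 :=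
    h1.symm.trans hx
  have h3 : (HomologicalComplex.cyclesMap ((CechEdge.cxFunctor Y).map φ) 0).hom z = 0 :=
    hπQ.1 (h2.trans (map_zero _).symm)
  have h4 := congrArg (fun m => m.hom z)
    (HomologicalComplex.cyclesMap_i ((CechEdge.cxFunctor Y).map φ) 0)
  simp only [AddCommGrpCat.hom_comp, AddMonoidHom.comp_apply] at h4
  have h5 : (((CechEdge.cxFunctor Y).map φ).f 0).hom (((CechEdge.cx P Y).iCycles 0).hom z) = 0 := by
    refine h4.symm.trans ?_
    exact (congrArg _ h3).trans (map_zero _)
  have h6 : ((CechEdge.cx P Y).iCycles 0).hom z = 0 := by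
    refine pi_ext (A := fun a : Fin 1 → ι => P.obj (op (∏ᶜ (Y ∘ a)).left)) _ _ (fun a => ?_)
    refine Eq.trans ?_ (map_zero _).symm
    apply hφ
    refine Eq.trans ?_ (map_zero _).symm
    have := congrArg (Pi.π (fun a : Fin 1 → ι => Q.obj (op (∏ᶜ (Y ∘ a)).left)) a).hom h5
    refine Eq.trans ?_ (this.trans (map_zero _))
    exact (pi_map_apply (fun a : Fin 1 → ι => φ.app (op (∏ᶜ (Y ∘ a)).left)) _ a).symm
  rw [hiP (h6.trans (map_zero _).symm), map_zero]

include he in
lemma edge_zero_injective_coker {F I : Sheaf J AddCommGrpCat.{u}} (i : F ⟶ I) [Mono i] :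
    Function.Injective (e (sesP i).X₃ 0) := by
  rw [injective_iff_map_eq_zero]
  intro y hy
  have h1 := he.natural _ _ (toSheafify J (sesP i).X₃) 0 y
  rw [hy, map_zero] at h1
  have h2 := (edge_zero_bijective J Y e he (CechEdge.shf J (sesP i).X₃)).1 (h1.trans (map_zero _).symm)
  exact cechHMap_zero_injective Y (toSheafify J (sesP i).X₃) (toSheafify_app_injective i)
    (h2.trans (map_zero _).symm)

end EdgeZero

end Groth.Agent.Helper24.CechInj
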