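import Mathlib
import Groth.Prelude.Def_CechEdge
import Groth.Prelude.Def_CohTop
import Groth.Agent.Lib.Helper24.CechH
import Groth.Agent.Lib.Helper24.CechEdgeLib
import Groth.Agent.Lib.Helper24.CechInj
import Groth.Agent.Lib.Helper24.Horseshoe3

universe u
set_option linter.unusedSectionVars false
open CategoryTheory CategoryTheory.Limits Opposite TopologicalSpace

namespace Groth.Agent.Helper24.Flasque

open Groth.Agent.Helper24.CechH Groth.Agent.Helper24.CechEdgeLib Groth.Agent.Helper24.CechInj

section Site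
variable {C : Type u} [SmallCategory C] (J : GrothendieckTopology C)

instance mono_freeSheafMap {U V : C} (f : V ⟶ U) [Mono f] : Mono (CohCx.freeSheafMap J f) := by
  have h1 : ∀ T : Cᵒᵖ, Mono ((Functor.whiskerRight (yoneda.map f) AddCommGrpCat.free.{u}).app T) := by
    intro T
    have : Mono ((yoneda.map f).app T) := by
      rw [mono_iff_injective]
      intro a b hab
      exact (cancel_mono f).1 hab
    exact inferInstanceAs (Mono (AddCommGrpCat.free.{u}.map ((yoneda.map f).app T)))
  have h2 : Mono (Functor.whiskerRight (yoneda.map f) AddCommGrpCat.free.{u}) :=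
    NatTrans.mono_of_mono_app _
  exact inferInstanceAs (Mono ((presheafToSheaf J AddCommGrpCat.{u}).map
    (Functor.whiskerRight (yoneda.map f) AddCommGrpCat.free.{u})))

lemma restrict_surjective_of_injective (I : Sheaf J AddCommGrpCat.{u}) [Injective I] {U V : C}
    (f : V ⟶ U) [Mono f] : Function.Surjective (I.obj.map f.op).hom := by
  intro s
  let ψ := Injective.factorThru (CohFree.ofSect J V I s) (CohCx.freeSheafMap J f)
  have hψ : CohCx.freeSheafMap J f ≫ ψ = CohFree.ofSect J V I s := Injective.comp_factorThru _ _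
  refine ⟨CohFree.evalGen J U I ψ, ?_⟩
  rw [← CohFree.evalGen_freeSheafMap_comp, hψ, CohFree.evalGen_ofSect]

/-- dimension shifting: if `I(U) → Q(U)` is surjective then `H¹(U,F) = 0`. -/
lemma H1_zero_of_surj {F : Sheaf J AddCommGrpCat.{u}} (U : C)
    (hsurj : Function.Surjective ((cokernel.π (Injective.ι F)).hom.app (op U)).hom) :
    Subsingleton (CohSite.HU F 1 U) := by
  have ex := (ShortComplex.ab_exact_iff _).1
    ((extDelta (CohCx.freeSheaf J U)).exact₁ _ (sesS_shortExact (Injective.ι F)) 0 1 rfl)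
  have hI : Subsingleton (CohSite.HU (Injective.under F) 1 U) :=
    Abelian.Ext.subsingleton_of_injective _ _ 0
  refine subsingleton_of_forall_eq 0 fun x => ?_
  obtain ⟨v, hv⟩ := ex x (Subsingleton.elim (α := CohSite.HU (Injective.under F) 1 U) _ _)
  obtain ⟨q, rfl⟩ := (CechEdge.sectH0 J U (cokernel (Injective.ι F))).surjective v
  obtain ⟨s, rfl⟩ := hsurj q
  rw [← sectH0_naturality] at hv
  rw [← hv]
  have := congrArg (fun m => m.hom (CechEdge.sectH0 J U (Injective.under F) s))
    ((extDelta (CohCx.freeSheaf J U)).comp_δ _ (sesS_shortExact (Injective.ι F)) 0 1 rfl)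
  exact this

/-- dimension shifting in higher degree. -/
lemma Hsucc_zero_of_coker {F : Sheaf J AddCommGrpCat.{u}} (U : C) (p : ℕ)
    (IH : Subsingleton (CohSite.HU (cokernel (Injective.ι F)) (p+1) U)) :
    Subsingleton (CohSite.HU F (p + 2) U) := by
  have ex := (ShortComplex.ab_exact_iff _).1
    ((extDelta (CohCx.freeSheaf J U)).exact₁ _ (sesS_shortExact (Injective.ι F)) (p+1) (p+2) rfl)
  have hI : Subsingleton (CohSite.HU (Injective.under F) (p+2) U) :=
    Abelian.Ext.subsingleton_of_injective _ _ (p+1)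
  refine subsingleton_of_forall_eq 0 fun x => ?_
  obtain ⟨v, hv⟩ := ex x (Subsingleton.elim (α := CohSite.HU (Injective.under F) (p+2) U) _ _)
  rw [← hv, Subsingleton.elim (α := CohSite.HU (cokernel (Injective.ι F)) (p+1) U) v 0]
  exact map_zero _

/-- dimension shifting: if `I(T) → Q(T)` is surjective (T terminal) then `H¹(F) = 0`. -/
lemma H1_zero_of_surj' {F : Sheaf J AddCommGrpCat.{u}} {T : C} (hT : IsTerminal T)
    (hsurj : Function.Surjective ((cokernel.π (Injective.ι F)).hom.app (op T)).hom) :
    Subsingleton (Sheaf.H.{u} F 1) := by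
  have ex := (ShortComplex.ab_exact_iff _).1
    ((extDelta ((constantSheaf J AddCommGrpCat.{u}).obj (AddCommGrpCat.of (ULift ℤ)))).exact₁ _
      (sesS_shortExact (Injective.ι F)) 0 1 rfl)
  have hI : Subsingleton (Sheaf.H.{u} (Injective.under F) 1) :=
    Abelian.Ext.subsingleton_of_injective _ _ 0
  refine subsingleton_of_forall_eq 0 fun x => ?_
  obtain ⟨v, hv⟩ := ex x (Subsingleton.elim (α := Sheaf.H.{u} (Injective.under F) 1) _ _)
  obtain ⟨q, rfl⟩ := (Sheaf.H.equiv₀ (cokernel (Injective.ι F)) hT).symm.surjective v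
  obtain ⟨s, rfl⟩ := hsurj q
  have h3 := Sheaf.H.equiv₀_symm_naturality hT (cokernel.π (Injective.ι F)) s
  rw [← hv]
  have := congrArg (fun m => m.hom ((Sheaf.H.equiv₀ (Injective.under F) hT).symm s))
    ((extDelta ((constantSheaf J AddCommGrpCat.{u}).obj (AddCommGrpCat.of (ULift ℤ)))).comp_δ _
      (sesS_shortExact (Injective.ι F)) 0 1 rfl)
  refine Eq.trans ?_ this
  exact congrArg _ h3.symm

/-- dimension shifting in higher degree. -/
lemma Hsucc_zero_of_coker' {F : Sheaf J AddCommGrpCat.{u}} (p : ℕ)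
    (IH : Subsingleton (Sheaf.H.{u} (cokernel (Injective.ι F)) (p+1))) :
    Subsingleton (Sheaf.H.{u} F (p + 2)) := by
  have ex := (ShortComplex.ab_exact_iff _).1
    ((extDelta ((constantSheaf J AddCommGrpCat.{u}).obj (AddCommGrpCat.of (ULift ℤ)))).exact₁ _
      (sesS_shortExact (Injective.ι F)) (p+1) (p+2) rfl)
  have hI : Subsingleton (Sheaf.H.{u} (Injective.under F) (p+2)) :=
    Abelian.Ext.subsingleton_of_injective _ _ (p+1)
  refine subsingleton_of_forall_eq 0 fun x => ?_
  obtain ⟨v, hv⟩ := ex x (Subsingleton.elim (α := Sheaf.H.{u} (Injective.under F) (p+2)) _ _)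
  rw [← hv, Subsingleton.elim (α := Sheaf.H.{u} (cokernel (Injective.ι F)) (p+1)) v 0]
  exact map_zero _

end Site

section Top
variable {X : TopCat.{u}}

theorem isFlasque_of_injective (F : CohTop.Ab X) [Injective F] : TopCat.Sheaf.IsFlasque F where
  epi {U V} i := by
    rw [AddCommGrpCat.epi_iff_surjective]
    have : Mono i.unop := ⟨fun _ _ _ => Subsingleton.elim _ _⟩
    exact restrict_surjective_of_injective (Opens.grothendieckTopology X) F i.unop

lemma isFlasque_coker (F : CohTop.Ab X) [hF : TopCat.Sheaf.IsFlasque F] :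
    TopCat.Sheaf.IsFlasque (cokernel (Injective.ι F)) := by
  have h2 : TopCat.Sheaf.IsFlasque (Injective.under F) :=
    @isFlasque_of_injective _ _ (Injective.injective_under F)
  exact @TopCat.Sheaf.IsFlasque.of_shortExact_of_isFlasque₁₂ _ (sesS (Injective.ι F))
    (sesS_shortExact _) hF h2

lemma surj_coker (F : CohTop.Ab X) [hF : TopCat.Sheaf.IsFlasque F] (U : Opens X) :
    Function.Surjective ((cokernel.π (Injective.ι F)).hom.app (op U)).hom := by
  have := @TopCat.Sheaf.IsFlasque.epi_of_shortExact _ U (sesS (Injective.ι F))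
    (sesS_shortExact _) hF
  exact (AddCommGrpCat.epi_iff_surjective _).1 this

theorem HU_succ_subsingleton : ∀ (n : ℕ) (F : CohTop.Ab X) (_ : TopCat.Sheaf.IsFlasque F)
    (U : Opens X), Subsingleton (CohTop.HU F (n + 1) U)
  | 0, F, _, U => H1_zero_of_surj _ U (surj_coker F U)
  | n+1, F, _, U =>
    Hsucc_zero_of_coker _ U n (HU_succ_subsingleton n (cokernel (Injective.ι F))
      (isFlasque_coker F) U)

theorem H_succ_subsingleton : ∀ (n : ℕ) (F : CohTop.Ab X) (_ : TopCat.Sheaf.IsFlasque F),
    Subsingleton (CohTop.H F (n + 1))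
  | 0, F, _ => H1_zero_of_surj' _ (T := (⊤ : Opens X)) isTerminalTop (surj_coker F ⊤)
  | n+1, F, _ =>
    Hsucc_zero_of_coker' _ n (H_succ_subsingleton n (cokernel (Injective.ι F))
      (isFlasque_coker F))

end Top

section Push
variable {X Y : TopCat.{u}} (f : X ⟶ Y)

lemma epi_push_coker (F : CohTop.Ab X) [hF : TopCat.Sheaf.IsFlasque F] :
    Epi ((CohTop.push f).map (cokernel.π (Injective.ι F))) := by
  have : Sheaf.IsLocallySurjective ((CohTop.push f).map (cokernel.π (Injective.ι F))) := by
    apply Presheaf.isLocallySurjective_of_surjective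
    intro V
    exact surj_coker F ((Opens.map f).obj V.unop)
  exact Sheaf.epi_of_isLocallySurjective _

instance : PreservesFiniteLimits (CohTop.push f) := by
  have : (CohTop.push f).IsRightAdjoint :=
    (TopCat.Sheaf.pullbackPushforwardAdjunction AddCommGrpCat.{u} f).isRightAdjoint
  infer_instance

lemma epi_R0_push_coker (F : CohTop.Ab X) [hF : TopCat.Sheaf.IsFlasque F] :
    Epi (((CohTop.push f).rightDerived 0).map (cokernel.π (Injective.ι F))) := by
  have h := epi_push_coker f F
  have e := (CohTop.push f).rightDerivedZeroIsoSelf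
  have : ((CohTop.push f).rightDerived 0).map (cokernel.π (Injective.ι F)) =
      e.hom.app _ ≫ (CohTop.push f).map (cokernel.π (Injective.ι F)) ≫ e.inv.app _ := by
    rw [← e.hom.naturality_assoc, Iso.hom_inv_id_app, Category.comp_id]
  rw [this]
  infer_instance

theorem Rpush_succ_isZero : ∀ (q : ℕ) (F : CohTop.Ab X) (_ : TopCat.Sheaf.IsFlasque F),
    IsZero ((CohTop.Rpush f (q + 1)).obj F)
  | 0, F, hF => by
    let Δ := Horseshoe.derivedLES (CohTop.push f)
    have ex3 := Δ.exact₃ _ (sesS_shortExact (Injective.ι F)) 0 1 rfl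
    have ex1 := Δ.exact₁ _ (sesS_shortExact (Injective.ι F)) 0 1 rfl
    have hI : IsZero (((CohTop.push f).rightDerived 1).obj (Injective.under F)) :=
      @Functor.isZero_rightDerived_obj_injective_succ _ _ _ _ _ _ _ (CohTop.push f) _ 0
        (Injective.under F) (Injective.injective_under F)
    have hepi := epi_R0_push_coker f F
    have hδ : Δ.δ _ (sesS_shortExact (Injective.ι F)) 0 1 rfl = 0 := by
      have := Δ.comp_δ _ (sesS_shortExact (Injective.ι F)) 0 1 rfl
      exact (cancel_epi (((CohTop.push f).rightDerived 0).map (cokernel.π (Injective.ι F)))).1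
        (this.trans comp_zero.symm)
    exact ex1.isZero_X₂ hδ (hI.eq_of_tgt _ _)
  | q+1, F, hF => by
    let Δ := Horseshoe.derivedLES (CohTop.push f)
    have ex1 := Δ.exact₁ _ (sesS_shortExact (Injective.ι F)) (q+1) (q+2) rfl
    have hI : IsZero (((CohTop.push f).rightDerived (q+2)).obj (Injective.under F)) :=
      @Functor.isZero_rightDerived_obj_injective_succ _ _ _ _ _ _ _ (CohTop.push f) _ (q+1)
        (Injective.under F) (Injective.injective_under F)
    have IH := Rpush_succ_isZero q (cokernel (Injective.ι F)) (isFlasque_coker F)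
    exact ex1.isZero_X₂ (IH.eq_of_src _ _) (hI.eq_of_tgt _ _)

end Push

end Groth.Agent.Helper24.Flasque
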