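import Mathlib
import Groth.Prelude.Def_CechEdge
import Groth.Prelude.Def_CohTop
import Groth.Agent.Lib.Helper24.CechEv

universe u
set_option linter.unusedSectionVars false
open CategoryTheory CategoryTheory.Limits Opposite TopologicalSpace

namespace Groth.Agent.Helper24.CechTop

open Groth.Agent.Helper24.CechEv

variable {X : TopCat.{u}} {U₀ : Opens X} {ι : Type u} (Y : ι → Over U₀)
  (P : (Opens X)ᵒᵖ ⥤ AddCommGrpCat.{u})

/-- the underlying family of opens -/
abbrev V : ι → Opens X := fun i => (Y i).left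

/-- comparison of the two fibre products -/
noncomputable def m {n : ℕ} (a : Fin (n+1) → ι) : (∏ᶜ (Y ∘ a)).left ⟶ ∏ᶜ (V Y ∘ a) :=
  Pi.lift (fun k => (Pi.π (Y ∘ a) k).left)

/-- the inverse comparison -/
noncomputable def m' {n : ℕ} (a : Fin (n+1) → ι) : ∏ᶜ (V Y ∘ a) ⟶ (∏ᶜ (Y ∘ a)).left :=
  (Pi.lift (fun k => Over.homMk (Pi.π (V Y ∘ a) k) (Subsingleton.elim _ _)) :
    Over.mk (Pi.π (V Y ∘ a) 0 ≫ (Y (a 0)).hom) ⟶ ∏ᶜ (Y ∘ a)).left

instance isIso_m {n : ℕ} (a : Fin (n+1) → ι) : IsIso (m Y a) :=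
  ⟨m' Y a, Subsingleton.elim _ _, Subsingleton.elim _ _⟩

/-- the comparison map of Čech complexes in degree `n` -/
noncomputable def φf (n : ℕ) : (cech (V Y) P).X n ⟶ (cech Y (QP P)).X n :=
  Limits.Pi.map (fun a : Fin (n+1) → ι => P.map (m Y a).op)

instance isIso_φf (n : ℕ) : IsIso (φf Y P n) := by
  unfold φf
  exact Limits.Pi.map_isIso (f := fun a : Fin (n+1) → ι => P.obj (op (∏ᶜ (V Y ∘ a))))
    (g := fun a : Fin (n+1) → ι => P.obj (op (∏ᶜ (Y ∘ a)).left))
    (fun a => P.map (m Y a).op)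

/-- forget the structure maps of a tuple -/
def forgetσ {n : ℕ} {T : Over U₀} (σ : Fin (n+1) → Sg Y T) : Fin (n+1) → Sg (V Y) T.left :=
  fun k => ⟨(σ k).1, (σ k).2.left⟩

lemma φf_ev {n : ℕ} (T : Over U₀) (σ : Fin (n+1) → Sg Y T) :
    φf Y P n ≫ ev Y (QP P) T σ = ev (V Y) P T.left (forgetσ Y σ) := by
  unfold φf ev
  erw [Limits.Pi.map_π_assoc]
  have key : P.map (m Y (fun k => (σ k).1)).op ≫
      P.map ((Pi.lift (fun k => (σ k).2) : T ⟶ ∏ᶜ (Y ∘ fun k => (σ k).1)).left).op =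
      P.map (Pi.lift (fun k => (forgetσ Y σ k).2) :
        T.left ⟶ ∏ᶜ (V Y ∘ fun k => (forgetσ Y σ k).1)).op := by
    rw [← P.map_comp, ← op_comp]
    congr 2
  exact congrArg (CategoryStruct.comp (Pi.π (fun a : Fin (n+1) → ι => P.obj (op (∏ᶜ (V Y ∘ a))))
    (fun k => (forgetσ Y σ k).1))) key

/-- the comparison of Čech complexes -/
noncomputable def φ : cech (V Y) P ⟶ cech Y (QP P) where
  f n := φf Y P n
  comm' i j hij := by
    obtain rfl : i + 1 = j := hij
    apply CechEv.hom_ext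
    intro T σ
    have hL : (φf Y P i ≫ (cech Y (QP P)).d i (i+1)) ≫ ev Y (QP P) T σ =
        ∑ j : Fin (i+2), (-1:ℤ)^(j:ℕ) •
          ev (V Y) P T.left (forgetσ Y (σ ∘ (SimplexCategory.δ j).toOrderHom)) := by
      rw [Category.assoc, d_ev, Preadditive.comp_sum]
      refine Finset.sum_congr rfl fun j _ => ?_
      rw [Preadditive.comp_zsmul, φf_ev]
      rfl
    have hR : ((cech (V Y) P).d i (i+1) ≫ φf Y P (i+1)) ≫ ev Y (QP P) T σ =
        ∑ j : Fin (i+2), (-1:ℤ)^(j:ℕ) •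
          ev (V Y) P T.left (forgetσ Y σ ∘ (SimplexCategory.δ j).toOrderHom) := by
      rw [Category.assoc, φf_ev]
      exact d_ev (V Y) P T.left (forgetσ Y σ)
    exact hL.trans hR.symm

instance isIso_φ : IsIso (φ Y P) := by
  have : ∀ n, IsIso ((φ Y P).f n) := fun n => isIso_φf Y P n
  exact HomologicalComplex.Hom.isIso_of_components _

/-- the two Čech cohomology groups agree -/
noncomputable def cechHIso (p : ℕ) : CohTop.cechH P (V Y) p ≅ CohCx.cechH P Y p :=
  (HomologicalComplex.homologyFunctor _ _ p).mapIso (asIso (φ Y P))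

lemma isZero_iff (p : ℕ) : IsZero (CohTop.cechH P (V Y) p) ↔ IsZero (CohCx.cechH P Y p) :=
  (cechHIso Y P p).isZero_iff


section Opens

variable {X : TopCat.{u}} {U₀ : Opens X} {ι : Type u} (Y : ι → Over U₀)

lemma left_prod_eq {n : ℕ} (a : Fin (n+1) → ι) :
    (∏ᶜ fun k => Y (a k)).left = iInf fun k => (Y (a k)).left := by
  apply le_antisymm
  · exact le_iInf fun k => leOfHom (Pi.π (fun k => Y (a k)) k).left
  · let T : Over U₀ := Over.mk (homOfLE ((iInf_le _ 0).trans (leOfHom (Y (a 0)).hom)) :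
      (iInf fun k => (Y (a k)).left) ⟶ U₀)
    let l : T ⟶ ∏ᶜ fun k => Y (a k) :=
      Pi.lift (fun k => Over.homMk (homOfLE (iInf_le _ k)) (Subsingleton.elim _ _))
    exact leOfHom l.left

lemma cover_of_iSup_eq (h : iSup (fun i => (Y i).left) = U₀) :
    Sieve.ofArrows (fun i => (Y i).left) (fun i => (Y i).hom) ∈ Opens.grothendieckTopology X U₀ := by
  intro x hx
  rw [← h] at hx
  obtain ⟨i, hi⟩ := Opens.mem_iSup.1 hx
  exact ⟨(Y i).left, (Y i).hom, Sieve.ofArrows_mk _ _ i, hi⟩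

lemma iSup_eq_of_cover
    (h : Sieve.ofArrows (fun i => (Y i).left) (fun i => (Y i).hom) ∈ Opens.grothendieckTopology X U₀) :
    iSup (fun i => (Y i).left) = U₀ := by
  apply le_antisymm
  · exact iSup_le fun i => leOfHom (Y i).hom
  · intro x hx
    obtain ⟨W, f, ⟨W', a, b, ⟨i⟩, _⟩, hxW⟩ := h x hx
    exact Opens.mem_iSup.2 ⟨i, leOfHom a hxW⟩

/-- the family of all members of a sieve -/
abbrev famOfSieve (T : Sieve U₀) : T.arrows.category → Over U₀ := fun f => f.obj

lemma famOfSieve_cover (T : Sieve U₀) (hT : T ∈ Opens.grothendieckTopology X U₀) :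
    Sieve.ofArrows (fun i => (famOfSieve T i).left) (fun i => (famOfSieve T i).hom) ∈
      Opens.grothendieckTopology X U₀ := by
  have : Sieve.ofArrows (fun i => (famOfSieve T i).left) (fun i => (famOfSieve T i).hom) = T :=
    Sieve.ofArrows_category T
  rw [this]
  exact hT

lemma mem_of_le (T : Sieve U₀) {W W' : Opens X} (g : W' ⟶ U₀) (hg : T.arrows g) (hle : W ≤ W')
    (f : W ⟶ U₀) : T.arrows f := by
  have : f = homOfLE hle ≫ g := Subsingleton.elim _ _
  rw [this]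
  exact T.downward_closed hg _

end Opens

end Groth.Agent.Helper24.CechTop
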