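import Mathlib
import Groth.Prelude.Def_CechEdge
import Groth.Agent.Lib.Helper24.CechEv

/-!
Sheafification is bijective on the members of a class `B` of objects for presheaves satisfying the
sheaf condition for a cofinal system `Cov` of covering families (helper24).
-/

universe u
set_option linter.unusedSectionVars false
open CategoryTheory CategoryTheory.Limits Opposite

namespace Groth.Agent.Helper24.ColimSite

open Groth.Agent.Helper24.CechEv

section General
variable {D : Type u} [Category.{u} D] [HasFiniteProducts D] {ι : Type u} (Y : ι → D)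
  (Q : Dᵒᵖ ⥤ AddCommGrpCat.{u})

lemma ext_elem_taut {n : ℕ} (x x' : (cech Y Q).X n)
    (h : ∀ b : Fin (n+1) → ι, ev Y Q _ (tautσ Y b) x = ev Y Q _ (tautσ Y b) x') : x = x' := by
  apply (Concrete.productEquiv (fun a : Fin (n+1) → ι => Q.obj (op (∏ᶜ (Y ∘ a))))).injective
  funext b
  have := h b
  rw [ev_taut] at this
  exact ((Concrete.productEquiv_apply_apply _ _ _).trans this).trans
    (Concrete.productEquiv_apply_apply _ _ _).symm

end General

section OverS
variable {C : Type u} [SmallCategory C] [HasPullbacks C] {U : C} {ι : Type u} (Y : ι → Over U)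
  (P : Cᵒᵖ ⥤ AddCommGrpCat.{u})

lemma toCech₀_eq_of_restrict_eq (s s' : P.obj (op U))
    (h : ∀ i, (P.map (Y i).hom.op).hom s = (P.map (Y i).hom.op).hom s') :
    (CechEdge.toCech₀ P Y).hom s = (CechEdge.toCech₀ P Y).hom s' := by
  apply ext_elem
  intro T σ
  rw [toCech₀_ev_apply, toCech₀_ev_apply, ← Over.w (σ 0).2, op_comp, P.map_comp]
  exact congrArg (fun w => (P.map (σ 0).2.left.op).hom w) (h (σ 0).1)

lemma eq_of_restrict_eq (hinj : Function.Injective (CechEdge.toCech Y P)) (s s' : P.obj (op U))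
    (h : ∀ i, (P.map (Y i).hom.op).hom s = (P.map (Y i).hom.op).hom s') : s = s' := by
  apply hinj
  rw [toCech_apply, toCech_apply]
  congr 1
  have hi : Function.Injective ((CechEdge.cx P Y).iCycles 0).hom :=
    (AddCommGrpCat.mono_iff_injective _).1 inferInstance
  apply hi
  rw [iCycles_toCycles, iCycles_toCycles]
  exact toCech₀_eq_of_restrict_eq Y P s s' h

lemma exists_glue (hsurj : Function.Surjective (CechEdge.toCech Y P))
    (x : ∀ i, P.obj (op (Y i).left))
    (hx : ∀ b : Fin 2 → ι, (P.map ((Pi.π (Y ∘ b) 0).left).op).hom (x (b 0)) =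
      (P.map ((Pi.π (Y ∘ b) 1).left).op).hom (x (b 1))) :
    ∃ t : P.obj (op U), ∀ i, (P.map (Y i).hom.op).hom t = x i := by
  have hπ : Function.Bijective ((CechEdge.cx P Y).homologyπ 0).hom :=
    ConcreteCategory.bijective_of_isIso ((CechEdge.cx P Y).homologyπ 0)
  set c := cochainOfFamily Y P x with hcdef
  have hc : ((cech Y (QP P)).d 0 1).hom c = 0 := by
    apply ext_elem_taut
    intro b
    have h := d_ev Y (QP P) _ (tautσ Y b)
    rw [Fin.sum_univ_two] at h
    have h2 := congrArg (fun m => m.hom c) h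
    simp only [AddCommGrpCat.hom_comp, AddMonoidHom.comp_apply, Fin.val_zero,
      pow_zero, one_smul, Fin.val_one, pow_one, neg_smul, AddCommGrpCat.hom_add,
      AddCommGrpCat.hom_neg, AddMonoidHom.add_apply, AddMonoidHom.neg_apply] at h2
    rw [h2, map_zero, ev_cochainOfFamily, ev_cochainOfFamily]
    refine add_neg_eq_zero.2 ?_
    exact (hx b).symm
  obtain ⟨z, hz⟩ := exists_cycle (CechEdge.cx P Y) c hc
  obtain ⟨t, ht⟩ := hsurj (((CechEdge.cx P Y).homologyπ 0).hom z)
  rw [toCech_apply] at ht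
  have ht2 : (CechEdge.toCech₀ P Y).hom t = c := by
    rw [← iCycles_toCycles, hπ.1 ht, hz]
  refine ⟨t, fun i => ?_⟩
  have e1 := toCech₀_ev_apply Y P (Y i) (single Y i (𝟙 _)) t
  rw [ht2, ev_cochainOfFamily] at e1
  refine e1.symm.trans ?_
  show (P.map (𝟙 (Y i).left).op).hom (x i) = x i
  rw [op_id, P.map_id]
  rfl

end OverS

section Shf
variable {C : Type u} [SmallCategory C] [HasPullbacks C] (J : GrothendieckTopology C)
  (B : Set C) (Cov : ∀ (U : C) (ι : Type u), (ι → Over U) → Prop)
  (h1 : ∀ (U : C) (ι : Type u) (Y : ι → Over U), Cov U ι Y → U ∈ B ∧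
      Sieve.ofArrows (fun i => (Y i).left) (fun i => (Y i).hom) ∈ J U ∧
      ∀ (p : ℕ) (a : Fin (p + 1) → ι), (∏ᶜ fun k => Y (a k)).left ∈ B)
  (h2 : ∀ U ∈ B, ∀ T ∈ J U, ∃ (ι : Type u) (Y : ι → Over U), Cov U ι Y ∧ ∀ i, T.arrows (Y i).hom)
  (P : Cᵒᵖ ⥤ AddCommGrpCat.{u})
  (hP : ∀ (U : C) (ι : Type u) (Y : ι → Over U), Cov U ι Y →
    Function.Bijective (CechEdge.toCech Y P))

include h2 hP in
lemma toSheafify_app_injective (V : C) (hV : V ∈ B) :
    Function.Injective ((toSheafify J P).app (op V)).hom := by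
  intro s s' h
  have hm := Presheaf.equalizerSieve_mem J (toSheafify J P) (X := op V) s s' h
  obtain ⟨ι, Y, hc, hY⟩ := h2 V hV _ hm
  exact eq_of_restrict_eq Y P (hP V ι Y hc).1 s s' (fun i => hY i)

include h1 h2 hP in
lemma toSheafify_app_surjective (V : C) (hV : V ∈ B) :
    Function.Surjective ((toSheafify J P).app (op V)).hom := by
  intro t
  have hm := Presheaf.imageSieve_mem J (toSheafify J P) (U := op V) t
  obtain ⟨ι, Y, hc, hY⟩ := h2 V hV _ hm
  choose x hx using hY
  have nat : ∀ {W W' : C} (g : W' ⟶ W) (y : P.obj (op W)),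
      ((toSheafify J P).app (op W')).hom ((P.map g.op).hom y) =
        ((sheafify J P).map g.op).hom (((toSheafify J P).app (op W)).hom y) := fun g y =>
    congrArg (fun m => m.hom y) ((toSheafify J P).naturality g.op)
  have hx' : ∀ i, ((toSheafify J P).app (op (Y i).left)).hom (x i) =
      ((sheafify J P).map (Y i).hom.op).hom t := hx
  obtain ⟨t', ht'⟩ := exists_glue Y P (hP V ι Y hc).2 x (fun b => by
    apply toSheafify_app_injective J B Cov h2 P hP _ ((h1 V ι Y hc).2.2 1 b)
    have e : ∀ k : Fin 2, ((toSheafify J P).app (op (∏ᶜ (Y ∘ b)).left)).hom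
        ((P.map ((Pi.π (Y ∘ b) k).left).op).hom (x (b k))) =
        ((sheafify J P).map (∏ᶜ (Y ∘ b)).hom.op).hom t := fun k => by
      refine (nat _ _).trans ?_
      refine (congrArg (fun w => ((sheafify J P).map ((Pi.π (Y ∘ b) k).left).op).hom w)
        (hx' (b k))).trans ?_
      rw [← Over.w (Pi.π (Y ∘ b) k), op_comp, (sheafify J P).map_comp]
      rfl
    exact (e 0).trans (e 1).symm)
  refine ⟨t', ?_⟩
  have hsh : Presheaf.IsSheaf J (sheafify J P) := ((presheafToSheaf J AddCommGrpCat.{u}).obj P).property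
  refine eq_of_restrict_eq Y (sheafify J P)
    (toCech_bijective Y (sheafify J P) J hsh (h1 V ι Y hc).2.1).1 _ _ (fun i => ?_)
  rw [← nat, ht' i, hx' i]

include h1 h2 hP in
theorem toSheafify_app_bijective (V : C) (hV : V ∈ B) :
    Function.Bijective ((toSheafify J P).app (op V)).hom :=
  ⟨toSheafify_app_injective J B Cov h2 P hP V hV,
    toSheafify_app_surjective J B Cov h1 h2 P hP V hV⟩

end Shf

end Groth.Agent.Helper24.ColimSite
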