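import Mathlib
import Groth.Prelude.Def_CechEdge
import Groth.Agent.Lib.Helper24.CechEv
import Groth.Agent.Lib.Helper24.CechDelta
import Groth.Agent.Lib.Helper13.ColimDelta
import Groth.Agent.Lib.Helper29.HomColim

/-!
The Čech complex functor of a finite family preserves filtered colimits of presheaves (helper24).
-/

universe u v'
set_option linter.unusedSectionVars false
open CategoryTheory CategoryTheory.Limits Opposite

namespace Groth.Agent.Helper24.ColimSite

open Groth.Agent.Helper24.CechEv Groth.Agent.Helper24.CechDelta Groth.Agent.Helper13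
  Groth.Agent.Helper13.ColimDelta

section FinProd
variable {𝒞 : Type v'} [Category.{u} 𝒞] [Abelian 𝒞] {I : Type u} [SmallCategory I] [IsFiltered I]
  [HasColimitsOfShape I 𝒞] {A : Type u} [Finite A]
  (Ga : A → (𝒞 ⥤ AddCommGrpCat.{u})) (D : I ⥤ 𝒞) [∀ a, PreservesColimit D (Ga a)]

lemma exists_common_surj (x : ∀ a, (Ga a).obj (colimit D)) :
    ∃ (k : I) (y : ∀ a, (Ga a).obj (D.obj k)),
      ∀ a, ((Ga a).map (colimit.ι D k)).hom (y a) = x a := by
  have h : ∀ a, ∃ (j : I) (y : (Ga a).obj (D.obj j)), ((Ga a).map (colimit.ι D j)).hom y = x a :=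
    fun a => DeltaFColim.exists_rep (D ⋙ Ga a) (isColimitOfPreserves (Ga a) (colimit.isColimit D)) (x a)
  choose j y hy using h
  haveI := Fintype.ofFinite A
  classical
  obtain ⟨S, hS⟩ := IsFiltered.sup_objs_exists (Finset.univ.image j)
  let f : ∀ a, j a ⟶ S := fun a => (hS (Finset.mem_image_of_mem j (Finset.mem_univ a))).some
  refine ⟨S, fun a => ((Ga a).map (D.map (f a))).hom (y a), fun a => ?_⟩
  refine Eq.trans ?_ (hy a)
  have e : (Ga a).map (D.map (f a)) ≫ (Ga a).map (colimit.ι D S) = (Ga a).map (colimit.ι D (j a)) := by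
    rw [← (Ga a).map_comp, colimit.w]
  exact congrArg (fun m => m.hom (y a)) e

lemma exists_common_inj (j : I) (y : ∀ a, (Ga a).obj (D.obj j))
    (hy : ∀ a, ((Ga a).map (colimit.ι D j)).hom (y a) = 0) :
    ∃ (k : I) (f : j ⟶ k), ∀ a, ((Ga a).map (D.map f)).hom (y a) = 0 := by
  have h : ∀ a, ∃ (k : I) (f : j ⟶ k), ((Ga a).map (D.map f)).hom (y a) = 0 :=
    fun a => DeltaFColim.eq_zero_of_rep (D ⋙ Ga a)
      (isColimitOfPreserves (Ga a) (colimit.isColimit D)) (y a) (hy a)
  choose k f hf using h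
  haveI := Fintype.ofFinite A
  classical
  have key : ∀ s : Finset A, ∃ (m : I) (g : j ⟶ m), ∀ a ∈ s, ((Ga a).map (D.map g)).hom (y a) = 0 := by
    intro s
    induction s using Finset.induction_on with
    | empty => exact ⟨j, 𝟙 j, fun a ha => absurd ha (Finset.notMem_empty a)⟩
    | insert a s ha ih =>
      obtain ⟨m, g, hg⟩ := ih
      obtain ⟨m', t, t', ht⟩ := IsFiltered.span g (f a)
      refine ⟨m', g ≫ t, fun a' ha' => ?_⟩
      rcases Finset.mem_insert.1 ha' with rfl | ha''
      · rw [ht, D.map_comp, (Ga a').map_comp]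
        show ((Ga a').map (D.map t')).hom (((Ga a').map (D.map (f a'))).hom (y a')) = 0
        rw [hf, map_zero]
      · rw [D.map_comp, (Ga a').map_comp]
        show ((Ga a').map (D.map t)).hom (((Ga a').map (D.map g)).hom (y a')) = 0
        rw [hg a' ha'', map_zero]
  obtain ⟨m, g, hg⟩ := key Finset.univ
  exact ⟨m, g, fun a => hg a (Finset.mem_univ a)⟩

variable (G : 𝒞 ⥤ AddCommGrpCat.{u}) [G.Additive] (π : ∀ a, G ⟶ Ga a)
  (hπ : ∀ P : 𝒞, Function.Bijective (fun (x : G.obj P) (a : A) => ((π a).app P).hom x))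

include hπ in
theorem preservesColimit_of_jointly_bijective : PreservesColimit D G := by
  refine preserves_of_surj_inj G D ?_ ?_
  · intro x
    obtain ⟨k, y, hy⟩ := exists_common_surj Ga D (fun a => ((π a).app _).hom x)
    obtain ⟨y', hy'⟩ := (hπ (D.obj k)).2 y
    refine ⟨k, y', (hπ _).1 (funext fun a => ?_)⟩
    have nat := congrArg (fun m => m.hom y') ((π a).naturality (colimit.ι D k))
    exact nat.trans ((congrArg (fun w => ((Ga a).map (colimit.ι D k)).hom w)
      (congrFun hy' a)).trans (hy a))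
  · intro j y hy
    obtain ⟨k, f, hf⟩ := exists_common_inj Ga D j (fun a => ((π a).app _).hom y) (fun a => by
      have nat := congrArg (fun m => m.hom y) ((π a).naturality (colimit.ι D j))
      refine nat.symm.trans ?_
      show ((π a).app _).hom ((G.map (colimit.ι D j)).hom y) = 0
      have hy' : (G.map (colimit.ι D j)).hom y = 0 := hy
      rw [hy', map_zero])
    refine ⟨k, f, (hπ _).1 (funext fun a => ?_)⟩
    have nat := congrArg (fun m => m.hom y) ((π a).naturality (D.map f))
    exact nat.trans ((hf a).trans (map_zero _).symm)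

end FinProd

section Cech
variable {C : Type u} [SmallCategory C] [HasPullbacks C] {U : C} {ι : Type u} (Y : ι → Over U)
  {I : Type u} [SmallCategory I] [IsFiltered I]

/-- the projections of the degree `n` term of the Čech complex -/
noncomputable def cechProj (n : ℕ) (a : Fin (n+1) → ι) :
    CechEdge.cxFunctor (C := C) Y ⋙ HomologicalComplex.eval _ _ n ⟶
      (evaluation Cᵒᵖ AddCommGrpCat.{u}).obj (op (∏ᶜ (Y ∘ a)).left) where
  app P := Pi.π (fun a : Fin (n+1) → ι => P.obj (op (∏ᶜ (Y ∘ a)).left)) a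
  naturality P Q φ := by
    show ((CechEdge.cxFunctor Y).map φ).f n ≫ _ = _ ≫ φ.app _
    rw [cxFunctor_map_f]
    exact Limits.Pi.map_π _ _

lemma cechProj_bijective (n : ℕ) (P : Cᵒᵖ ⥤ AddCommGrpCat.{u}) :
    Function.Bijective (fun (x : (CechEdge.cxFunctor (C := C) Y ⋙ HomologicalComplex.eval _ _ n).obj P)
      (a : Fin (n+1) → ι) => ((cechProj Y n a).app P).hom x) := by
  constructor
  · intro x x' h
    exact pi_ext (A := fun a : Fin (n+1) → ι => P.obj (op (∏ᶜ (Y ∘ a)).left)) x x'
      (fun a => congrFun h a)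
  · intro y
    refine ⟨(Concrete.productEquiv (fun a : Fin (n+1) → ι => P.obj (op (∏ᶜ (Y ∘ a)).left))).symm y, ?_⟩
    funext a
    exact Concrete.productEquiv_symm_apply_π _ _ _

instance preservesColimitsOfShape_cxFunctor_eval [Finite ι] (n : ℕ) :
    PreservesColimitsOfShape I
      (CechEdge.cxFunctor (C := C) Y ⋙ HomologicalComplex.eval AddCommGrpCat.{u} _ n) :=
  ⟨fun {D} => preservesColimit_of_jointly_bijective
    (fun a : Fin (n+1) → ι => (evaluation Cᵒᵖ AddCommGrpCat.{u}).obj (op (∏ᶜ (Y ∘ a)).left)) D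
    _ (cechProj Y n) (cechProj_bijective Y n)⟩

instance preservesColimitsOfShape_cxFunctor [Finite ι] :
    PreservesColimitsOfShape I (CechEdge.cxFunctor (C := C) Y) :=
  HomologicalComplex.preservesColimitsOfShape_of_eval _ (fun n => inferInstance)

instance preservesColimitsOfShape_cechH [Finite ι] (n : ℕ) :
    PreservesColimitsOfShape I
      (CechEdge.cxFunctor (C := C) Y ⋙ HomologicalComplex.homologyFunctor AddCommGrpCat.{u} _ n) :=
  inferInstance

end Cech

end Groth.Agent.Helper24.ColimSite
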