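import Mathlib
import Groth.Prelude.Def_CechEdge
import Groth.Agent.Lib.Helper24.ColimSite1
import Groth.Agent.Lib.Helper24.ColimSite2
import Groth.Agent.Lib.Helper24.CechEdgeLib
import Groth.Agent.Lib.Helper24.CechInj
import Groth.Agent.S16022

/-!
Filtered colimits of abelian sheaves on a site with a cofinal system of finite covering families:
sections over members of `B` and Čech-acyclicity (helper24).
-/

universe u v' w''
set_option linter.unusedSectionVars false
open CategoryTheory CategoryTheory.Limits Opposite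

namespace Groth.Agent.Helper24.ColimSite

open Groth.Agent.Helper24.CechEv Groth.Agent.Helper24.CechDelta Groth.Agent.Helper24.CechEdgeLib
  Groth.Agent.Helper24.CechInj Groth.Agent.Helper13

section General
variable {𝒞 : Type*} [Category 𝒞] {𝒟 : Type*} [Category 𝒟] {K : Type*} [Category K]

/-- a natural transformation which is invertible on a diagram is invertible on its colimit when
both functors preserve that colimit -/
theorem isIso_app_pt_of_isColimit' {F₁ F₂ : 𝒞 ⥤ 𝒟} (τ : F₁ ⟶ F₂) {D : K ⥤ 𝒞} (c : Cocone D)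
    (h₁ : IsColimit (F₁.mapCocone c)) (h₂ : IsColimit (F₂.mapCocone c))
    (hτ : ∀ j, IsIso (τ.app (D.obj j))) : IsIso (τ.app c.pt) := by
  let α : D ⋙ F₁ ≅ D ⋙ F₂ :=
    NatIso.ofComponents (fun j => @asIso _ _ _ _ (τ.app (D.obj j)) (hτ j))
      (fun {j j'} u => τ.naturality (D.map u))
  let e := IsColimit.coconePointsIsoOfNatIso h₁ h₂ α
  have he : e.hom = τ.app c.pt := by
    apply h₁.hom_ext
    intro j
    have h := IsColimit.comp_coconePointsIsoOfNatIso_hom h₁ h₂ α j
    refine h.trans ?_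
    exact (τ.naturality (c.ι.app j)).symm
  rw [← he]
  infer_instance

end General

section Psh
variable {C : Type u} [SmallCategory C] [HasPullbacks C] (J : GrothendieckTopology C)
  {I : Type u} [SmallCategory I] [IsFiltered I] (E : I ⥤ Sheaf J AddCommGrpCat.{u})
  {U : C} {ι : Type u} (Y : ι → Over U)

/-- the underlying diagram of presheaves -/
abbrev Eh : I ⥤ (Cᵒᵖ ⥤ AddCommGrpCat.{u}) := E ⋙ sheafToPresheaf J AddCommGrpCat.{u}

/-- the colimit presheaf -/
noncomputable abbrev Pc : Cᵒᵖ ⥤ AddCommGrpCat.{u} := colimit (Eh J E)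

/-- `toCech` as a natural transformation -/
noncomputable def toCechNat : (evaluation Cᵒᵖ AddCommGrpCat.{u}).obj (op U) ⟶
    CechEdge.cxFunctor Y ⋙ HomologicalComplex.homologyFunctor AddCommGrpCat.{u} _ 0 where
  app P := AddCommGrpCat.ofHom (CechEdge.toCech Y P)
  naturality P Q ψ := by
    ext s
    exact (toCech_naturality Y ψ s).symm

theorem toCech_bijective_colimit [Finite ι]
    (hY : Sieve.ofArrows (fun i => (Y i).left) (fun i => (Y i).hom) ∈ J U) :
    Function.Bijective (CechEdge.toCech Y (Pc J E)) := by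
  have : IsIso ((toCechNat Y).app (Pc J E)) :=
    isIso_app_pt_of_isColimit' (toCechNat Y) (colimit.cocone (Eh J E))
    (isColimitOfPreserves _ (colimit.isColimit _)) (isColimitOfPreserves _ (colimit.isColimit _))
    (fun k => (ConcreteCategory.isIso_iff_bijective _).2
      (toCech_bijective Y (E.obj k).obj J (E.obj k).property hY))
  exact ConcreteCategory.bijective_of_isIso ((toCechNat Y).app (Pc J E))

theorem isZero_cech_colimit [Finite ι] (hE : ∀ k, Injective (E.obj k)) (n : ℕ) :
    IsZero (CohCx.cechH (Pc J E) Y (n + 1)) := by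
  have hc : IsColimit ((CechEdge.cxFunctor Y ⋙
      HomologicalComplex.homologyFunctor AddCommGrpCat.{u} _ (n + 1)).mapCocone
        (colimit.cocone (Eh J E))) := isColimitOfPreserves _ (colimit.isColimit _)
  refine @AddCommGrpCat.isZero_of_subsingleton _ (subsingleton_of_forall_eq 0 fun x => ?_)
  obtain ⟨k, y, hy⟩ := DeltaFColim.exists_rep _ hc x
  have hz : IsZero (CohCx.cechH (E.obj k).obj Y (n + 1)) :=
    isZero_cech_of_injective Y (E.obj k).obj n
  have hs : Subsingleton (CohCx.cechH (E.obj k).obj Y (n + 1)) :=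
    AddCommGrpCat.subsingleton_of_isZero hz
  have hy0 : y = 0 := @Subsingleton.elim _ hs y 0
  rw [← hy, hy0]
  exact map_zero _

end Psh

section Shf
variable {C : Type u} [SmallCategory C] [HasPullbacks C] (J : GrothendieckTopology C)
  (B : Set C) (Cov : ∀ (U : C) (ι : Type u), (ι → Over U) → Prop)
  (h1 : ∀ (U : C) (ι : Type u) (Y : ι → Over U), Cov U ι Y → Finite ι ∧ U ∈ B ∧
      Sieve.ofArrows (fun i => (Y i).left) (fun i => (Y i).hom) ∈ J U ∧
      ∀ (p : ℕ) (a : Fin (p + 1) → ι), (∏ᶜ fun k => Y (a k)).left ∈ B)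
  (h2 : ∀ U ∈ B, ∀ T ∈ J U, ∃ (ι : Type u) (Y : ι → Over U), Cov U ι Y ∧ ∀ i, T.arrows (Y i).hom)
  {I : Type u} [SmallCategory I] [IsFiltered I] (E : I ⥤ Sheaf J AddCommGrpCat.{u})

include h1 in
lemma h1' : ∀ (U : C) (ι : Type u) (Y : ι → Over U), Cov U ι Y → U ∈ B ∧
      Sieve.ofArrows (fun i => (Y i).left) (fun i => (Y i).hom) ∈ J U ∧
      ∀ (p : ℕ) (a : Fin (p + 1) → ι), (∏ᶜ fun k => Y (a k)).left ∈ B :=
  fun U ι Y hc => (h1 U ι Y hc).2

include h1 h2 in
theorem toSheafify_colimit_bijective (V : C) (hV : V ∈ B) :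
    Function.Bijective ((toSheafify J (Pc J E)).app (op V)).hom :=
  toSheafify_app_bijective J B Cov (h1' J B Cov h1) h2 (Pc J E)
    (fun U ι Y hc => by
      haveI := (h1 U ι Y hc).1
      exact toCech_bijective_colimit J E Y (h1 U ι Y hc).2.2.1) V hV

/-- the colimit cocone of sheaves -/
noncomputable abbrev sc : Cocone E := Sheaf.sheafifyCocone (colimit.cocone (Eh J E))

noncomputable def isColimitSc : IsColimit (sc J E) :=
  Sheaf.isColimitSheafifyCocone _ (colimit.isColimit _)

/-- sections over `V` -/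
abbrev Γs (V : C) : Sheaf J AddCommGrpCat.{u} ⥤ AddCommGrpCat.{u} :=
  sheafToPresheaf J AddCommGrpCat.{u} ⋙ (evaluation Cᵒᵖ AddCommGrpCat.{u}).obj (op V)

include h1 h2 in
theorem nonempty_isColimit_Γs (V : C) (hV : V ∈ B) :
    Nonempty (IsColimit ((Γs J V).mapCocone (sc J E))) := by
  have hb := toSheafify_colimit_bijective J B Cov h1 h2 E V hV
  have hiso : IsIso ((toSheafify J (Pc J E)).app (op V)) :=
    (ConcreteCategory.isIso_iff_bijective _).2 hb
  have h0 : IsColimit (((evaluation Cᵒᵖ AddCommGrpCat.{u}).obj (op V)).mapCocone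
      (colimit.cocone (Eh J E))) := isColimitOfPreserves _ (colimit.isColimit _)
  refine ⟨IsColimit.ofIsoColimit h0 (Cocone.ext (@asIso _ _ _ _ _ hiso) (fun k => ?_))⟩
  have := Sheaf.sheafifyCocone_ι_app_val (colimit.cocone (Eh J E)) k
  exact (congrArg (fun m => m.app (op V)) this).symm

include h1 h2 in
theorem preservesColimit_Γs (V : C) (hV : V ∈ B) : PreservesColimit E (Γs J V) := by
  obtain ⟨h⟩ := nonempty_isColimit_Γs J B Cov h1 h2 E V hV
  exact preservesColimit_of_preserves_colimit_cocone (isColimitSc J E) h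

include h1 h2 in
theorem isZero_cech_sc (hE : ∀ k, Injective (E.obj k)) {U : C} {ι : Type u} (Y : ι → Over U)
    (hc : Cov U ι Y) (n : ℕ) : IsZero (CohCx.cechH (sc J E).pt.obj Y (n + 1)) := by
  haveI := (h1 U ι Y hc).1
  have hz := isZero_cech_colimit J E Y hE n
  have hb := Groth.Agent.S16022.cechHMap_bijective Y (toSheafify J (Pc J E))
    (fun m a => toSheafify_colimit_bijective J B Cov h1 h2 E _ ((h1 U ι Y hc).2.2.2 m a)) (n + 1)
  haveI : Subsingleton (CohCx.cechH (Pc J E) Y (n + 1)) := AddCommGrpCat.subsingleton_of_isZero hz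
  have : Subsingleton (CohCx.cechH (sheafify J (Pc J E)) Y (n + 1)) := hb.2.subsingleton
  exact @AddCommGrpCat.isZero_of_subsingleton _ this

include h1 h2 in
theorem isZero_cech_colimit_sheaf (hE : ∀ k, Injective (E.obj k)) {U : C} {ι : Type u}
    (Y : ι → Over U) (hc : Cov U ι Y) (n : ℕ) :
    IsZero (CohCx.cechH (colimit E).obj Y (n + 1)) := by
  have e : colimit E ≅ (sc J E).pt :=
    IsColimit.coconePointUniqueUpToIso (colimit.isColimit E) (isColimitSc J E)
  have e' := (sheafToPresheaf J AddCommGrpCat.{u} ⋙ CechEdge.cxFunctor Y ⋙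
    HomologicalComplex.homologyFunctor AddCommGrpCat.{u} _ (n + 1)).mapIso e
  exact (isZero_cech_sc J B Cov h1 h2 E hE Y hc n).of_iso e'

end Shf

end Groth.Agent.Helper24.ColimSite
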