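import Mathlib
import Groth.Prelude.Def_CechEdge
import Groth.Agent.Lib.Helper24.CechInj

universe u
set_option linter.unusedSectionVars false
open CategoryTheory CategoryTheory.Limits Opposite

namespace Groth.Agent.Helper24.CechSurj

open Groth.Agent.Helper24.CechEv Groth.Agent.Helper24.CechDelta Groth.Agent.Helper24.CechEff
  Groth.Agent.Helper24.CechH Groth.Agent.Helper24.CechEdgeLib Groth.Agent.Helper24.CechInj

section
variable {C : Type u} [SmallCategory C] {J : GrothendieckTopology C}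
  (S : ShortComplex (Sheaf J AddCommGrpCat.{u})) (hS : S.ShortExact)

include hS in
lemma mono_f : Mono S.f := hS.mono_f

/-- comparison from the presheaf cokernel of `S.f` to `S.X₃` -/
noncomputable def γ' : cokernel S.f.hom ⟶ S.X₃.obj :=
  cokernel.desc S.f.hom S.g.hom (by
    show (S.f ≫ S.g).hom = 0
    rw [S.zero]
    rfl)

lemma π_γ' : cokernel.π S.f.hom ≫ γ' S = S.g.hom := cokernel.π_desc _ _ _

include hS in
lemma γ'_app_injective (W : Cᵒᵖ) : Function.Injective ((γ' S).app W).hom := by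
  have := hS.mono_f
  rw [injective_iff_map_eq_zero]
  intro y hy
  have hsurj : Function.Surjective ((cokernel.π S.f.hom).app W).hom := by
    have := ((sesP_shortExact S.f).map_of_exact ((evaluation _ _).obj W)).epi_g
    exact (AddCommGrpCat.epi_iff_surjective _).1 this
  obtain ⟨s, rfl⟩ := hsurj y
  have h1 : ((γ' S).app W).hom (((cokernel.π S.f.hom).app W).hom s) = (S.g.hom.app W).hom s :=
    congrArg (fun m => (m.app W).hom s) (π_γ' S)
  rw [h1] at hy
  have hex : (S.map (sheafToPresheaf J AddCommGrpCat.{u} ⋙ (evaluation _ _).obj W)).Exact :=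
    hS.exact.map_of_mono_of_preservesKernel _ hS.mono_f inferInstance
  obtain ⟨t, ht⟩ := (ShortComplex.ab_exact_iff _).1 hex s hy
  change (S.f.hom.app W).hom t = s at ht
  rw [← ht]
  have := cokernel.condition S.f.hom
  exact congrArg (fun m => (m.app W).hom t) this

end

section
variable {C : Type u} [SmallCategory C] [HasPullbacks C] {J : GrothendieckTopology C}
  (S : ShortComplex (Sheaf J AddCommGrpCat.{u})) (hS : S.ShortExact)
  {U : C} {ι : Type u} (Y : ι → Over U)
  (hY : Sieve.ofArrows (fun i => (Y i).left) (fun i => (Y i).hom) ∈ J U)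
  (hZ : IsZero (CohCx.cechH S.X₁.obj Y 1))

lemma sep_of_cover (P : Cᵒᵖ ⥤ AddCommGrpCat.{u}) (hP : Presheaf.IsSheaf J P)
    (hY : Sieve.ofArrows (fun i => (Y i).left) (fun i => (Y i).hom) ∈ J U)
    (s s' : P.obj (op U))
    (h : ∀ i, (P.map (Y i).hom.op).hom s = (P.map (Y i).hom.op).hom s') : s = s' := by
  have hP' := presieve_isSheaf_of_isSheaf P J hP
  have hS := (Presieve.isSheafFor_iff_generate _).2 (hP' _ hY)
  rw [Presieve.isSheafFor_arrows_iff] at hS
  obtain ⟨t, ht, hu⟩ := hS (fun i => (P.map (Y i).hom.op).hom s')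
    (Presieve.Arrows.toCompatible (P ⋙ forget AddCommGrpCat) (fun i => (Y i).hom) s').property
  exact (hu s h).trans (hu s' (fun i => rfl)).symm

include hS hY hZ in
theorem surj_of_cech_one_zero (s : S.X₃.obj.obj (op U))
    (hloc : ∀ i, ∃ t : S.X₂.obj.obj (op (Y i).left),
      (S.g.hom.app (op (Y i).left)).hom t = (S.X₃.obj.map (Y i).hom.op).hom s) :
    ∃ t : S.X₂.obj.obj (op U), (S.g.hom.app (op U)).hom t = s := by
  have := hS.mono_f
  choose t ht using hloc
  -- the family in the presheaf cokernel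
  let Gq : Cᵒᵖ ⥤ AddCommGrpCat.{u} := cokernel S.f.hom
  let π : S.X₂.obj ⟶ Gq := cokernel.π S.f.hom
  let y : ∀ i, Gq.obj (op (Y i).left) := fun i => (π.app (op (Y i).left)).hom (t i)
  have hγy : ∀ i, ((γ' S).app (op (Y i).left)).hom (y i) = (S.X₃.obj.map (Y i).hom.op).hom s := by
    intro i
    have h1 : ((γ' S).app (op (Y i).left)).hom (y i) = (S.g.hom.app (op (Y i).left)).hom (t i) :=
      congrArg (fun m => (m.app (op (Y i).left)).hom (t i)) (π_γ' S)
    rw [h1, ht]
  set c := cochainOfFamily Y Gq y with hcdef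
  have hc : ((cech Y (QP Gq)).d 0 1).hom c = 0 := by
    apply ext_elem
    intro T σ
    have h := d_ev Y (QP Gq) T σ
    rw [Fin.sum_univ_two] at h
    have h2 := congrArg (fun m => m.hom c) h
    simp only [AddCommGrpCat.hom_comp, AddMonoidHom.comp_apply, Fin.val_zero,
      pow_zero, one_smul, Fin.val_one, pow_one, neg_smul, AddCommGrpCat.hom_add,
      AddCommGrpCat.hom_neg, AddMonoidHom.add_apply, AddMonoidHom.neg_apply] at h2
    rw [h2, map_zero, ev_cochainOfFamily, ev_cochainOfFamily]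
    refine add_neg_eq_zero.2 ?_
    apply γ'_app_injective S hS (op T.left)
    have key : ∀ (k : Fin 2), ((γ' S).app (op T.left)).hom
        ((Gq.map ((σ k).2.left).op).hom (y (σ k).1)) = (S.X₃.obj.map T.hom.op).hom s := by
      intro k
      have hn := congrArg (fun m => m.hom (y (σ k).1)) ((γ' S).naturality ((σ k).2.left).op)
      simp only [AddCommGrpCat.hom_comp, AddMonoidHom.comp_apply] at hn
      rw [hn, hγy, ← Over.w (σ k).2, op_comp, S.X₃.obj.map_comp]
      rfl
    exact (key 1).trans (key 0).symm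
  obtain ⟨z, hz⟩ := exists_cycle (CechEdge.cx Gq Y) c hc
  -- surjectivity of H⁰(G) → H⁰(Gq)
  have ex := (ShortComplex.ab_exact_iff _).1 ((TC Y).exact₃ (sesP S.f) (sesP_shortExact S.f) 0 1 rfl)
  have : Subsingleton (CohCx.cechH S.X₁.obj Y 1) := AddCommGrpCat.subsingleton_of_isZero hZ
  obtain ⟨w, hw⟩ := ex (((CechEdge.cx Gq Y).homologyπ 0).hom z)
    (Subsingleton.elim (α := CohCx.cechH S.X₁.obj Y 1) _ _)
  obtain ⟨t₀, rfl⟩ := (toCech_bijective Y S.X₂.obj J S.X₂.property hY).2 w
  refine ⟨t₀, ?_⟩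
  change CechEdge.cechHMap Y π 0 (CechEdge.toCech Y S.X₂.obj t₀) = _ at hw
  rw [toCech_naturality, toCech_apply] at hw
  have hπ : Function.Bijective ((CechEdge.cx Gq Y).homologyπ 0).hom :=
    ConcreteCategory.bijective_of_isIso ((CechEdge.cx Gq Y).homologyπ 0)
  have h0 : (CechEdge.toCech₀ Gq Y).hom ((π.app (op U)).hom t₀) = c := by
    rw [← iCycles_toCycles, hπ.1 hw, hz]
  -- separatedness of X₃
  refine sep_of_cover Y S.X₃.obj S.X₃.property hY _ _ (fun i => ?_)
  rw [← hγy i]
  have e1 := toCech₀_ev_apply Y Gq (Y i) (single Y i (𝟙 _)) ((π.app (op U)).hom t₀)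
  rw [h0, ev_cochainOfFamily] at e1
  have e2 : (Gq.map (𝟙 (Y i).left).op).hom (y i) = y i := by
    rw [op_id, Gq.map_id]
    rfl
  have e3 : y i = (Gq.map (Y i).hom.op).hom ((π.app (op U)).hom t₀) := e2.symm.trans e1
  rw [e3]
  have hn := congrArg (fun m => m.hom ((π.app (op U)).hom t₀)) ((γ' S).naturality (Y i).hom.op)
  simp only [AddCommGrpCat.hom_comp, AddMonoidHom.comp_apply] at hn
  rw [hn]
  congr 1
  exact (congrArg (fun m => (m.app (op U)).hom t₀) (π_γ' S)).symm

end

end Groth.Agent.Helper24.CechSurj
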