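import Mathlib
import Groth.Prelude.Def_CechEdge
import Groth.Agent.Lib.Helper24.ColimSite3
import Groth.Agent.Lib.Helper24.CechH
import Groth.Agent.S0861

/-!
Cohomology over members of `B` commutes with filtered colimits (helper24).
-/

universe u v'
set_option linter.unusedSectionVars false
open CategoryTheory CategoryTheory.Limits Opposite

namespace Groth.Agent.Helper24.ColimSite

open Groth.Agent.Helper24.CechH Groth.Agent.Helper24.CechEdgeLib Groth.Agent.Helper13

section Embed
variable {𝒮 : Type v'} [Category.{u} 𝒮] [Abelian 𝒮] [EnoughInjectives 𝒮] [HasProducts.{u} 𝒮]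
  {I : Type u} [SmallCategory I] (D : I ⥤ 𝒮)

lemma π_congr {t : I} (c : I) (g g' : t ⟶ c) (h : g = g') :
    Pi.π (fun p : Σ c : I, (t ⟶ c) => Injective.under (D.obj p.1)) ⟨c, g⟩ =
      Pi.π (fun p : Σ c : I, (t ⟶ c) => Injective.under (D.obj p.1)) ⟨c, g'⟩ := by
  subst h
  rfl

/-- a diagram of injective objects containing `D` -/
noncomputable def injDiag : I ⥤ 𝒮 where
  obj t := ∏ᶜ (fun (p : Σ c : I, (t ⟶ c)) => Injective.under (D.obj p.1))
  map {t t'} f := Pi.lift (fun (p' : Σ c : I, (t' ⟶ c)) =>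
    Pi.π (fun (p : Σ c : I, (t ⟶ c)) => Injective.under (D.obj p.1)) ⟨p'.1, f ≫ p'.2⟩)
  map_id t := by
    apply Pi.hom_ext
    intro p
    simp
    exact π_congr D p.1 _ _ (Category.id_comp _)
  map_comp {t t' t''} f g := by
    apply Pi.hom_ext
    intro p
    simp
    exact π_congr D p.1 _ _ (Category.assoc _ _ _)

noncomputable def toInjDiag : D ⟶ injDiag D where
  app t := Pi.lift (fun (p : Σ c : I, (t ⟶ c)) => D.map p.2 ≫ Injective.ι (D.obj p.1))
  naturality {t t'} f := by
    apply Pi.hom_ext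
    intro p
    show (D.map f ≫ Pi.lift _) ≫ _ = (Pi.lift _ ≫ Pi.lift _) ≫ _
    rw [Category.assoc, Pi.lift_π, Category.assoc, Pi.lift_π, Pi.lift_π, D.map_comp, Category.assoc]

instance mono_toInjDiag_app (t : I) : Mono ((toInjDiag D).app t) := by
  have h : (toInjDiag D).app t ≫
      Pi.π (fun (p : Σ c : I, (t ⟶ c)) => Injective.under (D.obj p.1)) ⟨t, 𝟙 t⟩ =
      Injective.ι (D.obj t) := by
    show Pi.lift _ ≫ _ = _
    rw [Pi.lift_π, D.map_id, Category.id_comp]
  exact mono_of_mono_fac h

instance mono_toInjDiag : Mono (toInjDiag D) := NatTrans.mono_of_mono_app _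

instance injective_injDiag_obj (t : I) : Injective ((injDiag D).obj t) := by
  show Injective (∏ᶜ (fun (p : Σ c : I, (t ⟶ c)) => Injective.under (D.obj p.1)))
  infer_instance

end Embed

section Main
variable {C : Type u} [SmallCategory C] [HasPullbacks C] (J : GrothendieckTopology C)
  (B : Set C) (Cov : ∀ (U : C) (ι : Type u), (ι → Over U) → Prop)
  (h1 : ∀ (U : C) (ι : Type u) (Y : ι → Over U), Cov U ι Y → Finite ι ∧ U ∈ B ∧
      Sieve.ofArrows (fun i => (Y i).left) (fun i => (Y i).hom) ∈ J U ∧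
      ∀ (p : ℕ) (a : Fin (p + 1) → ι), (∏ᶜ fun k => Y (a k)).left ∈ B)
  (h2 : ∀ U ∈ B, ∀ T ∈ J U, ∃ (ι : Type u) (Y : ι → Over U), Cov U ι Y ∧ ∀ i, T.arrows (Y i).hom)
  {I : Type u} [SmallCategory I] [IsFiltered I]

/-- `H^0(U, -)` is the sections functor -/
noncomputable def h0Iso (U : C) : Γs J U ≅ (extDelta (CohCx.freeSheaf J U)).F 0 :=
  NatIso.ofComponents (fun F => AddEquiv.toAddCommGrpIso (X := AddCommGrpCat.of (F.obj.obj (op U))) (Y := AddCommGrpCat.of (CohSite.HU F 0 U)) (CechEdge.sectH0 J U F))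
    (fun {F G} ψ => by
      ext s
      exact (sectH0_naturality J ψ U s).symm)

include h1 h2 in
theorem preservesColimit_ext (U : C) (hU : U ∈ B) : ∀ (q : ℕ) (D : I ⥤ Sheaf J AddCommGrpCat.{u}),
    PreservesColimit D ((extDelta (CohCx.freeSheaf J U)).F q)
  | 0, D => by
    haveI := preservesColimit_Γs J B Cov h1 h2 D U hU
    exact preservesColimit_of_natIso D (h0Iso J U)
  | q + 1, D => by
    refine ColimDelta.preservesColimit_succ (extDelta (CohCx.freeSheaf J U)) q
      (fun D' => preservesColimit_ext U hU q D') (toInjDiag D) (fun j => ?_) ?_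
    · have : Subsingleton (CohSite.HU ((injDiag D).obj j) (q + 1) U) :=
        Abelian.Ext.subsingleton_of_injective _ _ q
      exact @AddCommGrpCat.isZero_of_subsingleton _ this
    · have : Subsingleton (CohSite.HU (colimit (injDiag D)) (q + 1) U) :=
        Groth.Agent.S0861.result J B Cov (h1' J B Cov h1) h2 (colimit (injDiag D))
          (fun V ι Y hc n => isZero_cech_colimit_sheaf J B Cov h1 h2 (injDiag D)
            (fun k => inferInstance) Y hc n) U hU q
      exact @AddCommGrpCat.isZero_of_subsingleton _ this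

end Main

end Groth.Agent.Helper24.ColimSite
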