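import Mathlib
import Groth.Prelude.Def_CechEdge
import Groth.Prelude.Def_CohTop
import Groth.Agent.Lib.Helper24.CechH
import Groth.Agent.Lib.Helper24.CechEdgeLib
import Groth.Agent.Lib.Helper24.CechInj

universe u
set_option linter.unusedSectionVars false
open CategoryTheory CategoryTheory.Limits Opposite TopologicalSpace

namespace Groth.Agent.Helper24.KillClass

open Groth.Agent.Helper24.CechH Groth.Agent.Helper24.CechEdgeLib Groth.Agent.Helper24.CechInj

section Site
variable {C : Type u} [SmallCategory C] (J : GrothendieckTopology C)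

open Abelian

lemma ext_assoc' {A : Type*} [Category A] [Abelian A] [HasExt.{u} A] {X' X Y Z : A} (g : X' ⟶ X)
    {n₀ n₁ : ℕ} (x : Ext X Y n₀) (c : Ext Y Z 1) (h : n₀ + 1 = n₁) :
    (Ext.mk₀ g).comp (x.comp c h) (zero_add n₁) =
      ((Ext.mk₀ g).comp x (zero_add n₀)).comp c h := by
  rw [Ext.comp_assoc]
  omega

lemma res_apply (F : Sheaf J AddCommGrpCat.{u}) (n : ℕ) {U V : C} (f : V ⟶ U)
    (x : CohSite.HU F n U) :
    CohSite.res F n f x = (Ext.mk₀ (CohCx.freeSheafMap J f)).comp x (zero_add n) := rfl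

lemma res_sectH0 (F : Sheaf J AddCommGrpCat.{u}) {U V : C} (f : V ⟶ U) (s : F.obj.obj (op U)) :
    CohSite.res F 0 f (CechEdge.sectH0 J U F s) =
      CechEdge.sectH0 J V F ((F.obj.map f.op).hom s) := by
  rw [res_apply, sectH0_apply, sectH0_apply, Ext.mk₀_comp_mk₀]
  congr 1
  apply (CohFree.homEquivSect J V F).injective
  rw [CohFree.homEquivSect_apply, CohFree.homEquivSect_apply, CohFree.evalGen_freeSheafMap_comp,
    CohFree.evalGen_ofSect, CohFree.evalGen_ofSect]

lemma res_δ {S : ShortComplex (Sheaf J AddCommGrpCat.{u})} (hS : S.ShortExact) (n₀ n₁ : ℕ)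
    (h : n₀ + 1 = n₁) {U V : C} (f : V ⟶ U) (x : CohSite.HU S.X₃ n₀ U) :
    CohSite.res S.X₁ n₁ f (((extDelta (CohCx.freeSheaf J U)).δ S hS n₀ n₁ h).hom x) =
      ((extDelta (CohCx.freeSheaf J V)).δ S hS n₀ n₁ h).hom (CohSite.res S.X₃ n₀ f x) := by
  exact ext_assoc' (CohCx.freeSheafMap J f) x hS.extClass h

theorem kill : ∀ (n : ℕ) (F : Sheaf J AddCommGrpCat.{u}) (U : C) (ξ : CohSite.HU F (n + 1) U),
    ∃ (S : J.Cover U), ∀ (a : S.Arrow), CohSite.res F (n + 1) a.f ξ = 0
  | 0, F, U, ξ => by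
    have ex := (ShortComplex.ab_exact_iff _).1
      ((extDelta (CohCx.freeSheaf J U)).exact₁ _ (sesS_shortExact (Injective.ι F)) 0 1 rfl)
    have hI : Subsingleton (CohSite.HU (Injective.under F) 1 U) :=
      Abelian.Ext.subsingleton_of_injective _ _ 0
    obtain ⟨v, hv⟩ := ex ξ (Subsingleton.elim (α := CohSite.HU (Injective.under F) 1 U) _ _)
    obtain ⟨q, rfl⟩ := (CechEdge.sectH0 J U (cokernel (Injective.ι F))).surjective v
    have hls : Presheaf.IsLocallySurjective J (cokernel.π (Injective.ι F)).hom :=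
      (Sheaf.isLocallySurjective_iff_epi' (φ := cokernel.π (Injective.ι F))).2 inferInstance
    refine ⟨⟨Presheaf.imageSieve (cokernel.π (Injective.ι F)).hom q, hls.imageSieve_mem q⟩,
      fun a => ?_⟩
    obtain ⟨s, hs⟩ := a.hf
    change ((extDelta (CohCx.freeSheaf J U)).δ _ (sesS_shortExact (Injective.ι F)) 0 1 rfl).hom
      (CechEdge.sectH0 J U (cokernel (Injective.ι F)) q) = ξ at hv
    refine (congrArg (CohSite.res F (0 + 1) a.f) hv.symm).trans ?_
    refine (res_δ J (sesS_shortExact (Injective.ι F)) 0 1 rfl a.f _).trans ?_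
    have h1 : CohSite.res (sesS (Injective.ι F)).X₃ 0 a.f
        (CechEdge.sectH0 J U (cokernel (Injective.ι F)) q) =
        CechEdge.HUmap (cokernel.π (Injective.ι F)) 0 a.Y
          (CechEdge.sectH0 J a.Y (Injective.under F) s) := by
      rw [sectH0_naturality]
      refine (res_sectH0 J (cokernel (Injective.ι F)) a.f q).trans ?_
      exact congrArg _ hs.symm
    rw [h1]
    have := congrArg (fun m => m.hom (CechEdge.sectH0 J a.Y (Injective.under F) s))
      ((extDelta (CohCx.freeSheaf J a.Y)).comp_δ _ (sesS_shortExact (Injective.ι F)) 0 1 rfl)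
    exact this
  | n+1, F, U, ξ => by
    have ex := (ShortComplex.ab_exact_iff _).1
      ((extDelta (CohCx.freeSheaf J U)).exact₁ _ (sesS_shortExact (Injective.ι F)) (n+1) (n+2) rfl)
    have hI : Subsingleton (CohSite.HU (Injective.under F) (n+2) U) :=
      Abelian.Ext.subsingleton_of_injective _ _ (n+1)
    obtain ⟨v, hv⟩ := ex ξ (Subsingleton.elim (α := CohSite.HU (Injective.under F) (n+2) U) _ _)
    obtain ⟨S, hS⟩ := kill n (cokernel (Injective.ι F)) U v
    refine ⟨S, fun a => ?_⟩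
    change ((extDelta (CohCx.freeSheaf J U)).δ _ (sesS_shortExact (Injective.ι F)) (n+1) (n+2)
      rfl).hom v = ξ at hv
    refine (congrArg (CohSite.res F (n + 1 + 1) a.f) hv.symm).trans ?_
    refine (res_δ J (sesS_shortExact (Injective.ι F)) (n+1) (n+2) rfl a.f _).trans ?_
    have h2 : CohSite.res (sesS (Injective.ι F)).X₃ (n+1) a.f v = 0 := hS a
    exact (congrArg _ h2).trans (map_zero _)

end Site

section Top
variable {X : TopCat.{u}}

theorem kill_top (F : CohTop.Ab X) (U : Opens X) (n : ℕ) (ξ : CohTop.HU F (n + 1) U) :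
    ∃ (ι : Type u) (V : ι → Opens X) (hV : ∀ i, V i ≤ U), iSup V = U ∧
      ∀ i, CohTop.res F (n + 1) (hV i) ξ = 0 := by
  obtain ⟨S, hS⟩ := kill (Opens.grothendieckTopology X) n F U ξ
  refine ⟨{V : Opens X // ∃ h : V ≤ U, S.1.arrows (homOfLE h)}, fun V => V.1, fun V => V.2.choose,
    ?_, fun V => ?_⟩
  · apply le_antisymm
    · exact iSup_le fun V => V.2.choose
    · intro x hx
      obtain ⟨V, f, hf, hxV⟩ := S.2 x hx
      exact Opens.mem_iSup.2 ⟨⟨V, leOfHom f, hf⟩, hxV⟩
  · exact hS ⟨V.1, homOfLE V.2.choose, V.2.choose_spec⟩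

end Top

end Groth.Agent.Helper24.KillClass
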