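import Mathlib
import Groth.Agent.Lib.Helper5.SkyMod2
import Groth.Agent.Lib.Helper5.StalkCx4

/-!
# The pullback of modules along a flat morphism of schemes is exact
-/

set_option autoImplicit false
universe u

open CategoryTheory CategoryTheory.Limits AlgebraicGeometry

namespace Groth.Agent.Helper24.FlatPull

open Groth.Agent.Helper5 Groth.Agent.Helper5.Sky Groth.Agent.Helper5.StalkCx

section Scheme

variable {X Y : Scheme.{u}}

/-- the module pullback along a flat morphism of schemes is exact -/
theorem preservesFiniteLimits_pullback (f : X ⟶ Y) [Flat f] :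
    PreservesFiniteLimits (Scheme.Modules.pullback f) := by
  rw [Functor.preservesFiniteLimits_iff_forall_exact_map_and_mono]
  intro S hS
  have key : ∀ x : X, ((S.map (Scheme.Modules.pullback f)).map (DerSch.stalkFunctor X x)).Exact ∧
      Mono ((DerSch.stalkFunctor X x).map ((Scheme.Modules.pullback f).map S.f)) := by
    intro x
    haveI := ModuleCat.preservesFiniteLimits_extendScalars_of_flat.{u} (Flat.stalkMap f x)
    have hS' : (S.map (DerSch.stalkFunctor Y (f.base x))).ShortExact :=
      hS.map_of_exact (DerSch.stalkFunctor Y (f.base x))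
    have h2 := (Functor.preservesFiniteLimits_iff_forall_exact_map_and_mono
      (ModuleCat.extendScalars (φst f x))).1 inferInstance _ hS'
    let e : S.map (Scheme.Modules.pullback f ⋙ DerSch.stalkFunctor X x) ≅
        S.map (DerSch.stalkFunctor Y (f.base x) ⋙ ModuleCat.extendScalars (φst f x)) :=
      S.mapNatIso (pullbackStalkIso f x)
    constructor
    · exact (ShortComplex.exact_iff_of_iso e).2 h2.1
    · have hm : Mono (S.map (DerSch.stalkFunctor Y (f.base x) ⋙
          ModuleCat.extendScalars (φst f x))).f := h2.2
      have : Mono (S.map (Scheme.Modules.pullback f ⋙ DerSch.stalkFunctor X x)).f := by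
        have h3 : (S.map (Scheme.Modules.pullback f ⋙ DerSch.stalkFunctor X x)).f =
            e.hom.τ₁ ≫ (S.map (DerSch.stalkFunctor Y (f.base x) ⋙
              ModuleCat.extendScalars (φst f x))).f ≫ e.inv.τ₂ := by
          rw [← Category.assoc, e.hom.comm₁₂, Category.assoc, ← ShortComplex.comp_τ₂,
            e.hom_inv_id, ShortComplex.id_τ₂, Category.comp_id]
        rw [h3]
        infer_instance
      exact this
  exact ⟨exact_of_stalks _ (fun x => (key x).1), mono_of_stalks _ (fun x => (key x).2)⟩

end Scheme

end Groth.Agent.Helper24.FlatPull
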