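import Mathlib

/-!
Long exact sequence of right derived functors for a sequence of additive functors
`T₃ ⟶ T₂ ⟶ T₁` which is short exact on injective objects (helper24).
-/

set_option autoImplicit false
universe v v' u u'
open CategoryTheory CategoryTheory.Limits

namespace Groth.Agent.Helper24.RelExt

section Abstract

variable {A : Type u} [Category.{v} A] [Abelian A] [HasInjectiveResolutions A]
  {B : Type u'} [Category.{v'} B] [Abelian B]
  {T₃ T₂ T₁ : A ⥤ B} [T₃.Additive] [T₂.Additive] [T₁.Additive] (α : T₃ ⟶ T₂) (β : T₂ ⟶ T₁)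

/-- the short complex of cochain complexes `T₃(I) ⟶ T₂(I) ⟶ T₁(I)` -/
noncomputable def scI (w : ∀ Q : A, Injective Q → α.app Q ≫ β.app Q = 0) {G : A}
    (I : InjectiveResolution G) : ShortComplex (CochainComplex B ℕ) :=
  ShortComplex.mk ((NatTrans.mapHomologicalComplex α (ComplexShape.up ℕ)).app I.cocomplex)
    ((NatTrans.mapHomologicalComplex β (ComplexShape.up ℕ)).app I.cocomplex) (by
      refine HomologicalComplex.hom_ext _ _ (fun i => ?_)
      exact w (I.cocomplex.X i) inferInstance)

lemma scI_shortExact (w : ∀ Q : A, Injective Q → α.app Q ≫ β.app Q = 0)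
    (h : ∀ (Q : A) (hQ : Injective Q), (ShortComplex.mk _ _ (w Q hQ)).ShortExact) {G : A}
    (I : InjectiveResolution G) : (scI α β w I).ShortExact :=
  HomologicalComplex.shortExact_of_degreewise_shortExact _
    (fun i => h (I.cocomplex.X i) inferInstance)

theorem les (w : ∀ Q : A, Injective Q → α.app Q ≫ β.app Q = 0)
    (h : ∀ (Q : A) (hQ : Injective Q), (ShortComplex.mk _ _ (w Q hQ)).ShortExact) (G : A) :
    Mono ((NatTrans.rightDerived α 0).app G) ∧
    (∀ p : ℕ, ∃ w' : (NatTrans.rightDerived α p).app G ≫ (NatTrans.rightDerived β p).app G = 0,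
      (ShortComplex.mk _ _ w').Exact) ∧
    ∃ δ : ∀ p : ℕ, (T₁.rightDerived p).obj G ⟶ (T₃.rightDerived (p + 1)).obj G,
      ∀ p : ℕ,
        (∃ w' : (NatTrans.rightDerived β p).app G ≫ δ p = 0, (ShortComplex.mk _ _ w').Exact) ∧
        (∃ w' : δ p ≫ (NatTrans.rightDerived α (p + 1)).app G = 0,
          (ShortComplex.mk _ _ w').Exact) := by
  let I : InjectiveResolution G := (HasInjectiveResolution.out (Z := G)).some
  have hS := scI_shortExact α β w h I
  have hmono0 : Mono ((scI α β w I).f.f 0) := (h (I.cocomplex.X 0) inferInstance).mono_f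
  generalize hSdef : scI α β w I = S at hS hmono0
  obtain ⟨e₃, e₂, e₁, hα, hβ⟩ : ∃ (e₃ : ∀ p : ℕ, (T₃.rightDerived p).obj G ≅ S.X₁.homology p)
      (e₂ : ∀ p : ℕ, (T₂.rightDerived p).obj G ≅ S.X₂.homology p)
      (e₁ : ∀ p : ℕ, (T₁.rightDerived p).obj G ≅ S.X₃.homology p),
      (∀ p : ℕ, (NatTrans.rightDerived α p).app G =
        (e₃ p).hom ≫ HomologicalComplex.homologyMap S.f p ≫ (e₂ p).inv) ∧
      (∀ p : ℕ, (NatTrans.rightDerived β p).app G =
        (e₂ p).hom ≫ HomologicalComplex.homologyMap S.g p ≫ (e₁ p).inv) := by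
    subst hSdef
    exact ⟨fun p => I.isoRightDerivedObj T₃ p, fun p => I.isoRightDerivedObj T₂ p,
      fun p => I.isoRightDerivedObj T₁ p, fun p => I.rightDerived_app_eq α p,
      fun p => I.rightDerived_app_eq β p⟩
  refine ⟨?_, ?_, ?_⟩
  · rw [hα]
    haveI : Mono (HomologicalComplex.homologyMap S.f 0) := by
      have h1 : HomologicalComplex.homologyMap S.f 0 =
          S.X₁.isoHomologyπ₀.inv ≫ HomologicalComplex.cyclesMap S.f 0 ≫ S.X₂.isoHomologyπ₀.hom := by
        rw [← CochainComplex.isoHomologyπ₀_inv_naturality_assoc, Iso.inv_hom_id, Category.comp_id]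
      rw [h1]
      infer_instance
    infer_instance
  · intro p
    have hw : (NatTrans.rightDerived α p).app G ≫ (NatTrans.rightDerived β p).app G = 0 := by
      rw [hα, hβ]
      simp only [Category.assoc, Iso.inv_hom_id_assoc]
      rw [← HomologicalComplex.homologyMap_comp_assoc, S.zero,
        HomologicalComplex.homologyMap_zero, zero_comp, comp_zero]
    refine ⟨hw, ?_⟩
    refine ShortComplex.exact_of_iso ?_ (hS.homology_exact₂ p)
    refine (ShortComplex.isoMk (e₃ p) (e₂ p) (e₁ p) ?_ ?_).symm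
    · dsimp only
      rw [hα]
      simp
    · dsimp only
      rw [hβ]
      simp
  · refine ⟨fun p => (e₁ p).hom ≫ hS.δ p (p + 1) rfl ≫ (e₃ (p + 1)).inv, fun p => ⟨?_, ?_⟩⟩
    · have hw : (NatTrans.rightDerived β p).app G ≫
          (e₁ p).hom ≫ hS.δ p (p + 1) rfl ≫ (e₃ (p + 1)).inv = 0 := by
        rw [hβ]
        simp only [Category.assoc, Iso.inv_hom_id_assoc]
        rw [hS.comp_δ_assoc, zero_comp, comp_zero]
      refine ⟨hw, ?_⟩
      refine ShortComplex.exact_of_iso ?_ (hS.homology_exact₃ p (p + 1) rfl)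
      refine (ShortComplex.isoMk (e₂ p) (e₁ p) (e₃ (p + 1)) ?_ ?_).symm
      · dsimp only
        rw [hβ]
        simp
      · dsimp only
        simp
    · have hw : ((e₁ p).hom ≫ hS.δ p (p + 1) rfl ≫ (e₃ (p + 1)).inv) ≫
          (NatTrans.rightDerived α (p + 1)).app G = 0 := by
        rw [hα]
        simp only [Category.assoc, Iso.inv_hom_id_assoc]
        rw [hS.δ_comp_assoc, zero_comp, comp_zero]
      refine ⟨hw, ?_⟩
      refine ShortComplex.exact_of_iso ?_ (hS.homology_exact₁ p (p + 1) rfl)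
      refine (ShortComplex.isoMk (e₁ p) (e₃ (p + 1)) (e₂ (p + 1)) ?_ ?_).symm
      · dsimp only
        simp
      · dsimp only
        rw [hα]
        simp

end Abstract

end Groth.Agent.Helper24.RelExt
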