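import Mathlib
import Groth.Agent.Lib.Helper24.RelExt2

/-!
Consequences of the long exact sequence `RelExt.les` under vanishing hypotheses (helper24).
-/

set_option autoImplicit false
set_option linter.style.haveILetI false
set_option linter.unusedSectionVars false
universe v v' u u'
open CategoryTheory CategoryTheory.Limits

namespace Groth.Agent.Helper24.RelExt

section Abstract

variable {A : Type u} [Category.{v} A] [Abelian A] [HasInjectiveResolutions A]
  {B : Type u'} [Category.{v'} B] [Abelian B]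

/-- naturality of `F ⟶ R⁰F` in the functor -/
lemma toRightDerivedZero_naturality {F₁ F₂ : A ⥤ B} [F₁.Additive] [F₂.Additive] (α : F₁ ⟶ F₂)
    (X : A) :
    α.app X ≫ F₂.toRightDerivedZero.app X =
      F₁.toRightDerivedZero.app X ≫ (NatTrans.rightDerived α 0).app X := by
  let I : InjectiveResolution X := (HasInjectiveResolution.out (Z := X)).some
  have h1 : α.app X ≫ I.toRightDerivedZero' F₂ = I.toRightDerivedZero' F₁ ≫
      HomologicalComplex.cyclesMap
        ((NatTrans.mapHomologicalComplex α (ComplexShape.up ℕ)).app I.cocomplex) 0 := by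
    rw [← cancel_mono (HomologicalComplex.iCycles _ _), Category.assoc, Category.assoc,
      InjectiveResolution.toRightDerivedZero'_comp_iCycles, HomologicalComplex.cyclesMap_i,
      InjectiveResolution.toRightDerivedZero'_comp_iCycles_assoc]
    exact (α.naturality (I.ι.f 0)).symm
  have h2 := CochainComplex.isoHomologyπ₀_inv_naturality
    ((NatTrans.mapHomologicalComplex α (ComplexShape.up ℕ)).app I.cocomplex)
  have h3 : HomologicalComplex.cyclesMap
        ((NatTrans.mapHomologicalComplex α (ComplexShape.up ℕ)).app I.cocomplex) 0 ≫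
      (CochainComplex.isoHomologyπ₀ ((F₂.mapHomologicalComplex (ComplexShape.up ℕ)).obj
        I.cocomplex)).hom =
      (CochainComplex.isoHomologyπ₀ ((F₁.mapHomologicalComplex (ComplexShape.up ℕ)).obj
        I.cocomplex)).hom ≫ HomologicalComplex.homologyMap
        ((NatTrans.mapHomologicalComplex α (ComplexShape.up ℕ)).app I.cocomplex) 0 := by
    rw [← cancel_mono (CochainComplex.isoHomologyπ₀ ((F₂.mapHomologicalComplex
      (ComplexShape.up ℕ)).obj I.cocomplex)).inv, Category.assoc, Iso.hom_inv_id,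
      Category.comp_id, Category.assoc, h2, Iso.hom_inv_id_assoc]
  have key : α.app X ≫ I.toRightDerivedZero' F₂ ≫
      (CochainComplex.isoHomologyπ₀ ((F₂.mapHomologicalComplex (ComplexShape.up ℕ)).obj
        I.cocomplex)).hom =
      I.toRightDerivedZero' F₁ ≫ (CochainComplex.isoHomologyπ₀ ((F₁.mapHomologicalComplex
        (ComplexShape.up ℕ)).obj I.cocomplex)).hom ≫ HomologicalComplex.homologyMap
        ((NatTrans.mapHomologicalComplex α (ComplexShape.up ℕ)).app I.cocomplex) 0 := by
    rw [← Category.assoc, h1, Category.assoc, h3]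
  have e1 := I.toRightDerivedZero_eq F₁
  have e2 := I.toRightDerivedZero_eq F₂
  have e3 := I.rightDerived_app_eq α 0
  generalize I.isoRightDerivedObj F₁ 0 = E₁ at e1 e3
  generalize I.isoRightDerivedObj F₂ 0 = E₂ at e2 e3
  rw [e1, e2, e3]
  calc α.app X ≫ I.toRightDerivedZero' F₂ ≫ (CochainComplex.isoHomologyπ₀ _).hom ≫ E₂.inv
      = (α.app X ≫ I.toRightDerivedZero' F₂ ≫ (CochainComplex.isoHomologyπ₀ _).hom) ≫ E₂.inv := by
        simp only [Category.assoc]
    _ = (I.toRightDerivedZero' F₁ ≫ (CochainComplex.isoHomologyπ₀ _).hom ≫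
          HomologicalComplex.homologyMap
            ((NatTrans.mapHomologicalComplex α (ComplexShape.up ℕ)).app I.cocomplex) 0) ≫
          E₂.inv := by rw [key]
    _ = _ := by
        simp only [Category.assoc]
        erw [Iso.inv_hom_id_assoc]
        rfl

variable {T₃ T₂ T₁ : A ⥤ B} [T₃.Additive] [T₂.Additive] [T₁.Additive] (α : T₃ ⟶ T₂) (β : T₂ ⟶ T₁)

/-- dimension shifting -/
theorem nonempty_shift_iso (w : ∀ Q : A, Injective Q → α.app Q ≫ β.app Q = 0)
    (h : ∀ (Q : A) (hQ : Injective Q), (ShortComplex.mk _ _ (w Q hQ)).ShortExact) (G : A) (p : ℕ)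
    (hp : IsZero ((T₂.rightDerived (p + 1)).obj G))
    (hp' : IsZero ((T₂.rightDerived (p + 1 + 1)).obj G)) :
    Nonempty ((T₁.rightDerived (p + 1)).obj G ≅ (T₃.rightDerived (p + 1 + 1)).obj G) := by
  obtain ⟨_, _, δ, hδ⟩ := les α β w h G
  obtain ⟨⟨w1, ex1⟩, ⟨w2, ex2⟩⟩ := hδ (p + 1)
  haveI : Mono (δ (p + 1)) := ex1.mono_g (hp.eq_of_src _ _)
  haveI : Epi (δ (p + 1)) := ex2.epi_f (hp'.eq_of_tgt _ _)
  haveI : IsIso (δ (p + 1)) := isIso_of_mono_of_epi _
  exact ⟨asIso (δ (p + 1))⟩

/-- the first derived functor as a cokernel -/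
theorem nonempty_one_iso_cokernel (w : ∀ Q : A, Injective Q → α.app Q ≫ β.app Q = 0)
    (h : ∀ (Q : A) (hQ : Injective Q), (ShortComplex.mk _ _ (w Q hQ)).ShortExact) (G : A)
    [PreservesFiniteLimits T₂] [PreservesFiniteLimits T₁]
    (h1 : IsZero ((T₂.rightDerived 1).obj G)) :
    Nonempty ((T₃.rightDerived 1).obj G ≅ cokernel (β.app G)) := by
  obtain ⟨_, _, δ, hδ⟩ := les α β w h G
  obtain ⟨⟨w1, ex1⟩, ⟨w2, ex2⟩⟩ := hδ 0
  haveI : Epi (δ 0) := ex2.epi_f (h1.eq_of_tgt _ _)
  haveI : Epi (ShortComplex.mk _ _ w1).g := inferInstanceAs (Epi (δ 0))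
  let e1 : cokernel ((NatTrans.rightDerived β 0).app G) ≅ (T₃.rightDerived 1).obj G :=
    IsColimit.coconePointUniqueUpToIso (cokernelIsCokernel _) ex1.gIsCokernel
  let e2 : cokernel (β.app G) ≅ cokernel ((NatTrans.rightDerived β 0).app G) :=
    cokernel.mapIso _ _ (asIso (T₂.toRightDerivedZero.app G)) (asIso (T₁.toRightDerivedZero.app G))
      (toRightDerivedZero_naturality β G)
  exact ⟨(e2 ≪≫ e1).symm⟩

end Abstract

end Groth.Agent.Helper24.RelExt
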