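import Mathlib

/-!
Homology of a short complex whose maps factor through a kernel (helper24).
-/

set_option autoImplicit false
set_option linter.style.haveILetI false
set_option linter.unusedSectionVars false
universe v u
open CategoryTheory CategoryTheory.Limits

namespace Groth.Agent.Helper24.RelExt

section HomologyLemmas
variable {ℬ : Type u} [Category.{v} ℬ] [Abelian ℬ]

/-- if `S.f = b ≫ a`, `S.g = c ≫ m` with `m` mono and `a` a kernel of `c`, then the homology of `S`
is the cokernel of `b` -/
theorem nonempty_homology_iso_cokernel (S : ShortComplex ℬ) {K M : ℬ} (a : K ⟶ S.X₂)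
    (b : S.X₁ ⟶ K) (c : S.X₂ ⟶ M) (m : M ⟶ S.X₃) [Mono m]
    (hf : S.f = b ≫ a) (hg : S.g = c ≫ m) (hac : a ≫ c = 0)
    (hK : IsLimit (KernelFork.ofι a hac)) :
    Nonempty (S.homology ≅ cokernel b) := by
  have wi : a ≫ S.g = 0 := by rw [hg, ← Category.assoc, hac, zero_comp]
  have hi : IsLimit (KernelFork.ofι a wi) := isKernelCompMono hK m hg
  haveI : Mono a := mono_of_isLimit_fork hK
  have hb : b = hi.lift (KernelFork.ofι S.f S.zero) := by
    rw [← cancel_mono a]
    have h1 : hi.lift (KernelFork.ofι S.f S.zero) ≫ a = S.f :=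
      Fork.IsLimit.lift_ι hi (t := KernelFork.ofι S.f S.zero)
    exact hf.symm.trans h1.symm
  subst hb
  let h : S.LeftHomologyData :=
    { K := K
      H := cokernel (hi.lift (KernelFork.ofι S.f S.zero))
      i := a
      π := cokernel.π _
      wi := wi
      hi := hi
      wπ := cokernel.condition _
      hπ := cokernelIsCokernel _ }
  exact ⟨h.homologyIso⟩

/-- if `S.f = 0`, `S.g = c ≫ m` with `m` mono and `a` a kernel of `c`, then the homology of `S`
is the source of `a` -/
theorem nonempty_homology_iso_kernel (S : ShortComplex ℬ) {K M : ℬ} (a : K ⟶ S.X₂)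
    (c : S.X₂ ⟶ M) (m : M ⟶ S.X₃) [Mono m]
    (hf : S.f = 0) (hg : S.g = c ≫ m) (hac : a ≫ c = 0)
    (hK : IsLimit (KernelFork.ofι a hac)) :
    Nonempty (S.homology ≅ K) := by
  have wi : a ≫ S.g = 0 := by rw [hg, ← Category.assoc, hac, zero_comp]
  have hi : IsLimit (KernelFork.ofι a wi) := isKernelCompMono hK m hg
  let h : S.LeftHomologyData := ShortComplex.LeftHomologyData.ofIsLimitKernelFork S hf _ hi
  exact ⟨h.homologyIso⟩

end HomologyLemmas

end Groth.Agent.Helper24.RelExt
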