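import Mathlib
import Groth.Agent.Lib.Helper24.RelExt6
import Groth.Agent.Lib.Helper24.RelExt7

/-!
Computing the right derived functors of a contravariant family of left exact functors
`T_M` ("`Hom(M, -)`-like") from a resolution of `M` by `T`-acyclic objects (helper24).
-/

set_option autoImplicit false
set_option linter.style.haveILetI false
set_option linter.unusedSectionVars false
universe v v' u u'
open CategoryTheory CategoryTheory.Limits

namespace Groth.Agent.Helper24.RelExt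

section Fam

variable (A : Type u) [Category.{v} A] [Abelian A] (B : Type u') [Category.{v'} B] [Abelian B]

/-- a contravariant family of left exact functors, "`Hom(M, -)`-like" -/
structure ContraFam where
  /-- the functors -/
  T : A → (A ⥤ B)
  add : ∀ M, (T M).Additive
  pfl : ∀ M, PreservesFiniteLimits (T M)
  /-- contravariance -/
  t : ∀ {M' M : A} (_ : M' ⟶ M), T M ⟶ T M'
  t_comp : ∀ {M'' M' M : A} (u' : M'' ⟶ M') (u : M' ⟶ M) (Q : A),
    (t (u' ≫ u)).app Q = (t u).app Q ≫ (t u').app Q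
  t_zero : ∀ (M' M Q : A), (t (0 : M' ⟶ M)).app Q = 0
  mono : ∀ {M' M : A} (u : M' ⟶ M), Epi u → ∀ Q : A, Mono ((t u).app Q)
  exact : ∀ (S : ShortComplex A), S.Exact → Epi S.g → ∀ (Q : A)
    (w : (t S.g).app Q ≫ (t S.f).app Q = 0), (ShortComplex.mk _ _ w).Exact
  epi : ∀ (S : ShortComplex A), S.ShortExact → ∀ Q : A, Injective Q → Epi ((t S.f).app Q)

/-- resolution data for `F` -/
structure ResData {A : Type u} [Category.{v} A] [Abelian A] (F : A) where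
  /-- the objects -/
  Lx : ℕ → A
  /-- the differentials -/
  dx : ∀ j, Lx (j + 1) ⟶ Lx j
  /-- the augmentation -/
  π : Lx 0 ⟶ F
  epi : Epi π
  hπ : dx 0 ≫ π = 0
  hex0 : (ShortComplex.mk (dx 0) π hπ).Exact
  hd : ∀ j, dx (j + 1) ≫ dx j = 0
  hex : ∀ j, (ShortComplex.mk (dx (j + 1)) (dx j) (hd j)).Exact

variable {A B}

namespace ResData

variable {F : A} (R : ResData F)

/-- the shifted resolution of the kernel of the augmentation -/
noncomputable def shift : ResData (kernel R.π) where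
  Lx j := R.Lx (j + 1)
  dx j := R.dx (j + 1)
  π := kernel.lift R.π (R.dx 0) R.hπ
  epi := by
    have h := R.hex0
    rw [ShortComplex.exact_iff_epi_kernel_lift] at h
    exact h
  hπ := by
    rw [← cancel_mono (kernel.ι R.π), Category.assoc, kernel.lift_ι, zero_comp]
    exact R.hd 0
  hex0 := by
    have w : R.dx (0 + 1) ≫ kernel.lift R.π (R.dx 0) R.hπ = 0 := by
      rw [← cancel_mono (kernel.ι R.π), Category.assoc, kernel.lift_ι, zero_comp]
      exact R.hd 0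
    let φ : ShortComplex.mk (R.dx (0 + 1)) (kernel.lift R.π (R.dx 0) R.hπ) w ⟶
        ShortComplex.mk (R.dx (0 + 1)) (R.dx 0) (R.hd 0) :=
      { τ₁ := 𝟙 _
        τ₂ := 𝟙 _
        τ₃ := kernel.ι R.π
        comm₁₂ := by simp
        comm₂₃ := by simp }
    haveI : Epi φ.τ₁ := inferInstanceAs (Epi (𝟙 _))
    haveI : IsIso φ.τ₂ := inferInstanceAs (IsIso (𝟙 _))
    haveI : Mono φ.τ₃ := inferInstanceAs (Mono (kernel.ι R.π))
    exact (ShortComplex.exact_iff_of_epi_of_isIso_of_mono φ).2 (R.hex 0)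
  hd j := R.hd (j + 1)
  hex j := R.hex (j + 1)

/-- the short exact sequence `0 ⟶ ker π ⟶ L₀ ⟶ F ⟶ 0` -/
noncomputable def ses : ShortComplex A :=
  ShortComplex.mk (kernel.ι R.π) R.π (kernel.condition R.π)

lemma ses_shortExact : R.ses.ShortExact := by
  haveI : Epi R.ses.g := R.epi
  haveI : Mono R.ses.f := inferInstanceAs (Mono (kernel.ι R.π))
  exact ShortComplex.ShortExact.mk (ShortComplex.exact_of_f_is_kernel _ (kernelIsKernel R.π))

lemma shift_π_ι : R.shift.π ≫ kernel.ι R.π = R.dx 0 := kernel.lift_ι _ _ _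

end ResData

variable (𝒯 : ContraFam A B)

instance contraFam_additive (M : A) : (𝒯.T M).Additive := 𝒯.add M
instance contraFam_pfl (M : A) : PreservesFiniteLimits (𝒯.T M) := 𝒯.pfl M

namespace ContraFam

lemma w {M'' M' M : A} (u' : M'' ⟶ M') (u : M' ⟶ M) (h : u' ≫ u = 0) (Q : A) :
    (𝒯.t u).app Q ≫ (𝒯.t u').app Q = 0 := by
  rw [← 𝒯.t_comp, h, 𝒯.t_zero]

lemma shortExact (S : ShortComplex A) (hS : S.ShortExact) (Q : A) (hQ : Injective Q) :
    (ShortComplex.mk _ _ (𝒯.w S.f S.g S.zero Q)).ShortExact := by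
  have h1 := 𝒯.exact S hS.exact hS.epi_g Q (𝒯.w S.f S.g S.zero Q)
  have h2 := 𝒯.mono S.g hS.epi_g Q
  have h3 := 𝒯.epi S hS Q hQ
  exact ShortComplex.ShortExact.mk' h1 h2 h3

/-- `0 ⟶ T_F G ⟶ T_{L₀} G ⟶ T_{L₁} G` is exact: kernel form -/
noncomputable def isKernel {F : A} (R : ResData F) (G : A) :
    IsLimit (KernelFork.ofι ((𝒯.t R.π).app G) (𝒯.w (R.dx 0) R.π R.hπ G)) := by
  have h1 := 𝒯.exact (ShortComplex.mk (R.dx 0) R.π R.hπ) R.hex0 R.epi G (𝒯.w (R.dx 0) R.π R.hπ G)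
  haveI : Mono (ShortComplex.mk _ _ (𝒯.w (R.dx 0) R.π R.hπ G)).f := 𝒯.mono R.π R.epi G
  exact h1.fIsKernel

variable [HasInjectiveResolutions A]

theorem homology_succ (G : A) : ∀ (m : ℕ) {F : A} (R : ResData F),
    (∀ j p, IsZero (((𝒯.T (R.Lx j)).rightDerived (p + 1)).obj G)) →
    Nonempty ((ShortComplex.mk ((𝒯.t (R.dx m)).app G) ((𝒯.t (R.dx (m + 1))).app G)
      (𝒯.w _ _ (R.hd m) G)).homology ≅ ((𝒯.T F).rightDerived (m + 1)).obj G) := by
  intro m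
  induction m with
  | zero =>
    intro F R acyc
    have hw : ∀ Q : A, Injective Q →
        (𝒯.t R.π).app Q ≫ (𝒯.t (kernel.ι R.π)).app Q = 0 :=
      fun Q _ => 𝒯.w (kernel.ι R.π) R.π (kernel.condition R.π) Q
    obtain ⟨e1⟩ := nonempty_one_iso_cokernel (𝒯.t R.π) (𝒯.t (kernel.ι R.π)) hw
      (fun Q hQ => 𝒯.shortExact R.ses R.ses_shortExact Q hQ) G (acyc 0 0)
    have hf : (𝒯.t (R.dx 0)).app G = (𝒯.t (kernel.ι R.π)).app G ≫ (𝒯.t R.shift.π).app G := by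
      rw [← 𝒯.t_comp, R.shift_π_ι]
      rfl
    obtain ⟨e2⟩ := nonempty_homology_iso_cokernel
      (ShortComplex.mk ((𝒯.t (R.dx 0)).app G) ((𝒯.t (R.dx (0 + 1))).app G) (𝒯.w _ _ (R.hd 0) G))
      ((𝒯.t R.shift.π).app G) ((𝒯.t (kernel.ι R.π)).app G) ((𝒯.t (R.dx (0 + 1))).app G) (𝟙 _)
      hf
      (Category.comp_id _).symm
      (𝒯.w (R.dx (0 + 1)) R.shift.π R.shift.hπ G)
      (𝒯.isKernel R.shift G)
    exact ⟨e2 ≪≫ e1.symm⟩
  | succ m ih =>
    intro F R acyc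
    have hw : ∀ Q : A, Injective Q →
        (𝒯.t R.π).app Q ≫ (𝒯.t (kernel.ι R.π)).app Q = 0 :=
      fun Q _ => 𝒯.w (kernel.ι R.π) R.π (kernel.condition R.π) Q
    obtain ⟨e1⟩ := nonempty_shift_iso (𝒯.t R.π) (𝒯.t (kernel.ι R.π)) hw
      (fun Q hQ => 𝒯.shortExact R.ses R.ses_shortExact Q hQ) G m (acyc 0 m) (acyc 0 (m + 1))
    obtain ⟨e2⟩ := ih R.shift (fun j p => acyc (j + 1) p)
    exact ⟨e2 ≪≫ e1⟩

theorem homology_zero (G : A) {F : A} (R : ResData F) :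
    Nonempty ((ShortComplex.mk (0 : (𝒯.T (R.Lx 0)).obj G ⟶ (𝒯.T (R.Lx 0)).obj G)
      ((𝒯.t (R.dx 0)).app G) zero_comp).homology ≅ ((𝒯.T F).rightDerived 0).obj G) := by
  obtain ⟨e2⟩ := nonempty_homology_iso_kernel
    (ShortComplex.mk (0 : (𝒯.T (R.Lx 0)).obj G ⟶ (𝒯.T (R.Lx 0)).obj G)
      ((𝒯.t (R.dx 0)).app G) zero_comp)
    ((𝒯.t R.π).app G) ((𝒯.t (R.dx 0)).app G) (𝟙 _) rfl (Category.comp_id _).symm
    (𝒯.w (R.dx 0) R.π R.hπ G) (𝒯.isKernel R G)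
  exact ⟨e2 ≪≫ ((𝒯.T F).rightDerivedZeroIsoSelf.app G).symm⟩

theorem main {F : A} (R : ResData F) (G : A)
    (acyc : ∀ j p, IsZero (((𝒯.T (R.Lx j)).rightDerived (p + 1)).obj G))
    (C : CochainComplex B ℕ) (e : ∀ j, C.X j ≅ (𝒯.T (R.Lx j)).obj G)
    (hC : ∀ j, C.d j (j + 1) ≫ (e (j + 1)).hom = (e j).hom ≫ (𝒯.t (R.dx j)).app G) (i : ℕ) :
    Nonempty (C.homology i ≅ ((𝒯.T F).rightDerived i).obj G) := by
  cases i with
  | zero =>
    obtain ⟨e0⟩ := 𝒯.homology_zero G R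
    let e1 : C.sc 0 ≅ C.sc' 0 0 1 := C.isoSc' 0 0 1 (by simp) (by simp)
    let e2 : C.sc' 0 0 1 ≅ ShortComplex.mk (0 : (𝒯.T (R.Lx 0)).obj G ⟶ (𝒯.T (R.Lx 0)).obj G)
        ((𝒯.t (R.dx 0)).app G) zero_comp :=
      ShortComplex.isoMk (e 0) (e 0) (e 1)
        (by
          show (e 0).hom ≫ 0 = C.d 0 0 ≫ (e 0).hom
          rw [C.shape 0 0 (by simp), zero_comp, comp_zero])
        (hC 0).symm
    exact ⟨ShortComplex.homologyMapIso (e1 ≪≫ e2) ≪≫ e0⟩
  | succ m =>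
    obtain ⟨e0⟩ := 𝒯.homology_succ G m R acyc
    let e1 : C.sc (m + 1) ≅ C.sc' m (m + 1) (m + 1 + 1) :=
      C.isoSc' m (m + 1) (m + 1 + 1) (by simp) (by simp)
    let e2 : C.sc' m (m + 1) (m + 1 + 1) ≅
        ShortComplex.mk ((𝒯.t (R.dx m)).app G) ((𝒯.t (R.dx (m + 1))).app G)
          (𝒯.w _ _ (R.hd m) G) :=
      ShortComplex.isoMk (e m) (e (m + 1)) (e (m + 1 + 1)) (hC m).symm (hC (m + 1)).symm
    exact ⟨ShortComplex.homologyMapIso (e1 ≪≫ e2) ≪≫ e0⟩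

end ContraFam

end Fam

end Groth.Agent.Helper24.RelExt
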