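import Mathlib
import Groth.Agent.Lib.Helper24.RelExt9

/-!
# Existence of resolutions by objects of a generating class (helper24)

In an abelian category, let `P`, `Q` be classes of objects such that every object of `P` is a
quotient of an object of `Q`, `Q ⊆ P`, and `P` is stable under kernels.  Then every object of
`P` has a (left) resolution by objects of `Q`.
-/

set_option autoImplicit false
universe v u
open CategoryTheory CategoryTheory.Limits

namespace Groth.Agent.Helper24.CohExt

open Groth.Agent.Helper24.RelExt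

variable {A : Type u} [Category.{v} A] [Abelian A]

/-- exactness of `L' ↠ ker g ↪ L ⟶ K` at `L` -/
lemma exact_epi_kernel {L' L K : A} (g : L ⟶ K) (p : L' ⟶ kernel g) (hp : Epi p)
    (w : (p ≫ kernel.ι g) ≫ g = 0) :
    (ShortComplex.mk (p ≫ kernel.ι g) g w).Exact := by
  have h0 : (ShortComplex.mk (kernel.ι g) g (kernel.condition g)).Exact :=
    ShortComplex.exact_of_f_is_kernel _ (kernelIsKernel g)
  let φ : ShortComplex.mk (p ≫ kernel.ι g) g w ⟶
      ShortComplex.mk (kernel.ι g) g (kernel.condition g) :=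
    { τ₁ := p
      τ₂ := 𝟙 _
      τ₃ := 𝟙 _
      comm₁₂ := by simp
      comm₂₃ := by simp }
  haveI : Epi φ.τ₁ := hp
  haveI : IsIso φ.τ₂ := inferInstanceAs (IsIso (𝟙 _))
  haveI : Mono φ.τ₃ := inferInstanceAs (Mono (𝟙 _))
  exact (ShortComplex.exact_iff_of_epi_of_isIso_of_mono φ).2 h0

/-- exactness of `L' ↠ ker g ↪ L ⟶ K ↪ Z` at `L` -/
lemma exact_epi_kernel_mono {L' L K Z : A} (g : L ⟶ K) (p : L' ⟶ kernel g) (hp : Epi p)
    (m : K ⟶ Z) (hm : Mono m) (w : (p ≫ kernel.ι g) ≫ (g ≫ m) = 0) :
    (ShortComplex.mk (p ≫ kernel.ι g) (g ≫ m) w).Exact := by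
  have w' : (p ≫ kernel.ι g) ≫ g = 0 := by
    rw [Category.assoc, kernel.condition, comp_zero]
  have h0 := exact_epi_kernel g p hp w'
  let ψ : ShortComplex.mk (p ≫ kernel.ι g) g w' ⟶ ShortComplex.mk (p ≫ kernel.ι g) (g ≫ m) w :=
    { τ₁ := 𝟙 _
      τ₂ := 𝟙 _
      τ₃ := m
      comm₁₂ := by simp
      comm₂₃ := by simp }
  haveI : Epi ψ.τ₁ := inferInstanceAs (Epi (𝟙 _))
  haveI : IsIso ψ.τ₂ := inferInstanceAs (IsIso (𝟙 _))
  haveI : Mono ψ.τ₃ := hm
  exact (ShortComplex.exact_iff_of_epi_of_isIso_of_mono ψ).1 h0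

variable (P Q : A → Prop)

/-- one stage of the construction of a resolution -/
structure Stage where
  /-- the object being covered -/
  K : A
  /-- the covering object -/
  L : A
  hK : P K
  /-- the covering map -/
  π : L ⟶ K
  hQ : Q L
  hπ : Epi π

variable {P Q}
variable (hQP : ∀ L, Q L → P L)
  (hepi : ∀ M, P M → ∃ (L : A) (π : L ⟶ M), Q L ∧ Epi π)
  (hker : ∀ {M N : A} (f : M ⟶ N), P M → P N → P (kernel f))

/-- the stage covering a given object -/
noncomputable def Stage.of (K : A) (hK : P K) : Stage P Q where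
  K := K
  L := (hepi K hK).choose
  hK := hK
  π := (hepi K hK).choose_spec.choose
  hQ := (hepi K hK).choose_spec.choose_spec.1
  hπ := (hepi K hK).choose_spec.choose_spec.2

include hQP hker in
/-- the next stage: cover the kernel -/
noncomputable def Stage.next (s : Stage P Q) : Stage P Q :=
  Stage.of hepi (kernel s.π) (hker s.π (hQP s.L s.hQ) s.hK)

/-- the sequence of stages -/
noncomputable def stages (F : A) (hF : P F) : ℕ → Stage P Q
  | 0 => Stage.of hepi F hF
  | (j + 1) => Stage.next hQP hepi hker (stages F hF j)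

lemma stages_succ_K (F : A) (hF : P F) (j : ℕ) :
    (stages hQP hepi hker F hF (j + 1)).K = kernel (stages hQP hepi hker F hF j).π := rfl

/-- the differential of the resolution -/
noncomputable def dxOf (F : A) (hF : P F) (j : ℕ) :
    (stages hQP hepi hker F hF (j + 1)).L ⟶ (stages hQP hepi hker F hF j).L :=
  (show (stages hQP hepi hker F hF (j + 1)).L ⟶ kernel (stages hQP hepi hker F hF j).π from
    (stages hQP hepi hker F hF (j + 1)).π) ≫ kernel.ι (stages hQP hepi hker F hF j).π

include hQP hepi hker in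
/-- every object of `P` has a resolution by objects of `Q` -/
theorem exists_resData (F : A) (hF : P F) : ∃ R : ResData F, ∀ j, Q (R.Lx j) := by
  let s := stages hQP hepi hker F hF
  let p : ∀ j, (s (j + 1)).L ⟶ kernel (s j).π := fun j => (s (j + 1)).π
  haveI hp : ∀ j, Epi (p j) := fun j => (s (j + 1)).hπ
  have hdx : ∀ j, dxOf hQP hepi hker F hF j = p j ≫ kernel.ι (s j).π := fun j => rfl
  have hdπ : ∀ j, dxOf hQP hepi hker F hF j ≫ (s j).π = 0 := by
    intro j
    rw [hdx, Category.assoc, kernel.condition, comp_zero]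
  refine ⟨{ Lx := fun j => (s j).L
            dx := fun j => dxOf hQP hepi hker F hF j
            π := (show (s 0).L ⟶ F from (s 0).π)
            epi := (s 0).hπ
            hπ := hdπ 0
            hex0 := ?_
            hd := ?_
            hex := ?_ }, fun j => (s j).hQ⟩
  · have w : (p 0 ≫ kernel.ι (s 0).π) ≫ (s 0).π = 0 := by
      rw [Category.assoc, kernel.condition, comp_zero]
    exact exact_epi_kernel (s 0).π (p 0) (hp 0) w
  · intro j
    rw [hdx (j + 1), Category.assoc]
    have : kernel.ι (s (j + 1)).π ≫ dxOf hQP hepi hker F hF j = 0 := by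
      rw [hdx j]
      have h2 : kernel.ι (s (j + 1)).π ≫ p j = 0 := kernel.condition (s (j + 1)).π
      rw [← Category.assoc, h2, zero_comp]
    rw [this, comp_zero]
  · intro j
    have w : (p (j + 1) ≫ kernel.ι (s (j + 1)).π) ≫ ((s (j + 1)).π ≫ kernel.ι (s j).π) = 0 := by
      rw [Category.assoc, kernel.condition_assoc, zero_comp, comp_zero]
    exact exact_epi_kernel_mono (s (j + 1)).π (p (j + 1)) (hp (j + 1)) (kernel.ι (s j).π)
      equalizer.ι_mono w

end Groth.Agent.Helper24.CohExt
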