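import Mathlib

/-!
# An abstract Ext-vanishing lemma

`A` abelian with enough injectives, `B : A`, `P` a class of objects with
(i) every object is a quotient of a member of `P`;
(ii) kernels of epimorphisms between members of `P` are in `P`;
(iii) for a short exact sequence ending in a member of `P`, every map `S.X₁ ⟶ B` extends to `S.X₂`.
Then `Ext^n(P, B) = 0` for `n ≥ 1` and `P` in the class.
-/

universe w v u
set_option linter.unusedSectionVars false
set_option linter.style.haveILetI false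
open CategoryTheory CategoryTheory.Limits

namespace Groth.Agent.Helper24.ExtVanish

variable {A : Type u} [Category.{v} A] [Abelian A] [HasExt.{w} A]
open Abelian

lemma mk₀_comp_comp {X' X Y Z : A} (π : X' ⟶ X) {a b c : ℕ} (α : Ext X Y a) (β : Ext Y Z b)
    (h : a + b = c) :
    (Ext.mk₀ π).comp (α.comp β h) (zero_add c) = ((Ext.mk₀ π).comp α (zero_add a)).comp β h :=
  (Ext.comp_assoc (Ext.mk₀ π) α β (zero_add a) h (by lia)).symm

/-- the short exact sequence `Y → I → I/Y` -/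
noncomputable def injSES [EnoughInjectives A] (Y : A) : ShortComplex A :=
  ShortComplex.mk (Injective.ι Y) (cokernel.π (Injective.ι Y)) (cokernel.condition _)

lemma injSES_shortExact [EnoughInjectives A] (Y : A) : (injSES Y).ShortExact :=
  { exact := ShortComplex.exact_cokernel (Injective.ι Y)
    mono_f := inferInstanceAs (Mono (Injective.ι Y))
    epi_g := inferInstanceAs (Epi (cokernel.π (Injective.ι Y))) }

/-- effacement step along a short exact sequence with injective middle term -/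
lemma exists_epi_comp_eq_zero_aux {S : ShortComplex A} (hS : S.ShortExact) [Injective S.X₂]
    (X : A) (n : ℕ)
    (IH : n ≠ 0 → ∀ ζ : Ext X S.X₃ n, ∃ (X' : A) (π : X' ⟶ X), Epi π ∧
      (Ext.mk₀ π).comp ζ (zero_add _) = 0)
    (ξ : Ext X S.X₁ (n + 1)) :
    ∃ (X' : A) (π : X' ⟶ X), Epi π ∧ (Ext.mk₀ π).comp ξ (zero_add _) = 0 := by
  have h0 : ξ.comp (Ext.mk₀ S.f) (add_zero (n+1)) = 0 :=
    @Subsingleton.elim _ (Ext.subsingleton_of_injective (X := X) (I := S.X₂) n) _ _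
  obtain ⟨ζ, hζ⟩ := Ext.covariant_sequence_exact₁ X hS ξ h0 (n₀ := n) rfl
  by_cases hn : n = 0
  · subst hn
    obtain ⟨f, rfl⟩ := (Ext.mk₀_bijective X S.X₃).2 ζ
    haveI : Epi S.g := hS.epi_g
    refine ⟨pullback f S.g, pullback.fst f S.g, inferInstance, ?_⟩
    rw [← hζ, mk₀_comp_comp, Ext.mk₀_comp_mk₀, pullback.condition, ← Ext.mk₀_comp_mk₀,
      ← mk₀_comp_comp, hS.comp_extClass, Ext.comp_zero]
  · obtain ⟨X', π, hπ, h⟩ := IH hn ζ
    refine ⟨X', π, hπ, ?_⟩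
    rw [← hζ, mk₀_comp_comp, h, Ext.zero_comp]

/-- every positive-degree Ext class is killed by pulling back along some epimorphism -/
theorem exists_epi_comp_eq_zero [EnoughInjectives A] : ∀ (n : ℕ) {X Y : A} (ξ : Ext X Y (n + 1)),
    ∃ (X' : A) (π : X' ⟶ X), Epi π ∧ (Ext.mk₀ π).comp ξ (zero_add _) = 0
  | 0, X, Y, ξ => by
    haveI : Injective (injSES Y).X₂ := Injective.injective_under Y
    exact exists_epi_comp_eq_zero_aux (injSES_shortExact Y) X 0 (fun h => absurd rfl h) ξ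
  | n+1, X, Y, ξ => by
    haveI : Injective (injSES Y).X₂ := Injective.injective_under Y
    exact exists_epi_comp_eq_zero_aux (injSES_shortExact Y) X (n+1)
      (fun _ ζ => exists_epi_comp_eq_zero n ζ) ξ

/-- the short exact sequence `ker p → Q' → Q` of an epimorphism -/
noncomputable def kerSES {Q' Q : A} (p : Q' ⟶ Q) : ShortComplex A :=
  ShortComplex.mk (kernel.ι p) p (kernel.condition _)

lemma kerSES_shortExact {Q' Q : A} (p : Q' ⟶ Q) [Epi p] : (kerSES p).ShortExact :=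
  { exact := ShortComplex.exact_kernel p
    mono_f := inferInstanceAs (Mono (kernel.ι p))
    epi_g := inferInstanceAs (Epi p) }

variable [EnoughInjectives A] (B : A) (P : ObjectProperty A)
  (h1 : ∀ X : A, ∃ (Q : A) (π : Q ⟶ X), P Q ∧ Epi π)
  (h2 : ∀ (S : ShortComplex A), S.ShortExact → P S.X₂ → P S.X₃ → P S.X₁)
  (h3 : ∀ (S : ShortComplex A), S.ShortExact → P S.X₃ → ∀ η : S.X₁ ⟶ B, ∃ ζ : S.X₂ ⟶ B, S.f ≫ ζ = η)

include h1 h2 in
/-- reduction step: a class on `Q ∈ P` comes from the kernel of an epi `Q' ↠ Q`, `Q' ∈ P` -/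
lemma exists_ses (n : ℕ) (Q : A) (hQ : P Q) (ξ : Ext Q B (n + 1)) :
    ∃ (S : ShortComplex A) (hS : S.ShortExact) (e : S.X₃ = Q), P S.X₁ ∧ P S.X₃ ∧
      ∃ η : Ext S.X₁ B n, hS.extClass.comp η (add_comm 1 n) = e ▸ ξ := by
  obtain ⟨X', π, hπ, h⟩ := exists_epi_comp_eq_zero n ξ
  obtain ⟨Q', ρ, hQ', hρ⟩ := h1 X'
  have hp : Epi (ρ ≫ π) := epi_comp ρ π
  have hS := kerSES_shortExact (ρ ≫ π)
  have hK : P (kerSES (ρ ≫ π)).X₁ := h2 _ hS hQ' hQ
  have h' : (Ext.mk₀ (kerSES (ρ ≫ π)).g).comp ξ (zero_add _) = 0 := by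
    show (Ext.mk₀ (ρ ≫ π)).comp ξ (zero_add _) = 0
    rw [← Ext.mk₀_comp_mk₀,
      Ext.comp_assoc (Ext.mk₀ ρ) (Ext.mk₀ π) ξ (zero_add 0) (zero_add _) (by lia), h, Ext.comp_zero]
  obtain ⟨η, hη⟩ := Ext.contravariant_sequence_exact₃ hS B ξ h' (n₀ := n) (add_comm 1 n)
  exact ⟨_, hS, rfl, hK, hQ, η, hη⟩

include h1 h2 h3 in
theorem ext_eq_zero : ∀ (n : ℕ) (Q : A), P Q → ∀ ξ : Ext Q B (n + 1), ξ = 0 := by
  intro n
  induction n with
  | zero =>
    intro Q hQ ξ
    obtain ⟨S, hS, e, hK, hQ', η, hη⟩ := exists_ses B P h1 h2 0 Q hQ ξ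
    subst e
    obtain ⟨f, rfl⟩ := (Ext.mk₀_bijective _ _).2 η
    obtain ⟨ζ, hζ⟩ := h3 S hS hQ' f
    have : ξ = hS.extClass.comp (Ext.mk₀ f) (add_comm 1 0) := hη.symm
    rw [this, ← hζ, ← Ext.mk₀_comp_mk₀]
    exact hS.extClass_comp_assoc (Ext.mk₀ ζ)
  | succ n ih =>
    intro Q hQ ξ
    obtain ⟨S, hS, e, hK, hQ', η, hη⟩ := exists_ses B P h1 h2 (n+1) Q hQ ξ
    subst e
    have : ξ = hS.extClass.comp η (add_comm 1 (n+1)) := hη.symm
    rw [this, ih S.X₁ hK η, Ext.comp_zero]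

end Groth.Agent.Helper24.ExtVanish
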