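import Mathlib
import Groth.Prelude.Def_ModSite
import Groth.Agent.Lib.Helper17.MT24

/-!
# The free `O`-module presheaf `U ↦ O(U) ⊗_ℤ A(U)` on an abelian presheaf `A`
-/

open CategoryTheory Limits MonoidalCategory Opposite TensorProduct

namespace Groth.Agent.Helper24.FrMod

universe u
open Groth.Agent.Helper17.MT

variable {C : Type u} [SmallCategory C] {J : GrothendieckTopology C} (O : Sheaf J CommRingCat.{u})

/-- sections of `FrP A` -/
abbrev FS (A : Cᵒᵖ ⥤ Ab.{u}) (W : Cᵒᵖ) : Type u := (O.obj.obj W) ⊗[ℤ] (A.obj W)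

/-- restriction maps -/
noncomputable def frMap (A : Cᵒᵖ ⥤ Ab.{u}) {W W' : Cᵒᵖ} (g : W ⟶ W') : FS O A W →+ FS O A W' :=
  (TensorProduct.map ((O.obj.map g).hom.toAddMonoidHom.toIntLinearMap)
    ((A.map g).hom.toIntLinearMap)).toAddMonoidHom

theorem frMap_tmul (A : Cᵒᵖ ⥤ Ab.{u}) {W W' : Cᵒᵖ} (g : W ⟶ W') (a : O.obj.obj W) (x : A.obj W) :
    frMap O A g (a ⊗ₜ x) = (O.obj.map g a) ⊗ₜ (A.map g x) := rfl

/-- the abelian presheaf underlying `FrP A` -/
noncomputable def frAb (A : Cᵒᵖ ⥤ Ab.{u}) : Cᵒᵖ ⥤ Ab.{u} where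
  obj W := AddCommGrpCat.of (FS O A W)
  map g := AddCommGrpCat.ofHom (frMap O A g)
  map_id W := by
    ext m
    change frMap O A (𝟙 W) m = m
    induction m using TensorProduct.induction_on with
    | zero => rw [map_zero]
    | tmul a x =>
      rw [frMap_tmul, O.obj.map_id, A.map_id]
      rfl
    | add a b ha hb => rw [map_add, ha, hb]
  map_comp {W W' W''} g g' := by
    ext m
    change frMap O A (g ≫ g') m = frMap O A g' (frMap O A g m)
    induction m using TensorProduct.induction_on with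
    | zero => rw [map_zero, map_zero, map_zero]
    | tmul a x =>
      rw [frMap_tmul, frMap_tmul, frMap_tmul, O.obj.map_comp, A.map_comp]
      rfl
    | add a b ha hb => rw [map_add, map_add, map_add, ha, hb]

noncomputable instance frAbModule (A : Cᵒᵖ ⥤ Ab.{u}) (W : Cᵒᵖ) :
    Module ((O.obj ⋙ forget₂ CommRingCat.{u} RingCat.{u}).obj W) ((frAb O A).obj W) :=
  inferInstanceAs (Module (O.obj.obj W) ((O.obj.obj W) ⊗[ℤ] (A.obj W)))

theorem frMap_smul (A : Cᵒᵖ ⥤ Ab.{u}) {W W' : Cᵒᵖ} (g : W ⟶ W')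
    (r : O.obj.obj W) (m : FS O A W) :
    frMap O A g (r • m) = (O.obj.map g r : O.obj.obj W') • frMap O A g m := by
  induction m using TensorProduct.induction_on with
  | zero => rw [smul_zero, map_zero, smul_zero]
  | tmul a x =>
    rw [TensorProduct.smul_tmul', frMap_tmul, frMap_tmul, TensorProduct.smul_tmul', smul_eq_mul,
      smul_eq_mul, map_mul]
  | add a b ha hb =>
    rw [smul_add, map_add, map_add, smul_add, ha, hb]

theorem frAb_map_smul (A : Cᵒᵖ ⥤ Ab.{u}) ⦃W W' : Cᵒᵖ⦄ (g : W ⟶ W')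
    (r : (O.obj ⋙ forget₂ CommRingCat.{u} RingCat.{u}).obj W) (m : (frAb O A).obj W) :
    (frAb O A).map g (r • m) =
      (O.obj ⋙ forget₂ CommRingCat.{u} RingCat.{u}).map g r • (frAb O A).map g m :=
  frMap_smul O A g r m

/-- the presheaf of modules `U ↦ O(U) ⊗_ℤ A(U)` -/
noncomputable def frObj (A : Cᵒᵖ ⥤ Ab.{u}) : PSh O :=
  PresheafOfModules.ofPresheaf (frAb O A) (frAb_map_smul O A)

variable {O}

/-- functoriality in `A`, on sections -/
noncomputable def frHomMap {A A' : Cᵒᵖ ⥤ Ab.{u}} (φ : A ⟶ A') (W : Cᵒᵖ) : FS O A W →+ FS O A' W :=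
  (TensorProduct.map (LinearMap.id : (O.obj.obj W) →ₗ[ℤ] (O.obj.obj W))
    ((φ.app W).hom.toIntLinearMap)).toAddMonoidHom

theorem frHomMap_tmul {A A' : Cᵒᵖ ⥤ Ab.{u}} (φ : A ⟶ A') (W : Cᵒᵖ) (a : O.obj.obj W)
    (x : A.obj W) : frHomMap φ W (a ⊗ₜ x) = a ⊗ₜ (φ.app W x) := rfl

theorem frHomMap_naturality {A A' : Cᵒᵖ ⥤ Ab.{u}} (φ : A ⟶ A') {W W' : Cᵒᵖ} (g : W ⟶ W')
    (m : FS O A W) : frHomMap φ W' (frMap O A g m) = frMap O A' g (frHomMap φ W m) := by
  induction m using TensorProduct.induction_on with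
  | zero => simp
  | tmul a x =>
    rw [frMap_tmul, frHomMap_tmul, frHomMap_tmul, frMap_tmul]
    congr 1
    exact CategoryTheory.congr_fun (φ.naturality g) x
  | add a b ha hb => rw [map_add, map_add, map_add, map_add, ha, hb]

theorem frHomMap_smul {A A' : Cᵒᵖ ⥤ Ab.{u}} (φ : A ⟶ A') (W : Cᵒᵖ) (r : O.obj.obj W)
    (m : FS O A W) : frHomMap φ W (r • m) = r • frHomMap φ W m := by
  induction m using TensorProduct.induction_on with
  | zero => rw [smul_zero, map_zero, smul_zero]
  | tmul a x =>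
    rw [TensorProduct.smul_tmul', frHomMap_tmul, frHomMap_tmul, TensorProduct.smul_tmul']
  | add a b ha hb => rw [smul_add, map_add, map_add, smul_add, ha, hb]

variable (O)

/-- the functor `A ↦ (U ↦ O(U) ⊗_ℤ A(U))` -/
noncomputable def frP : (Cᵒᵖ ⥤ Ab.{u}) ⥤ PSh O where
  obj A := frObj O A
  map {A A'} φ := PresheafOfModules.homMk
    (M₁ := frObj O A) (M₂ := frObj O A')
    { app := fun W => AddCommGrpCat.ofHom (frHomMap φ W)
      naturality := fun W W' g => by
        ext m
        exact frHomMap_naturality φ g m }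
    (fun W r m => frHomMap_smul φ W r m)
  map_id A := by
    apply (PresheafOfModules.toPresheaf _).map_injective
    ext W m
    change frHomMap (𝟙 A) W m = m
    induction m using TensorProduct.induction_on with
    | zero => simp
    | tmul a x => rw [frHomMap_tmul]; rfl
    | add a b ha hb => rw [map_add, ha, hb]
  map_comp {A A' A''} α β := by
    apply (PresheafOfModules.toPresheaf _).map_injective
    ext W m
    change frHomMap (α ≫ β) W m = frHomMap β W (frHomMap α W m)
    induction m using TensorProduct.induction_on with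
    | zero => simp
    | tmul a x => rw [frHomMap_tmul, frHomMap_tmul, frHomMap_tmul]; rfl
    | add a b ha hb => rw [map_add, map_add, map_add, ha, hb]

variable {O}

noncomputable instance mMod (M : PSh O) (W : Cᵒᵖ) : Module (O.obj.obj W) (M.presheaf.obj W) :=
  (M.obj W).isModule

/-- restriction in a presheaf of modules is semilinear -/
theorem presheaf_map_smul (M : PSh O) {W W' : Cᵒᵖ} (g : W ⟶ W') (r : O.obj.obj W)
    (y : M.presheaf.obj W) :
    M.presheaf.map g (r • y) = (O.obj.map g r : O.obj.obj W') • M.presheaf.map g y :=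
  PresheafOfModules.map_smul M g r y

/-- underlying additive map on sections of a morphism out of `frObj A` -/
noncomputable def appAdd {A : Cᵒᵖ ⥤ Ab.{u}} {M : PSh O} (f : frObj O A ⟶ M) (W : Cᵒᵖ) :
    FS O A W →+ M.presheaf.obj W :=
  (((PresheafOfModules.toPresheaf _).map f).app W).hom

theorem appAdd_naturality {A : Cᵒᵖ ⥤ Ab.{u}} {M : PSh O} (f : frObj O A ⟶ M) {W W' : Cᵒᵖ}
    (g : W ⟶ W') (m : FS O A W) :
    appAdd f W' (frMap O A g m) = M.presheaf.map g (appAdd f W m) :=
  CategoryTheory.congr_fun (((PresheafOfModules.toPresheaf _).map f).naturality g) m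

theorem appAdd_smul {A : Cᵒᵖ ⥤ Ab.{u}} {M : PSh O} (f : frObj O A ⟶ M) (W : Cᵒᵖ)
    (r : O.obj.obj W) (m : FS O A W) : appAdd f W (r • m) = r • appAdd f W m :=
  (f.app W).hom.map_smul r m

/-- `f ↦ (x ↦ f (1 ⊗ x))` -/
noncomputable def adjTo {A : Cᵒᵖ ⥤ Ab.{u}} {M : PSh O} (f : frObj O A ⟶ M) : A ⟶ M.presheaf where
  app W := AddCommGrpCat.ofHom
    { toFun := fun x => appAdd f W ((1 : O.obj.obj W) ⊗ₜ x)
      map_zero' := by rw [TensorProduct.tmul_zero, map_zero]; rfl
      map_add' := fun x y => by rw [TensorProduct.tmul_add, map_add]; rfl }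
  naturality W W' g := by
    ext x
    change appAdd f W' ((1 : O.obj.obj W') ⊗ₜ (A.map g x)) =
      M.presheaf.map g (appAdd f W ((1 : O.obj.obj W) ⊗ₜ x))
    rw [← appAdd_naturality, frMap_tmul, map_one]

theorem adjTo_app {A : Cᵒᵖ ⥤ Ab.{u}} {M : PSh O} (f : frObj O A ⟶ M) (W : Cᵒᵖ) (x : A.obj W) :
    (adjTo f).app W x = appAdd f W ((1 : O.obj.obj W) ⊗ₜ x) := rfl

/-- `a ⊗ x ↦ a • h x` on sections -/
noncomputable def adjFromAdd {A : Cᵒᵖ ⥤ Ab.{u}} {M : PSh O} (h : A ⟶ M.presheaf) (W : Cᵒᵖ) :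
    FS O A W →+ M.presheaf.obj W :=
  TensorProduct.liftAddHom
    { toFun := fun a => (DistribSMul.toAddMonoidHom (M.presheaf.obj W) a).comp (h.app W).hom
      map_zero' := by
        ext x
        exact zero_smul _ _
      map_add' := fun a b => by
        ext x
        exact add_smul a b _ }
    (fun r a x => by
      change (r • a) • (h.app W x) = a • (h.app W (r • x))
      rw [map_zsmul, smul_assoc, smul_comm])

theorem adjFromAdd_tmul {A : Cᵒᵖ ⥤ Ab.{u}} {M : PSh O} (h : A ⟶ M.presheaf) (W : Cᵒᵖ)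
    (a : O.obj.obj W) (x : A.obj W) : adjFromAdd h W (a ⊗ₜ x) = a • (h.app W x) := rfl

theorem adjFromAdd_naturality {A : Cᵒᵖ ⥤ Ab.{u}} {M : PSh O} (h : A ⟶ M.presheaf) {W W' : Cᵒᵖ}
    (g : W ⟶ W') (m : FS O A W) :
    adjFromAdd h W' (frMap O A g m) = M.presheaf.map g (adjFromAdd h W m) := by
  induction m using TensorProduct.induction_on with
  | zero => rw [map_zero, map_zero, map_zero, map_zero]
  | tmul a x =>
    rw [frMap_tmul, adjFromAdd_tmul, adjFromAdd_tmul, presheaf_map_smul]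
    congr 1
    exact CategoryTheory.congr_fun (h.naturality g) x
  | add a b ha hb => rw [map_add, map_add, map_add, map_add, ha, hb]

theorem adjFromAdd_smul {A : Cᵒᵖ ⥤ Ab.{u}} {M : PSh O} (h : A ⟶ M.presheaf) (W : Cᵒᵖ)
    (r : O.obj.obj W) (m : FS O A W) : adjFromAdd h W (r • m) = r • adjFromAdd h W m := by
  induction m using TensorProduct.induction_on with
  | zero => rw [smul_zero, map_zero, smul_zero]
  | tmul a x =>
    rw [TensorProduct.smul_tmul', adjFromAdd_tmul, adjFromAdd_tmul, smul_eq_mul, mul_smul]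
  | add a b ha hb => rw [smul_add, map_add, map_add, smul_add, ha, hb]

/-- `h ↦ (a ⊗ x ↦ a • h x)` -/
noncomputable def adjFrom {A : Cᵒᵖ ⥤ Ab.{u}} {M : PSh O} (h : A ⟶ M.presheaf) : frObj O A ⟶ M :=
  PresheafOfModules.homMk (M₁ := frObj O A) (M₂ := M)
    { app := fun W => AddCommGrpCat.ofHom (adjFromAdd h W)
      naturality := fun W W' g => by
        ext m
        exact adjFromAdd_naturality h g m }
    (fun W r m => adjFromAdd_smul h W r m)

theorem appAdd_adjFrom {A : Cᵒᵖ ⥤ Ab.{u}} {M : PSh O} (h : A ⟶ M.presheaf) (W : Cᵒᵖ) :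
    appAdd (adjFrom h) W = adjFromAdd h W := rfl

theorem adjTo_adjFrom {A : Cᵒᵖ ⥤ Ab.{u}} {M : PSh O} (h : A ⟶ M.presheaf) :
    adjTo (adjFrom h) = h := by
  ext W x
  rw [adjTo_app, appAdd_adjFrom, adjFromAdd_tmul, one_smul]

theorem adjFrom_adjTo {A : Cᵒᵖ ⥤ Ab.{u}} {M : PSh O} (f : frObj O A ⟶ M) :
    adjFrom (adjTo f) = f := by
  apply (PresheafOfModules.toPresheaf _).map_injective
  ext W m
  change adjFromAdd (adjTo f) W m = appAdd f W m
  induction m using TensorProduct.induction_on with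
  | zero => rw [map_zero, map_zero]
  | tmul a x =>
    rw [adjFromAdd_tmul, adjTo_app, ← appAdd_smul, TensorProduct.smul_tmul', smul_eq_mul, mul_one]
  | add a b ha hb => rw [map_add, map_add, ha, hb]

variable (O)

/-- `frP ⊣ toPresheaf` -/
noncomputable def frPAdj : frP O ⊣ PresheafOfModules.toPresheaf
    (O.obj ⋙ forget₂ CommRingCat.{u} RingCat.{u}) :=
  Adjunction.mkOfHomEquiv
    { homEquiv := fun A M =>
        { toFun := fun f => adjTo f
          invFun := fun h => adjFrom h
          left_inv := fun f => adjFrom_adjTo f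
          right_inv := fun h => adjTo_adjFrom h }
      homEquiv_naturality_left_symm := fun {A' A M} φ h => by
        apply (PresheafOfModules.toPresheaf _).map_injective
        ext W m
        change adjFromAdd (φ ≫ h) W m = adjFromAdd h W (frHomMap φ W m)
        induction m using TensorProduct.induction_on with
        | zero => rw [map_zero, map_zero, map_zero]
        | tmul a x => rfl
        | add a b ha hb => rw [map_add, map_add, map_add, ha, hb]
      homEquiv_naturality_right := fun {A M M'} f ψ => by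
        ext W x
        rfl }

end Groth.Agent.Helper24.FrMod
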