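import Mathlib
import Groth.Prelude.Def_ModSite
import Groth.Agent.Lib.Helper17.MT24
import Groth.Agent.Lib.Helper17.MT16
import Groth.Agent.Lib.Helper24.FrMod1

/-!
# The free `O`-module on an abelian sheaf, `Fr ⊣ toAb`, and its exactness on torsion-free sheaves
-/

open CategoryTheory Limits MonoidalCategory Opposite TensorProduct

namespace Groth.Agent.Helper24.FrMod

universe u
open Groth.Agent.Helper17.MT

variable {C : Type u} [SmallCategory C] {J : GrothendieckTopology C} (O : Sheaf J CommRingCat.{u})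

/-- the free `O`-module on an abelian sheaf -/
noncomputable def Fr : Sheaf J Ab.{u} ⥤ ModSite.Mod O :=
  sheafToPresheaf J Ab.{u} ⋙ frP O ⋙ shf O

/-- the underlying abelian sheaf -/
noncomputable abbrev toAbF : ModSite.Mod O ⥤ Sheaf J Ab.{u} :=
  SheafOfModules.toSheaf (ModSite.ringSh O)

/-- `Fr ⊣ toAb` -/
noncomputable def frAdj : Fr O ⊣ toAbF O :=
  ((frPAdj O).comp (shfAdj O)).restrictFullyFaithful
    (iC := sheafToPresheaf J Ab.{u}) (iD := 𝟭 (ModSite.Mod O))
    (fullyFaithfulSheafToPresheaf J Ab.{u}) (Functor.FullyFaithful.id _)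
    (NatIso.ofComponents (fun _ => Iso.refl _))
    (NatIso.ofComponents (fun _ => Iso.refl _))

instance : (Fr O).IsLeftAdjoint := (frAdj O).isLeftAdjoint

theorem Fr_map {A A' : Sheaf J Ab.{u}} (φ : A ⟶ A') :
    (Fr O).map φ = (shf O).map ((frP O).map φ.hom) := rfl

section TF

/-- torsion-free abelian sheaves -/
def TF (P : Sheaf J Ab.{u}) : Prop := ∀ n : ℕ, n ≠ 0 → Mono (n • 𝟙 P)

variable {O}

theorem injective_app_of_mono {P Q : Sheaf J Ab.{u}} (f : P ⟶ Q) [Mono f] (W : Cᵒᵖ) :
    Function.Injective (f.hom.app W).hom := by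
  have h1 : Mono ((sheafToPresheaf J Ab.{u}).map f) := inferInstance
  have h2 : Mono (((sheafToPresheaf J Ab.{u}).map f).app W) :=
    (NatTrans.mono_iff_mono_app _).1 h1 W
  exact (AddCommGrpCat.mono_iff_injective _).1 h2

theorem nsmul_id_app (P : Sheaf J Ab.{u}) (n : ℕ) (W : Cᵒᵖ) (x : P.obj.obj W) :
    ((n • 𝟙 P : P ⟶ P).hom.app W).hom x = n • x := by
  induction n with
  | zero => simp
  | succ n ih =>
    rw [succ_nsmul, succ_nsmul, ← ih]
    rfl

theorem tf_nsmul_injective {P : Sheaf J Ab.{u}} (hP : TF P) (W : Cᵒᵖ) (n : ℕ) (hn : n ≠ 0) :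
    Function.Injective (fun x : P.obj.obj W => n • x) := by
  have := hP n hn
  intro x y h
  apply injective_app_of_mono (n • 𝟙 P) W
  rw [nsmul_id_app, nsmul_id_app]
  exact h

theorem tf_sections {P : Sheaf J Ab.{u}} (hP : TF P) (W : Cᵒᵖ) :
    Module.IsTorsionFree ℤ (P.obj.obj W) where
  isSMulRegular r hr := by
    have hr0 : r ≠ 0 := hr.ne_zero
    intro x y h
    have h0 : r • x = r • y := h
    have h' : r • (x - y) = 0 := by rw [smul_sub, h0, sub_self]
    have h'' : r.natAbs • (x - y) = 0 := by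
      rcases Int.natAbs_eq r with e | e
      · rw [e] at h'
        simpa using h'
      · rw [e] at h'
        simpa using h'
    have := tf_nsmul_injective hP W r.natAbs (Int.natAbs_ne_zero.2 hr0)
      (show r.natAbs • (x - y) = r.natAbs • (0 : P.obj.obj W) by rw [h'', smul_zero])
    exact sub_eq_zero.1 this

theorem tf_of_mono {K P : Sheaf J Ab.{u}} (ι : K ⟶ P) [Mono ι] (hP : TF P) : TF K := by
  intro n hn
  have := hP n hn
  have e : (n • 𝟙 K) ≫ ι = ι ≫ (n • 𝟙 P) := by
    rw [Preadditive.nsmul_comp, Preadditive.comp_nsmul, Category.id_comp, Category.comp_id]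
  have : Mono ((n • 𝟙 K) ≫ ι) := by
    rw [e]
    exact mono_comp _ _
  exact mono_of_mono _ ι

/-- sections are left exact -/
theorem exact_sections {S : ShortComplex (Sheaf J Ab.{u})} (hS : S.ShortExact) (W : Cᵒᵖ)
    (y : S.X₂.obj.obj W) (hy : (S.g.hom.app W).hom y = 0) :
    ∃ x : S.X₁.obj.obj W, (S.f.hom.app W).hom x = y := by
  have hex : (S.map (sheafToPresheaf J Ab.{u} ⋙ (evaluation _ _).obj W)).Exact :=
    hS.exact.map_of_mono_of_preservesKernel _ hS.mono_f inferInstance
  exact (ShortComplex.ab_exact_iff _).1 hex y hy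

theorem frHomMap_injective {S : ShortComplex (Sheaf J Ab.{u})} (hS : S.ShortExact)
    (h3 : TF S.X₃) (W : Cᵒᵖ) : Function.Injective (frHomMap (O := O) S.f.hom W) := by
  have := hS.mono_f
  let g : S.X₁.obj.obj W →ₗ[ℤ] S.X₂.obj.obj W := (S.f.hom.app W).hom.toIntLinearMap
  let f₀ : S.X₂.obj.obj W →ₗ[ℤ] S.X₃.obj.obj W := (S.g.hom.app W).hom.toIntLinearMap
  let f : S.X₂.obj.obj W →ₗ[ℤ] LinearMap.range f₀ := f₀.rangeRestrict
  have hg : Function.Injective g := injective_app_of_mono S.f W
  have hf : Function.Surjective f := LinearMap.surjective_rangeRestrict f₀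
  have := tf_sections h3 W
  have : Module.IsTorsionFree ℤ (LinearMap.range f₀) :=
    Function.Injective.moduleIsTorsionFree (LinearMap.range f₀).subtype
      (Submodule.injective_subtype _) (fun r m => rfl)
  have H : Function.Exact g f := by
    intro y
    constructor
    · intro hy
      have hy' : (S.g.hom.app W).hom y = 0 := congrArg Subtype.val hy
      exact exact_sections hS W y hy'
    · rintro ⟨x, rfl⟩
      apply Subtype.ext
      show (S.g.hom.app W).hom ((S.f.hom.app W).hom x) = 0
      have := S.zero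
      exact congrArg (fun m => (m.hom.app W).hom x) this
  exact LinearMap.lTensor_injective_of_exact_of_flat f hf g hg H (O.obj.obj W)

theorem mono_Fr_map {S : ShortComplex (Sheaf J Ab.{u})} (hS : S.ShortExact) (h3 : TF S.X₃) :
    Mono ((Fr O).map S.f) := by
  rw [Fr_map]
  have : Presheaf.IsLocallyInjective J
      ((PresheafOfModules.toPresheaf _).map ((frP O).map S.f.hom)) := by
    apply Presheaf.isLocallyInjective_of_injective
    intro W
    exact frHomMap_injective hS h3 W
  exact mono_shf_map_of_isLocallyInjective O _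

theorem isFlat_Fr {P : Sheaf J Ab.{u}} (hP : TF P) : ModSite.IsFlat ((Fr O).obj P) := by
  apply isFlat_shf_of_flat
  intro W
  have := tf_sections hP W
  exact inferInstanceAs (Module.Flat (O.obj.obj W) ((O.obj.obj W) ⊗[ℤ] (P.obj.obj W)))

theorem Fr_shortExact {S : ShortComplex (Sheaf J Ab.{u})} (hS : S.ShortExact) (h3 : TF S.X₃) :
    (S.map (Fr O)).ShortExact := by
  have := hS.epi_g
  have h1 : (S.map (Fr O)).Exact :=
    hS.exact.map_of_epi_of_preservesCokernel (Fr O) hS.epi_g inferInstance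
  have h2 : Mono ((Fr O).map S.f) := mono_Fr_map hS h3
  have h3 : Epi ((Fr O).map S.g) := inferInstance
  exact ShortComplex.ShortExact.mk' h1 h2 h3

end TF

end Groth.Agent.Helper24.FrMod
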