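import Mathlib
import Groth.Prelude.Def_ModSite
import Groth.Prelude.Def_CohCx
import Groth.Agent.Lib.Helper17.MT24
import Groth.Agent.Lib.Helper17.MT16
import Groth.Agent.Lib.Helper24.FrMod2
import Groth.Agent.Lib.Helper24.ExtVanish

/-!
# `Hom_O(F, G)` is totally acyclic for injective `G`
-/

open CategoryTheory Limits MonoidalCategory Opposite TensorProduct

namespace Groth.Agent.Helper24.FrMod

universe u
set_option linter.unusedSectionVars false
open Groth.Agent.Helper17.MT

variable {C : Type u} [SmallCategory C] {J : GrothendieckTopology C} (O : Sheaf J CommRingCat.{u})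

section Enough

/-- `free ⊣ forget` between abelian sheaves and presheaves of sets -/
noncomputable def freeAdj : (Functor.whiskeringRight Cᵒᵖ _ _).obj AddCommGrpCat.free.{u} ⋙
      presheafToSheaf J AddCommGrpCat.{u} ⊣
    sheafToPresheaf J AddCommGrpCat.{u} ⋙
      (Functor.whiskeringRight Cᵒᵖ _ _).obj (forget AddCommGrpCat.{u}) :=
  (Adjunction.whiskerRight Cᵒᵖ AddCommGrpCat.adj.{u}).comp
    (sheafificationAdjunction J AddCommGrpCat.{u})

instance : (sheafToPresheaf J AddCommGrpCat.{u} ⋙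
    (Functor.whiskeringRight Cᵒᵖ _ _).obj (forget AddCommGrpCat.{u})).Faithful := by
  have : ((Functor.whiskeringRight Cᵒᵖ _ _).obj (forget AddCommGrpCat.{u})).Faithful := inferInstance
  exact Functor.Faithful.comp _ _

theorem free_injective_nsmul (T : Type u) (n : ℕ) (hn : n ≠ 0) :
    Function.Injective (fun x : FreeAbelianGroup T => n • x) := by
  intro x y h
  have e := FreeAbelianGroup.equivFinsupp T
  apply e.injective
  ext t
  have h0 : n • x = n • y := h
  have := congrArg (fun z => e z t) h0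
  simp only [map_nsmul, Finsupp.smul_apply, nsmul_eq_mul] at this
  have h1 : (n : ℤ) ≠ 0 := by exact_mod_cast hn
  exact mul_left_cancel₀ h1 this

theorem nsmul_id_app_presheaf (P : Cᵒᵖ ⥤ Ab.{u}) (n : ℕ) (W : Cᵒᵖ) (z : P.obj W) :
    ((n • 𝟙 P : P ⟶ P).app W).hom z = n • z := by
  induction n with
  | zero => simp
  | succ n ih =>
    rw [succ_nsmul, succ_nsmul, ← ih]
    rfl

/-- the free abelian sheaf on a presheaf of sets is torsion-free -/
theorem tf_free (T : Cᵒᵖ ⥤ Type u) :
    TF ((presheafToSheaf J AddCommGrpCat.{u}).obj (T ⋙ AddCommGrpCat.free.{u})) := by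
  intro n hn
  have h1 : Mono (n • 𝟙 (T ⋙ AddCommGrpCat.free.{u})) := by
    rw [NatTrans.mono_iff_mono_app]
    intro W
    rw [AddCommGrpCat.mono_iff_injective]
    intro x y h
    apply free_injective_nsmul (T.obj W) n hn
    have h' := h
    erw [nsmul_id_app_presheaf, nsmul_id_app_presheaf] at h'
    exact h'
  have h2 : (presheafToSheaf J AddCommGrpCat.{u}).map (n • 𝟙 (T ⋙ AddCommGrpCat.free.{u})) =
      n • 𝟙 _ := by
    rw [Functor.map_nsmul, CategoryTheory.Functor.map_id]
  rw [← h2]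
  infer_instance

theorem enough_tf (X : Sheaf J Ab.{u}) : ∃ (Q : Sheaf J Ab.{u}) (π : Q ⟶ X), TF Q ∧ Epi π :=
  ⟨_, (freeAdj (J := J)).counit.app X, tf_free _, inferInstance⟩

end Enough

section Main

variable {O}
variable (F : ModSite.Mod O) [ModSite.HasSheafHom F]

/-- `A ↦ Fr A ⊗_O F` is left adjoint to `G ↦ toAb (Hom_O(F, G))` -/
noncomputable def adjL : Fr O ⋙ TR O F ⊣ ModSite.sheafHom F ⋙ toAbF O :=
  (frAdj O).comp (ModSite.sheafHomAdj F)

theorem mono_L_map {S : ShortComplex (Sheaf J Ab.{u})} (hS : S.ShortExact) (h3 : TF S.X₃) :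
    Mono ((Fr O ⋙ TR O F).map S.f) :=
  mono_TR_map_of_isFlat O (Fr_shortExact hS h3) (isFlat_Fr h3) F

/-- extension property (iii) -/
theorem extend (G : ModSite.Mod O) [Injective G] {S : ShortComplex (Sheaf J Ab.{u})}
    (hS : S.ShortExact) (h3 : TF S.X₃)
    (η : S.X₁ ⟶ (ModSite.sheafHom F ⋙ toAbF O).obj G) :
    ∃ ζ : S.X₂ ⟶ (ModSite.sheafHom F ⋙ toAbF O).obj G, S.f ≫ ζ = η := by
  have := mono_L_map F hS h3
  let η' := ((adjL F).homEquiv _ _).symm η
  let ζ' := Injective.factorThru η' ((Fr O ⋙ TR O F).map S.f)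
  refine ⟨(adjL F).homEquiv _ _ ζ', ?_⟩
  rw [← Adjunction.homEquiv_naturality_left, Injective.comp_factorThru]
  exact Equiv.apply_symm_apply _ _

/-- `Hom_O(F, G)` is totally acyclic for injective `G` -/
theorem totallyAcyclic_sheafHom (G : ModSite.Mod O) [Injective G] :
    CohCx.IsTotallyAcyclic (ModSite.toAb ((ModSite.sheafHom F).obj G)) := by
  intro K p
  refine subsingleton_of_forall_eq 0 fun ξ => ?_
  exact ExtVanish.ext_eq_zero (ModSite.toAb ((ModSite.sheafHom F).obj G)) TF
    (fun X => enough_tf X)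
    (fun S hS h2 _ => by
      have := hS.mono_f
      exact tf_of_mono S.f h2)
    (fun S hS h3 η => extend F G hS h3 η) p _ (tf_free K.obj) ξ

end Main

end Groth.Agent.Helper24.FrMod
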