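import Mathlib
import Groth.Prelude.Def_CechEdge
import Groth.Prelude.Def_CohCx
import Groth.Agent.Lib.Helper24.CechH
import Groth.Agent.Lib.Helper24.CechEdgeLib
import Groth.Agent.Lib.Helper24.CechInj
import Groth.Agent.Lib.Helper24.Flasque

universe w v u
set_option linter.unusedSectionVars false
open CategoryTheory CategoryTheory.Limits Opposite

namespace Groth.Agent.Helper24.SieveCoh

open Groth.Agent.Helper24.CechH Groth.Agent.Helper24.CechEdgeLib Groth.Agent.Helper24.CechInj
  Groth.Agent.Helper24.CechEv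

section Generic
variable {A : Type u} [Category.{v} A] [Abelian A] [HasExt.{w} A]
open Abelian

lemma ext_one_subsingleton_of_lift (Z : A) {S : ShortComplex A} (hS : S.ShortExact)
    (hI : Injective S.X₂)
    (hl : ∀ g : Z ⟶ S.X₃, ∃ h : Z ⟶ S.X₂, h ≫ S.g = g) : Subsingleton (Ext Z S.X₁ 1) := by
  refine subsingleton_of_forall_eq 0 fun x => ?_
  obtain ⟨v, hv⟩ := Ext.covariant_sequence_exact₁ Z hS x (Ext.eq_zero_of_injective _) (n₀ := 0) rfl
  obtain ⟨g, rfl⟩ := (Ext.mk₀_bijective Z S.X₃).2 v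
  obtain ⟨h, rfl⟩ := hl g
  rw [← hv, ← Ext.mk₀_comp_mk₀, Ext.comp_assoc_of_second_deg_zero, hS.comp_extClass, Ext.comp_zero]

lemma lift_of_ext_one_subsingleton (Z : A) {S : ShortComplex A} (hS : S.ShortExact)
    (h1 : Subsingleton (Ext Z S.X₁ 1)) (g : Z ⟶ S.X₃) : ∃ h : Z ⟶ S.X₂, h ≫ S.g = g := by
  obtain ⟨y, hy⟩ := Ext.covariant_sequence_exact₃ Z hS (Ext.mk₀ g) (n₁ := 1) rfl
    (Subsingleton.elim _ _)
  obtain ⟨h, rfl⟩ := (Ext.mk₀_bijective Z S.X₂).2 y
  refine ⟨h, (Ext.mk₀_bijective Z S.X₃).1 ?_⟩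
  rw [← hy, Ext.mk₀_comp_mk₀]

lemma ext_succ_subsingleton (Z : A) {S : ShortComplex A} (hS : S.ShortExact)
    (hI : Injective S.X₂) (q : ℕ)
    (h : Subsingleton (Ext Z S.X₃ (q+1))) : Subsingleton (Ext Z S.X₁ (q+2)) := by
  refine subsingleton_of_forall_eq 0 fun x => ?_
  obtain ⟨v, hv⟩ := Ext.covariant_sequence_exact₁ Z hS x (Ext.eq_zero_of_injective _)
    (n₀ := q+1) rfl
  rw [← hv, Subsingleton.elim v 0, Ext.zero_comp]

lemma ext_pred_subsingleton (Z : A) {S : ShortComplex A} (hS : S.ShortExact)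
    (hI : Injective S.X₂) (q : ℕ)
    (h : Subsingleton (Ext Z S.X₁ (q+2))) : Subsingleton (Ext Z S.X₃ (q+1)) := by
  refine subsingleton_of_forall_eq 0 fun x => ?_
  obtain ⟨y, hy⟩ := Ext.covariant_sequence_exact₃ Z hS x (n₁ := q+2) rfl (Subsingleton.elim _ _)
  rw [← hy, Ext.eq_zero_of_injective y, Ext.zero_comp]

end Generic

section Bot
variable {C : Type u} [SmallCategory C]

/-- presheaf as a sheaf for the trivial topology -/
abbrev bot (P : Cᵒᵖ ⥤ AddCommGrpCat.{u}) :
    Sheaf (⊥ : GrothendieckTopology C) AddCommGrpCat.{u} :=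
  ⟨P, Presheaf.isSheaf_bot _⟩

abbrev botMap {P Q : Cᵒᵖ ⥤ AddCommGrpCat.{u}} (f : P ⟶ Q) : bot P ⟶ bot Q := ⟨f⟩

lemma injective_bot (P : Cᵒᵖ ⥤ AddCommGrpCat.{u}) [Injective P] : Injective (bot P) where
  factors g f _ := by
    have : Mono f.hom := inferInstanceAs (Mono ((sheafToPresheaf _ _).map f))
    refine ⟨⟨Injective.factorThru g.hom f.hom⟩, ?_⟩
    apply Sheaf.hom_ext
    exact Injective.comp_factorThru g.hom f.hom

instance : (sheafBotEquivalence (C := C) AddCommGrpCat.{u}).inverse.Additive where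
  map_add := by
    intros
    apply Sheaf.hom_ext
    rfl

/-- a short exact sequence of presheaves gives a short exact sequence in Sh ⊥ -/
lemma bot_shortExact {S : ShortComplex (Cᵒᵖ ⥤ AddCommGrpCat.{u})} (hS : S.ShortExact) :
    (ShortComplex.mk (botMap S.f) (botMap S.g) (by
      apply Sheaf.hom_ext
      exact S.zero)).ShortExact :=
  hS.map_of_exact (sheafBotEquivalence AddCommGrpCat.{u}).inverse

/-- the free abelian presheaf on a presheaf of sets, as an object of `Sh ⊥` -/
noncomputable abbrev ZT (T : Cᵒᵖ ⥤ Type u) :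
    Sheaf (⊥ : GrothendieckTopology C) AddCommGrpCat.{u} :=
  (presheafToSheaf ⊥ AddCommGrpCat.{u}).obj (T ⋙ AddCommGrpCat.free.{u})

noncomputable def adjT : (Functor.whiskeringRight Cᵒᵖ _ _).obj AddCommGrpCat.free.{u} ⋙
      presheafToSheaf (⊥ : GrothendieckTopology C) AddCommGrpCat.{u} ⊣
    sheafToPresheaf ⊥ AddCommGrpCat.{u} ⋙
      (Functor.whiskeringRight Cᵒᵖ _ _).obj (forget AddCommGrpCat.{u}) :=
  (Adjunction.whiskerRight Cᵒᵖ AddCommGrpCat.adj.{u}).comp
    (sheafificationAdjunction ⊥ AddCommGrpCat.{u})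

noncomputable def e (T : Cᵒᵖ ⥤ Type u) (A : Sheaf (⊥ : GrothendieckTopology C) AddCommGrpCat.{u}) :
    (ZT T ⟶ A) ≃ (T ⟶ A.obj ⋙ forget AddCommGrpCat.{u}) :=
  adjT.homEquiv T A

lemma e_nat {T : Cᵒᵖ ⥤ Type u} {A B : Sheaf (⊥ : GrothendieckTopology C) AddCommGrpCat.{u}}
    (h : ZT T ⟶ A) (ψ : A ⟶ B) :
    e T B (h ≫ ψ) = e T A h ≫ Functor.whiskerRight ψ.hom (forget AddCommGrpCat.{u}) :=
  adjT.homEquiv_naturality_right h ψ

end Bot

section SheafCond
variable {C : Type u} [SmallCategory C] {J : GrothendieckTopology C}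
  (G : Sheaf J AddCommGrpCat.{u}) {X : C} (R : Sieve X)

/-- a section over X gives a natural transformation from a sieve -/
def toNat (s : G.obj.obj (op X)) : R.functor ⟶ G.obj ⋙ forget AddCommGrpCat.{u} where
  app V := TypeCat.ofHom (fun a => (G.obj.map a.1.op).hom s)
  naturality V W f := by
    ext a
    show (G.obj.map (f.unop ≫ a.1).op).hom s = (G.obj.map f).hom ((G.obj.map a.1.op).hom s)
    rw [op_comp, G.obj.map_comp]
    rfl


lemma presieve_isSheaf : Presieve.IsSheaf J (G.obj ⋙ forget AddCommGrpCat.{u}) :=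
  (isSheaf_iff_isSheaf_of_type _ _).1
    ((Presheaf.isSheaf_iff_isSheaf_forget J G.obj (forget _)).1 G.property)

lemma toNat_app (s : G.obj.obj (op X)) {V : C} (a : V ⟶ X) (ha : R a) :
    (toNat G R s).app (op V) ⟨a, ha⟩ = (G.obj.map a.op).hom s := rfl

lemma toNat_surjective (hR : R ∈ J X) (t : R.functor ⟶ G.obj ⋙ forget AddCommGrpCat.{u}) :
    ∃ s, toNat G R s = t := by
  have hP := presieve_isSheaf G
  obtain ⟨g, hg, -⟩ := (Presieve.isSheafFor_iff_yonedaSheafCondition.1 (hP R hR)) t
  refine ⟨yonedaEquiv g, ?_⟩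
  ext V a
  rw [← hg]
  exact map_yonedaEquiv g a.1

lemma toNat_injective (hR : R ∈ J X) : Function.Injective (toNat G R) := by
  intro s s' h
  have hP := presieve_isSheaf G
  refine (hP R hR).isSeparatedFor.ext fun V a ha => ?_
  have := congrArg (fun t => t.app (op V) ⟨a, ha⟩) h
  exact this

lemma toNat_comp {G G' : Sheaf J AddCommGrpCat.{u}} (ψ : G ⟶ G') (s : G.obj.obj (op X)) :
    toNat G R s ≫ Functor.whiskerRight ψ.hom (forget AddCommGrpCat.{u}) =
      toNat G' R ((ψ.hom.app (op X)).hom s) := by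
  ext V a
  show (ψ.hom.app V).hom ((G.obj.map a.1.op).hom s) = (G'.obj.map a.1.op).hom ((ψ.hom.app (op X)).hom s)
  have := ψ.hom.naturality a.1.op
  exact congrArg (fun m => m.hom s) this

end SheafCond



section Main
variable {C : Type u} [SmallCategory C] (J : GrothendieckTopology C)
open Abelian

/-- acyclic on all objects -/
def Cacyc (F : Sheaf J AddCommGrpCat.{u}) : Prop :=
  ∀ (X : C) (q : ℕ), Subsingleton (CohSite.HU F (q + 1) X)

/-- sieve-cohomology vanishing -/
def Sacyc (F : Sheaf J AddCommGrpCat.{u}) : Prop :=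
  ∀ (X : C) (R : Sieve X), R ∈ J X → ∀ q : ℕ,
    Subsingleton (Ext (ZT R.functor) (bot F.obj) (q + 1))

lemma surj_of_H1 {F : Sheaf J AddCommGrpCat.{u}} (U : C) (h : Subsingleton (CohSite.HU F 1 U)) :
    Function.Surjective ((cokernel.π (Injective.ι F)).hom.app (op U)).hom := by
  intro q
  have ex := (ShortComplex.ab_exact_iff _).1
    ((extDelta (CohCx.freeSheaf J U)).exact₃ _ (sesS_shortExact (Injective.ι F)) 0 1 rfl)
  obtain ⟨y, hy⟩ := ex (CechEdge.sectH0 J U _ q) (Subsingleton.elim (α := CohSite.HU F 1 U) _ _)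
  obtain ⟨s, rfl⟩ := (CechEdge.sectH0 J U (Injective.under F)).surjective y
  refine ⟨s, (CechEdge.sectH0 J U _).injective ?_⟩
  rw [← sectH0_naturality]
  exact hy

lemma cacyc_coker {F : Sheaf J AddCommGrpCat.{u}} (hF : Cacyc J F) :
    Cacyc J (cokernel (Injective.ι F)) := by
  intro X q
  exact ext_pred_subsingleton (CohCx.freeSheaf J X) (sesS_shortExact (Injective.ι F))
    (Injective.injective_under F) q (hF X (q+1))

/-- the sequence `F → I → Q` in `Sh ⊥` -/
noncomputable def sesB (F : Sheaf J AddCommGrpCat.{u}) :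
    ShortComplex (Sheaf (⊥ : GrothendieckTopology C) AddCommGrpCat.{u}) :=
  ShortComplex.mk (botMap (Injective.ι F).hom) (botMap (cokernel.π (Injective.ι F)).hom) (by
    apply Sheaf.hom_ext
    exact congrArg (fun m => m.hom) (cokernel.condition (Injective.ι F)))

lemma sesB_shortExact (F : Sheaf J AddCommGrpCat.{u})
    (hs : ∀ U : C, Function.Surjective ((cokernel.π (Injective.ι F)).hom.app (op U)).hom) :
    (sesB J F).ShortExact := by
  let P : ShortComplex (Cᵒᵖ ⥤ AddCommGrpCat.{u}) :=
    (sesS (Injective.ι F)).map (sheafToPresheaf J AddCommGrpCat.{u})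
  have hP : P.ShortExact :=
    { exact := (sesS_shortExact (Injective.ι F)).exact.map_of_mono_of_preservesKernel _
        (sesS_shortExact (Injective.ι F)).mono_f inferInstance
      mono_f := mono_hom (Injective.ι F)
      epi_g := by
        have : ∀ U : Cᵒᵖ, Epi (P.g.app U) := fun U => by
          rw [AddCommGrpCat.epi_iff_surjective]
          exact hs U.unop
        exact NatTrans.epi_of_epi_app _ }
  exact bot_shortExact hP

lemma ext_one_of_surj (F : Sheaf J AddCommGrpCat.{u})
    (hs : ∀ U : C, Function.Surjective ((cokernel.π (Injective.ι F)).hom.app (op U)).hom)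
    {X : C} (R : Sieve X) (hR : R ∈ J X) :
    Subsingleton (Ext (ZT R.functor) (bot F.obj) 1) := by
  refine ext_one_subsingleton_of_lift (ZT R.functor) (sesB_shortExact J F hs)
    (injective_bot (Injective.under F).obj)
    fun (g : ZT R.functor ⟶ bot (cokernel (Injective.ι F)).obj) => ?_
  change ∃ h : ZT R.functor ⟶ bot (Injective.under F).obj,
    h ≫ botMap (cokernel.π (Injective.ι F)).hom = g
  obtain ⟨q, hq⟩ := toNat_surjective (cokernel (Injective.ι F)) R hR
    (e R.functor (bot (cokernel (Injective.ι F)).obj) g)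
  obtain ⟨s, rfl⟩ := hs X q
  refine ⟨(e R.functor (bot (Injective.under F).obj)).symm (toNat (Injective.under F) R s), ?_⟩
  apply (e R.functor (bot (cokernel (Injective.ι F)).obj)).injective
  rw [e_nat, Equiv.apply_symm_apply, ← hq]
  exact toNat_comp R (cokernel.π (Injective.ι F)) s

lemma γ_π {F I : Sheaf J AddCommGrpCat.{u}} (i : F ⟶ I) [Mono i] (W : Cᵒᵖ) (s : I.obj.obj W) :
    ((γ i).app W).hom (((cokernel.π i.hom).app W).hom s) = ((cokernel.π i).hom.app W).hom s := by
  have := cokernel.π_desc i.hom (cokernel.π i).hom (by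
    show (i ≫ cokernel.π i).hom = 0
    rw [cokernel.condition]
    rfl)
  exact congrArg (fun m => (m.app W).hom s) this

lemma surj_of_ext_one (F : Sheaf J AddCommGrpCat.{u})
    (h1 : ∀ (X : C) (R : Sieve X), R ∈ J X → Subsingleton (Ext (ZT R.functor) (bot F.obj) 1))
    (X : C) : Function.Surjective ((cokernel.π (Injective.ι F)).hom.app (op X)).hom := by
  intro v
  have hls : Presheaf.IsLocallySurjective J (cokernel.π (Injective.ι F)).hom :=
    (Sheaf.isLocallySurjective_iff_epi' (φ := cokernel.π (Injective.ι F))).2 inferInstance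
  let R : Sieve X := Presheaf.imageSieve (cokernel.π (Injective.ι F)).hom v
  have hR : R ∈ J X := hls.imageSieve_mem v
  -- local lifts
  have hch : ∀ (V : Cᵒᵖ) (a : R.functor.obj V), ∃ s : (Injective.under F).obj.obj V,
      ((cokernel.π (Injective.ι F)).hom.app V).hom s =
        ((cokernel (Injective.ι F)).obj.map a.1.op).hom v := fun V a => a.2
  choose sl hsl using hch
  let t : R.functor ⟶ (sesP (Injective.ι F)).X₃ ⋙ forget AddCommGrpCat.{u} :=
    { app := fun V => TypeCat.ofHom (fun a => ((cokernel.π (Injective.ι F).hom).app V).hom (sl V a))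
      naturality := fun V W f => by
        ext a
        apply γ_app_injective (Injective.ι F) W
        show ((γ (Injective.ι F)).app W).hom
            (((cokernel.π (Injective.ι F).hom).app W).hom (sl W (R.functor.map f a))) =
          ((γ (Injective.ι F)).app W).hom (((sesP (Injective.ι F)).X₃.map f).hom
            (((cokernel.π (Injective.ι F).hom).app V).hom (sl V a)))
        have hn := congrArg (fun m => m.hom (((cokernel.π (Injective.ι F).hom).app V).hom (sl V a)))
          ((γ (Injective.ι F)).naturality f)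
        refine Eq.trans ?_ hn.symm
        show _ = ((cokernel (Injective.ι F)).obj.map f).hom (((γ (Injective.ι F)).app V).hom
          (((cokernel.π (Injective.ι F).hom).app V).hom (sl V a)))
        rw [γ_π, γ_π, hsl, hsl]
        show ((cokernel (Injective.ι F)).obj.map (f.unop ≫ a.1).op).hom v = _
        rw [op_comp, (cokernel (Injective.ι F)).obj.map_comp]
        rfl }
  let g := (e R.functor (bot (sesP (Injective.ι F)).X₃)).symm t
  obtain ⟨h, hh⟩ : ∃ h : ZT R.functor ⟶ bot (Injective.under F).obj,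
      h ≫ botMap (cokernel.π (Injective.ι F).hom) = g :=
    lift_of_ext_one_subsingleton (ZT R.functor)
      (bot_shortExact (sesP_shortExact (Injective.ι F))) (h1 X R hR) g
  obtain ⟨s, hs⟩ := toNat_surjective (Injective.under F) R hR
    (e R.functor (bot (Injective.under F).obj) h)
  refine ⟨s, ?_⟩
  refine ((presieve_isSheaf (cokernel (Injective.ι F))) R hR).isSeparatedFor.ext fun V a ha => ?_
  show ((cokernel (Injective.ι F)).obj.map a.op).hom
      (((cokernel.π (Injective.ι F)).hom.app (op X)).hom s) =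
    ((cokernel (Injective.ι F)).obj.map a.op).hom v
  have hn := congrArg (fun m => m.hom s) ((cokernel.π (Injective.ι F)).hom.naturality a.op)
  refine hn.symm.trans ?_
  show ((cokernel.π (Injective.ι F)).hom.app (op V)).hom (((Injective.under F).obj.map a.op).hom s) = _
  have h2 : ((Injective.under F).obj.map a.op).hom s =
      (e R.functor (bot (Injective.under F).obj) h).app (op V) ⟨a, ha⟩ := by
    rw [← hs]
    rfl
  have h3 : e R.functor _ (h ≫ botMap (cokernel.π (Injective.ι F).hom)) = t := by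
    rw [hh]
    exact Equiv.apply_symm_apply _ t
  rw [e_nat] at h3
  have h4 := congrArg (fun m => m.app (op V) ⟨a, ha⟩) h3
  have h5 : ((cokernel.π (Injective.ι F).hom).app (op V)).hom
      ((e R.functor (bot (Injective.under F).obj) h).app (op V) ⟨a, ha⟩) =
      ((cokernel.π (Injective.ι F).hom).app (op V)).hom (sl (op V) ⟨a, ha⟩) := h4
  rw [h2, ← γ_π, h5, γ_π]
  exact hsl (op V) ⟨a, ha⟩

lemma sacyc_coker {F : Sheaf J AddCommGrpCat.{u}} (hF : Sacyc J F) :
    Sacyc J (cokernel (Injective.ι F)) := fun X R hR q =>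
  ext_pred_subsingleton (ZT R.functor)
    (sesB_shortExact J F (surj_of_ext_one J F (fun X R hR => hF X R hR 0)))
    (injective_bot (Injective.under F).obj) q (hF X R hR (q+1))

theorem sacyc_of_cacyc : ∀ (q : ℕ) (F : Sheaf J AddCommGrpCat.{u}), Cacyc J F →
    ∀ (X : C) (R : Sieve X), R ∈ J X → Subsingleton (Ext (ZT R.functor) (bot F.obj) (q + 1))
  | 0, F, hF, X, R, hR => ext_one_of_surj J F (fun U => surj_of_H1 J U (hF U 0)) R hR
  | q+1, F, hF, X, R, hR =>
    ext_succ_subsingleton (ZT R.functor)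
      (sesB_shortExact J F (fun U => surj_of_H1 J U (hF U 0)))
      (injective_bot (Injective.under F).obj) q
      (sacyc_of_cacyc q (cokernel (Injective.ι F)) (cacyc_coker J hF) X R hR)

theorem cacyc_of_sacyc : ∀ (q : ℕ) (F : Sheaf J AddCommGrpCat.{u}), Sacyc J F →
    ∀ (X : C), Subsingleton (CohSite.HU F (q + 1) X)
  | 0, F, hF, X =>
    Flasque.H1_zero_of_surj J X (surj_of_ext_one J F (fun X R hR => hF X R hR 0) X)
  | q+1, F, hF, X =>
    Flasque.Hsucc_zero_of_coker J X q
      (cacyc_of_sacyc q (cokernel (Injective.ι F)) (sacyc_coker J hF) X)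

end Main

end Groth.Agent.Helper24.SieveCoh
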