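import Mathlib
import Groth.Agent.Lib.Helper24.SieveCoh
import Groth.Agent.Lib.Helper24.CechEv
import Groth.Agent.Lib.Helper24.CechDelta
import Groth.Agent.Lib.Helper24.CechEdgeLib
import Groth.Agent.S6773

universe w v u v' u'
set_option linter.unusedSectionVars false
open CategoryTheory CategoryTheory.Limits Opposite

namespace Groth.Agent.Helper24.SieveCech

open Groth.Agent.Helper24.CechH Groth.Agent.Helper24.CechEdgeLib Groth.Agent.Helper24.CechInj
  Groth.Agent.Helper24.CechEv Groth.Agent.Helper24.CechDelta Groth.Agent.Helper24.SieveCoh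

section Generic
variable {A : Type u} [Category.{v} A] [Abelian A] {B : Type u'} [Category.{v'} B] [Abelian B]

open DeltaF DeltaF.CohDeltaFunctor

lemma iso_of_universal (T T' : CohDeltaFunctor A B ℕ) (hT : T.IsUniversal) (hT' : T'.IsUniversal)
    (e0 : T.F 0 ≅ T'.F 0) (n : ℕ) : Nonempty (T.F n ≅ T'.F n) := by
  obtain ⟨τ, hτ, -⟩ := hT T' e0.hom
  obtain ⟨σ, hσ, -⟩ := hT' T e0.inv
  have h1 : τ ≫ σ = 𝟙 T := by
    obtain ⟨ρ, -, hρ⟩ := hT T (𝟙 _)
    rw [hρ (τ ≫ σ) (by show (τ ≫ σ).app 0 = _; rw [comp_app, hτ, hσ, Iso.hom_inv_id]),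
      hρ (𝟙 T) (by show (𝟙 T : T ⟶ T).app 0 = _; rw [id_app])]
  have h2 : σ ≫ τ = 𝟙 T' := by
    obtain ⟨ρ, -, hρ⟩ := hT' T' (𝟙 _)
    rw [hρ (σ ≫ τ) (by show (σ ≫ τ).app 0 = _; rw [comp_app, hτ, hσ, Iso.inv_hom_id]),
      hρ (𝟙 T') (by show (𝟙 T' : T' ⟶ T').app 0 = _; rw [id_app])]
  exact ⟨⟨τ.app n, σ.app n, by rw [← comp_app, h1, id_app], by rw [← comp_app, h2, id_app]⟩⟩

end Generic

section Gen
variable {C : Type u} [SmallCategory C]

/-- the generator sections of `ZT T` -/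
noncomputable def genT (T : Cᵒᵖ ⥤ Type u) (V : Cᵒᵖ) (a : T.obj V) : (ZT T).obj.obj V :=
  (((sheafificationAdjunction (⊥ : GrothendieckTopology C) AddCommGrpCat.{u}).unit.app
    (T ⋙ AddCommGrpCat.free.{u})).app V).hom (FreeAbelianGroup.of a)

lemma e_app (T : Cᵒᵖ ⥤ Type u) (A : Sheaf (⊥ : GrothendieckTopology C) AddCommGrpCat.{u})
    (g : ZT T ⟶ A) (V : Cᵒᵖ) (a : T.obj V) :
    (e T A g).app V a = (g.hom.app V).hom (genT T V a) := by
  unfold e adjT
  rw [Adjunction.homEquiv_unit, Adjunction.comp_unit_app]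
  rfl

end Gen

section Sieve
variable {C : Type u} [SmallCategory C] [HasPullbacks C] {X : C} {ι : Type u} (Y : ι → Over X)

/-- the sieve generated by the family -/
abbrev R : Sieve X := Sieve.ofArrows (fun i => (Y i).left) (fun i => (Y i).hom)

/-- the δ-functor `M ↦ Ext^q(ℤ_R, M)` on presheaves -/
noncomputable def TS : DeltaF.CohDeltaFunctor (Cᵒᵖ ⥤ AddCommGrpCat.{u}) AddCommGrpCat.{u} ℕ :=
  comap (sheafBotEquivalence AddCommGrpCat.{u}).inverse (extDelta (ZT (R Y).functor))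

lemma TS_effaceable : (TS Y).IsEffaceable := fun n M => by
  have hm : Mono (Injective.ι (bot M)).hom :=
    inferInstanceAs (Mono ((sheafToPresheaf _ _).map (Injective.ι (bot M))))
  refine ⟨(Injective.under (bot M)).obj, (Injective.ι (bot M)).hom, hm, ?_⟩
  have hi : Injective (bot (Injective.under (bot M)).obj) :=
    inferInstanceAs (Injective (Injective.under (bot M)))
  have hz : IsZero (((TS Y).F (n+1)).obj (Injective.under (bot M)).obj) := by
    have : Subsingleton (Abelian.Ext (ZT (R Y).functor) (bot (Injective.under (bot M)).obj) (n+1)) :=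
      Abelian.Ext.subsingleton_of_injective _ _ n
    exact @AddCommGrpCat.isZero_of_subsingleton
      (AddCommGrpCat.of (Abelian.Ext (ZT (R Y).functor) (bot (Injective.under (bot M)).obj) (n+1))) this
  exact hz.eq_of_tgt _ _

theorem TS_universal : (TS Y).IsUniversal := Groth.Agent.S6773.result _ (TS_effaceable Y)

variable (M : Cᵒᵖ ⥤ AddCommGrpCat.{u})

/-- `Hom(ℤ_R, M)` as an abelian group -/
noncomputable abbrev AM : AddCommGrpCat.{u} := AddCommGrpCat.of (ZT (R Y).functor ⟶ bot M)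

/-- evaluation at a generator -/
noncomputable def evA (V : Cᵒᵖ) (a : (R Y).functor.obj V) : AM Y M ⟶ M.obj V :=
  AddCommGrpCat.ofHom
    { toFun := fun g => (g.hom.app V).hom (genT (R Y).functor V a)
      map_zero' := rfl
      map_add' := fun g g' => by
        rw [Sheaf.Hom.add_app]
        rfl }

lemma evA_apply (V : Cᵒᵖ) (a : (R Y).functor.obj V) (g : ZT (R Y).functor ⟶ bot M) :
    (evA Y M V a).hom g = (e (R Y).functor (bot M) g).app V a := (e_app _ _ g V a).symm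

lemma evA_map {V W : Cᵒᵖ} (f : V ⟶ W) (a : (R Y).functor.obj V) :
    evA Y M V a ≫ M.map f = evA Y M W ((R Y).functor.map f a) := by
  ext g
  show (M.map f).hom ((evA Y M V a).hom g) = (evA Y M W ((R Y).functor.map f a)).hom g
  rw [evA_apply, evA_apply]
  have := ConcreteCategory.congr_hom ((e (R Y).functor (bot M) g).naturality f) a
  exact this.symm


/-- membership element for `Y i` -/
def memR (i : ι) : (R Y).functor.obj (op (Y i).left) :=
  ⟨(Y i).hom, Sieve.ofArrows_mk _ _ i⟩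

lemma mem_of_σ (T : Over X) (σ : Fin 1 → Sg Y T) : (R Y) T.hom := by
  have : T.hom = (σ 0).2.left ≫ (Y (σ 0).1).hom := (Over.w _).symm
  rw [this]
  exact (R Y).downward_closed (Sieve.ofArrows_mk _ _ _) _

/-- the cochain attached to a morphism `ℤ_R ⟶ M` -/
noncomputable def k : AM Y M ⟶ (cech Y (QP M)).X 0 :=
  Pi.lift (fun a : Fin 1 → ι =>
    evA Y M (op (Y (a 0)).left) (memR Y (a 0)) ≫ M.map ((Pi.π (Y ∘ a) 0).left).op)

lemma k_ev (T : Over X) (σ : Fin 1 → Sg Y T) (h : (R Y) T.hom) :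
    k Y M ≫ ev Y (QP M) T σ = evA Y M (op T.left) ⟨T.hom, h⟩ := by
  unfold k ev
  erw [Pi.lift_π_assoc]
  have h2 : (Pi.lift (fun k => (σ k).2) : T ⟶ ∏ᶜ (Y ∘ fun k => (σ k).1)).left ≫
      (Pi.π (Y ∘ fun k => (σ k).1) 0).left = (σ 0).2.left := by
    rw [← Over.comp_left, Pi.lift_π]
  have key : M.map ((Pi.π (Y ∘ fun k => (σ k).1) 0).left).op ≫
      M.map ((Pi.lift (fun k => (σ k).2) : T ⟶ ∏ᶜ (Y ∘ fun k => (σ k).1)).left).op =
      M.map ((σ 0).2.left).op := by
    rw [← M.map_comp, ← op_comp, h2]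
  refine (Category.assoc _ _ _).trans ?_
  refine (congrArg (CategoryStruct.comp (evA Y M (op (Y (σ 0).1).left) (memR Y (σ 0).1))) key).trans ?_
  rw [evA_map]
  congr 1
  apply Subtype.ext
  exact Over.w (σ 0).2

lemma hk : k Y M ≫ (cech Y (QP M)).d 0 1 = 0 := by
  apply CechEv.hom_ext
  intro T σ
  have h := mem_of_σ Y T (σ ∘ (SimplexCategory.δ (0 : Fin 2)).toOrderHom)
  rw [Category.assoc, d_ev, Preadditive.comp_sum, Fin.sum_univ_two, Preadditive.comp_zsmul,
    Preadditive.comp_zsmul, k_ev Y M T _ h, k_ev Y M T _ h, zero_comp]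
  simp
  abel

/-- the comparison map in degree zero -/
noncomputable def Θ : AM Y M ⟶ CohCx.cechH M Y 0 :=
  (CechEdge.cx M Y).liftCycles (k Y M) 1 (by simp) (hk Y M) ≫ (CechEdge.cx M Y).homologyπ 0

lemma Θ_apply (g : ZT (R Y).functor ⟶ bot M) :
    (Θ Y M).hom g = ((CechEdge.cx M Y).homologyπ 0).hom
      (((CechEdge.cx M Y).liftCycles (k Y M) 1 (by simp) (hk Y M)).hom g) := rfl

lemma iCycles_lift (g : ZT (R Y).functor ⟶ bot M) :
    ((CechEdge.cx M Y).iCycles 0).hom
      (((CechEdge.cx M Y).liftCycles (k Y M) 1 (by simp) (hk Y M)).hom g) = (k Y M).hom g := by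
  have := (CechEdge.cx M Y).liftCycles_i (k Y M) 1 (by simp) (hk Y M)
  exact congrArg (fun m => m.hom g) this

lemma k_ev_apply (T : Over X) (σ : Fin 1 → Sg Y T) (h : (R Y) T.hom)
    (g : ZT (R Y).functor ⟶ bot M) :
    (ev Y (QP M) T σ).hom ((k Y M).hom g) = (e (R Y).functor (bot M) g).app (op T.left) ⟨T.hom, h⟩ := by
  have h1 := congrArg (fun m => m.hom g) (k_ev Y M T σ h)
  exact h1.trans (evA_apply Y M (op T.left) ⟨T.hom, h⟩ g)

/-- a chosen 1-tuple for an arrow in the sieve -/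
noncomputable def σOf (T : Over X) (h : (R Y) T.hom) : Fin 1 → Sg Y T :=
  have h' := (Sieve.mem_ofArrows_iff _ _ _).1 h
  single Y h'.choose (Over.homMk h'.choose_spec.choose h'.choose_spec.choose_spec.symm)

theorem Θ_bijective : Function.Bijective (Θ Y M).hom := by
  have hπ : Function.Bijective ((CechEdge.cx M Y).homologyπ 0).hom :=
    ConcreteCategory.bijective_of_isIso ((CechEdge.cx M Y).homologyπ 0)
  have hi : Function.Injective ((CechEdge.cx M Y).iCycles 0).hom :=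
    (AddCommGrpCat.mono_iff_injective _).1 inferInstance
  constructor
  · intro g g' hgg
    rw [Θ_apply, Θ_apply] at hgg
    have h1 : (k Y M).hom g = (k Y M).hom g' := by
      rw [← iCycles_lift, ← iCycles_lift, hπ.1 hgg]
    apply (e (R Y).functor (bot M)).injective
    ext V ⟨f, hf⟩
    have h2 := k_ev_apply Y M (Over.mk f) (σOf Y (Over.mk f) hf) hf g
    have h3 := k_ev_apply Y M (Over.mk f) (σOf Y (Over.mk f) hf) hf g'
    rw [h1] at h2
    exact h2.symm.trans h3
  · intro y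
    obtain ⟨z, rfl⟩ := hπ.2 y
    set c : (cech Y (QP M)).X 0 := ((CechEdge.cx M Y).iCycles 0).hom z with hcdef
    have hc : ((cech Y (QP M)).d 0 1).hom c = 0 := by
      have := (CechEdge.cx M Y).iCycles_d 0 1
      exact congrArg (fun m => m.hom z) this
    -- independence of the tuple
    have hind : ∀ (T : Over X) (σ σ' : Fin 1 → Sg Y T),
        (ev Y (QP M) T σ).hom c = (ev Y (QP M) T σ').hom c := by
      intro T σ σ'
      have e1 : σ = fun _ => σ 0 := by
        funext k; fin_cases k; rfl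
      have e2 : σ' = fun _ => σ' 0 := by
        funext k; fin_cases k; rfl
      rw [e1, e2]
      exact cocycle_ev Y M c hc (σ' 0) (σ 0)
    let t : (R Y).functor ⟶ (bot M).obj ⋙ forget AddCommGrpCat.{u} :=
      { app := fun V => TypeCat.ofHom (fun a =>
          (ev Y (QP M) (Over.mk a.1) (σOf Y (Over.mk a.1) a.2)).hom c)
        naturality := fun V W w => by
          ext a
          let m : Over.mk (w.unop ≫ a.1) ⟶ Over.mk a.1 := Over.homMk w.unop rfl
          have e1 := congrArg (fun q => q.hom c) (ev_map Y (QP M) m (σOf Y (Over.mk a.1) a.2))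
          show (ev Y (QP M) (Over.mk (w.unop ≫ a.1)) (σOf Y (Over.mk (w.unop ≫ a.1)) _)).hom c =
            (M.map w).hom ((ev Y (QP M) (Over.mk a.1) (σOf Y (Over.mk a.1) a.2)).hom c)
          refine Eq.trans ?_ e1.symm
          exact hind _ _ _ }
    refine ⟨(e (R Y).functor (bot M)).symm t, ?_⟩
    rw [Θ_apply]
    congr 1
    apply hi
    rw [iCycles_lift]
    apply ext_elem
    intro T σ
    rw [k_ev_apply Y M T σ (mem_of_σ Y T σ), Equiv.apply_symm_apply]
    show (ev Y (QP M) (Over.mk T.hom) (σOf Y (Over.mk T.hom) _)).hom c = _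
    exact hind T _ _


section Nat
variable {M} {M' : Cᵒᵖ ⥤ AddCommGrpCat.{u}} (ψ : M ⟶ M')

/-- postcomposition -/
noncomputable def post : AM Y M ⟶ AM Y M' := AddCommGrpCat.ofHom
  { toFun := fun g => g ≫ botMap ψ
    map_zero' := zero_comp
    map_add' := fun g g' => Preadditive.add_comp _ _ _ g g' _ }

lemma post_evA (V : Cᵒᵖ) (a : (R Y).functor.obj V) :
    post Y ψ ≫ evA Y M' V a = evA Y M V a ≫ ψ.app V := by
  ext g
  rfl

lemma post_k_apply (g : ZT (R Y).functor ⟶ bot M) :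
    (k Y M').hom (g ≫ botMap ψ) = (((CechEdge.cxFunctor Y).map ψ).f 0).hom ((k Y M).hom g) := by
  apply ext_elem
  intro T σ
  have h := mem_of_σ Y T σ
  rw [k_ev_apply Y M' T σ h]
  have h1 := congrArg (fun m => m.hom ((k Y M).hom g))
    (map_ev Y (Q := QP M) (Q' := QP M') (Functor.whiskerLeft (Over.forget X).op ψ) T σ)
  refine Eq.trans ?_ h1.symm
  show _ = (ψ.app (op T.left)).hom ((ev Y (QP M) T σ).hom ((k Y M).hom g))
  rw [k_ev_apply Y M T σ h, e_nat]
  rfl

lemma post_k : post Y ψ ≫ k Y M' = k Y M ≫ ((CechEdge.cxFunctor Y).map ψ).f 0 := by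
  refine AddCommGrpCat.hom_ext (AddMonoidHom.ext fun g => ?_)
  exact post_k_apply Y ψ g

lemma Θ_nat : post Y ψ ≫ Θ Y M' =
    Θ Y M ≫ HomologicalComplex.homologyMap ((CechEdge.cxFunctor Y).map ψ) 0 := by
  unfold Θ
  rw [Category.assoc, HomologicalComplex.homologyπ_naturality, ← Category.assoc, ← Category.assoc]
  congr 1
  rw [← cancel_mono ((CechEdge.cx M' Y).iCycles 0)]
  have h2 : HomologicalComplex.cyclesMap ((CechEdge.cxFunctor Y).map ψ) 0 ≫
      (CechEdge.cx M' Y).iCycles 0 =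
      (CechEdge.cx M Y).iCycles 0 ≫ ((CechEdge.cxFunctor Y).map ψ).f 0 :=
    HomologicalComplex.cyclesMap_i _ _
  calc (post Y ψ ≫ (CechEdge.cx M' Y).liftCycles (k Y M') 1 (by simp) (hk Y M')) ≫
        (CechEdge.cx M' Y).iCycles 0
      = post Y ψ ≫ ((CechEdge.cx M' Y).liftCycles (k Y M') 1 (by simp) (hk Y M') ≫
        (CechEdge.cx M' Y).iCycles 0) := Category.assoc _ _ _
    _ = post Y ψ ≫ k Y M' := by rw [HomologicalComplex.liftCycles_i]
    _ = k Y M ≫ ((CechEdge.cxFunctor Y).map ψ).f 0 := post_k Y ψ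
    _ = ((CechEdge.cx M Y).liftCycles (k Y M) 1 (by simp) (hk Y M) ≫
        (CechEdge.cx M Y).iCycles 0) ≫ ((CechEdge.cxFunctor Y).map ψ).f 0 := by
        rw [HomologicalComplex.liftCycles_i]
    _ = (CechEdge.cx M Y).liftCycles (k Y M) 1 (by simp) (hk Y M) ≫
        ((CechEdge.cx M Y).iCycles 0 ≫ ((CechEdge.cxFunctor Y).map ψ).f 0) := Category.assoc _ _ _
    _ = (CechEdge.cx M Y).liftCycles (k Y M) 1 (by simp) (hk Y M) ≫
        (HomologicalComplex.cyclesMap ((CechEdge.cxFunctor Y).map ψ) 0 ≫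
          (CechEdge.cx M' Y).iCycles 0) := by rw [h2]
    _ = _ := (Category.assoc _ _ _).symm

end Nat

open Abelian in
/-- `Ext⁰ = Hom` as a morphism of abelian groups -/
noncomputable def a0 : ((TS Y).F 0).obj M ⟶ AM Y M :=
  AddCommGrpCat.ofHom (Ext.addEquiv₀ (X := ZT (R Y).functor) (Y := bot M)).toAddMonoidHom

open Abelian in
lemma a0_nat {M M' : Cᵒᵖ ⥤ AddCommGrpCat.{u}} (ψ : M ⟶ M') :
    ((TS Y).F 0).map ψ ≫ a0 Y M' = a0 Y M ≫ post Y ψ := by
  refine AddCommGrpCat.hom_ext (AddMonoidHom.ext fun x => ?_)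
  obtain ⟨g, rfl⟩ := (Ext.mk₀_bijective (ZT (R Y).functor) (bot M)).2 x
  apply (Ext.mk₀_bijective (ZT (R Y).functor) (bot M')).1
  have h1 : Ext.addEquiv₀ (Ext.mk₀ g) = g := by
    apply (Ext.mk₀_bijective _ _).1
    rw [Ext.mk₀_addEquiv₀_apply]
  show Ext.mk₀ (Ext.addEquiv₀ ((Ext.mk₀ g).comp (Ext.mk₀ (botMap ψ)) (add_zero 0))) =
    Ext.mk₀ (Ext.addEquiv₀ (Ext.mk₀ g) ≫ botMap ψ)
  rw [h1, Ext.mk₀_addEquiv₀_apply, Ext.mk₀_comp_mk₀]

/-- the degree zero comparison -/
noncomputable def t0 : (TS Y).F 0 ⟶ (TC Y).F 0 where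
  app M := a0 Y M ≫ Θ Y M
  naturality M M' ψ := by
    refine AddCommGrpCat.hom_ext (AddMonoidHom.ext fun x => ?_)
    have h1 := congrArg (fun m => m.hom x) (a0_nat Y ψ)
    have h2 := congrArg (fun m => m.hom ((a0 Y M).hom x)) (Θ_nat Y ψ)
    show (Θ Y M').hom ((a0 Y M').hom ((((TS Y).F 0).map ψ).hom x)) =
      (HomologicalComplex.homologyMap ((CechEdge.cxFunctor Y).map ψ) 0).hom
        ((Θ Y M).hom ((a0 Y M).hom x))
    refine Eq.trans ?_ h2
    exact congrArg (Θ Y M').hom h1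

instance : IsIso (t0 Y) := by
  have : ∀ M, IsIso ((t0 Y).app M) := fun M => by
    rw [ConcreteCategory.isIso_iff_bijective]
    exact (Θ_bijective Y M).comp
      (Abelian.Ext.addEquiv₀ (X := ZT (R Y).functor) (Y := bot M)).bijective
  exact NatIso.isIso_of_isIso_app _

theorem main (q : ℕ) : Nonempty (CohCx.cechH M Y q ≅
    AddCommGrpCat.of (Abelian.Ext (ZT (R Y).functor) (bot M) q)) := by
  obtain ⟨i⟩ := iso_of_universal (TS Y) (TC Y) (TS_universal Y) (isUniversal Y) (asIso (t0 Y)) q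
  exact ⟨(i.app M).symm⟩

end Sieve

end Groth.Agent.Helper24.SieveCech
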