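import Mathlib
import Groth.Agent.S16465
import Groth.Agent.Lib.Helper24.Horseshoe3
import Groth.Agent.Lib.Helper24.SieveCech
open CategoryTheory Limits
universe w w' v v' u u'

namespace Groth.Agent.Helper24.GSS

open DeltaF DeltaF.CohDeltaFunctor

section RD

variable {A : Type u} [Category.{v} A] [Abelian A] [EnoughInjectives A]
  {B : Type u'} [Category.{v'} B] [Abelian B]

/-- the right derived functors of `F` as a δ-functor -/
noncomputable def rdDelta (F : A ⥤ B) [F.Additive] : CohDeltaFunctor A B ℕ :=
  (Groth.Agent.Helper24.Horseshoe.derivedLES F).toCohDeltaFunctor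

lemma rdDelta_F (F : A ⥤ B) [F.Additive] (n : ℕ) : (rdDelta F).F n = F.rightDerived n := rfl

lemma rdDelta_universal (F : A ⥤ B) [F.Additive] : (rdDelta F).IsUniversal :=
  Groth.Agent.S16465.result F _

/-- an effaceable δ-functor whose degree `0` part is a left exact functor `F` computes the right
derived functors of `F` -/
theorem nonempty_iso_rightDerived (T : CohDeltaFunctor A B ℕ) (hT : T.IsEffaceable)
    (F : A ⥤ B) [F.Additive] [PreservesFiniteLimits F] (e : T.F 0 ≅ F) (n : ℕ) :
    Nonempty (T.F n ≅ F.rightDerived n) :=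
  Groth.Agent.Helper24.SieveCech.iso_of_universal T (rdDelta F)
    (Groth.Agent.S6773.result T hT) (rdDelta_universal F)
    (e ≪≫ F.rightDerivedZeroIsoSelf.symm) n

theorem nonempty_iso_rightDerived_obj (T : CohDeltaFunctor A B ℕ) (hT : T.IsEffaceable)
    (F : A ⥤ B) [F.Additive] [PreservesFiniteLimits F] (e : T.F 0 ≅ F) (n : ℕ) (X : A) :
    Nonempty ((T.F n).obj X ≅ (F.rightDerived n).obj X) := by
  obtain ⟨i⟩ := nonempty_iso_rightDerived T hT F e n
  exact ⟨i.app X⟩

/-- right derived functors of isomorphic functors -/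
theorem nonempty_rightDerived_iso_of_iso (F G : A ⥤ B) [F.Additive] [G.Additive] (e : F ≅ G)
    (n : ℕ) : Nonempty (F.rightDerived n ≅ G.rightDerived n) :=
  ⟨{ hom := NatTrans.rightDerived e.hom n
     inv := NatTrans.rightDerived e.inv n
     hom_inv_id := by rw [← NatTrans.rightDerived_comp, e.hom_inv_id, NatTrans.rightDerived_id]
     inv_hom_id := by rw [← NatTrans.rightDerived_comp, e.inv_hom_id, NatTrans.rightDerived_id] }⟩

end RD

end Groth.Agent.Helper24.GSS
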