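import Mathlib
import Groth.Agent.Lib.Helper24.Horseshoe3

/-!
# Leray's acyclicity lemma

Self-contained copy (to keep the import graph of the `GSS` libraries small) of the acyclicity
lemmas of `Groth.Agent.Lib.Helper9.Leray1` (due to helper9).
-/

set_option autoImplicit false
universe w w' v u v' u'
open CategoryTheory CategoryTheory.Limits HomologicalComplex

namespace Groth.Agent.Helper24.GSS.Acyc

section Aux

variable {A : Type u} [Category.{v} A] [Abelian A]

theorem exact_splice {I₀ Y₁ I₁ Y₂ I₂ : A} (q₀ : I₀ ⟶ Y₁) (ι₁ : Y₁ ⟶ I₁) (q₁ : I₁ ⟶ Y₂)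
    (ι₂ : Y₂ ⟶ I₂) [Epi q₀] [Mono ι₂] (w : ι₁ ≫ q₁ = 0) (h : (ShortComplex.mk ι₁ q₁ w).Exact)
    (f : I₀ ⟶ I₁) (g : I₁ ⟶ I₂) (hf : f = q₀ ≫ ι₁) (hg : g = q₁ ≫ ι₂) (w' : f ≫ g = 0) :
    (ShortComplex.mk f g w').Exact := by
  subst hf hg
  rw [ShortComplex.exact_iff_exact_up_to_refinements]
  intro Z x hx
  dsimp at x hx
  have hx' : x ≫ q₁ = 0 := by rw [← cancel_mono ι₂, Category.assoc, hx, zero_comp]
  obtain ⟨Z₁, π₁, hπ₁, y, hy⟩ := h.exact_up_to_refinements x hx'
  dsimp at y hy
  obtain ⟨Z₂, π₂, hπ₂, z, hz⟩ := surjective_up_to_refinements_of_epi q₀ y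
  refine ⟨Z₂, π₂ ≫ π₁, inferInstance, z, ?_⟩
  dsimp
  rw [Category.assoc, hy, ← Category.assoc, hz, Category.assoc]

/-- The short exact sequence attached to a monomorphism of complexes. -/
theorem shortExact_cokernel {E C' : CochainComplex A ℤ} (i : E ⟶ C') [Mono i] :
    (ShortComplex.mk i (cokernel.π i) (cokernel.condition i)).ShortExact :=
  { exact := ShortComplex.exact_cokernel i
    mono_f := inferInstanceAs (Mono i)
    epi_g := inferInstanceAs (Epi (cokernel.π i)) }

end Aux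

variable {C : Type u} [Category.{v} C] [Abelian C] [EnoughInjectives C]
  {D : Type u'} [Category.{v'} D] [Abelian D] (F : C ⥤ D) [F.Additive]

/-- `F`-acyclic objects. -/
def Acyc (X : C) : Prop := ∀ i : ℕ, 0 < i → IsZero ((F.rightDerived i).obj X)

lemma acyc_of_isZero {X : C} (h : IsZero X) : Acyc F X := fun i _ =>
  (F.rightDerived i).map_isZero h

lemma acyc_of_injective (X : C) [Injective X] : Acyc F X := by
  intro i hi
  obtain ⟨j, rfl⟩ : ∃ j, i = j + 1 := ⟨i - 1, by omega⟩
  exact F.isZero_rightDerived_obj_injective_succ j X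

lemma acyc_X₃ (S : ShortComplex C) (hS : S.ShortExact) (h₁ : Acyc F S.X₁) (h₂ : Acyc F S.X₂) :
    Acyc F S.X₃ := by
  intro i hi
  exact ((Groth.Agent.Helper24.Horseshoe.derivedLES F).exact₃ S hS i (i + 1) rfl).isZero_X₂
    ((h₂ i hi).eq_of_src _ _) ((h₁ (i + 1) (by omega)).eq_of_tgt _ _)

section LeftExact

variable [PreservesFiniteLimits F]

lemma epi_map_g (S : ShortComplex C) (hS : S.ShortExact) (h₁ : Acyc F S.X₁) :
    Epi (F.map S.g) := by
  have h := (Groth.Agent.Helper24.Horseshoe.derivedLES F).exact₃ S hS 0 1 rfl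
  have h0 : Epi ((F.rightDerived 0).map S.g) := h.epi_f ((h₁ 1 (by omega)).eq_of_tgt _ _)
  have e : F.map S.g = (F.rightDerivedZeroIsoSelf.app S.X₂).inv ≫ (F.rightDerived 0).map S.g ≫
      (F.rightDerivedZeroIsoSelf.app S.X₃).hom := by
    simp
  rw [e]
  exact epi_comp' inferInstance (epi_comp' h0 inferInstance)

lemma shortExact_map (S : ShortComplex C) (hS : S.ShortExact) (h₁ : Acyc F S.X₁) :
    (S.map F).ShortExact := by
  haveI := hS.mono_f
  have hm : Mono (S.map F).f := inferInstanceAs (Mono (F.map S.f))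
  have he : Epi (S.map F).g := epi_map_g F S hS h₁
  exact ShortComplex.ShortExact.mk'
    (hS.exact.map_of_mono_of_preservesKernel F hS.mono_f inferInstance) hm he

end LeftExact

section Cycles

variable (K : CochainComplex C ℤ)

/-- The short complex `Z^m → K^m → Z^{m+1}`. -/
noncomputable def zsc (m : ℤ) : ShortComplex C :=
  ShortComplex.mk (K.iCycles m) (K.toCycles m (m + 1)) (by
    rw [← cancel_mono (K.iCycles (m + 1)), Category.assoc, K.toCycles_i, K.iCycles_d, zero_comp])

omit [EnoughInjectives C] in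
theorem zsc_exact (m : ℤ) : (zsc K m).Exact := by
  rw [ShortComplex.exact_iff_exact_up_to_refinements]
  intro A x hx
  obtain ⟨x', rfl⟩ : ∃ x' : A ⟶ K.X m, x' = x := ⟨x, rfl⟩
  have hx' : x' ≫ K.d m (m + 1) = 0 := by
    have : x' ≫ K.toCycles m (m + 1) = 0 := hx
    rw [← K.toCycles_i m (m + 1), reassoc_of% this, zero_comp]
  refine ⟨A, 𝟙 A, inferInstance, K.liftCycles x' (m + 1) (by simp) hx', ?_⟩
  show 𝟙 A ≫ x' = K.liftCycles x' (m + 1) (by simp) hx' ≫ K.iCycles m
  rw [K.liftCycles_i, Category.id_comp]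

omit [EnoughInjectives C] in
theorem epi_toCycles (m : ℤ) (h : K.ExactAt (m + 1)) : Epi (K.toCycles m (m + 1)) := by
  rw [HomologicalComplex.exactAt_iff' _ m (m + 1) (m + 1 + 1) (by simp) (by simp),
    ShortComplex.exact_iff_exact_up_to_refinements] at h
  rw [epi_iff_surjective_up_to_refinements]
  intro A x
  obtain ⟨A', π, hπ, y, hy⟩ := h (x ≫ K.iCycles (m + 1)) (by
    show (x ≫ K.iCycles (m + 1)) ≫ K.d (m + 1) (m + 1 + 1) = 0
    rw [Category.assoc, K.iCycles_d, comp_zero])
  refine ⟨A', π, hπ, y, ?_⟩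
  rw [← cancel_mono (K.iCycles (m + 1)), Category.assoc, Category.assoc, K.toCycles_i]
  exact hy

omit [EnoughInjectives C] in
theorem zsc_shortExact (hK : K.Acyclic) (m : ℤ) : (zsc K m).ShortExact :=
  have hm : Mono (zsc K m).f := inferInstanceAs (Mono (K.iCycles m))
  have he : Epi (zsc K m).g := epi_toCycles K m (hK (m + 1))
  ShortComplex.ShortExact.mk' (zsc_exact K m) hm he

theorem acyc_cycles (n : ℤ) [K.IsStrictlyGE n] (hK : K.Acyclic) (hA : ∀ m, Acyc F (K.X m))
    (m : ℤ) : Acyc F (K.cycles m) := by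
  have step : ∀ m, Acyc F (K.cycles m) → Acyc F (K.cycles (m + 1)) := fun m h =>
    acyc_X₃ F (zsc K m) (zsc_shortExact K hK m) h (hA m)
  by_cases hm : m < n
  · exact acyc_of_isZero F (IsZero.of_mono (K.iCycles m) (K.isZero_of_isStrictlyGE n m hm))
  · have key : ∀ m, n - 1 ≤ m → Acyc F (K.cycles m) := fun m hm =>
      Int.le_induction (motive := fun m _ => Acyc F (K.cycles m))
        (acyc_of_isZero F (IsZero.of_mono (K.iCycles (n - 1))
          (K.isZero_of_isStrictlyGE n (n - 1) (by omega)))) (fun k _ ih => step k ih) m hm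
    exact key m (by omega)

variable [PreservesFiniteLimits F]

theorem acyclic_map (n : ℤ) [K.IsStrictlyGE n] (hK : K.Acyclic) (hA : ∀ m, Acyc F (K.X m)) :
    ((F.mapHomologicalComplex (ComplexShape.up ℤ)).obj K).Acyclic := by
  intro j
  obtain ⟨m, rfl⟩ : ∃ m, j = m + 1 := ⟨j - 1, by omega⟩
  rw [HomologicalComplex.exactAt_iff' _ m (m + 1) (m + 1 + 1) (by simp) (by simp)]
  have h1 := shortExact_map F (zsc K m) (zsc_shortExact K hK m) (acyc_cycles F K n hK hA m)
  have h2 := shortExact_map F (zsc K (m + 1)) (zsc_shortExact K hK (m + 1))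
    (acyc_cycles F K n hK hA (m + 1))
  have h3 := shortExact_map F (zsc K (m + 1 + 1)) (zsc_shortExact K hK (m + 1 + 1))
    (acyc_cycles F K n hK hA (m + 1 + 1))
  haveI : Epi (F.map (K.toCycles m (m + 1))) := h1.epi_g
  haveI : Mono (F.map (K.iCycles (m + 1 + 1))) := h3.mono_f
  exact exact_splice (F.map (K.toCycles m (m + 1)))
    (F.map (K.iCycles (m + 1)))
    (F.map (K.toCycles (m + 1) (m + 1 + 1))) (F.map (K.iCycles (m + 1 + 1))) _ h2.exact
    _ _ (by rw [Functor.mapHomologicalComplex_obj_d, ← F.map_comp, K.toCycles_i])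
    (by rw [Functor.mapHomologicalComplex_obj_d, ← F.map_comp, K.toCycles_i]) _

end Cycles

omit [EnoughInjectives C] in
theorem quasiIso_of_acyclic_X₃ {S : ShortComplex (CochainComplex D ℤ)} (hS : S.ShortExact)
    (h : S.X₃.Acyclic) : QuasiIso S.f := by
  rw [quasiIso_iff]
  intro i
  rw [quasiIsoAt_iff_isIso_homologyMap]
  have hz : ∀ j, IsZero (S.X₃.homology j) := fun j =>
    (HomologicalComplex.exactAt_iff_isZero_homology _ _).1 (h j)
  have hm : Mono (homologyMap S.f i) :=
    (hS.homology_exact₁ (i - 1) i (by simp)).mono_g ((hz (i - 1)).eq_of_src _ _)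
  have he : Epi (homologyMap S.f i) := (hS.homology_exact₂ i).epi_f ((hz i).eq_of_tgt _ _)
  exact isIso_of_mono_of_epi _

variable [PreservesFiniteLimits F]

theorem quasiIso_map_of_mono {K L : CochainComplex C ℤ} (i : K ⟶ L) [Mono i] [QuasiIso i]
    (n : ℤ) [L.IsStrictlyGE n]
    (hK : ∀ m, Acyc F (K.X m)) (hL : ∀ m, Acyc F (L.X m)) :
    QuasiIso ((F.mapHomologicalComplex (ComplexShape.up ℤ)).map i) := by
  let S : ShortComplex (CochainComplex C ℤ) :=
    ShortComplex.mk i (cokernel.π i) (cokernel.condition i)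
  have hS : S.ShortExact := shortExact_cokernel i
  have hSm : ∀ m, (S.map (HomologicalComplex.eval C (ComplexShape.up ℤ) m)).ShortExact := fun m =>
    hS.map_of_exact (HomologicalComplex.eval C (ComplexShape.up ℤ) m)
  have hQA : ∀ m, Acyc F ((cokernel i).X m) := fun m =>
    acyc_X₃ F _ (hSm m) (hK m) (hL m)
  have hQac : (cokernel i).Acyclic := hS.acyclic_X₃ (inferInstanceAs (QuasiIso i))
  haveI : (cokernel i).IsStrictlyGE n := by
    rw [CochainComplex.isStrictlyGE_iff]
    intro m hm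
    haveI : Epi ((cokernel.π i).f m) := (hSm m).epi_g
    exact IsZero.of_epi ((cokernel.π i).f m) (L.isZero_of_isStrictlyGE n m hm)
  have hFQ := acyclic_map F (cokernel i) n hQac hQA
  let S' := S.map (F.mapHomologicalComplex (ComplexShape.up ℤ))
  have hS' : S'.ShortExact :=
    HomologicalComplex.shortExact_of_degreewise_shortExact S' (fun m =>
      shortExact_map F _ (hSm m) (hK m))
  exact quasiIso_of_acyclic_X₃ hS' hFQ

end Groth.Agent.Helper24.GSS.Acyc
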