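import Mathlib
import Groth.Prelude.Def_SpSeq
open CategoryTheory Limits
universe v u

namespace Groth.Agent.Helper24.GSS

section Bridge

open Pretriangulated ComposableArrows

variable {C : Type*} [Category C] [HasZeroObject C] [HasShift C ℤ] [Preadditive C]
  [∀ (n : ℤ), (shiftFunctor C n).Additive] [Pretriangulated C]
  {ι : Type*} [Category ι] {A : Type*} [Category A] [Abelian A]

/-- The abelian spectral object obtained by applying a homological functor to a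
spectral object in a triangulated category. -/
noncomputable def mapHomological (X : Triangulated.SpectralObject C ι) (F : C ⥤ A)
    [F.IsHomological] [F.ShiftSequence ℤ] : Abelian.SpectralObject A ι where
  H n := X.ω₁ ⋙ F.shift n
  δ' n₀ n₁ h :=
    { app := fun D => F.homologySequenceδ (X.ω₂.obj D) n₀ n₁ h
      naturality := fun _ _ φ =>
        F.homologySequenceδ_naturality _ _ (X.ω₂.map φ) n₀ n₁ h }
  exact₁' n₀ n₁ h D :=
    (F.homologySequence_exact₁ _ (X.ω₂_obj_distinguished D) n₀ n₁ h).exact_toComposableArrows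
  exact₂' n D :=
    (F.homologySequence_exact₂ _ (X.ω₂_obj_distinguished D) n).exact_toComposableArrows
  exact₃' n₀ n₁ h D :=
    (F.homologySequence_exact₃ _ (X.ω₂_obj_distinguished D) n₀ n₁ h).exact_toComposableArrows

end Bridge

section AbLem

variable {𝒞 : Type u} [Category.{v} 𝒞] [Abelian 𝒞]
variable {A B K H : 𝒞} (a : A ⟶ B) (k : K ⟶ B) (u : B ⟶ H)

lemma image_le : imageSubobject (a ≫ u) ≤ imageSubobject u := imageSubobject_comp_le a u

/-- the projection `B ⟶ im u / im (a ≫ u)` -/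
noncomputable def grπ :
    B ⟶ cokernel ((imageSubobject (a ≫ u)).ofLE (imageSubobject u) (image_le a u)) :=
  factorThruImageSubobject u ≫ cokernel.π _

instance : Epi (grπ a u) := by unfold grπ; infer_instance

lemma a_factor : a ≫ factorThruImageSubobject u =
    factorThruImageSubobject (a ≫ u) ≫ (imageSubobject (a ≫ u)).ofLE (imageSubobject u) (image_le a u) := by
  rw [← cancel_mono (imageSubobject u).arrow, Category.assoc, Category.assoc,
    imageSubobject_arrow_comp, Subobject.ofLE_arrow, imageSubobject_arrow_comp]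

lemma desc_grπ (w : k ≫ u = 0) : biprod.desc a k ≫ grπ a u = 0 := by
  apply biprod.hom_ext'
  · rw [biprod.inl_desc_assoc, comp_zero]
    unfold grπ
    rw [← Category.assoc, a_factor, Category.assoc, cokernel.condition, comp_zero]
  · rw [biprod.inr_desc_assoc, comp_zero]
    unfold grπ
    have : k ≫ factorThruImageSubobject u = 0 := by
      rw [← cancel_mono (imageSubobject u).arrow, Category.assoc, imageSubobject_arrow_comp, w,
        zero_comp]
    rw [← Category.assoc, this, zero_comp]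

lemma grπ_exact (w : k ≫ u = 0) (hex : (ShortComplex.mk k u w).Exact) :
    (ShortComplex.mk (biprod.desc a k) (grπ a u) (desc_grπ a k u w)).Exact := by
  rw [ShortComplex.exact_iff_exact_up_to_refinements]
  intro T x hx
  dsimp at x hx
  have hx' : (x ≫ factorThruImageSubobject u) ≫ cokernel.π
      ((imageSubobject (a ≫ u)).ofLE (imageSubobject u) (image_le a u)) = 0 := by
    rw [Category.assoc]; exact hx
  obtain ⟨T₁, π₁, hπ₁, y₁, hy₁⟩ :=
    (ShortComplex.exact_cokernel ((imageSubobject (a ≫ u)).ofLE (imageSubobject u)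
      (image_le a u))).exact_up_to_refinements (x ≫ factorThruImageSubobject u) hx'
  dsimp at y₁ hy₁
  obtain ⟨T₂, π₂, hπ₂, z, hz⟩ :=
    surjective_up_to_refinements_of_epi (factorThruImageSubobject (a ≫ u)) y₁
  have h3 : (π₂ ≫ π₁ ≫ x - z ≫ a) ≫ u = 0 := by
    rw [Preadditive.sub_comp, sub_eq_zero]
    calc (π₂ ≫ π₁ ≫ x) ≫ u
        = π₂ ≫ (π₁ ≫ x ≫ factorThruImageSubobject u) ≫ (imageSubobject u).arrow := by
          simp only [Category.assoc, imageSubobject_arrow_comp]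
      _ = π₂ ≫ (y₁ ≫ (imageSubobject (a ≫ u)).ofLE (imageSubobject u) (image_le a u)) ≫
            (imageSubobject u).arrow := by rw [hy₁]
      _ = (π₂ ≫ y₁) ≫ (imageSubobject (a ≫ u)).arrow := by
          simp only [Category.assoc, Subobject.ofLE_arrow]
      _ = (z ≫ a) ≫ u := by
          rw [hz]; simp only [Category.assoc, imageSubobject_arrow_comp]
  obtain ⟨T₃, π₃, hπ₃, w₃, hw₃⟩ := hex.exact_up_to_refinements _ h3
  dsimp at w₃ hw₃
  refine ⟨T₃, π₃ ≫ π₂ ≫ π₁, inferInstance, biprod.lift (π₃ ≫ z) w₃, ?_⟩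
  rw [biprod.lift_desc, ← hw₃, Preadditive.comp_sub]
  simp only [Category.assoc]
  abel

/-- `im u / im (a ≫ u) ≅ coker (A ⊞ K ⟶ B)` when `K ⟶ B ⟶ H` is exact. -/
noncomputable def grIsoCokernel (w : k ≫ u = 0) (hex : (ShortComplex.mk k u w).Exact) :
    cokernel ((imageSubobject (a ≫ u)).ofLE (imageSubobject u) (image_le a u)) ≅
      cokernel (biprod.desc a k) :=
  IsColimit.coconePointUniqueUpToIso (grπ_exact a k u w hex).gIsCokernel
    (colimit.isColimit (parallelPair (biprod.desc a k) 0))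

/-- variant with a named composite -/
noncomputable def grIsoCokernel' (v : A ⟶ H) (hv : a ≫ u = v) (w : k ≫ u = 0)
    (hex : (ShortComplex.mk k u w).Exact) (hle : imageSubobject v ≤ imageSubobject u) :
    cokernel ((imageSubobject v).ofLE (imageSubobject u) hle) ≅ cokernel (biprod.desc a k) := by
  subst hv
  exact grIsoCokernel a k u w hex

lemma imageSubobject_eq_top_of_epi {X Y : 𝒞} (f : X ⟶ Y) [Epi f] : imageSubobject f = ⊤ := by
  have : Epi (imageSubobject f).arrow := by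
    have h : Epi (factorThruImageSubobject f ≫ (imageSubobject f).arrow) := by
      rw [imageSubobject_arrow_comp]; infer_instance
    exact epi_of_epi (factorThruImageSubobject f) _
  have : IsIso (imageSubobject f).arrow := isIso_of_mono_of_epi _
  exact Subobject.eq_top_of_isIso_arrow _

lemma exact_comp_iso {X₁ X₂ X₃ X₃' : 𝒞} (f : X₁ ⟶ X₂) (g : X₂ ⟶ X₃) (w : f ≫ g = 0)
    (hex : (ShortComplex.mk f g w).Exact) (i : X₃ ⟶ X₃') [Mono i] :
    (ShortComplex.mk f (g ≫ i) (by rw [← Category.assoc, w, zero_comp])).Exact := by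
  rw [ShortComplex.exact_iff_exact_up_to_refinements]
  intro T x hx
  dsimp at x hx
  have : x ≫ g = 0 := by
    rw [← cancel_mono i]; simpa using hx
  exact hex.exact_up_to_refinements x this

end AbLem

section Conv

open ComposableArrows Abelian.SpectralObject

variable {A : Type u} [Category.{v} A] [Abelian A] (Y : Abelian.SpectralObject A EInt)

lemma cae {n : ℕ} {D D' : ComposableArrows EInt n} (f g : D ⟶ D') : f = g :=
  NatTrans.ext (funext fun _ => Subsingleton.elim _ _)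

variable (H' : ℤ → A)
  (e : ∀ n, (Y.H n).obj (mk₁ (homOfLE (bot_le : (⊥ : EInt) ≤ ⊤))) ≅ H' n)

/-- the map `H^n(⊥ ≤ j) ⟶ H' n` -/
noncomputable def toAb (n : ℤ) (j : EInt) :
    (Y.H n).obj (mk₁ (homOfLE (bot_le : (⊥ : EInt) ≤ j))) ⟶ H' n :=
  (Y.H n).map (twoδ₂Toδ₁' ⊥ j ⊤ bot_le le_top) ≫ (e n).hom

lemma toAb_fac (n : ℤ) (j' j : EInt) (h : j' ≤ j) :
    (Y.H n).map (twoδ₂Toδ₁' ⊥ j' j bot_le h) ≫ toAb Y H' e n j = toAb Y H' e n j' := by
  unfold toAb
  rw [← Category.assoc, ← Functor.map_comp]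
  congr 2

/-- the filtration on the abutment -/
noncomputable def fil (n p : ℤ) : Subobject (H' n) :=
  imageSubobject (toAb Y H' e n ((n - p + 1 : ℤ) : EInt))

lemma fil_le (n : ℤ) (j' j : EInt) (h : j' ≤ j) :
    imageSubobject (toAb Y H' e n j') ≤ imageSubobject (toAb Y H' e n j) :=
  SpSeq.FilCx.imageSubobject_le_of_fac _ (toAb_fac Y H' e n j' j h)

lemma fil_anti (n : ℤ) : Antitone (fil Y H' e n) := by
  intro p p' hpp'
  apply fil_le
  exact WithBotTop.coe_le_coe.2 (by lia)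

/-- `gr` of the filtration is the `E_∞`-term `E^n(⊥ ≤ j₀ ≤ j₁ ≤ ⊤)`. -/
noncomputable def grIsoE (n : ℤ) (j₀ j₁ : EInt) (h : j₀ ≤ j₁)
    (hle : imageSubobject (toAb Y H' e n j₀) ≤ imageSubobject (toAb Y H' e n j₁)) :
    cokernel ((imageSubobject (toAb Y H' e n j₀)).ofLE (imageSubobject (toAb Y H' e n j₁)) hle) ≅
      Y.E (homOfLE (bot_le : (⊥ : EInt) ≤ j₀)) (homOfLE h) (homOfLE (le_top : j₁ ≤ ⊤))
        (n - 1) n (n + 1) (by lia) (by lia) := by
  let f₁ : (⊥ : EInt) ⟶ j₀ := homOfLE bot_le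
  let f₂ : j₀ ⟶ j₁ := homOfLE h
  let f₃ : j₁ ⟶ (⊤ : EInt) := homOfLE le_top
  let f₁₂ : (⊥ : EInt) ⟶ j₁ := homOfLE bot_le
  have h₁₂ : f₁ ≫ f₂ = f₁₂ := rfl
  have hw : Y.δ f₁₂ f₃ (n - 1) n (by lia) ≫ toAb Y H' e n j₁ = 0 := by
    unfold toAb
    rw [← Category.assoc]
    erw [Y.zero₁ f₁₂ f₃ _ rfl (n - 1) n (by lia)]
    rw [zero_comp]
  have hex : (ShortComplex.mk (Y.δ f₁₂ f₃ (n - 1) n (by lia)) (toAb Y H' e n j₁) hw).Exact :=
    exact_comp_iso _ _ _ (Y.exact₁ f₁₂ f₃ _ rfl (n - 1) n (by lia)) (e n).hom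
  have iso1 := grIsoCokernel' ((Y.H n).map (twoδ₂Toδ₁ f₁ f₂ f₁₂ h₁₂))
    (Y.δ f₁₂ f₃ (n - 1) n (by lia)) (toAb Y H' e n j₁) (toAb Y H' e n j₀)
    (toAb_fac Y H' e n j₀ j₁ h) hw hex hle
  have iso2 : Y.E f₁ f₂ f₃ (n - 1) n (n + 1) (by lia) (by lia) ≅
      cokernel (biprod.desc ((Y.H n).map (twoδ₂Toδ₁ f₁ f₂ f₁₂ h₁₂))
        (Y.δ f₁₂ f₃ (n - 1) n (by lia))) :=
    IsColimit.coconePointUniqueUpToIso
      (Y.cokernelSequenceE_exact f₁ f₂ f₃ f₁₂ h₁₂ (n - 1) n (n + 1) (by lia) (by lia)).gIsCokernel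
      (colimit.isColimit (parallelPair _ 0))
  exact iso1 ≪≫ iso2.symm

variable [Y.IsFirstQuadrant]

lemma isZero_page_of_fst_neg (r : ℤ) (hr : 2 ≤ r) (pq : ℤ × ℤ) (h : pq.1 < 0) :
    IsZero ((Y.E₂SpectralSequence.page r hr).X pq) :=
  isZero_spectralSequence_page_X_of_isZero_H' _ _ _ hr _
    (Y.isZero₂_of_isFirstQuadrant _ _ _ _ (by simp; lia))

lemma isZero_page_of_snd_neg (r : ℤ) (hr : 2 ≤ r) (pq : ℤ × ℤ) (h : pq.2 < 0) :
    IsZero ((Y.E₂SpectralSequence.page r hr).X pq) :=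
  isZero_spectralSequence_page_X_of_isZero_H' _ _ _ hr _
    (Y.isZero₁_of_isFirstQuadrant _ _ _ (by simp; lia) _)

/-- the stationarity page -/
def rk (pq : ℤ × ℤ) : ℤ := max 2 (max (pq.1 + 1) (pq.2 + 2))

lemma two_le_rk (pq : ℤ × ℤ) : 2 ≤ rk pq := le_max_left _ _
lemma fst_le_rk (pq : ℤ × ℤ) : pq.1 + 1 ≤ rk pq := (le_max_left _ _).trans (le_max_right _ _)
lemma snd_le_rk (pq : ℤ × ℤ) : pq.2 + 2 ≤ rk pq := (le_max_right _ _).trans (le_max_right _ _)

lemma stationary (pq : ℤ × ℤ) : SpSeq.StationaryAt Y.E₂SpectralSequence pq (rk pq) := by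
  refine ⟨two_le_rk pq, fun r' h₀ hr' => ⟨?_, ?_⟩⟩
  · apply (isZero_page_of_fst_neg Y r' h₀ (pq - (r', 1 - r')) ?_).eq_of_src
    have := fst_le_rk pq
    simp only [Prod.fst_sub]
    lia
  · apply (isZero_page_of_snd_neg Y r' h₀ (pq + (r', 1 - r')) ?_).eq_of_tgt
    have := snd_le_rk pq
    simp only [Prod.snd_add]
    lia

/-- the identification of a page object at a stationary page with `gr` -/
noncomputable def pageIsoGr (pq : ℤ × ℤ) (r : ℤ) (hr : 2 ≤ r) (hr1 : pq.1 + 1 ≤ r)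
    (hr2 : pq.2 + 2 ≤ r) :
    (Y.E₂SpectralSequence.page r hr).X pq ≅
      SpSeq.grPiece (fil Y H' e (pq.1 + pq.2)) (fil_anti Y H' e (pq.1 + pq.2)) pq.1 := by
  have e1 : pq.1 + pq.2 - (pq.1 + 1) + 1 = pq.2 := by ring
  have e2 : pq.1 + pq.2 - pq.1 + 1 = pq.2 + 1 := by ring
  have hi₀₁ : ((pq.2 - r + 2 : ℤ) : EInt) ≤ ((pq.1 + pq.2 - (pq.1 + 1) + 1 : ℤ) : EInt) :=
    WithBotTop.coe_le_coe.2 (by lia)
  have hi₁₂ : ((pq.1 + pq.2 - (pq.1 + 1) + 1 : ℤ) : EInt) ≤ ((pq.1 + pq.2 - pq.1 + 1 : ℤ) : EInt) :=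
    WithBotTop.coe_le_coe.2 (by lia)
  have hi₂₃ : ((pq.1 + pq.2 - pq.1 + 1 : ℤ) : EInt) ≤ ((pq.2 + r - 1 : ℤ) : EInt) :=
    WithBotTop.coe_le_coe.2 (by lia)
  have s1 := Y.spectralSequencePageXIso coreE₂Cohomological r hr pq
    ((pq.2 - r + 2 : ℤ) : EInt) ((pq.1 + pq.2 - (pq.1 + 1) + 1 : ℤ) : EInt)
    ((pq.1 + pq.2 - pq.1 + 1 : ℤ) : EInt) ((pq.2 + r - 1 : ℤ) : EInt)
    rfl (by rw [e1]; rfl) (by rw [e2]; rfl) rfl
    (pq.1 + pq.2 - 1) (pq.1 + pq.2) (pq.1 + pq.2 + 1) rfl (by lia) (by lia)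
  have s2 := Y.isoMapFourδ₁Toδ₀' ⊥ _ _ _ _ bot_le hi₀₁ hi₁₂ hi₂₃
    (pq.1 + pq.2 - 1) (pq.1 + pq.2) (pq.1 + pq.2 + 1)
    (Y.isZero₁_of_isFirstQuadrant _ _ _ (WithBotTop.coe_le_coe.2 (by lia)) _) (by lia) (by lia)
  have s3 := Y.isoMapFourδ₄Toδ₃' ⊥ _ _ _ ⊤ bot_le hi₁₂ hi₂₃ le_top
    (pq.1 + pq.2 - 1) (pq.1 + pq.2) (pq.1 + pq.2 + 1)
    (Y.isZero₂_of_isFirstQuadrant _ _ _ _ (WithBotTop.coe_lt_coe.2 (by lia))) (by lia) (by lia)
  have s4 := grIsoE Y H' e (pq.1 + pq.2) _ _ hi₁₂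
    (fil_le Y H' e (pq.1 + pq.2) _ _ hi₁₂)
  exact s1 ≪≫ s2.symm ≪≫ s3 ≪≫ s4.symm

/-- the abutment of the `E₂`-spectral sequence of a first quadrant spectral object -/
noncomputable def abutment : SpSeq.Abutment Y.E₂SpectralSequence H' where
  fil n := fil Y H' e n
  anti n := fil_anti Y H' e n
  rk := rk
  stat pq := stationary Y pq
  β pq := pageIsoGr Y H' e pq (rk pq) (two_le_rk pq) (fst_le_rk pq) (snd_le_rk pq)

lemma epi_toAb (n : ℤ) (j : EInt) (hj : (n : EInt) < j) : Epi (toAb Y H' e n j) := by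
  have h2 := Y.exact₂ (homOfLE (bot_le : (⊥ : EInt) ≤ j)) (homOfLE (le_top : j ≤ ⊤))
    (homOfLE bot_le) rfl n
  have hz : IsZero ((Y.H n).obj (mk₁ (homOfLE (le_top : j ≤ ⊤)))) :=
    Y.isZero₂_of_isFirstQuadrant _ _ _ _ hj
  have : Epi ((Y.H n).map (twoδ₂Toδ₁' ⊥ j ⊤ bot_le le_top)) := h2.epi_f (hz.eq_of_tgt _ _)
  unfold toAb
  infer_instance

lemma toAb_eq_zero (n : ℤ) (j : EInt) (hj : j ≤ ((0 : ℤ) : EInt)) : toAb Y H' e n j = 0 :=
  (Y.isZero₁_of_isFirstQuadrant _ _ _ hj _).eq_of_src _ _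

lemma abutment_isFinite (n : ℤ) : (abutment Y H' e).IsFinite n := by
  refine ⟨⟨0, ?_⟩, ⟨n + 1, ?_⟩⟩
  · show imageSubobject (toAb Y H' e n ((n - 0 + 1 : ℤ) : EInt)) = ⊤
    have := epi_toAb Y H' e n ((n - 0 + 1 : ℤ) : EInt) (WithBotTop.coe_lt_coe.2 (by lia))
    exact imageSubobject_eq_top_of_epi _
  · show imageSubobject (toAb Y H' e n ((n - (n + 1) + 1 : ℤ) : EInt)) = ⊥
    rw [toAb_eq_zero Y H' e n _ (WithBotTop.coe_le_coe.2 (by lia))]
    exact imageSubobject_zero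

lemma isBounded : SpSeq.IsBounded Y.E₂SpectralSequence := by
  intro n
  refine (Set.finite_Icc (0 : ℤ) n).subset ?_
  intro p hp
  simp only [Set.mem_ofPred_eq] at hp
  by_contra hcon
  simp only [Set.mem_Icc, not_and_or, not_le] at hcon
  rcases hcon with h | h
  · exact hp (isZero_page_of_fst_neg Y 2 le_rfl (p, n - p) h)
  · exact hp (isZero_page_of_snd_neg Y 2 le_rfl (p, n - p) (by simp only; lia))

/-- the `E₂`-terms -/
noncomputable def pageTwoIso (p q : ℤ) :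
    (Y.E₂SpectralSequence.page 2 le_rfl).X (p, q) ≅
      (Y.H (p + q)).obj (mk₁ (homOfLE (WithBotTop.coe_le_coe.2 (by lia) :
        ((q : ℤ) : EInt) ≤ ((q + 1 : ℤ) : EInt)))) := by
  have s1 := Y.spectralSequencePageXIso coreE₂Cohomological 2 le_rfl (p, q)
    ((q : ℤ) : EInt) ((q : ℤ) : EInt) ((q + 1 : ℤ) : EInt) ((q + 1 : ℤ) : EInt)
    (by simp) rfl rfl (by simp; ring_nf)
    (p + q - 1) (p + q) (p + q + 1) rfl (by lia) (by lia)
  exact s1 ≪≫ Y.EIsoH _ (p + q - 1) (p + q) (p + q + 1) (by lia) (by lia)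

/-- **Existence of the convergent `E₂` spectral sequence of a first quadrant spectral object.** -/
theorem exists_spectralSequence (E2 : ℤ → ℤ → A)
    (h2 : ∀ p q : ℤ, Nonempty ((Y.H (p + q)).obj (mk₁ (homOfLE (WithBotTop.coe_le_coe.2 (by lia) :
        ((q : ℤ) : EInt) ≤ ((q + 1 : ℤ) : EInt)))) ≅ E2 p q))
    (hH : ∀ n, Nonempty ((Y.H n).obj (mk₁ (homOfLE (bot_le : (⊥ : EInt) ≤ ⊤))) ≅ H' n)) :
    ∃ (E : E₂CohomologicalSpectralSequence A) (a : SpSeq.Abutment E H'),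
      (∀ n, a.IsFinite n) ∧ SpSeq.IsBounded E ∧
      ∀ p q : ℤ, Nonempty ((E.page 2 le_rfl).X (p, q) ≅ E2 p q) :=
  ⟨Y.E₂SpectralSequence, abutment Y H' (fun n => (hH n).some),
    fun n => abutment_isFinite Y H' _ n, isBounded Y,
    fun p q => ⟨pageTwoIso Y p q ≪≫ (h2 p q).some⟩⟩

end Conv

end Groth.Agent.Helper24.GSS
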