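import Mathlib
import Groth.Agent.Lib.Helper24.GSSConv
open CategoryTheory Limits
universe w w' v v' u u'

namespace Groth.Agent.Helper24.GSS

section ExtLem

open HomologicalComplex

variable {C : Type u} [Category.{v} C] [Abelian C] {D : Type u'} [Category.{v'} D] [Abelian D]
  (F : C ⥤ D) [F.Additive]
  {ι ι' : Type*} {c : ComplexShape ι} {c' : ComplexShape ι'} (e : c.Embedding c')
  (K : HomologicalComplex C c)

/-- auxiliary isomorphism -/
noncomputable def extXIso : ∀ (i : Option ι),
    F.obj (extend.X K i) ≅ extend.X ((F.mapHomologicalComplex c).obj K) i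
  | some _ => Iso.refl _
  | none => IsZero.iso (F.map_isZero (isZero_zero _)) (isZero_zero _)

lemma extXIso_hom_d (i j : Option ι) :
    (extXIso F K i).hom ≫ extend.d ((F.mapHomologicalComplex c).obj K) i j =
      F.map (extend.d K i j) ≫ (extXIso F K j).hom :=
  match i, j with
  | none, _ => by
      simp only [extend.d_none_eq_zero, comp_zero, Functor.map_zero, zero_comp]
  | some i, some j => by
      dsimp [extXIso, extend.d]
      erw [Category.id_comp, Category.comp_id]
      rfl
  | some _, none => by
      simp only [extend.d_none_eq_zero', comp_zero, Functor.map_zero, zero_comp]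

/-- an additive functor commutes with the extension of complexes -/
noncomputable def mapExtendIso :
    (F.mapHomologicalComplex c').obj (K.extend e) ≅
      ((F.mapHomologicalComplex c).obj K).extend e :=
  Hom.isoOfComponents (fun i' => extXIso F K (e.r i')) (fun i' j' _ => by
    exact extXIso_hom_d F K (e.r i') (e.r j'))

/-- homology of `F` applied to the `ℤ`-extension of an `ℕ`-indexed cochain complex -/
noncomputable def homologyExtendIso (K : CochainComplex C ℕ) (k : ℕ) :
    ((F.mapHomologicalComplex (ComplexShape.up ℤ)).obj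
      (K.extend ComplexShape.embeddingUpNat)).homology (k : ℤ) ≅
      ((F.mapHomologicalComplex (ComplexShape.up ℕ)).obj K).homology k :=
  (HomologicalComplex.homologyFunctor D _ (k : ℤ)).mapIso
      (mapExtendIso F ComplexShape.embeddingUpNat K) ≪≫
    extendHomologyIso ((F.mapHomologicalComplex (ComplexShape.up ℕ)).obj K)
      ComplexShape.embeddingUpNat (j := k) (j' := (k : ℤ)) rfl

end ExtLem


section Hyper

variable {C : Type u} [Category.{v} C] [Abelian C] [EnoughInjectives C] [HasDerivedCategory.{w} C]
variable {D : Type u'} [Category.{v'} D] [Abelian D]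

/-- the functor `K⁺(Inj C) ⥤ D⁺(C)` -/
noncomputable def Qinj : HomotopyCategory.Plus (InjectiveObject C) ⥤ DerivedCategory.Plus C :=
  (InjectiveObject.ι C).mapHomotopyCategoryPlus ⋙ DerivedCategory.Plus.Qh

instance : (Qinj (C := C)).EssSurj := by unfold Qinj; infer_instance

noncomputable instance : (Qinj (C := C)).CommShift ℤ := by unfold Qinj; infer_instance

instance : (Qinj (C := C)).IsTriangulated := by unfold Qinj; infer_instance

omit [EnoughInjectives C] [HasDerivedCategory C] in
lemma kinj (L : HomotopyCategory.Plus (InjectiveObject C)) :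
    CochainComplex.IsKInjective ((InjectiveObject.ι C).mapHomotopyCategoryPlus.obj L).1.as := by
  obtain ⟨K, rfl⟩ := HomotopyCategory.Plus.quotient_obj_surjective L
  exact inferInstanceAs (CochainComplex.IsKInjective
      (((InjectiveObject.ι C).mapHomologicalComplex (.up ℤ)).obj K.obj))

omit [EnoughInjectives C] in
lemma Qinj_map_bij (K L : HomotopyCategory.Plus (InjectiveObject C)) :
    Function.Bijective ((Qinj (C := C)).map : (K ⟶ L) → _) := by
  have h1 := DerivedCategory.Plus.Qh_map_bijective_of_isKInjective
    ((InjectiveObject.ι C).mapHomotopyCategoryPlus.obj K)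
    ((InjectiveObject.ι C).mapHomotopyCategoryPlus.obj L) (kinj L)
  have h2 : Function.Bijective ((InjectiveObject.ι C).mapHomotopyCategoryPlus.map : (K ⟶ L) → _) :=
    ⟨(InjectiveObject.ι C).mapHomotopyCategoryPlus.map_injective,
     (InjectiveObject.ι C).mapHomotopyCategoryPlus.map_surjective⟩
  exact h1.comp h2

instance : (Qinj (C := C)).Full := ⟨fun {K L} => (Qinj_map_bij K L).2⟩
instance : (Qinj (C := C)).Faithful := ⟨fun {K L} => (Qinj_map_bij K L).1⟩
instance : (Qinj (C := C)).IsEquivalence := {}

/-- the equivalence `K⁺(Inj C) ≌ D⁺(C)` -/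
noncomputable def eqv : HomotopyCategory.Plus (InjectiveObject C) ≌ DerivedCategory.Plus C :=
  (Qinj (C := C)).asEquivalence

noncomputable instance : (eqv (C := C)).functor.CommShift ℤ :=
  inferInstanceAs ((Qinj (C := C)).CommShift ℤ)
instance : (eqv (C := C)).functor.IsTriangulated :=
  inferInstanceAs ((Qinj (C := C)).IsTriangulated)
noncomputable instance : (eqv (C := C)).inverse.CommShift ℤ := (eqv (C := C)).commShiftInverse ℤ
instance : (eqv (C := C)).CommShift ℤ := (eqv (C := C)).commShift_of_functor ℤ
instance : (eqv (C := C)).IsTriangulated := Equivalence.IsTriangulated.mk' _ inferInstance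
instance : (eqv (C := C)).inverse.IsTriangulated := inferInstance

variable (S : C ⥤ D) [S.Additive]

/-- the total derived functor `D⁺(C) ⥤ K(D)` of `S`, computed through `K⁺(Inj C)` -/
noncomputable def RS : DerivedCategory.Plus C ⥤ HomotopyCategory D (.up ℤ) :=
  (eqv (C := C)).inverse ⋙ ((InjectiveObject.ι C) ⋙ S).mapHomotopyCategoryPlus ⋙
    HomotopyCategory.Plus.ι D

noncomputable instance : (RS S).CommShift ℤ := by unfold RS; infer_instance
instance : (RS S).IsTriangulated := by unfold RS; infer_instance

/-- hypercohomology in degree `0` -/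
noncomputable def hyper : DerivedCategory.Plus C ⥤ D :=
  RS S ⋙ HomotopyCategory.homologyFunctor D (.up ℤ) 0

instance : (hyper S).IsHomological := by unfold hyper; infer_instance

noncomputable instance : (hyper S).ShiftSequence ℤ :=
  inferInstanceAs ((RS S ⋙ HomotopyCategory.homologyFunctor D (.up ℤ) 0).ShiftSequence ℤ)

lemma hyper_shift (n : ℤ) :
    (hyper S).shift n = RS S ⋙ HomotopyCategory.homologyFunctor D (.up ℤ) n := rfl

/-- computing hypercohomology through a complex of injectives -/
noncomputable def hyperIso₀ (L₀ : CochainComplex.Plus (InjectiveObject C))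
    (K : DerivedCategory.Plus C)
    (φ : Qinj.obj ((HomotopyCategory.Plus.quotient _).obj L₀) ≅ K) (n : ℤ) :
    ((hyper S).shift n).obj K ≅
      ((((InjectiveObject.ι C) ⋙ S).mapHomologicalComplex (.up ℤ)).obj L₀.obj).homology n :=
  ((hyper S).shift n).mapIso φ.symm ≪≫
    (((InjectiveObject.ι C) ⋙ S).mapHomotopyCategoryPlus ⋙
      HomotopyCategory.Plus.ι D ⋙ HomotopyCategory.homologyFunctor D (.up ℤ) n).mapIso
        ((eqv (C := C)).unitIso.app ((HomotopyCategory.Plus.quotient _).obj L₀)).symm ≪≫
    (HomotopyCategory.homologyFunctorFactors D (.up ℤ) n).app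
      ((((InjectiveObject.ι C) ⋙ S).mapHomologicalComplex (.up ℤ)).obj L₀.obj)

/-- lift of a bounded below complex with injective terms to a complex in `InjectiveObject C` -/
noncomputable def liftInj (L : CochainComplex C ℤ) (hL : ∀ n, Injective (L.X n)) (m : ℤ)
    (hm : L.IsStrictlyGE m) : CochainComplex.Plus (InjectiveObject C) :=
  ⟨HomologicalComplex.liftObjectProperty _ L hL, m, by
    rwa [← CochainComplex.isStrictlyGE_mapHomologicalComplex_obj_iff _ (InjectiveObject.ι C)]⟩

/-- computing hypercohomology through a bounded below complex with injective terms -/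
noncomputable def hyperIso (L : CochainComplex C ℤ) (hL : ∀ n, Injective (L.X n)) (m : ℤ)
    (hm : L.IsStrictlyGE m) (K : DerivedCategory.Plus C)
    (φ : DerivedCategory.Plus.Q.obj ⟨L, ⟨m, hm⟩⟩ ≅ K) (n : ℤ) :
    ((hyper S).shift n).obj K ≅ ((S.mapHomologicalComplex (.up ℤ)).obj L).homology n :=
  hyperIso₀ S (liftInj L hL m hm) K φ n

lemma isZero_hyper_of_isGE (K : DerivedCategory.Plus C) (m n : ℤ) [K.IsGE m] (hn : n < m) :
    IsZero (((hyper S).shift n).obj K) := by
  obtain ⟨L, hL, ⟨φ⟩⟩ := DerivedCategory.Plus.exists_injective_nonempty_iso K m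
  refine IsZero.of_iso ?_ (hyperIso₀ S L K φ n)
  have : CochainComplex.IsStrictlyGE
      ((((InjectiveObject.ι C) ⋙ S).mapHomologicalComplex (.up ℤ)).obj L.obj) m :=
    inferInstance
  exact CochainComplex.isZero_of_isGE _ m n hn

/-- the resolution isomorphism in `D⁺(C)` -/
noncomputable def singleResIso (M : C) (I : InjectiveResolution M) :
    DerivedCategory.Plus.Q.obj ⟨I.cochainComplex, ⟨0, inferInstance⟩⟩ ≅
      (DerivedCategory.Plus.singleFunctor C 0).obj M :=
  DerivedCategory.Plus.ι.preimageIso
    ((DerivedCategory.quotientCompQhIso C).app I.cochainComplex ≪≫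
      (asIso (DerivedCategory.Q.map I.ι')).symm ≪≫
      ((DerivedCategory.singleFunctorIsoCompQ C 0).app M).symm)

/-- hypercohomology of a single object is the right derived functor -/
noncomputable def hyperSingleIso (M : C) (p : ℕ) (q : ℤ) :
    ((hyper S).shift ((p : ℤ) + q)).obj ((DerivedCategory.Plus.singleFunctor C q).obj M) ≅
      (S.rightDerived p).obj M :=
  ((hyper S).shift ((p : ℤ) + q)).mapIso
      (((DerivedCategory.Plus.singleFunctors C).shiftIso (-q) q 0 (by lia)).app M).symm ≪≫
    ((hyper S).shiftIso (-q) ((p : ℤ) + q) p (by lia)).app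
      ((DerivedCategory.Plus.singleFunctor C 0).obj M) ≪≫
    hyperIso S (injectiveResolution M).cochainComplex (fun _ => inferInstance) 0 inferInstance _
      (singleResIso M (injectiveResolution M)) p ≪≫
    homologyExtendIso S (injectiveResolution M).cocomplex p ≪≫
    ((injectiveResolution M).isoRightDerivedObj S p).symm

end Hyper

end Groth.Agent.Helper24.GSS
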