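import Mathlib
import Groth.Agent.Lib.Helper24.GSSHyper
import Groth.Agent.Lib.Helper24.GSSAcyc
open CategoryTheory Limits
universe w w' v v' u u'

namespace Groth.Agent.Helper24.GSS

open ComposableArrows DerivedCategory

section HomLem

open Pretriangulated

variable {T : Type*} [Category T] [HasZeroObject T] [HasShift T ℤ] [Preadditive T]
  [∀ (n : ℤ), (shiftFunctor T n).Additive] [Pretriangulated T]
  {A : Type*} [Category A] [Abelian A] (F : T ⥤ A) [F.IsHomological] [F.ShiftSequence ℤ]

lemma isIso_shift_map_mor₁ (Tr : Triangle T) (hT : Tr ∈ distTriang T) (n₀ n₁ : ℤ) (h : n₀ + 1 = n₁)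
    (h0 : IsZero ((F.shift n₀).obj Tr.obj₃)) (h1 : IsZero ((F.shift n₁).obj Tr.obj₃)) :
    IsIso ((F.shift n₁).map Tr.mor₁) := by
  have : Mono ((F.shift n₁).map Tr.mor₁) :=
    (F.homologySequence_mono_shift_map_mor₁_iff Tr hT n₀ n₁ h).2 (h0.eq_of_src _ _)
  have : Epi ((F.shift n₁).map Tr.mor₁) :=
    (F.homologySequence_epi_shift_map_mor₁_iff Tr hT n₁).2 (h1.eq_of_tgt _ _)
  exact isIso_of_mono_of_epi _

lemma isIso_shift_map_mor₂ (Tr : Triangle T) (hT : Tr ∈ distTriang T) (n₀ n₁ : ℤ) (h : n₀ + 1 = n₁)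
    (h0 : IsZero ((F.shift n₀).obj Tr.obj₁)) (h1 : IsZero ((F.shift n₁).obj Tr.obj₁)) :
    IsIso ((F.shift n₀).map Tr.mor₂) := by
  have : Mono ((F.shift n₀).map Tr.mor₂) :=
    (F.homologySequence_mono_shift_map_mor₂_iff Tr hT n₀).2 (h0.eq_of_src _ _)
  have : Epi ((F.shift n₀).map Tr.mor₂) :=
    (F.homologySequence_epi_shift_map_mor₂_iff Tr hT n₀ n₁ h).2 (h1.eq_of_tgt _ _)
  exact isIso_of_mono_of_epi _

end HomLem

section Slice

variable {C : Type u} [Category.{v} C] [Abelian C] [HasDerivedCategory.{w} C]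

/-- an object of `D⁺` concentrated in degree `q` is a single -/
lemma nonempty_iso_single (K : DerivedCategory.Plus C) (q : ℤ) [K.IsGE q] [K.IsLE q] :
    Nonempty (K ≅ (DerivedCategory.Plus.singleFunctor C q).obj
      ((DerivedCategory.Plus.homologyFunctor C q).obj K)) := by
  obtain ⟨M, ⟨e⟩⟩ := DerivedCategory.exists_iso_singleFunctor_obj_of_isGE_of_isLE
    (DerivedCategory.Plus.ι.obj K) q
  have f : (DerivedCategory.Plus.homologyFunctor C q).obj K ≅ M :=
    (DerivedCategory.homologyFunctor C q).mapIso e ≪≫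
      (DerivedCategory.singleFunctorCompHomologyFunctorIso C q).app M
  exact ⟨DerivedCategory.Plus.ι.preimageIso
    (e ≪≫ (DerivedCategory.singleFunctor C q).mapIso f.symm)⟩

/-- the `q`-th truncation slice -/
noncomputable abbrev slice (X : DerivedCategory.Plus C) (q : ℤ) : DerivedCategory.Plus C :=
  ((DerivedCategory.Plus.TStructure.t (C := C)).eTruncGE.obj (q : EInt)).obj
    (((DerivedCategory.Plus.TStructure.t (C := C)).eTruncLT.obj ((q + 1 : ℤ) : EInt)).obj X)

instance (X : DerivedCategory.Plus C) (q : ℤ) : (slice X q).IsGE q :=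
  (DerivedCategory.Plus.TStructure.t (C := C)).isGE_eTruncGE_obj_obj q (q : EInt) le_rfl _

instance (X : DerivedCategory.Plus C) (q : ℤ) : (slice X q).IsLE q := by
  have := (DerivedCategory.Plus.TStructure.t (C := C)).isLE_eTruncLT_obj_obj q
    ((q + 1 : ℤ) : EInt) le_rfl X
  unfold slice
  infer_instance

lemma nonempty_homology_slice_iso (X : DerivedCategory.Plus C) (q : ℤ) :
    Nonempty ((DerivedCategory.Plus.homologyFunctor C q).obj (slice X q) ≅
      (DerivedCategory.Plus.homologyFunctor C q).obj X) := by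
  let t := DerivedCategory.Plus.TStructure.t (C := C)
  let Y := (t.eTruncLT.obj ((q + 1 : ℤ) : EInt)).obj X
  -- first triangle
  have h1 := t.eTriangleLTGE_distinguished ((q + 1 : ℤ) : EInt) X
  have : t.IsGE ((t.eTruncGE.obj ((q + 1 : ℤ) : EInt)).obj X) (q + 1) :=
    t.isGE_eTruncGE_obj_obj (q + 1) _ le_rfl X
  have i1 : IsIso ((DerivedCategory.Plus.homologyFunctor C q).map
      ((t.eTruncLTι ((q + 1 : ℤ) : EInt)).app X)) :=
    isIso_shift_map_mor₁ (DerivedCategory.Plus.homologyFunctor C 0) _ h1 (q - 1) q (by lia)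
      (DerivedCategory.Plus.isZero_homology_of_isGE
        ((t.eTruncGE.obj ((q + 1 : ℤ) : EInt)).obj X) (q + 1) _ (by lia))
      (DerivedCategory.Plus.isZero_homology_of_isGE
        ((t.eTruncGE.obj ((q + 1 : ℤ) : EInt)).obj X) (q + 1) _ (by lia))
  -- second triangle
  have h2 := t.eTriangleLTGE_distinguished (q : EInt) Y
  have : t.IsLE ((t.eTruncLT.obj (q : EInt)).obj Y) (q - 1) :=
    t.isLE_eTruncLT_obj_obj (q - 1) _ (by simp) Y
  have i2 : IsIso ((DerivedCategory.Plus.homologyFunctor C q).map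
      ((t.eTruncGEπ (q : EInt)).app Y)) :=
    isIso_shift_map_mor₂ (DerivedCategory.Plus.homologyFunctor C 0) _ h2 q (q + 1) rfl
      (DerivedCategory.Plus.isZero_homology_of_isLE
        ((t.eTruncLT.obj (q : EInt)).obj Y) (q - 1) _ (by lia))
      (DerivedCategory.Plus.isZero_homology_of_isLE
        ((t.eTruncLT.obj (q : EInt)).obj Y) (q - 1) _ (by lia))
  exact ⟨(asIso ((DerivedCategory.Plus.homologyFunctor C q).map
      ((t.eTruncGEπ (q : EInt)).app Y))).symm ≪≫
    asIso ((DerivedCategory.Plus.homologyFunctor C q).map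
      ((t.eTruncLTι ((q + 1 : ℤ) : EInt)).app X))⟩

/-- homology of the image in `D⁺` of a bounded below complex -/
noncomputable def plusHomologyQIso (K : CochainComplex.Plus C) (q : ℤ) :
    (DerivedCategory.Plus.homologyFunctor C q).obj (DerivedCategory.Plus.Q.obj K) ≅
      K.obj.homology q :=
  (DerivedCategory.homologyFunctor C q).mapIso ((DerivedCategory.quotientCompQhIso C).app K.obj) ≪≫
    (DerivedCategory.homologyFunctorFactors C q).app K.obj

lemma isGE_plus_Q_obj (K : CochainComplex C ℤ) (m : ℤ) [K.IsStrictlyGE m] :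
    (DerivedCategory.Plus.Q.obj ⟨K, ⟨m, inferInstance⟩⟩).IsGE m :=
  (DerivedCategory.Plus.isGE_ι_obj_iff _ m).1
    (DerivedCategory.TStructure.t.isGE_of_iso ((DerivedCategory.quotientCompQhIso C).symm.app K) m)

end Slice

section Main

variable {C : Type u} [Category.{v} C] [Abelian C] [EnoughInjectives C] [HasDerivedCategory.{w} C]
variable {D : Type u'} [Category.{v'} D] [Abelian D]
variable (S : C ⥤ D) [S.Additive]

/-- the spectral object computing hypercohomology from the canonical filtration -/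
noncomputable def specObj (X : DerivedCategory.Plus C) : Abelian.SpectralObject D EInt :=
  mapHomological ((DerivedCategory.Plus.TStructure.t (C := C)).spectralObject X) (hyper S)

lemma specObj_H_obj (X : DerivedCategory.Plus C) (n : ℤ) (a b : EInt) (h : a ≤ b) :
    ((specObj S X).H n).obj (mk₁ (homOfLE h)) =
      ((hyper S).shift n).obj (((DerivedCategory.Plus.TStructure.t (C := C)).eTruncGE.obj a).obj
        (((DerivedCategory.Plus.TStructure.t (C := C)).eTruncLT.obj b).obj X)) := rfl

instance (X : DerivedCategory.Plus C) [X.IsGE 0] : (specObj S X).IsFirstQuadrant where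
  isZero₁ i j hij hj n := by
    have h1 := (DerivedCategory.Plus.TStructure.t (C := C)).isZero_eTruncLT_obj_obj X 0 j hj
    show IsZero (((hyper S).shift n).obj
      (((DerivedCategory.Plus.TStructure.t (C := C)).eTruncGE.obj i).obj
        (((DerivedCategory.Plus.TStructure.t (C := C)).eTruncLT.obj j).obj X)))
    exact Functor.map_isZero _ (Functor.map_isZero _ h1)
  isZero₂ i j hij n hi := by
    show IsZero (((hyper S).shift n).obj
      (((DerivedCategory.Plus.TStructure.t (C := C)).eTruncGE.obj i).obj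
        (((DerivedCategory.Plus.TStructure.t (C := C)).eTruncLT.obj j).obj X)))
    induction i using WithBotTop.rec with
    | bot => simp at hi
    | coe m =>
      have hm : n < m := by simpa using hi
      have := (DerivedCategory.Plus.TStructure.t (C := C)).isGE_eTruncGE_obj_obj m (m : EInt) le_rfl
        (((DerivedCategory.Plus.TStructure.t (C := C)).eTruncLT.obj j).obj X)
      exact isZero_hyper_of_isGE S _ m n hm
    | top =>
      exact Functor.map_isZero _ (Functor.zero_obj _)

/-- the `E₂`-terms of the hypercohomology spectral sequence -/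
lemma nonempty_specObj_E2_iso (X : DerivedCategory.Plus C) (p : ℕ) (q : ℤ) :
    Nonempty (((specObj S X).H ((p : ℤ) + q)).obj (mk₁ (homOfLE (WithBotTop.coe_le_coe.2 (by lia) :
        ((q : ℤ) : EInt) ≤ ((q + 1 : ℤ) : EInt)))) ≅
      (S.rightDerived p).obj ((DerivedCategory.Plus.homologyFunctor C q).obj X)) := by
  obtain ⟨e1⟩ := nonempty_iso_single (slice X q) q
  obtain ⟨e2⟩ := nonempty_homology_slice_iso X q
  exact ⟨((hyper S).shift ((p : ℤ) + q)).mapIso
      (e1 ≪≫ (DerivedCategory.Plus.singleFunctor C q).mapIso e2) ≪≫ hyperSingleIso S _ p q⟩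

/-- **The hypercohomology spectral sequence** `E₂^{p,q} = R^pS(H^q X) ⇒ ℍ^{p+q}(X)`. -/
theorem exists_hyper_spectralSequence (X : DerivedCategory.Plus C) [X.IsGE 0]
    (H' : ℤ → D) (E2 : ℤ → ℤ → D)
    (hH : ∀ n, Nonempty (((hyper S).shift n).obj X ≅ H' n))
    (h2 : ∀ (p : ℕ) (q : ℤ), Nonempty
      ((S.rightDerived p).obj ((DerivedCategory.Plus.homologyFunctor C q).obj X) ≅ E2 p q))
    (h2' : ∀ p q : ℤ, p < 0 → IsZero (E2 p q)) :
    ∃ (E : E₂CohomologicalSpectralSequence D) (a : SpSeq.Abutment E H'),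
      (∀ n, a.IsFinite n) ∧ SpSeq.IsBounded E ∧
      ∀ p q : ℤ, Nonempty ((E.page 2 le_rfl).X (p, q) ≅ E2 p q) := by
  refine exists_spectralSequence (specObj S X) H' E2 ?_ hH
  intro p q
  by_cases hp : 0 ≤ p
  · obtain ⟨k, rfl⟩ := Int.eq_ofNat_of_zero_le hp
    obtain ⟨e⟩ := nonempty_specObj_E2_iso S X k q
    obtain ⟨e'⟩ := h2 k q
    exact ⟨e ≪≫ e'⟩
  · refine ⟨IsZero.iso ?_ (h2' p q (by lia))⟩
    exact (specObj S X).isZero₂_of_isFirstQuadrant _ _ _ _ (WithBotTop.coe_lt_coe.2 (by lia))

end Main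

end Groth.Agent.Helper24.GSS
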