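import Mathlib
import Groth.Agent.Lib.Helper24.GSSMain
open CategoryTheory Limits
universe w w' v v' v'' u u' u''

namespace Groth.Agent.Helper24.GSS

open ComposableArrows DerivedCategory
open scoped ZeroObject

section Groth

variable {C : Type u} [Category.{v} C] [Abelian C] [EnoughInjectives C] [HasDerivedCategory.{w} C]
variable {D : Type u'} [Category.{v'} D] [Abelian D]
variable (S : C ⥤ D) [S.Additive]

/-- hypercohomology of a bounded below complex of `S`-acyclic objects is computed naively -/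
lemma nonempty_hyper_iso_of_acyc [PreservesFiniteLimits S] (X₀ : CochainComplex C ℤ) (m : ℤ)
    [X₀.IsStrictlyGE m] (hX : ∀ i, Acyc.Acyc S (X₀.X i)) (n : ℤ) :
    Nonempty (((hyper S).shift n).obj (DerivedCategory.Plus.Q.obj ⟨X₀, ⟨m, inferInstance⟩⟩) ≅
      ((S.mapHomologicalComplex (.up ℤ)).obj X₀).homology n) := by
  obtain ⟨L, i, hi, hi', hL, hL'⟩ :=
    CochainComplex.Plus.modelCategoryQuillen.exists_mono_quasiIso_injective X₀ (m - 1) m
      (by omega)
  let K' : CochainComplex.Plus C := ⟨X₀, ⟨m, inferInstance⟩⟩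
  let L' : CochainComplex.Plus C := ⟨L, m - 1, hL'⟩
  let i' : K' ⟶ L' := ObjectProperty.homMk i
  have hq : HomotopyCategory.Plus.quasiIso C ((HomotopyCategory.Plus.quotient C).map i') := by
    show HomotopyCategory.quasiIso C _ ((HomotopyCategory.quotient C _).map i)
    rw [HomotopyCategory.quotient_map_mem_quasiIso_iff, HomologicalComplex.mem_quasiIso_iff]
    exact hi'
  have h2 : IsIso (DerivedCategory.Plus.Qh.map ((HomotopyCategory.Plus.quotient C).map i')) :=
    Localization.inverts DerivedCategory.Plus.Qh (HomotopyCategory.Plus.quasiIso C) _ hq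
  let φ : DerivedCategory.Plus.Q.obj L' ≅ DerivedCategory.Plus.Q.obj K' :=
    (asIso (DerivedCategory.Plus.Qh.map ((HomotopyCategory.Plus.quotient C).map i'))).symm
  have e1 := hyperIso S L hL (m - 1) hL' (DerivedCategory.Plus.Q.obj K') φ n
  have := hL'
  have hqi := Acyc.quasiIso_map_of_mono S i (m - 1) hX (fun j => Acyc.acyc_of_injective S (L.X j))
  exact ⟨e1 ≪≫ (asIso (HomologicalComplex.homologyMap
    ((S.mapHomologicalComplex (.up ℤ)).map i) n)).symm⟩

variable {B : Type u''} [Category.{v''} B] [Abelian B] [HasInjectiveResolutions B]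
  (T : B ⥤ C) [T.Additive]

/-- **The Grothendieck spectral sequence** `E₂^{p,q} = R^pS(R^qT(A)) ⇒ R^{p+q}(T ⋙ S)(A)`. -/
theorem exists_grothendieck_spectralSequence [PreservesFiniteLimits S]
    (hT : ∀ Q : B, Injective Q → ∀ q : ℕ, 0 < q → IsZero ((S.rightDerived q).obj (T.obj Q)))
    (A : B) :
    ∃ (E : E₂CohomologicalSpectralSequence D)
      (a : SpSeq.Abutment E
        (fun n : ℤ => if 0 ≤ n then ((T ⋙ S).rightDerived n.toNat).obj A else 0)),
      (∀ n, a.IsFinite n) ∧ SpSeq.IsBounded E ∧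
      ∀ p q : ℤ, Nonempty ((E.page 2 le_rfl).X (p, q) ≅
        (if 0 ≤ p ∧ 0 ≤ q then (S.rightDerived p.toNat).obj ((T.rightDerived q.toNat).obj A)
          else 0)) := by
  let I := injectiveResolution A
  let X₀ : CochainComplex C ℤ := (T.mapHomologicalComplex (.up ℤ)).obj I.cochainComplex
  have hX₀ : X₀.IsStrictlyGE 0 := inferInstance
  let X : DerivedCategory.Plus C := DerivedCategory.Plus.Q.obj ⟨X₀, ⟨0, hX₀⟩⟩
  have hXGE : X.IsGE 0 := isGE_plus_Q_obj X₀ 0
  have hXacyc : ∀ i, Acyc.Acyc S (X₀.X i) := fun i q hq =>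
    hT (I.cochainComplex.X i) inferInstance q hq
  refine exists_hyper_spectralSequence S X _ _ ?_ ?_ ?_
  · intro n
    by_cases hn : 0 ≤ n
    · obtain ⟨k, rfl⟩ := Int.eq_ofNat_of_zero_le hn
      simp only [if_pos hn, Int.toNat_natCast]
      obtain ⟨e1⟩ := nonempty_hyper_iso_of_acyc S X₀ 0 hXacyc k
      have e2 : (S.mapHomologicalComplex (.up ℤ)).obj X₀ ≅
          ((T ⋙ S).mapHomologicalComplex (.up ℤ)).obj
            (I.cocomplex.extend ComplexShape.embeddingUpNat) := Iso.refl _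
      exact ⟨e1 ≪≫ (HomologicalComplex.homologyFunctor D _ (k : ℤ)).mapIso e2 ≪≫
        homologyExtendIso (T ⋙ S) I.cocomplex k ≪≫ (I.isoRightDerivedObj (T ⋙ S) k).symm⟩
    · simp only [if_neg hn]
      exact ⟨IsZero.iso (isZero_hyper_of_isGE S X 0 n (by lia)) (isZero_zero _)⟩
  · intro p q
    by_cases hq : 0 ≤ q
    · obtain ⟨k, rfl⟩ := Int.eq_ofNat_of_zero_le hq
      have hpq : (0 : ℤ) ≤ (p : ℤ) ∧ (0 : ℤ) ≤ (k : ℤ) := ⟨by positivity, hq⟩
      simp only [if_pos hpq, Int.toNat_natCast]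
      have e : (DerivedCategory.Plus.homologyFunctor C (k : ℤ)).obj X ≅ (T.rightDerived k).obj A :=
        plusHomologyQIso ⟨X₀, ⟨0, hX₀⟩⟩ k ≪≫ homologyExtendIso T I.cocomplex k ≪≫
          (I.isoRightDerivedObj T k).symm
      exact ⟨(S.rightDerived p).mapIso e⟩
    · have hpq : ¬ ((0 : ℤ) ≤ (p : ℤ) ∧ (0 : ℤ) ≤ q) := fun h => hq h.2
      simp only [if_neg hpq]
      refine ⟨IsZero.iso (Functor.map_isZero _ ?_) (isZero_zero _)⟩
      exact DerivedCategory.Plus.isZero_homology_of_isGE X 0 q (by lia)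
  · intro p q hp
    have hpq : ¬ ((0 : ℤ) ≤ p ∧ (0 : ℤ) ≤ q) := fun h => by lia
    simp only [if_neg hpq]
    exact isZero_zero _

end Groth

end Groth.Agent.Helper24.GSS
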