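import Mathlib
import Groth.Agent.Lib.Helper24.GSSGroth
import Groth.Agent.Lib.Helper24.GSSDelta
open CategoryTheory Limits Opposite
universe w w' v v' v'' u u' u''

namespace Groth.Agent.Helper24.GSS

open DeltaF DeltaF.CohDeltaFunctor Abelian
open Groth.Agent.Helper24.CechH
open scoped ZeroObject

section Flex

variable {C : Type u} [Category.{v} C] [Abelian C] [EnoughInjectives C] [HasDerivedCategory.{w} C]
variable {D : Type u'} [Category.{v'} D] [Abelian D]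
variable (S : C ⥤ D) [S.Additive]
variable {B : Type u''} [Category.{v''} B] [Abelian B] [HasInjectiveResolutions B]
  (T : B ⥤ C) [T.Additive]

/-- **The Grothendieck spectral sequence**, with flexible targets. -/
theorem exists_grothendieck_spectralSequence' [PreservesFiniteLimits S]
    (hT : ∀ Q : B, Injective Q → ∀ q : ℕ, 0 < q → IsZero ((S.rightDerived q).obj (T.obj Q)))
    (A : B) (H' : ℤ → D) (E2 : ℤ → ℤ → D)
    (hH : ∀ n : ℕ, Nonempty (((T ⋙ S).rightDerived n).obj A ≅ H' n))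
    (hH' : ∀ n : ℤ, n < 0 → IsZero (H' n))
    (h2 : ∀ p q : ℕ, Nonempty ((S.rightDerived p).obj ((T.rightDerived q).obj A) ≅ E2 p q))
    (h2' : ∀ p q : ℤ, (p < 0 ∨ q < 0) → IsZero (E2 p q)) :
    ∃ (E : E₂CohomologicalSpectralSequence D) (a : SpSeq.Abutment E H'),
      (∀ n, a.IsFinite n) ∧ SpSeq.IsBounded E ∧
      ∀ p q : ℤ, Nonempty ((E.page 2 le_rfl).X (p, q) ≅ E2 p q) := by
  let I := injectiveResolution A
  let X₀ : CochainComplex C ℤ := (T.mapHomologicalComplex (.up ℤ)).obj I.cochainComplex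
  have hX₀ : X₀.IsStrictlyGE 0 := inferInstance
  let X : DerivedCategory.Plus C := DerivedCategory.Plus.Q.obj ⟨X₀, ⟨0, hX₀⟩⟩
  have hXGE : X.IsGE 0 := isGE_plus_Q_obj X₀ 0
  have hXacyc : ∀ i, Acyc.Acyc S (X₀.X i) := fun i q hq =>
    hT (I.cochainComplex.X i) inferInstance q hq
  refine exists_hyper_spectralSequence S X _ _ ?_ ?_ ?_
  · intro n
    by_cases hn : 0 ≤ n
    · obtain ⟨k, rfl⟩ := Int.eq_ofNat_of_zero_le hn
      obtain ⟨e1⟩ := nonempty_hyper_iso_of_acyc S X₀ 0 hXacyc k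
      have e2 : (S.mapHomologicalComplex (.up ℤ)).obj X₀ ≅
          ((T ⋙ S).mapHomologicalComplex (.up ℤ)).obj
            (I.cocomplex.extend ComplexShape.embeddingUpNat) := Iso.refl _
      obtain ⟨e3⟩ := hH k
      exact ⟨e1 ≪≫ (HomologicalComplex.homologyFunctor D _ (k : ℤ)).mapIso e2 ≪≫
        homologyExtendIso (T ⋙ S) I.cocomplex k ≪≫ (I.isoRightDerivedObj (T ⋙ S) k).symm ≪≫ e3⟩
    · exact ⟨IsZero.iso (isZero_hyper_of_isGE S X 0 n (by lia)) (hH' n (by lia))⟩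
  · intro p q
    by_cases hq : 0 ≤ q
    · obtain ⟨k, rfl⟩ := Int.eq_ofNat_of_zero_le hq
      have e : (DerivedCategory.Plus.homologyFunctor C (k : ℤ)).obj X ≅ (T.rightDerived k).obj A :=
        plusHomologyQIso ⟨X₀, ⟨0, hX₀⟩⟩ k ≪≫ homologyExtendIso T I.cocomplex k ≪≫
          (I.isoRightDerivedObj T k).symm
      obtain ⟨e3⟩ := h2 p k
      exact ⟨(S.rightDerived p).mapIso e ≪≫ e3⟩
    · refine ⟨IsZero.iso (Functor.map_isZero _ ?_) (h2' _ _ (Or.inr (by lia)))⟩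
      exact DerivedCategory.Plus.isZero_homology_of_isGE X 0 q (by lia)
  · intro p q hp
    exact h2' p q (Or.inl hp)

end Flex

section ExtLemmas

variable {A : Type u} [Category.{v} A] [Abelian A] [HasExt.{w} A]

lemma extDelta_effaceable [EnoughInjectives A] (X : A) : (extDelta X).IsEffaceable := fun n M => by
  refine ⟨Injective.under M, Injective.ι M, inferInstance, ?_⟩
  have hz : IsZero (((extDelta X).F (n + 1)).obj (Injective.under M)) := by
    have : Subsingleton (Ext X (Injective.under M) (n + 1)) :=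
      Ext.subsingleton_of_injective _ _ n
    exact @AddCommGrpCat.isZero_of_subsingleton
      (AddCommGrpCat.of (Ext X (Injective.under M) (n + 1))) this
  exact hz.eq_of_tgt _ _

lemma extDelta_F_zero_mono (X : A) {M N : A} (f : M ⟶ N) [Mono f] :
    Mono (((extDelta X).F 0).map f) := by
  rw [AddCommGrpCat.mono_iff_injective, injective_iff_map_eq_zero]
  intro x hx
  obtain ⟨g, rfl⟩ := (Ext.mk₀_bijective X M).2 x
  have h1 : (Ext.mk₀ g).comp (Ext.mk₀ f) (add_zero 0) = 0 := hx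
  rw [Ext.mk₀_comp_mk₀, Ext.mk₀_eq_zero_iff] at h1
  show Ext.mk₀ g = 0
  rw [Ext.mk₀_eq_zero_iff]
  exact (cancel_mono f).1 (by rw [h1, zero_comp])

instance (X : A) : PreservesFiniteLimits ((extDelta X).F 0) := by
  rw [Functor.preservesFiniteLimits_iff_forall_exact_map_and_mono]
  intro S hS
  have := hS.mono_f
  exact ⟨(extDelta X).exact₂ S hS 0, extDelta_F_zero_mono X S.f⟩

variable {A' : Type u'} [Category.{v'} A'] [Abelian A'] [HasExt.{w} A']
  {L : A' ⥤ A} {T : A ⥤ A'} (adj : L ⊣ T) [L.Additive]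

/-- the adjunction bijection on `Ext⁰` -/
noncomputable def extZeroAdjEquiv (Z₀ : A') (M : A) : Ext (L.obj Z₀) M 0 ≃+ Ext Z₀ (T.obj M) 0 :=
  Ext.addEquiv₀.trans ((adj.homAddEquiv Z₀ M).trans Ext.addEquiv₀.symm)

lemma extZeroAdjEquiv_mk₀ (Z₀ : A') (M : A) (g : L.obj Z₀ ⟶ M) :
    extZeroAdjEquiv adj Z₀ M (Ext.mk₀ g) = Ext.mk₀ (adj.homEquiv Z₀ M g) := by
  unfold extZeroAdjEquiv
  have : Ext.addEquiv₀ (Ext.mk₀ g) = g := Ext.addEquiv₀.apply_symm_apply g
  simp only [AddEquiv.trans_apply, this, Adjunction.homAddEquiv_apply, Ext.addEquiv₀_symm_apply]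

/-- the adjunction isomorphism on `Ext⁰` functors -/
noncomputable def extZeroAdjIso (Z₀ : A') :
    (extDelta (L.obj Z₀)).F 0 ≅ T ⋙ (extDelta Z₀).F 0 :=
  NatIso.ofComponents (fun M => (extZeroAdjEquiv adj Z₀ M).toAddCommGrpIso) (by
    intro M N f
    refine AddCommGrpCat.hom_ext (AddMonoidHom.ext fun x => ?_)
    obtain ⟨g, rfl⟩ := (Ext.mk₀_bijective (L.obj Z₀) M).2 x
    show extZeroAdjEquiv adj Z₀ N ((Ext.mk₀ g).comp (Ext.mk₀ f) (add_zero 0)) =
      (extZeroAdjEquiv adj Z₀ M (Ext.mk₀ g)).comp (Ext.mk₀ (T.map f)) (add_zero 0)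
    rw [Ext.mk₀_comp_mk₀, extZeroAdjEquiv_mk₀, extZeroAdjEquiv_mk₀, Ext.mk₀_comp_mk₀,
      Adjunction.homEquiv_naturality_right])

end ExtLemmas

section AT

variable {A : Type u} [Category.{v} A] [Abelian A] [EnoughInjectives A] [HasExt.{w} A]
  {A' : Type u'} [Category.{v'} A'] [Abelian A'] [EnoughInjectives A']
  [HasDerivedCategory.{w'} A'] [HasExt.{w} A']
  {L : A' ⥤ A} {T : A ⥤ A'} (adj : L ⊣ T) [L.Additive] [T.Additive] [L.PreservesMonomorphisms]

include adj in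
/-- **The `Ext` spectral sequence of an adjunction**: if `L ⊣ T` with `L` preserving monomorphisms
and `Hq` is an effaceable δ-functor with `Hq⁰ ≅ T`, then
`E₂^{p,q} = Ext^p(Z₀, Hq^q(M)) ⇒ Ext^{p+q}(L Z₀, M)`. -/
theorem exists_ext_spectralSequence
    (Hq : CohDeltaFunctor A A' ℕ) (hHq : Hq.IsEffaceable) (e₀ : Hq.F 0 ≅ T)
    (Z₀ : A') (M : A) (H' : ℤ → AddCommGrpCat.{w}) (E2 : ℤ → ℤ → AddCommGrpCat.{w})
    (hH : ∀ n : ℕ, Nonempty (AddCommGrpCat.of (Ext (L.obj Z₀) M n) ≅ H' n))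
    (hH' : ∀ n : ℤ, n < 0 → IsZero (H' n))
    (h2 : ∀ p q : ℕ, Nonempty (AddCommGrpCat.of (Ext Z₀ ((Hq.F q).obj M) p) ≅ E2 p q))
    (h2' : ∀ p q : ℤ, (p < 0 ∨ q < 0) → IsZero (E2 p q)) :
    ∃ (E : E₂CohomologicalSpectralSequence AddCommGrpCat.{w}) (a : SpSeq.Abutment E H'),
      (∀ n, a.IsFinite n) ∧ SpSeq.IsBounded E ∧
      ∀ p q : ℤ, Nonempty ((E.page 2 le_rfl).X (p, q) ≅ E2 p q) := by
  have hTlim : PreservesFiniteLimits T := by
    have : PreservesLimitsOfSize.{0, 0} T := adj.rightAdjoint_preservesLimits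
    exact PreservesLimitsOfSize.preservesFiniteLimits _
  refine exists_grothendieck_spectralSequence' ((extDelta Z₀).F 0) T ?_ M H' E2 ?_ hH' ?_ h2'
  · intro Q hQ q hq
    have : Injective (T.obj Q) := Injective.injective_of_adjoint adj Q
    obtain ⟨k, rfl⟩ : ∃ k, q = k + 1 := ⟨q - 1, by omega⟩
    exact Functor.isZero_rightDerived_obj_injective_succ _ k _
  · intro n
    obtain ⟨e1⟩ := nonempty_iso_rightDerived_obj (extDelta (L.obj Z₀)) (extDelta_effaceable _)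
      (T ⋙ (extDelta Z₀).F 0) (extZeroAdjIso adj Z₀) n M
    obtain ⟨e2⟩ := hH n
    exact ⟨e1.symm ≪≫ e2⟩
  · intro p q
    obtain ⟨e1⟩ := nonempty_iso_rightDerived_obj Hq hHq T e₀ q M
    obtain ⟨e2⟩ := nonempty_iso_rightDerived_obj (extDelta Z₀) (extDelta_effaceable _)
      ((extDelta Z₀).F 0) (Iso.refl _) p ((Hq.F q).obj M)
    obtain ⟨e3⟩ := h2 p q
    exact ⟨(((extDelta Z₀).F 0).rightDerived p).mapIso e1.symm ≪≫ e2.symm ≪≫ e3⟩

end AT

end Groth.Agent.Helper24.GSS
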