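import Mathlib
import Groth.Agent.Lib.Helper24.GSSDelta
open CategoryTheory Limits Opposite
universe v u u'

namespace Groth.Agent.Helper24.GSS

open DeltaF DeltaF.CohDeltaFunctor Abelian
open Groth.Agent.Helper24.CechH Groth.Agent.Helper24.SieveCoh

section Bot

variable {C : Type u} [SmallCategory C]

/-- evaluation of `⊥`-sheaves at an object -/
noncomputable def evBot (U : Cᵒᵖ) : Sheaf (⊥ : GrothendieckTopology C) AddCommGrpCat.{u} ⥤
    AddCommGrpCat.{u} :=
  (sheafBotEquivalence AddCommGrpCat.{u}).functor ⋙ (evaluation Cᵒᵖ AddCommGrpCat.{u}).obj U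

instance (U : Cᵒᵖ) : PreservesFiniteLimits (evBot (C := C) U) := by unfold evBot; infer_instance
instance (U : Cᵒᵖ) : PreservesFiniteColimits (evBot (C := C) U) := by unfold evBot; infer_instance
instance (U : Cᵒᵖ) : (evBot (C := C) U).Additive := Functor.additive_of_preserves_binary_products _

lemma isZero_of_evBot (H : Sheaf (⊥ : GrothendieckTopology C) AddCommGrpCat.{u})
    (h : ∀ U, IsZero ((evBot U).obj H)) : IsZero H := by
  have h1 : IsZero H.obj := by
    rw [Functor.isZero_iff]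
    exact h
  rw [IsZero.iff_id_eq_zero]
  apply Sheaf.hom_ext
  exact h1.eq_of_src _ _

lemma exact_of_evBot (S : ShortComplex (Sheaf (⊥ : GrothendieckTopology C) AddCommGrpCat.{u}))
    (h : ∀ U : Cᵒᵖ, (S.map (evBot U)).Exact) : S.Exact := by
  rw [S.exact_iff_isZero_homology]
  apply isZero_of_evBot
  intro U
  have hU := h U
  rw [ShortComplex.exact_iff_isZero_homology] at hU
  exact IsZero.of_iso hU (S.mapHomologyIso (evBot U)).symm

lemma hom_ext_evBot {F G : Sheaf (⊥ : GrothendieckTopology C) AddCommGrpCat.{u}} (f g : F ⟶ G)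
    (h : ∀ U : Cᵒᵖ, (evBot U).map f = (evBot U).map g) : f = g := by
  apply Sheaf.hom_ext
  ext U : 2
  exact h U

end Bot

section ExtPsh

variable {C : Type u} [SmallCategory C]
  {A : Type u'} [Category.{v} A] [Abelian A] [HasExt.{u} A] (Z : C ⥤ A)

lemma ext_assoc'' {X' X Y W : A} (g : X' ⟶ X)
    {n₀ n₁ : ℕ} (x : Ext X Y n₀) (c : Ext Y W 1) (h : n₀ + 1 = n₁) :
    (Ext.mk₀ g).comp (x.comp c h) (zero_add n₁) =
      ((Ext.mk₀ g).comp x (zero_add n₀)).comp c h := by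
  rw [Ext.comp_assoc]
  omega

/-- `U ↦ Ext^n(Z U, M)` -/
noncomputable def extPsh (n : ℕ) : A ⥤ (Cᵒᵖ ⥤ AddCommGrpCat.{u}) :=
  Functor.flip (Z.op ⋙ extFunctor n)

/-- `U ↦ Ext^n(Z U, M)` as a `⊥`-sheaf -/
noncomputable def extBotF (n : ℕ) : A ⥤ Sheaf (⊥ : GrothendieckTopology C) AddCommGrpCat.{u} :=
  extPsh Z n ⋙ (sheafBotEquivalence AddCommGrpCat.{u}).inverse

lemma evBot_extBotF_map (n : ℕ) (U : Cᵒᵖ) {M N : A} (φ : M ⟶ N) :
    (evBot U).map ((extBotF Z n).map φ) = ((extDelta (Z.obj U.unop)).F n).map φ := rfl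

instance (n : ℕ) : (extBotF Z n).Additive where
  map_add {M N φ ψ} := by
    apply hom_ext_evBot
    intro U
    rw [evBot_extBotF_map, Functor.map_add (evBot U), evBot_extBotF_map, evBot_extBotF_map,
      Functor.map_add]
    rfl

/-- the connecting morphisms -/
noncomputable def extBotδ (S : ShortComplex A) (hS : S.ShortExact)
    (n₀ n₁ : ℕ) (h : n₀ + 1 = n₁) : (extBotF Z n₀).obj S.X₃ ⟶ (extBotF Z n₁).obj S.X₁ :=
  ⟨{ app := fun U => (extDelta (Z.obj U.unop)).δ S hS n₀ n₁ h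
     naturality := fun U V f => by
      refine AddCommGrpCat.hom_ext (AddMonoidHom.ext fun x => ?_)
      exact (ext_assoc'' (Z.map f.unop) x hS.extClass h).symm }⟩

lemma evBot_extBotδ (S : ShortComplex A) (hS : S.ShortExact)
    (n₀ n₁ : ℕ) (h : n₀ + 1 = n₁) (U : Cᵒᵖ) :
    (evBot U).map (extBotδ Z S hS n₀ n₁ h) = (extDelta (Z.obj U.unop)).δ S hS n₀ n₁ h := rfl

/-- the δ-functor `M ↦ (U ↦ Ext^•(Z U, M))` -/
noncomputable def extBotDelta : CohDeltaFunctor A
    (Sheaf (⊥ : GrothendieckTopology C) AddCommGrpCat.{u}) ℕ where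
  F n := extBotF Z n
  additive n := inferInstance
  δ S hS n₀ n₁ h := extBotδ Z S hS n₀ n₁ h
  δ_natural {S S'} hS hS' φ n₀ n₁ h := by
    apply hom_ext_evBot
    intro U
    rw [Functor.map_comp, Functor.map_comp, evBot_extBotδ, evBot_extBotδ, evBot_extBotF_map,
      evBot_extBotF_map]
    exact (extDelta (Z.obj U.unop)).δ_natural hS hS' φ n₀ n₁ h
  exact₂ S hS n := by
    apply exact_of_evBot
    intro U
    exact (extDelta (Z.obj U.unop)).exact₂ S hS n
  comp_δ S hS n₀ n₁ h := by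
    apply hom_ext_evBot
    intro U
    rw [Functor.map_comp, evBot_extBotδ, evBot_extBotF_map, Functor.map_zero]
    exact (extDelta (Z.obj U.unop)).comp_δ S hS n₀ n₁ h
  exact₃ S hS n₀ n₁ h := by
    apply exact_of_evBot
    intro U
    exact (extDelta (Z.obj U.unop)).exact₃ S hS n₀ n₁ h
  δ_comp S hS n₀ n₁ h := by
    apply hom_ext_evBot
    intro U
    rw [Functor.map_comp, evBot_extBotδ, evBot_extBotF_map, Functor.map_zero]
    exact (extDelta (Z.obj U.unop)).δ_comp S hS n₀ n₁ h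
  exact₁ S hS n₀ n₁ h := by
    apply exact_of_evBot
    intro U
    exact (extDelta (Z.obj U.unop)).exact₁ S hS n₀ n₁ h

end ExtPsh

section ExtPsh2

variable {C : Type u} [SmallCategory C]
  {A : Type u'} [Category.{v} A] [Abelian A] [HasExt.{u} A] (Z : C ⥤ A)

lemma evBot_extBotF_obj (n : ℕ) (U : Cᵒᵖ) (M : A) :
    (evBot U).obj ((extBotF Z n).obj M) = AddCommGrpCat.of (Ext (Z.obj U.unop) M n) := rfl

lemma extBotDelta_effaceable [EnoughInjectives A] : (extBotDelta Z).IsEffaceable := fun n M => by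
  refine ⟨Injective.under M, Injective.ι M, inferInstance, ?_⟩
  have hz : IsZero (((extBotDelta Z).F (n + 1)).obj (Injective.under M)) := by
    apply isZero_of_evBot
    intro U
    have : Subsingleton (Ext (Z.obj U.unop) (Injective.under M) (n + 1)) :=
      Ext.subsingleton_of_injective _ _ n
    exact @AddCommGrpCat.isZero_of_subsingleton
      (AddCommGrpCat.of (Ext (Z.obj U.unop) (Injective.under M) (n + 1))) this
  exact hz.eq_of_tgt _ _

variable (Γ : A ⥤ Sheaf (⊥ : GrothendieckTopology C) AddCommGrpCat.{u})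
  (ev : ∀ (U : C) (M : A), (Z.obj U ⟶ M) ≃+ ((Γ.obj M).obj.obj (op U)))
  (nat_M : ∀ (U : C) {M N : A} (f : M ⟶ N) (g : Z.obj U ⟶ M),
    ev U N (g ≫ f) = ((Γ.map f).hom.app (op U)).hom (ev U M g))
  (nat_U : ∀ {U V : C} (h : V ⟶ U) (M : A) (g : Z.obj U ⟶ M),
    ev V M (Z.map h ≫ g) = ((Γ.obj M).obj.map h.op).hom (ev U M g))

/-- the presheaf isomorphism in degree zero -/
noncomputable def extPshZeroIso (M : A) : (extPsh Z 0).obj M ≅ (Γ.obj M).obj :=
  NatIso.ofComponents (fun U => (Ext.addEquiv₀.trans (ev U.unop M)).toAddCommGrpIso) (by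
    intro U V f
    refine AddCommGrpCat.hom_ext (AddMonoidHom.ext fun x => ?_)
    obtain ⟨g, rfl⟩ := (Ext.mk₀_bijective (Z.obj U.unop) M).2 x
    show ev V.unop M (Ext.addEquiv₀ ((Ext.mk₀ (Z.map f.unop)).comp (Ext.mk₀ g) (zero_add 0))) =
      ((Γ.obj M).obj.map f).hom (ev U.unop M (Ext.addEquiv₀ (Ext.mk₀ g)))
    have h1 : ∀ {X Y : A} (k : X ⟶ Y), Ext.addEquiv₀ (Ext.mk₀ k) = k := fun k =>
      Ext.addEquiv₀.apply_symm_apply k
    rw [Ext.mk₀_comp_mk₀, h1, h1]
    exact nat_U f.unop M g)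

/-- the degree zero part of `extBotDelta` -/
noncomputable def extBotZeroIso : extBotF Z 0 ≅ Γ :=
  NatIso.ofComponents (fun M => (fullyFaithfulSheafToPresheaf _ _).preimageIso
    (extPshZeroIso Z Γ ev nat_U M)) (by
    intro M N f
    apply Sheaf.hom_ext
    ext U x
    obtain ⟨g, rfl⟩ := (Ext.mk₀_bijective (Z.obj U.unop) M).2 x
    show ev U.unop N (Ext.addEquiv₀ ((Ext.mk₀ g).comp (Ext.mk₀ f) (add_zero 0))) =
      ((Γ.map f).hom.app U).hom (ev U.unop M (Ext.addEquiv₀ (Ext.mk₀ g)))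
    have h1 : ∀ {X Y : A} (k : X ⟶ Y), Ext.addEquiv₀ (Ext.mk₀ k) = k := fun k =>
      Ext.addEquiv₀.apply_symm_apply k
    rw [Ext.mk₀_comp_mk₀, h1, h1]
    exact nat_M U.unop f g)

end ExtPsh2

end Groth.Agent.Helper24.GSS
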