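import Mathlib
import Groth.Prelude.Def_FreeSh
import Groth.Agent.Lib.Helper24.GSSExtPsh
import Groth.Agent.Lib.Helper24.GSSExt
open CategoryTheory Limits Opposite
universe u

namespace Groth.Agent.Helper24.GSS

open DeltaF DeltaF.CohDeltaFunctor Abelian
open Groth.Agent.Helper24.CechH Groth.Agent.Helper24.SieveCoh

section Site

variable {C : Type u} [SmallCategory C] (J : GrothendieckTopology C)

/-- the forgetful functor from `J`-sheaves to presheaves, the latter seen as `⊥`-sheaves -/
noncomputable def forgetBot : Sheaf J AddCommGrpCat.{u} ⥤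
    Sheaf (⊥ : GrothendieckTopology C) AddCommGrpCat.{u} :=
  sheafToPresheaf J AddCommGrpCat.{u} ⋙ (sheafBotEquivalence AddCommGrpCat.{u}).inverse

lemma forgetBot_obj (M : Sheaf J AddCommGrpCat.{u}) : (forgetBot J).obj M = bot M.obj := rfl

instance : (forgetBot J).Additive := by unfold forgetBot; infer_instance

/-- sheafification from `⊥`-sheaves -/
noncomputable def shBot : Sheaf (⊥ : GrothendieckTopology C) AddCommGrpCat.{u} ⥤
    Sheaf J AddCommGrpCat.{u} :=
  (sheafBotEquivalence AddCommGrpCat.{u}).functor ⋙ presheafToSheaf J AddCommGrpCat.{u}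

/-- the adjunction between sheafification and the forgetful functor -/
noncomputable def shBotAdj : shBot J ⊣ forgetBot J :=
  (sheafBotEquivalence AddCommGrpCat.{u}).toAdjunction.comp
    (sheafificationAdjunction J AddCommGrpCat.{u})

instance : (shBot J).PreservesMonomorphisms := by unfold shBot; infer_instance

instance : (shBot J).Additive := (shBotAdj J).left_adjoint_additive

/-- the free abelian sheaf functor -/
noncomputable def freeZ : C ⥤ Sheaf J AddCommGrpCat.{u} :=
  yoneda ⋙ (Functor.whiskeringRight _ _ _).obj AddCommGrpCat.free.{u} ⋙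
    presheafToSheaf J AddCommGrpCat.{u}

lemma freeZ_obj (U : C) : (freeZ J).obj U = CohCx.freeSheaf J U := rfl

lemma freeZ_map {U V : C} (f : V ⟶ U) : (freeZ J).map f = CohCx.freeSheafMap J f := rfl

/-- the δ-functor of cohomology presheaves -/
noncomputable def cohBotDelta : CohDeltaFunctor (Sheaf J AddCommGrpCat.{u})
    (Sheaf (⊥ : GrothendieckTopology C) AddCommGrpCat.{u}) ℕ :=
  extBotDelta (freeZ J)

lemma cohBotDelta_effaceable : (cohBotDelta J).IsEffaceable := extBotDelta_effaceable (freeZ J)

/-- degree zero -/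
noncomputable def cohBotZeroIso : (cohBotDelta J).F 0 ≅ forgetBot J :=
  extBotZeroIso (freeZ J) (forgetBot J) (fun U M => CohFree.homEquivSect J U M)
    (fun _ _ _ _ _ => rfl)
    (fun h M g => CohFree.evalGen_freeSheafMap_comp J h M g)

lemma cohBotDelta_F_obj (q : ℕ) (M : Sheaf J AddCommGrpCat.{u}) :
    ((cohBotDelta J).F q).obj M = bot (M.cohomologyPresheaf q) := rfl

end Site

end Groth.Agent.Helper24.GSS
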