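import Mathlib
import Groth.Agent.Lib.Helper24.GSSSite
open CategoryTheory Limits Opposite
universe u

namespace Groth.Agent.Helper24.GSS

open DeltaF DeltaF.CohDeltaFunctor Abelian
open Groth.Agent.Helper24.CechH Groth.Agent.Helper24.SieveCoh

section Site2

variable {C : Type u} [SmallCategory C] (J : GrothendieckTopology C)

/-- **The presheaf-`Ext` spectral sequence on a site**:
`E₂^{p,q} = Ext^p_{PSh}(Z₀, H^q(M)) ⇒ Ext^{p+q}_{Sh}(a Z₀, M)`. -/
theorem exists_presheafExt_spectralSequence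
    (Z₀ : Sheaf (⊥ : GrothendieckTopology C) AddCommGrpCat.{u}) (M : Sheaf J AddCommGrpCat.{u})
    (H' : ℤ → AddCommGrpCat.{u}) (E2 : ℤ → ℤ → AddCommGrpCat.{u})
    (hH : ∀ n : ℕ, Nonempty (AddCommGrpCat.of (Ext ((shBot J).obj Z₀) M n) ≅ H' n))
    (hH' : ∀ n : ℤ, n < 0 → IsZero (H' n))
    (h2 : ∀ p q : ℕ, Nonempty (AddCommGrpCat.of (Ext Z₀ (bot (M.cohomologyPresheaf q)) p) ≅ E2 p q))
    (h2' : ∀ p q : ℤ, (p < 0 ∨ q < 0) → IsZero (E2 p q)) :
    ∃ (E : E₂CohomologicalSpectralSequence AddCommGrpCat.{u}) (a : SpSeq.Abutment E H'),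
      (∀ n, a.IsFinite n) ∧ SpSeq.IsBounded E ∧
      ∀ p q : ℤ, Nonempty ((E.page 2 le_rfl).X (p, q) ≅ E2 p q) := by
  haveI : HasDerivedCategory.{u + 1} (Sheaf (⊥ : GrothendieckTopology C) AddCommGrpCat.{u}) :=
    HasDerivedCategory.standard _
  exact exists_ext_spectralSequence (shBotAdj J) (cohBotDelta J) (cohBotDelta_effaceable J)
    (cohBotZeroIso J) Z₀ M H' E2 hH hH' h2 h2'

end Site2

section Site3

variable {C : Type u} [SmallCategory C] (J : GrothendieckTopology C)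

lemma W_whiskerRight_free {P Q : Cᵒᵖ ⥤ Type u} (f : P ⟶ Q) (hf : J.W f) :
    J.W (Functor.whiskerRight f AddCommGrpCat.free.{u}) := by
  intro G hG
  have hG' : Presheaf.IsSheaf J (G ⋙ forget AddCommGrpCat.{u}) :=
    (Presheaf.isSheaf_iff_isSheaf_forget J G (forget AddCommGrpCat.{u})).1 hG
  have hb := hf _ hG'
  let adj := Adjunction.whiskerRight Cᵒᵖ AddCommGrpCat.adj.{u}
  have key : (fun g : Q ⋙ AddCommGrpCat.free.{u} ⟶ G =>
      Functor.whiskerRight f AddCommGrpCat.free.{u} ≫ g) =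
      (adj.homEquiv P G).symm ∘ (fun g : Q ⟶ G ⋙ forget AddCommGrpCat.{u} => f ≫ g) ∘
        (adj.homEquiv Q G) := by
    funext g
    apply (adj.homEquiv P G).injective
    simp only [Function.comp_apply, Equiv.apply_symm_apply]
    exact adj.homEquiv_naturality_left f g
  rw [key]
  exact (adj.homEquiv P G).symm.bijective.comp (hb.comp (adj.homEquiv Q G).bijective)

/-- Ext groups only depend on the isomorphism class of the source -/
lemma nonempty_ext_iso_of_iso {A : Type*} [Category A] [Abelian A] [HasExt.{u} A] {W W' : A}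
    (e : W ≅ W') (M : A) (n : ℕ) :
    Nonempty (AddCommGrpCat.of (Ext W M n) ≅ AddCommGrpCat.of (Ext W' M n)) :=
  ⟨((extFunctor n).mapIso e.symm.op).app M⟩

/-- `a_J((a_⊥ P)) ≅ a_J P` -/
noncomputable def shBotSheafifyIso (P : Cᵒᵖ ⥤ AddCommGrpCat.{u}) :
    (shBot J).obj ((presheafToSheaf ⊥ AddCommGrpCat.{u}).obj P) ≅
      (presheafToSheaf J AddCommGrpCat.{u}).obj P :=
  haveI := isIso_toSheafify (⊥ : GrothendieckTopology C) (Presheaf.isSheaf_bot P)
  (presheafToSheaf J AddCommGrpCat.{u}).mapIso (asIso (toSheafify ⊥ P)).symm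

end Site3

end Groth.Agent.Helper24.GSS
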