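import Mathlib
import Groth.Prelude.Def_ModSite
import Groth.Prelude.Def_ModSite2
import Groth.Prelude.Def_CohCx
import Groth.Agent.Lib.Helper24.FrMod3
import Groth.Agent.Lib.Helper17.MT25
import Groth.Agent.Lib.Helper24.GSSExt
import Groth.Agent.Lib.Helper24.GSSSite2

/-!
# Cohomology of sheaves of modules computed in `Mod O` or on the underlying abelian sheaf
-/

open CategoryTheory Limits MonoidalCategory Opposite TensorProduct

namespace Groth.Agent.Helper24.FrMod

universe u
set_option linter.unusedSectionVars false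
open Groth.Agent.Helper17.MT Groth.Agent.Helper24.GSS Groth.Agent.Helper24.CechH DeltaF

variable {C : Type u} [SmallCategory C] {J : GrothendieckTopology C} {O : Sheaf J CommRingCat.{u}}

instance additive_Fr : (Fr O).Additive := (frAdj O).left_adjoint_additive

section TFmore

/-- sheafification of a torsion-free abelian presheaf is torsion-free -/
theorem tf_sheafify (P : Cᵒᵖ ⥤ Ab.{u})
    (hP : ∀ (W : Cᵒᵖ) (n : ℕ), n ≠ 0 → Function.Injective (fun x : P.obj W => n • x)) :
    TF ((presheafToSheaf J AddCommGrpCat.{u}).obj P) := by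
  intro n hn
  have h1 : Mono (n • 𝟙 P) := by
    rw [NatTrans.mono_iff_mono_app]
    intro W
    rw [AddCommGrpCat.mono_iff_injective]
    intro x y h
    apply hP W n hn
    have h' := h
    erw [nsmul_id_app_presheaf, nsmul_id_app_presheaf] at h'
    exact h'
  have h2 : (presheafToSheaf J AddCommGrpCat.{u}).map (n • 𝟙 P) = n • 𝟙 _ := by
    rw [Functor.map_nsmul, CategoryTheory.Functor.map_id]
  rw [← h2]
  infer_instance

/-- the constant sheaf `ℤ` is torsion-free -/
theorem tf_constant :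
    TF ((constantSheaf J AddCommGrpCat.{u}).obj (AddCommGrpCat.of (ULift.{u} ℤ))) := by
  apply tf_sheafify
  intro W n hn x y h
  have h0 : n • x = n • y := h
  have e : ULift.{u} ℤ ≃+ ℤ := AddEquiv.ulift
  apply e.injective
  have := congrArg e h0
  rw [map_nsmul, map_nsmul] at this
  have h1 : (n : ℤ) ≠ 0 := by exact_mod_cast hn
  simp only [nsmul_eq_mul] at this
  exact mul_left_cancel₀ h1 this

end TFmore

section Acyc

open Abelian

/-- `Ext^{n+1}(P, Hom_O(F, G)) = 0` for torsion-free `P` and injective `G` -/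
theorem ext_sheafHom_subsingleton (P : Sheaf J Ab.{u}) (hP : TF P) (F : ModSite.Mod O)
    [ModSite.HasSheafHom F] (G : ModSite.Mod O) [Injective G] (n : ℕ) :
    Subsingleton (Ext P (ModSite.toAb ((ModSite.sheafHom F).obj G)) (n + 1)) := by
  refine subsingleton_of_forall_eq 0 fun ξ => ?_
  exact ExtVanish.ext_eq_zero (ModSite.toAb ((ModSite.sheafHom F).obj G)) TF
    (fun X => enough_tf X)
    (fun S hS h2 _ => by
      have := hS.mono_f
      exact tf_of_mono S.f h2)
    (fun S hS h3 η => extend F G hS h3 η) n P hP ξ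

/-- extension property for the underlying abelian sheaf of an injective module -/
theorem extend_toAb (G : ModSite.Mod O) [Injective G] {S : ShortComplex (Sheaf J Ab.{u})}
    (hS : S.ShortExact) (h3 : TF S.X₃) (η : S.X₁ ⟶ (toAbF O).obj G) :
    ∃ ζ : S.X₂ ⟶ (toAbF O).obj G, S.f ≫ ζ = η := by
  have := mono_Fr_map (O := O) hS h3
  let η' := ((frAdj O).homEquiv _ _).symm η
  let ζ' := Injective.factorThru η' ((Fr O).map S.f)
  refine ⟨(frAdj O).homEquiv _ _ ζ', ?_⟩
  rw [← Adjunction.homEquiv_naturality_left, Injective.comp_factorThru]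
  exact Equiv.apply_symm_apply _ _

/-- `Ext^{n+1}(P, G) = 0` for torsion-free `P` and `G` (the abelian sheaf of) an injective module -/
theorem ext_toAb_injective_subsingleton (P : Sheaf J Ab.{u}) (hP : TF P)
    (G : ModSite.Mod O) [Injective G] (n : ℕ) :
    Subsingleton (Ext P (ModSite.toAb G) (n + 1)) := by
  refine subsingleton_of_forall_eq 0 fun ξ => ?_
  exact ExtVanish.ext_eq_zero (ModSite.toAb G) TF
    (fun X => enough_tf X)
    (fun S hS h2 _ => by
      have := hS.mono_f
      exact tf_of_mono S.f h2)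
    (fun S hS h3 η => extend_toAb G hS h3 η) n P hP ξ

/-- injective modules are totally acyclic -/
theorem totallyAcyclic_toAb_injective (G : ModSite.Mod O) [Injective G] :
    CohCx.IsTotallyAcyclic (ModSite.toAb G) := fun K p =>
  ext_toAb_injective_subsingleton _ (tf_free K.obj) G p

end Acyc

section UnitIso

variable (O)

/-- the constant presheaf `ℤ` -/
abbrev constZ : Cᵒᵖ ⥤ Ab.{u} := (Functor.const Cᵒᵖ).obj (AddCommGrpCat.of (ULift.{u} ℤ))

/-- `n ↦ n • 1` -/
noncomputable def zToUnit : constZ (C := C) ⟶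
    (PresheafOfModules.unit (O.obj ⋙ forget₂ CommRingCat.{u} RingCat.{u})).presheaf where
  app W := AddCommGrpCat.ofHom
    ((zmultiplesHom (O.obj.obj W) (1 : O.obj.obj W)).comp AddEquiv.ulift.toAddMonoidHom)
  naturality W W' g := by
    ext n
    change (zmultiplesHom (O.obj.obj W') (1 : O.obj.obj W')) (AddEquiv.ulift n) =
      (O.obj.map g).hom ((zmultiplesHom (O.obj.obj W) (1 : O.obj.obj W)) (AddEquiv.ulift n))
    simp only [zmultiplesHom_apply]
    rw [map_zsmul, map_one]

theorem zToUnit_app (W : Cᵒᵖ) (n : ULift.{u} ℤ) :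
    (zToUnit O).app W n = n.down • (1 : O.obj.obj W) := rfl

/-- `O ⊗ ℤ ⟶ O` -/
noncomputable def frUnitHom : frObj O (constZ (C := C)) ⟶
    PresheafOfModules.unit (O.obj ⋙ forget₂ CommRingCat.{u} RingCat.{u}) :=
  adjFrom (zToUnit O)

/-- `a ⊗ n ↦ n • a`, with clean types -/
noncomputable def adjU (W : Cᵒᵖ) : FS O (constZ (C := C)) W →+ O.obj.obj W :=
  adjFromAdd (zToUnit O) W

theorem adjU_tmul (W : Cᵒᵖ) (a : O.obj.obj W) (n : ULift.{u} ℤ) :
    adjU O W (a ⊗ₜ n) = n.down • a := by
  change a • (n.down • (1 : O.obj.obj W)) = n.down • a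
  rw [smul_eq_mul, mul_smul_comm, mul_one]

/-- `a ↦ a ⊗ 1` -/
noncomputable def unitToFrAdd (W : Cᵒᵖ) : O.obj.obj W →+ FS O (constZ (C := C)) W where
  toFun a := a ⊗ₜ (ULift.up 1 : ULift.{u} ℤ)
  map_zero' := TensorProduct.zero_tmul _ _
  map_add' a b := TensorProduct.add_tmul a b _

theorem unitToFrAdd_apply (W : Cᵒᵖ) (a : O.obj.obj W) :
    unitToFrAdd O W a = a ⊗ₜ (ULift.up 1 : ULift.{u} ℤ) := rfl

theorem unitToFrAdd_mul (W : Cᵒᵖ) (r a : O.obj.obj W) :
    unitToFrAdd O W (r * a) = r • unitToFrAdd O W a := by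
  rw [unitToFrAdd_apply, unitToFrAdd_apply, TensorProduct.smul_tmul', smul_eq_mul]

theorem unitToFrAdd_adjU (W : Cᵒᵖ) (m : FS O (constZ (C := C)) W) :
    unitToFrAdd O W (adjU O W m) = m := by
  induction m using TensorProduct.induction_on with
  | zero => rw [map_zero, map_zero]
  | tmul a n =>
    rw [adjU_tmul, unitToFrAdd_apply, TensorProduct.smul_tmul]
    congr 1
    apply ULift.ext
    simp
  | add a b ha hb => rw [map_add, map_add, ha, hb]

theorem adjU_unitToFrAdd (W : Cᵒᵖ) (a : O.obj.obj W) : adjU O W (unitToFrAdd O W a) = a := by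
  rw [unitToFrAdd_apply, adjU_tmul, one_smul]

/-- `O ⟶ O ⊗ ℤ` -/
noncomputable def frUnitInv : PresheafOfModules.unit (O.obj ⋙ forget₂ CommRingCat.{u} RingCat.{u}) ⟶
    frObj O (constZ (C := C)) :=
  PresheafOfModules.homMk (M₁ := PresheafOfModules.unit _) (M₂ := frObj O (constZ (C := C)))
    { app := fun W => AddCommGrpCat.ofHom (unitToFrAdd O W)
      naturality := fun W W' g => by
        ext a
        rfl }
    (fun W r a => unitToFrAdd_mul O W r a)

/-- `frP (const ℤ) ≅ unit` -/
noncomputable def frUnitIso : (frP O).obj (constZ (C := C)) ≅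
    PresheafOfModules.unit (O.obj ⋙ forget₂ CommRingCat.{u} RingCat.{u}) where
  hom := frUnitHom O
  inv := frUnitInv O
  hom_inv_id := by
    apply (PresheafOfModules.toPresheaf _).map_injective
    ext W m
    exact unitToFrAdd_adjU O W m
  inv_hom_id := by
    apply (PresheafOfModules.toPresheaf _).map_injective
    ext W a
    exact adjU_unitToFrAdd O W a

/-- `Fr ∘ sheafify ≅ sheafify ∘ frP` (uniqueness of left adjoints) -/
noncomputable def frSheafifyIso :
    presheafToSheaf J AddCommGrpCat.{u} ⋙ Fr O ≅ frP O ⋙ shf O :=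
  ((sheafificationAdjunction J AddCommGrpCat.{u}).comp (frAdj O)).leftAdjointUniq
    (((frPAdj O).comp (shfAdj O)).ofNatIsoRight
      (NatIso.ofComponents (fun _ => Iso.refl _) :
        fgt O ⋙ PresheafOfModules.toPresheaf _ ≅ toAbF O ⋙ sheafToPresheaf J AddCommGrpCat.{u}))

/-- the constant sheaf `ℤ` -/
noncomputable abbrev ZC : Sheaf J Ab.{u} :=
  (constantSheaf J AddCommGrpCat.{u}).obj (AddCommGrpCat.of (ULift.{u} ℤ))

/-- `Fr ℤ ≅ O` -/
noncomputable def frZIso : (Fr O).obj (ZC (J := J)) ≅ ModSite.unit O :=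
  (frSheafifyIso O).app (constZ (C := C)) ≪≫ (shf O).mapIso (frUnitIso O) ≪≫
    (fgtShfIso O).app (ModSite.unit O)

/-- `Fr ℤ ⊗ M ≅ M` -/
noncomputable def LZIso (M : ModSite.Mod O) : (Fr O ⋙ TR O M).obj (ZC (J := J)) ≅ M :=
  ((TR O M).mapIso (frZIso O) :
    (TR O M).obj ((Fr O).obj (ZC (J := J))) ≅ (TR O M).obj (ModSite.unit O)) ≪≫
  (Iso.refl _ : (TR O M).obj (ModSite.unit O) ≅ (TL O (ModSite.unit O)).obj M) ≪≫
  ((TLunitIso O).app M : (TL O (ModSite.unit O)).obj M ≅ M)

end UnitIso

section Bridge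

open Abelian

variable [EnoughInjectives (ModSite.Mod O)]

/-- the δ-functor `H ↦ Ext^n(Z, toAb H)` on `Mod O` -/
noncomputable def DZ (Z : Sheaf J Ab.{u}) :
    CohDeltaFunctor (ModSite.Mod O) AddCommGrpCat.{u} ℕ :=
  comap (toAbF O) (extDelta Z)

lemma DZ_effaceable (Z : Sheaf J Ab.{u}) (hZ : TF Z) : (DZ (O := O) Z).IsEffaceable := fun n H => by
  refine ⟨Injective.under H, Injective.ι H, inferInstance, ?_⟩
  have hz : IsZero (((DZ (O := O) Z).F (n + 1)).obj (Injective.under H)) := by
    have : Subsingleton (Ext Z (ModSite.toAb (Injective.under H)) (n + 1)) :=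
      ext_toAb_injective_subsingleton Z hZ (Injective.under H) n
    exact @AddCommGrpCat.isZero_of_subsingleton
      (AddCommGrpCat.of (Ext Z (ModSite.toAb (Injective.under H)) (n + 1))) this
  exact hz.eq_of_tgt _ _

/-- `H ↦ Hom(Z, toAb H)` -/
noncomputable abbrev SZ (Z : Sheaf J Ab.{u}) : ModSite.Mod O ⥤ AddCommGrpCat.{u} :=
  toAbF O ⋙ (extDelta Z).F 0

/-- cohomology of the underlying abelian sheaf is the derived functor computed in `Mod O` -/
theorem nonempty_SZ_rightDerived_iso (Z : Sheaf J Ab.{u}) (hZ : TF Z) (H : ModSite.Mod O) (p : ℕ) :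
    Nonempty (AddCommGrpCat.of (Ext Z (ModSite.toAb H) p) ≅ ((SZ (O := O) Z).rightDerived p).obj H) :=
  nonempty_iso_rightDerived_obj (DZ Z) (DZ_effaceable Z hZ) (SZ Z) (Iso.refl _) p H

end Bridge

end Groth.Agent.Helper24.FrMod
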