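import Mathlib
import Groth.Prelude.Def_ExtSupp
import Groth.Agent.Lib.Helper24.FrMod4

/-!
# `O ⊗_ℤ (ℤ/ℤ_U) ≅ O/O_U`: the free module on the abelian sheaf `ℤ/ℤ_U` is `quotOn O U` of the unit
-/

open CategoryTheory Limits Opposite
universe u
set_option linter.unusedSectionVars false
namespace Groth.Agent.Helper24.Supp
open Groth.Agent.Helper24.FrMod Groth.Agent.Helper17.MT
variable {C : Type u} [SmallCategory C] {J : GrothendieckTopology C}

/-- sections of the terminal sheaf of sets over any object form a singleton -/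
@[instance_reducible]
noncomputable def uniqueTerminalSections (V : Cᵒᵖ) :
    Unique ((⊤_ (Sheaf J (Type u))).obj.obj V) :=
  Equiv.unique
    ((yonedaEquiv (X := V.unop) (F := (⊤_ (Sheaf J (Type u))).obj)).symm.trans
      (((sheafificationAdjunction J (Type u)).homEquiv (yoneda.obj V.unop)
        (⊤_ (Sheaf J (Type u)))).symm))

variable (O : Sheaf J CommRingCat.{u})

/-- forgetful functor from abelian sheaves to presheaves of sets -/
noncomputable abbrev fgS : Sheaf J Ab.{u} ⥤ (Cᵒᵖ ⥤ Type u) :=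
  sheafToPresheaf J AddCommGrpCat.{u} ⋙
      (Functor.whiskeringRight Cᵒᵖ _ _).obj (forget AddCommGrpCat.{u})

/-- free abelian sheaf on a presheaf of sets -/
noncomputable abbrev frS : (Cᵒᵖ ⥤ Type u) ⥤ Sheaf J Ab.{u} :=
  (Functor.whiskeringRight Cᵒᵖ _ _).obj AddCommGrpCat.free.{u} ⋙
      presheafToSheaf J AddCommGrpCat.{u}

example (X : Sheaf J (Type u)) : (ToposFin.freeAb J).obj X = (frS (J := J)).obj X.obj := rfl
example {X Y : Sheaf J (Type u)} (t : X ⟶ Y) : (ToposFin.freeAb J).map t = (frS (J := J)).map t.hom := rfl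

theorem isSheaf_fgS (A : Sheaf J Ab.{u}) : Presheaf.IsSheaf J ((fgS (J := J)).obj A) :=
  ((sheafCompose J (forget AddCommGrpCat.{u})).obj A).property

/-- `Hom_O(O[X], H) ≃ Hom(X, H)` for a presheaf of sets `X` -/
noncomputable def Xi (X : Cᵒᵖ ⥤ Type u) (H : ModSite.Mod O) :
    ((Fr O).obj ((frS (J := J)).obj X) ⟶ H) ≃ (X ⟶ (fgS (J := J)).obj (ModSite.toAb H)) :=
  ((frAdj O).homEquiv _ H).trans ((freeAdj (J := J)).homEquiv X (ModSite.toAb H))

theorem Xi_naturality_left {X X' : Cᵒᵖ ⥤ Type u} (t : X ⟶ X') {H : ModSite.Mod O}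
    (f : (Fr O).obj ((frS (J := J)).obj X') ⟶ H) :
    Xi O X H ((Fr O).map ((frS (J := J)).map t) ≫ f) = t ≫ Xi O X' H f := by
  unfold Xi
  simp only [Equiv.trans_apply]
  rw [Adjunction.homEquiv_naturality_left, Adjunction.homEquiv_naturality_left]

theorem Xi_naturality_right {X : Cᵒᵖ ⥤ Type u} {H H' : ModSite.Mod O}
    (f : (Fr O).obj ((frS (J := J)).obj X) ⟶ H) (h : H ⟶ H') :
    Xi O X H' (f ≫ h) = Xi O X H f ≫ (fgS (J := J)).map ((toAbF O).map h) := by
  unfold Xi
  simp only [Equiv.trans_apply]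
  rw [Adjunction.homEquiv_naturality_right, Adjunction.homEquiv_naturality_right]


variable (U : C)

/-- evaluation at the universal section -/
noncomputable def ev (H : ModSite.Mod O)
    (f : (Fr O).obj ((ToposFin.freeAb J).obj (ToposFin.eps J U)) ⟶ H) : H.val.obj (op U) :=
  yonedaEquiv (F := (fgS (J := J)).obj (ModSite.toAb H))
    (toSheafify J (yoneda.obj U) ≫ Xi O (ToposFin.eps J U).obj H f)

theorem ev_comp {H H' : ModSite.Mod O}
    (f : (Fr O).obj ((ToposFin.freeAb J).obj (ToposFin.eps J U)) ⟶ H) (h : H ⟶ H') :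
    ev O U H' (f ≫ h) = h.val.app (op U) (ev O U H f) := by
  unfold ev
  rw [Xi_naturality_right, ← Category.assoc, yonedaEquiv_comp]
  rfl

theorem ev_injective (H : ModSite.Mod O) : Function.Injective (ev O U H) := by
  intro f f' h
  apply (Xi O (ToposFin.eps J U).obj H).injective
  apply sheafify_hom_ext J _ _ (isSheaf_fgS _)
  exact yonedaEquiv.injective h


/-- the constant section `1` of the structure sheaf -/
noncomputable def oneS : (⊤_ (Sheaf J (Type u))).obj ⟶
    (fgS (J := J)).obj (ModSite.toAb (ModSite.unit O)) where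
  app V := TypeCat.ofHom (fun _ => (1 : O.obj.obj V))
  naturality V V' g := by
    ext x
    exact (map_one (O.obj.map g).hom).symm

theorem oneS_app (V : Cᵒᵖ) (x : (⊤_ (Sheaf J (Type u))).obj.obj V) :
    (oneS O).app V x = (1 : O.obj.obj V) := rfl

/-- `O[⊤] ⟶ O` -/
noncomputable def betaHom : (Fr O).obj ((ToposFin.freeAb J).obj (⊤_ (Sheaf J (Type u)))) ⟶
    ModSite.unit O :=
  (Xi O (⊤_ (Sheaf J (Type u))).obj (ModSite.unit O)).symm (oneS O)

theorem Xi_betaHom_comp {H : ModSite.Mod O} (ψ : ModSite.unit O ⟶ H) :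
    Xi O (⊤_ (Sheaf J (Type u))).obj H (betaHom O ≫ ψ) =
      oneS O ≫ (fgS (J := J)).map ((toAbF O).map ψ) := by
  rw [Xi_naturality_right]
  unfold betaHom
  rw [Equiv.apply_symm_apply]


attribute [local instance] uniqueTerminalSections in
theorem Gmap_bijective (H : ModSite.Mod O) :
    Function.Bijective (fun ψ : ModSite.unit O ⟶ H =>
      oneS O ≫ (fgS (J := J)).map ((toAbF O).map ψ)) := by
  constructor
  · intro ψ ψ' h
    apply (SheafOfModules.unitHomEquiv H).injective
    apply PresheafOfModules.sections_ext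
    intro V
    rw [SheafOfModules.unitHomEquiv_apply_coe, SheafOfModules.unitHomEquiv_apply_coe]
    have h1 := congrArg (fun (t : (⊤_ (Sheaf J (Type u))).obj ⟶
      (fgS (J := J)).obj (ModSite.toAb H)) => t.app V default) h
    exact h1
  · intro t
    let s : H.val.sections := PresheafOfModules.sectionsMk (fun V => t.app V default)
      (fun V V' g => by
        have h1 := congrArg (fun k => k default) (congrArg (fun k => k.hom) (t.naturality g))
        have h2 : (⊤_ (Sheaf J (Type u))).obj.map g default = default := Subsingleton.elim _ _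
        simp only [types_comp_apply] at h1
        rw [h2] at h1
        exact h1.symm)
    refine ⟨(SheafOfModules.unitHomEquiv H).symm s, ?_⟩
    ext V x
    have hx : x = default := Subsingleton.elim _ _
    subst hx
    have := SheafOfModules.unitHomEquiv_apply_coe H ((SheafOfModules.unitHomEquiv H).symm s) V
    rw [Equiv.apply_symm_apply] at this
    exact this.symm


instance isIso_betaHom : IsIso (betaHom O) := by
  rw [isIso_iff_coyoneda_map_bijective]
  intro H
  have h1 := Gmap_bijective O H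
  have h2 : (fun ψ : ModSite.unit O ⟶ H => oneS O ≫ (fgS (J := J)).map ((toAbF O).map ψ)) =
      (Xi O (⊤_ (Sheaf J (Type u))).obj H) ∘ (fun ψ => betaHom O ≫ ψ) := by
    funext ψ
    exact (Xi_betaHom_comp O ψ).symm
  rw [h2] at h1
  exact (Function.Bijective.of_comp_iff' (Xi O (⊤_ (Sheaf J (Type u))).obj H).bijective _).1 h1

/-- `O[U] ⟶ O[⊤] ≅ O` -/
noncomputable def gammaHom : (Fr O).obj ((ToposFin.freeAb J).obj (ToposFin.eps J U)) ⟶
    ModSite.unit O :=
  (Fr O).map ((ToposFin.freeAb J).map (terminal.from (ToposFin.eps J U))) ≫ betaHom O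

theorem ev_gammaHom : ev O U _ (gammaHom O U) = (1 : O.obj.obj (op U)) := by
  unfold ev gammaHom
  have h1 := Xi_naturality_left O (terminal.from (ToposFin.eps J U)).hom (betaHom O)
  have h2 : Xi O (⊤_ (Sheaf J (Type u))).obj _ (betaHom O) = oneS O := by
    unfold betaHom
    rw [Equiv.apply_symm_apply]
  rw [h2] at h1
  erw [h1]
  rw [← Category.assoc, yonedaEquiv_comp]
  rfl

theorem gammaHom_comp_eq_zero_iff {H : ModSite.Mod O} (ψ : ModSite.unit O ⟶ H) :
    gammaHom O U ≫ ψ = 0 ↔ ψ.val.app (op U) (1 : O.obj.obj (op U)) = 0 := by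
  have h0 : gammaHom O U ≫ (0 : ModSite.unit O ⟶ H) = 0 := comp_zero
  constructor
  · intro h
    have h1 := ev_comp O U (gammaHom O U) ψ
    rw [ev_gammaHom] at h1
    rw [← h1, h, ← h0, ev_comp]
    rfl
  · intro h
    apply ev_injective O U H
    rw [ev_comp, ev_gammaHom, h, ← h0, ev_comp]
    rfl


/-- the section `1` of the unit module -/
abbrev oneU (V : Cᵒᵖ) : (ModSite.unit O).val.obj V := (1 : (ModSite.ringSh O).obj.obj V)

/-- a section of the unit module as a section of the ring -/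
abbrev toR (V : Cᵒᵖ) (r : (ModSite.unit O).val.obj V) : (ModSite.ringSh O).obj.obj V := r

theorem unit_map_apply_eq {H : ModSite.Mod O} (ψ : ModSite.unit O ⟶ H) (V : Cᵒᵖ)
    (r : (ModSite.unit O).val.obj V) :
    (ψ.val.app V).hom r = toR O V r • (ψ.val.app V).hom (oneU O V) := by
  rw [← map_smul]
  congr 1
  exact (mul_one (toR O V r)).symm

theorem unit_map_one_eq {H : ModSite.Mod O} (ψ : ModSite.unit O ⟶ H) {V V' : Cᵒᵖ} (g : V ⟶ V') :
    (ψ.val.app V').hom (oneU O V') = H.val.map g ((ψ.val.app V).hom (oneU O V)) := by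
  have h3 := PresheafOfModules.naturality_apply ψ.val g (oneU O V)
  rw [← h3]
  congr 1
  exact (map_one ((ModSite.ringSh O).obj.map g).hom).symm

theorem restr_map_eq_zero_iff {H : ModSite.Mod O} (ψ : ModSite.unit O ⟶ H) :
    (ModSite.restr O U).map ψ = 0 ↔ (ψ.val.app (op U)).hom (oneU O (op U)) = 0 := by
  constructor
  · intro h
    exact congrArg (fun φ : (ModSite.restr O U).obj (ModSite.unit O) ⟶ (ModSite.restr O U).obj H =>
      (φ.val.app (op (Over.mk (𝟙 U)))).hom (oneU O (op U))) h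
  · intro h
    apply (SheafOfModules.toSheaf _).map_injective
    ext Y m
    have key : ∀ m' : (ModSite.unit O).val.obj (op Y.unop.left),
        (ψ.val.app (op Y.unop.left)).hom m' = 0 := by
      intro m'
      have h5 : (ψ.val.app (op Y.unop.left)).hom (oneU O (op Y.unop.left)) = 0 := by
        rw [unit_map_one_eq O ψ Y.unop.hom.op, h]
        exact map_zero _
      rw [unit_map_apply_eq, h5, smul_zero]
    exact key m



theorem gammaHom_comp_eq_zero_iff' {H : ModSite.Mod O} (ψ : ModSite.unit O ⟶ H) :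
    gammaHom O U ≫ ψ = 0 ↔ (ψ.val.app (op U)).hom (oneU O (op U)) = 0 :=
  gammaHom_comp_eq_zero_iff O U ψ

theorem cokernel_iso_of_forall {𝒜 : Type*} [Category 𝒜] [Abelian 𝒜] {A A' B B' : 𝒜}
    (f : A ⟶ B) (f' : A' ⟶ B') (β : B ≅ B')
    (h : ∀ {H : 𝒜} (φ : B' ⟶ H), f' ≫ φ = 0 ↔ f ≫ β.hom ≫ φ = 0) :
    ∃ e : cokernel f ≅ cokernel f', cokernel.π f ≫ e.hom = β.hom ≫ cokernel.π f' := by
  refine ⟨⟨cokernel.desc f (β.hom ≫ cokernel.π f') ((h _).1 (cokernel.condition f')),
    cokernel.desc f' (β.inv ≫ cokernel.π f) ((h _).2 (by simp)), ?_, ?_⟩, ?_⟩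
  · apply coequalizer.hom_ext
    simp
  · apply coequalizer.hom_ext
    simp
  · simp

theorem counit_comp_eq_zero_iff {H : ModSite.Mod O} (ψ : ModSite.unit O ⟶ H) :
    (ModSite.extZeroAdj O U).counit.app (ModSite.unit O) ≫ ψ = 0 ↔
      (ψ.val.app (op U)).hom (oneU O (op U)) = 0 := by
  rw [← ExtSupp.mem_homZ_iff, ← restr_map_eq_zero_iff]
  rfl

/-- `O ⊗_ℤ (ℤ/ℤ_U) ≅ O/O_U` -/
theorem exists_FrZ_iso :
    ∃ e : (Fr O).obj (ToposFin.quotZ (ToposFin.eps J U)) ≅ (ModSite.quotOn O U).obj (ModSite.unit O),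
      (Fr O).map (cokernel.π ((ToposFin.freeAb J).map (terminal.from (ToposFin.eps J U)))) ≫ e.hom =
        betaHom O ≫ (ModSite.quotOnπ O U).app (ModSite.unit O) := by
  let g := (ToposFin.freeAb J).map (terminal.from (ToposFin.eps J U))
  obtain ⟨e, he⟩ := cokernel_iso_of_forall ((Fr O).map g)
    ((ModSite.extZeroAdj O U).counit.app (ModSite.unit O)) (asIso (betaHom O)) (by
      intro H φ
      rw [counit_comp_eq_zero_iff, ← gammaHom_comp_eq_zero_iff']
      unfold gammaHom
      rw [Category.assoc]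
      rfl)
  let e' : cokernel ((Fr O).map g) ≅ (ModSite.quotOn O U).obj (ModSite.unit O) := e
  have he' : cokernel.π ((Fr O).map g) ≫ e'.hom =
      betaHom O ≫ (ModSite.quotOnπ O U).app (ModSite.unit O) := he
  refine ⟨PreservesCokernel.iso (Fr O) g ≪≫ e', ?_⟩
  rw [Iso.trans_hom, ← Category.assoc, ← he']
  congr 1
  rw [← Iso.eq_comp_inv]
  rw [PreservesCokernel.iso_inv]
  exact (π_comp_cokernelComparison g (Fr O)).symm

end Groth.Agent.Helper24.Supp
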