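import Mathlib
import Groth.Prelude.Def_ExtSupp
import Groth.Agent.Lib.Helper24.Supp1

/-!
# `ℤ/ℤ_U` is a torsion-free abelian sheaf
-/

open CategoryTheory Limits Opposite
universe u
namespace Groth.Agent.Helper24.Supp
open Groth.Agent.Helper24.FrMod Groth.Agent.Helper17.MT
variable {C : Type u} [SmallCategory C] {J : GrothendieckTopology C}

theorem free_map_surjective {X T : Type u} (t : X → T) (ht : Function.Surjective t) :
    Function.Surjective (FreeAbelianGroup.map t) := by
  intro y
  induction y using FreeAbelianGroup.induction_on with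
  | zero => exact ⟨0, map_zero _⟩
  | of τ =>
    obtain ⟨x, rfl⟩ := ht τ
    exact ⟨FreeAbelianGroup.of x, FreeAbelianGroup.map_of_apply _⟩
  | neg τ h =>
    obtain ⟨x, hx⟩ := h
    exact ⟨-x, by rw [map_neg, hx]⟩
  | add a b ha hb =>
    obtain ⟨x, hx⟩ := ha
    obtain ⟨y, hy⟩ := hb
    exact ⟨x + y, by rw [map_add, hx, hy]⟩

theorem coker_free_tf {X T : Cᵒᵖ ⥤ Type u} (t : X ⟶ T) (hT : ∀ W, Subsingleton (T.obj W))
    (W : Cᵒᵖ) (n : ℕ) (hn : n ≠ 0) :
    Function.Injective (fun x : (cokernel (Functor.whiskerRight t AddCommGrpCat.free.{u})).obj W =>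
      n • x) := by
  let g := Functor.whiskerRight t AddCommGrpCat.free.{u}
  let S : ShortComplex (Cᵒᵖ ⥤ Ab.{u}) := ShortComplex.mk g (cokernel.π g) (cokernel.condition g)
  have hS : S.Exact := ShortComplex.exact_of_g_is_cokernel _ (cokernelIsCokernel g)
  have hSW : (S.map ((evaluation Cᵒᵖ Ab.{u}).obj W)).Exact := hS.map _
  have hepi : Epi ((cokernel.π g).app W) := inferInstance
  have hsurj : Function.Surjective ((cokernel.π g).app W).hom :=
    (AddCommGrpCat.epi_iff_surjective _).1 hepi
  have hzero : ∀ a, ((cokernel.π g).app W).hom ((g.app W).hom a) = 0 := by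
    intro a
    have h1 := congrArg (fun k : X ⋙ AddCommGrpCat.free.{u} ⟶ cokernel g => (k.app W).hom a)
      (cokernel.condition g)
    exact h1
  by_cases hX : Nonempty (X.obj W)
  · obtain ⟨x₀⟩ := hX
    have ht : Function.Surjective (t.app W) := by
      intro τ
      exact ⟨x₀, Subsingleton.elim _ _⟩
    have hall : ∀ z : (cokernel g).obj W, z = 0 := by
      intro z
      obtain ⟨b, rfl⟩ := hsurj z
      obtain ⟨a, rfl⟩ := free_map_surjective (t.app W) ht b
      exact hzero a
    intro z z' _
    rw [hall z, hall z']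
  · rw [not_nonempty_iff] at hX
    intro z z' h
    obtain ⟨b, rfl⟩ := hsurj z
    obtain ⟨b', rfl⟩ := hsurj z'
    have h0 : n • ((cokernel.π g).app W).hom b = n • ((cokernel.π g).app W).hom b' := h
    have h1 : ((cokernel.π g).app W).hom (n • (b - b')) = 0 := by
      rw [map_nsmul, map_sub, smul_sub, h0, sub_self]
    rw [ShortComplex.ab_exact_iff] at hSW
    obtain ⟨a, ha⟩ := hSW (n • (b - b')) h1
    have ha0 : a = 0 := by
      have : Subsingleton (FreeAbelianGroup (X.obj W)) := by
        refine ⟨fun p q => ?_⟩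
        apply (FreeAbelianGroup.equivFinsupp (X.obj W)).injective
        ext x
        exact (hX.false x).elim
      exact @Subsingleton.elim (FreeAbelianGroup (X.obj W)) this _ _
    rw [ha0, map_zero] at ha
    have h2 : n • (b - b') = n • (0 : FreeAbelianGroup (T.obj W)) := by
      rw [smul_zero]
      exact ha.symm
    have h3 := free_injective_nsmul (T.obj W) n hn h2
    have h4 : b = b' := sub_eq_zero.1 h3
    rw [h4]

/-- `ℤ/ℤ_U` is torsion-free -/
theorem tf_quotZ (U : Sheaf J (Type u)) : TF (ToposFin.quotZ U) := by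
  let g := Functor.whiskerRight (terminal.from U).hom AddCommGrpCat.free.{u}
  have hg : (ToposFin.freeAb J).map (terminal.from U) = (presheafToSheaf J Ab.{u}).map g := rfl
  let e : ToposFin.quotZ U ≅ (presheafToSheaf J Ab.{u}).obj (cokernel g) :=
    (PreservesCokernel.iso (presheafToSheaf J Ab.{u}) g).symm
  have h1 : TF ((presheafToSheaf J Ab.{u}).obj (cokernel g)) :=
    tf_sheafify _ (fun W n hn => coker_free_tf (terminal.from U).hom
      (fun W => (uniqueTerminalSections (J := J) W).instSubsingleton) W n hn)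
  exact tf_of_mono e.hom h1

end Groth.Agent.Helper24.Supp
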