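import Mathlib
import Groth.Prelude.Def_ExtSupp
import Groth.Agent.Lib.Helper24.Supp2
import Groth.Agent.Lib.Helper17.MT22

/-!
# `(O/O_U) ⊗ M ≅ M/M_U`
-/

open CategoryTheory Limits Opposite
universe u
set_option linter.unusedSectionVars false
namespace Groth.Agent.Helper24.Supp
open Groth.Agent.Helper24.FrMod Groth.Agent.Helper17.MT
variable {C : Type u} [SmallCategory C] {J : GrothendieckTopology C}
variable (O : Sheaf J CommRingCat.{u}) (U : C)

/-- a morphism from an extension by zero to a module null on `U` vanishes -/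
theorem eq_zero_of_isNullOn {X : ModSite.Mod (O.over U)} {N' : ModSite.Mod O}
    (hN : ModSite.IsNullOn O U N') (φ : (ModSite.extZero O U).obj X ⟶ N') : φ = 0 := by
  apply ((ModSite.extZeroAdj O U).homEquiv _ _).injective
  exact hN.eq_of_tgt _ _

/-- the tensor product of a module null on `U` with any module is null on `U` -/
theorem isNullOn_TR (M A : ModSite.Mod O) (hA : ModSite.IsNullOn O U A) :
    ModSite.IsNullOn O U ((TR O M).obj A) := by
  obtain ⟨e⟩ := main6154 O U A M
  have h0 : IsZero ((TR (O.over U) ((ModSite.restr O U).obj M)).obj ((ModSite.restr O U).obj A)) :=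
    Functor.map_isZero _ hA
  exact IsZero.of_iso h0 e

/-- `λ_M : O ⊗ M ≅ M` -/
noncomputable def lamIso (M : ModSite.Mod O) : (TR O M).obj (ModSite.unit O) ≅ M :=
  (Iso.refl _ : (TR O M).obj (ModSite.unit O) ≅ (TL O (ModSite.unit O)).obj M) ≪≫
    (TLunitIso O).app M

theorem lamIso_naturality {M M' : ModSite.Mod O} (f : M ⟶ M') :
    (TL O (ModSite.unit O)).map f ≫ (lamIso O M').hom = (lamIso O M).hom ≫ f := by
  unfold lamIso
  simp only [Iso.trans_hom, Iso.refl_hom, Category.id_comp, Iso.app_hom]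
  exact (TLunitIso O).hom.naturality f

theorem map_π_comp_iso_hom {𝒜 ℬ : Type*} [Category 𝒜] [Category ℬ] [Abelian 𝒜] [Abelian ℬ]
    (G : 𝒜 ⥤ ℬ) [G.PreservesZeroMorphisms] {A B : 𝒜} (c : A ⟶ B) [PreservesColimit (parallelPair c 0) G] :
    G.map (cokernel.π c) ≫ (PreservesCokernel.iso G c).hom = cokernel.π (G.map c) := by
  rw [← Iso.eq_comp_inv, PreservesCokernel.iso_inv]
  exact (π_comp_cokernelComparison c G).symm

variable [ModSite.HasPushOver O U]

/-- `(O/O_U) ⊗ M ≅ M/M_U`, compatibly with the projections -/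
theorem exists_quotOn_tensor_iso (M : ModSite.Mod O) :
    ∃ θ : (TR O M).obj ((ModSite.quotOn O U).obj (ModSite.unit O)) ≅ (ModSite.quotOn O U).obj M,
      (TR O M).map ((ModSite.quotOnπ O U).app (ModSite.unit O)) ≫ θ.hom =
        (lamIso O M).hom ≫ (ModSite.quotOnπ O U).app M := by
  let c := (ModSite.extZeroAdj O U).counit.app (ModSite.unit O)
  let f := (TR O M).map c
  let f' := (ModSite.extZeroAdj O U).counit.app M
  let pc : (TR O M).obj ((ModSite.quotOn O U).obj (ModSite.unit O)) ≅ cokernel f :=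
    PreservesCokernel.iso (TR O M) c
  have hpc : (TR O M).map ((ModSite.quotOnπ O U).app (ModSite.unit O)) ≫ pc.hom = cokernel.π f :=
    map_π_comp_iso_hom (TR O M) c
  have hnull : ModSite.IsNullOn O U ((TR O M).obj ((ModSite.quotOn O U).obj (ModSite.unit O))) :=
    isNullOn_TR O U M _ (ExtSupp.isNullOn_quotOn O U (ModSite.unit O))
  obtain ⟨e₁, he₁⟩ := cokernel_iso_of_forall f f' (lamIso O M) (by
    intro H φ
    constructor
    · intro h
      have hφ : (ModSite.restr O U).map φ = 0 := (ExtSupp.mem_homZ_iff U φ).2 h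
      obtain ⟨e⟩ := main6169 O U ((ModSite.restr O U).obj (ModSite.unit O)) M
      rw [← cancel_epi e.hom]
      apply ((ModSite.extZeroAdj O U).homEquiv _ _).injective
      have h1 : e.hom ≫ f ≫ (lamIso O M).hom ≫ φ = (e.hom ≫ f ≫ (lamIso O M).hom) ≫ φ := by
        simp only [Category.assoc]
      rw [h1, Adjunction.homEquiv_naturality_right, hφ, comp_zero, comp_zero]
      rw [Adjunction.homEquiv_unit, Functor.map_zero, comp_zero]
    · intro h
      have h2 : f' ≫ (lamIso O M).inv ≫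
          (TR O M).map ((ModSite.quotOnπ O U).app (ModSite.unit O)) = 0 :=
        eq_zero_of_isNullOn O U hnull _
      have h3 : (lamIso O M).hom ≫ φ =
          (TR O M).map ((ModSite.quotOnπ O U).app (ModSite.unit O)) ≫ pc.hom ≫
            cokernel.desc f ((lamIso O M).hom ≫ φ) h := by
        rw [← Category.assoc, hpc, cokernel.π_desc]
      have h4 : f' ≫ φ = f' ≫ (lamIso O M).inv ≫ (lamIso O M).hom ≫ φ := by
        rw [Iso.inv_hom_id_assoc]
      rw [h4, h3, ← Category.assoc, ← Category.assoc, Category.assoc f', h2, zero_comp])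
  let e₁' : cokernel f ≅ (ModSite.quotOn O U).obj M := e₁
  have he₁' : cokernel.π f ≫ e₁'.hom = (lamIso O M).hom ≫ (ModSite.quotOnπ O U).app M := he₁
  refine ⟨pc ≪≫ e₁', ?_⟩
  rw [Iso.trans_hom, ← Category.assoc, hpc, he₁']

/-- `O ⊗_ℤ (ℤ/ℤ_U) ⊗_O M ≅ M/M_U` -/
theorem nonempty_L_quotZ_iso (M : ModSite.Mod O) :
    Nonempty ((Fr O ⋙ TR O M).obj (ToposFin.quotZ (ToposFin.eps J U)) ≅
      (ModSite.quotOn O U).obj M) := by
  obtain ⟨e, -⟩ := exists_FrZ_iso O U
  obtain ⟨θ, -⟩ := exists_quotOn_tensor_iso O U M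
  exact ⟨(TR O M).mapIso e ≪≫ θ⟩

end Groth.Agent.Helper24.Supp
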