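import Mathlib
import Groth.Prelude.Def_ExtSupp
import Groth.Agent.Lib.Helper24.Supp3

/-!
# The adjunction `M ↦ M/M_U ⊣ Γ_Z`, and exactness of `M ↦ M/M_U`
-/

open CategoryTheory Limits Opposite
universe u
set_option linter.unusedSectionVars false
namespace Groth.Agent.Helper24.Supp
open Groth.Agent.Helper24.FrMod Groth.Agent.Helper17.MT
variable {C : Type u} [SmallCategory C] {J : GrothendieckTopology C}
variable (O : Sheaf J CommRingCat.{u}) (U : C) [ModSite.HasPushOver O U]

theorem comp_unit_eq_zero_iff {M N : ModSite.Mod O} (φ : M ⟶ N) :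
    φ ≫ (ModSite.restrPushOverAdj O U).unit.app N = 0 ↔ (ModSite.restr O U).map φ = 0 := by
  have h1 : φ ≫ (ModSite.restrPushOverAdj O U).unit.app N =
      (ModSite.restrPushOverAdj O U).homEquiv _ _ ((ModSite.restr O U).map φ) := by
    rw [Adjunction.homEquiv_unit]
    exact ((ModSite.restrPushOverAdj O U).unit.naturality φ)
  have h0 : (ModSite.restrPushOverAdj O U).homEquiv M ((ModSite.restr O U).obj N) 0 = 0 := by
    rw [Adjunction.homEquiv_unit, Functor.map_zero, comp_zero]
  rw [h1]
  constructor
  · intro h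
    apply ((ModSite.restrPushOverAdj O U).homEquiv _ _).injective
    rw [h, h0]
  · intro h
    rw [h, h0]

theorem counit_comp_eq_zero_iff_comp_unit {M N : ModSite.Mod O} (φ : M ⟶ N) :
    (ModSite.extZeroAdj O U).counit.app M ≫ φ = 0 ↔
      φ ≫ (ModSite.restrPushOverAdj O U).unit.app N = 0 := by
  rw [comp_unit_eq_zero_iff, ← ExtSupp.mem_homZ_iff]
  rfl

/-- `Hom(M/M_U, N) ≃ Hom(M, Γ_Z N)` -/
noncomputable def quotSectEquiv (M N : ModSite.Mod O) :
    ((ModSite.quotOn O U).obj M ⟶ N) ≃ (M ⟶ (ModSite.sectOn O U).obj N) where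
  toFun g := kernel.lift ((ModSite.restrPushOverAdj O U).unit.app N)
    ((ModSite.quotOnπ O U).app M ≫ g) (by
      refine (counit_comp_eq_zero_iff_comp_unit O U (M := M) ((ModSite.quotOnπ O U).app M ≫ g)).1 ?_
      have : (ModSite.extZeroAdj O U).counit.app M ≫ (ModSite.quotOnπ O U).app M = 0 :=
        cokernel.condition _
      rw [← Category.assoc, this, zero_comp])
  invFun h := cokernel.desc ((ModSite.extZeroAdj O U).counit.app M)
    (h ≫ (ModSite.sectOnι O U).app N) (by
      refine (counit_comp_eq_zero_iff_comp_unit O U (N := N) (h ≫ (ModSite.sectOnι O U).app N)).2 ?_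
      have : (ModSite.sectOnι O U).app N ≫ (ModSite.restrPushOverAdj O U).unit.app N = 0 :=
        kernel.condition _
      rw [Category.assoc, this, comp_zero])
  left_inv g := by
    apply coequalizer.hom_ext
    erw [cokernel.π_desc]
    erw [kernel.lift_ι]
    rfl
  right_inv h := by
    apply equalizer.hom_ext
    erw [kernel.lift_ι]
    erw [cokernel.π_desc]
    rfl

theorem quotSectEquiv_apply_ι {M N : ModSite.Mod O} (g : (ModSite.quotOn O U).obj M ⟶ N) :
    quotSectEquiv O U M N g ≫ (ModSite.sectOnι O U).app N = (ModSite.quotOnπ O U).app M ≫ g :=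
  kernel.lift_ι _ _ _

theorem π_quotSectEquiv_symm {M N : ModSite.Mod O} (h : M ⟶ (ModSite.sectOn O U).obj N) :
    (ModSite.quotOnπ O U).app M ≫ (quotSectEquiv O U M N).symm h =
      h ≫ (ModSite.sectOnι O U).app N :=
  cokernel.π_desc _ _ _

instance mono_sectOnι (N : ModSite.Mod O) : Mono ((ModSite.sectOnι O U).app N) := by
  change Mono (kernel.ι _)
  infer_instance

instance epi_quotOnπ (M : ModSite.Mod O) : Epi ((ModSite.quotOnπ O U).app M) := by
  change Epi (cokernel.π _)
  infer_instance

/-- `M ↦ M/M_U` is left adjoint to `Γ_Z` -/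
noncomputable def quotSectAdj : ModSite.quotOn O U ⊣ ModSite.sectOn O U :=
  Adjunction.mkOfHomEquiv
    { homEquiv := fun M N => quotSectEquiv O U M N
      homEquiv_naturality_left_symm := fun {M' M N} f h => by
        rw [← cancel_epi ((ModSite.quotOnπ O U).app M')]
        have h1 := (ModSite.quotOnπ O U).naturality f
        simp only [Functor.id_map] at h1
        rw [π_quotSectEquiv_symm, ← Category.assoc ((ModSite.quotOnπ O U).app M'), ← h1,
          Category.assoc, Category.assoc, π_quotSectEquiv_symm]
      homEquiv_naturality_right := fun {M N N'} g k => by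
        rw [← cancel_mono ((ModSite.sectOnι O U).app N')]
        have h1 := (ModSite.sectOnι O U).naturality k
        simp only [Functor.id_map] at h1
        rw [quotSectEquiv_apply_ι, Category.assoc (quotSectEquiv O U M N g), h1,
          ← Category.assoc, ← Category.assoc, quotSectEquiv_apply_ι] }

instance additive_quotOn : (ModSite.quotOn O U).Additive :=
  (quotSectAdj O U).left_adjoint_additive

/-- `O/O_U` is flat -/
theorem isFlat_quotOn_unit : ModSite.IsFlat ((ModSite.quotOn O U).obj (ModSite.unit O)) := by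
  obtain ⟨e, -⟩ := exists_FrZ_iso O U
  exact isFlat_of_iso O e (isFlat_Fr (tf_quotZ _))

/-- `θ_M : (O/O_U) ⊗ M ≅ M/M_U` -/
noncomputable def thetaIso (M : ModSite.Mod O) :
    (TR O M).obj ((ModSite.quotOn O U).obj (ModSite.unit O)) ≅ (ModSite.quotOn O U).obj M :=
  (exists_quotOn_tensor_iso O U M).choose

theorem thetaIso_spec (M : ModSite.Mod O) :
    (TR O M).map ((ModSite.quotOnπ O U).app (ModSite.unit O)) ≫ (thetaIso O U M).hom =
      (lamIso O M).hom ≫ (ModSite.quotOnπ O U).app M :=
  (exists_quotOn_tensor_iso O U M).choose_spec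

theorem thetaIso_naturality {M' M : ModSite.Mod O} (f : M' ⟶ M) :
    (thetaIso O U M').hom ≫ (ModSite.quotOn O U).map f =
      (TL O ((ModSite.quotOn O U).obj (ModSite.unit O))).map f ≫ (thetaIso O U M).hom := by
  have hepi : Epi ((TR O M').map ((ModSite.quotOnπ O U).app (ModSite.unit O))) := inferInstance
  rw [← cancel_epi ((TR O M').map ((ModSite.quotOnπ O U).app (ModSite.unit O)))]
  have h1 := (ModSite.quotOnπ O U).naturality f
  simp only [Functor.id_map] at h1
  have h2 : (TR O M').map ((ModSite.quotOnπ O U).app (ModSite.unit O)) ≫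
      (TL O ((ModSite.quotOn O U).obj (ModSite.unit O))).map f =
      (TL O (ModSite.unit O)).map f ≫
        (TR O M).map ((ModSite.quotOnπ O U).app (ModSite.unit O)) :=
    (((ModSite.tensorBi O).map ((ModSite.quotOnπ O U).app (ModSite.unit O))).naturality f).symm
  rw [← Category.assoc, thetaIso_spec, Category.assoc, ← h1, ← Category.assoc,
    ← lamIso_naturality, ← Category.assoc, h2, Category.assoc, Category.assoc, thetaIso_spec]
  rfl

instance preservesMonomorphisms_quotOn : (ModSite.quotOn O U).PreservesMonomorphisms where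
  preserves {M' M} f hf := by
    have h3 := preservesFiniteLimits_TL_of_isFlat O _ (isFlat_quotOn_unit O U)
    have h4 : Mono ((TL O ((ModSite.quotOn O U).obj (ModSite.unit O))).map f) := inferInstance
    have h5 : (ModSite.quotOn O U).map f = (thetaIso O U M').inv ≫
        (TL O ((ModSite.quotOn O U).obj (ModSite.unit O))).map f ≫ (thetaIso O U M).hom := by
      rw [← thetaIso_naturality, Iso.inv_hom_id_assoc]
    rw [h5]
    infer_instance

/-- `Γ_Z` preserves injective objects -/
theorem injective_sectOn (Q : ModSite.Mod O) [Injective Q] :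
    Injective ((ModSite.sectOn O U).obj Q) :=
  Injective.injective_of_adjoint (quotSectAdj O U) Q

end Groth.Agent.Helper24.Supp
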