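import Mathlib
import Groth.Prelude.Def_ExtSupp
import Groth.Agent.Lib.Helper24.Supp4

/-!
# `Γ(C, Γ_Z(-)) ≅ Hom(ℤ/ℤ_U, -)` on modules
-/

open CategoryTheory Limits Opposite
universe u
set_option linter.unusedSectionVars false
namespace Groth.Agent.Helper24.Supp
open Groth.Agent.Helper24.FrMod Groth.Agent.Helper17.MT Groth.Agent.Helper24.GSS
  Groth.Agent.Helper24.CechH
open Abelian
variable {C : Type u} [SmallCategory C] {J : GrothendieckTopology C}
variable (O : Sheaf J CommRingCat.{u}) (U : C) [ModSite.HasPushOver O U]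

/-- `Hom(A, -) ≅ Hom(B, -)` for `A ≅ B`, on `Ext⁰` -/
noncomputable def extZeroIsoOfIso {𝒜 : Type*} [Category 𝒜] [Abelian 𝒜] [HasExt.{u} 𝒜] {A B : 𝒜}
    (e : A ≅ B) : (extDelta A).F 0 ≅ (extDelta B).F 0 :=
  (extFunctor 0).mapIso e.symm.op

variable [HasExt.{u} (ModSite.Mod O)]

/-- `Γ(C, Γ_Z(-)) ≅ Hom(ℤ/ℤ_U, -)` -/
noncomputable def sectOnSZIso :
    ModSite.sectOn O U ⋙ SZ (O := O) (ZC (J := J)) ≅
      SZ (O := O) (ToposFin.quotZ (ToposFin.eps J U)) :=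
  Functor.isoWhiskerLeft (ModSite.sectOn O U) (extZeroAdjIso (frAdj O) (ZC (J := J))).symm ≪≫
    (extZeroAdjIso (quotSectAdj O U) ((Fr O).obj (ZC (J := J)))).symm ≪≫
    extZeroIsoOfIso ((ModSite.quotOn O U).mapIso (frZIso O) ≪≫
      (exists_FrZ_iso O U).choose.symm) ≪≫
    extZeroAdjIso (frAdj O) (ToposFin.quotZ (ToposFin.eps J U))

end Groth.Agent.Helper24.Supp
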