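import Mathlib
import Groth.Prelude.Def_ExtSupp
import Groth.Agent.Lib.Helper24.Supp5

/-!
# `Γ_Z ℋom(M, Q)` is acyclic for injective `Q`
-/

open CategoryTheory Limits Opposite
universe u
set_option linter.unusedSectionVars false
namespace Groth.Agent.Helper24.Supp
open Groth.Agent.Helper24.FrMod Groth.Agent.Helper17.MT Groth.Agent.Helper24.GSS
  Groth.Agent.Helper24.CechH
open Abelian
variable {C : Type u} [SmallCategory C] {J : GrothendieckTopology C}
variable (O : Sheaf J CommRingCat.{u})

section General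

variable {O}
variable {L : Sheaf J Ab.{u} ⥤ ModSite.Mod O} {R : ModSite.Mod O ⥤ Sheaf J Ab.{u}} (adj : L ⊣ R)
  (hL : ∀ S : ShortComplex (Sheaf J Ab.{u}), S.ShortExact → TF S.X₃ → Mono (L.map S.f))

include adj hL in
theorem extend_rightAdjoint (G : ModSite.Mod O) [Injective G] {S : ShortComplex (Sheaf J Ab.{u})}
    (hS : S.ShortExact) (h3 : TF S.X₃) (η : S.X₁ ⟶ R.obj G) :
    ∃ ζ : S.X₂ ⟶ R.obj G, S.f ≫ ζ = η := by
  have := hL S hS h3
  let η' := (adj.homEquiv _ _).symm η
  let ζ' := Injective.factorThru η' (L.map S.f)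
  refine ⟨adj.homEquiv _ _ ζ', ?_⟩
  rw [← Adjunction.homEquiv_naturality_left, Injective.comp_factorThru]
  exact Equiv.apply_symm_apply _ _

include adj hL in
/-- `Ext^{n+1}(P, R G) = 0` for torsion-free `P` and injective `G`, if the left adjoint of `R`
preserves monomorphisms with torsion-free cokernel -/
theorem ext_rightAdjoint_injective_subsingleton (P : Sheaf J Ab.{u}) (hP : TF P)
    (G : ModSite.Mod O) [Injective G] (n : ℕ) :
    Subsingleton (Ext P (R.obj G) (n + 1)) := by
  refine subsingleton_of_forall_eq 0 fun ξ => ?_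
  exact ExtVanish.ext_eq_zero (R.obj G) TF
    (fun X => enough_tf X)
    (fun S hS h2 _ => by
      have := hS.mono_f
      exact tf_of_mono S.f h2)
    (fun S hS h3 η => extend_rightAdjoint adj hL G hS h3 η) n P hP ξ

end General

variable (U : C) [ModSite.HasPushOver O U]

/-- `M ↦ M/M_U` is `(O/O_U) ⊗ -` -/
noncomputable def quotOnIso :
    TL O ((ModSite.quotOn O U).obj (ModSite.unit O)) ≅ ModSite.quotOn O U :=
  NatIso.ofComponents (fun M => thetaIso O U M) (fun f => (thetaIso_naturality O U f).symm)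

instance preservesFiniteLimits_quotOn : PreservesFiniteLimits (ModSite.quotOn O U) := by
  have h3 := preservesFiniteLimits_TL_of_isFlat O _ (isFlat_quotOn_unit O U)
  exact preservesFiniteLimits_of_natIso (quotOnIso O U)

instance preservesFiniteColimits_quotOn : PreservesFiniteColimits (ModSite.quotOn O U) := by
  have : PreservesColimitsOfSize.{0, 0} (ModSite.quotOn O U) :=
    (quotSectAdj O U).leftAdjoint_preservesColimits
  exact PreservesColimitsOfSize.preservesFiniteColimits _

/-- `F/F_U` is flat for flat `F` -/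
theorem isFlat_quotOn (F : ModSite.Mod O) (hF : ModSite.IsFlat F) :
    ModSite.IsFlat ((ModSite.quotOn O U).obj F) :=
  isFlat_of_iso O ((quotOnIso O U).app F) (main9085 O _ F (isFlat_quotOn_unit O U) hF)

variable (M : ModSite.Mod O) [ModSite.HasSheafHom M]

/-- the adjunction `A ↦ (Fr A)/(Fr A)_U ⊗ M ⊣ toAb Γ_Z ℋom(M, -)` -/
noncomputable def adjLZ : (Fr O ⋙ ModSite.quotOn O U) ⋙ TR O M ⊣
    (ModSite.sheafHom M ⋙ ModSite.sectOn O U) ⋙ toAbF O :=
  (((frAdj O).comp (quotSectAdj O U)).comp (ModSite.sheafHomAdj M)).ofNatIsoRight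
    (Iso.refl _)

theorem mono_LZ_map {S : ShortComplex (Sheaf J Ab.{u})} (hS : S.ShortExact) (h3 : TF S.X₃) :
    Mono (((Fr O ⋙ ModSite.quotOn O U) ⋙ TR O M).map S.f) := by
  have h1 : (S.map (Fr O)).ShortExact := Fr_shortExact hS h3
  have h2 : ((S.map (Fr O)).map (ModSite.quotOn O U)).ShortExact :=
    h1.map_of_exact (ModSite.quotOn O U)
  exact mono_TR_map_of_isFlat O h2 (isFlat_quotOn O U _ (isFlat_Fr h3)) M

/-- `Γ_Z ℋom(M, Q)` is acyclic for torsion-free abelian sheaves, `Q` injective -/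
theorem ext_sectOn_sheafHom_subsingleton (P : Sheaf J Ab.{u}) (hP : TF P)
    (Q : ModSite.Mod O) [Injective Q] (n : ℕ) :
    Subsingleton (Ext P (ModSite.toAb ((ModSite.sectOn O U).obj ((ModSite.sheafHom M).obj Q)))
      (n + 1)) :=
  ext_rightAdjoint_injective_subsingleton (adjLZ O U M)
    (fun S hS h3 => mono_LZ_map O U M hS h3) P hP Q n

end Groth.Agent.Helper24.Supp
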