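import Mathlib
import Groth.Prelude.Def_ExtSupp
import Groth.Agent.Lib.Helper24.Supp6

/-!
# `Γ(Γ_Z ℋom(M, -)) ≅ Hom(M/M_U, -)`
-/

open CategoryTheory Limits Opposite
universe u v
set_option linter.unusedSectionVars false
namespace Groth.Agent.Helper24.Supp
open Groth.Agent.Helper24.FrMod Groth.Agent.Helper17.MT Groth.Agent.Helper24.GSS
  Groth.Agent.Helper24.CechH
open Abelian

/-- `Ext⁰(X, -) ≅ Hom(X, -)` -/
noncomputable def extZeroCoyonedaIso {𝒜 : Type v} [Category.{u} 𝒜] [Abelian 𝒜] [HasExt.{u} 𝒜] (X : 𝒜) :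
    (extDelta X).F 0 ≅ preadditiveCoyoneda.obj (op X) :=
  NatIso.ofComponents (fun N => (Ext.addEquiv₀ (X := X) (Y := N)).toAddCommGrpIso) (by
    intro N N' f
    ext x
    obtain ⟨g, rfl⟩ := (Ext.mk₀_bijective X N).2 x
    change Ext.addEquiv₀ ((Ext.mk₀ g).comp (Ext.mk₀ f) (add_zero 0)) = Ext.addEquiv₀ (Ext.mk₀ g) ≫ f
    rw [Ext.mk₀_comp_mk₀]
    have h1 : ∀ {A B : 𝒜} (k : A ⟶ B), Ext.addEquiv₀ (Ext.mk₀ k) = k :=
      fun k => Ext.addEquiv₀.apply_symm_apply k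
    rw [h1, h1])

variable {C : Type u} [SmallCategory C] {J : GrothendieckTopology C}
variable (O : Sheaf J CommRingCat.{u}) (U : C) [ModSite.HasPushOver O U]
  [HasExt.{u} (ModSite.Mod O)] (M : ModSite.Mod O) [ModSite.HasSheafHom M]

/-- `Γ(C, Γ_Z ℋom(M, -)) ≅ Hom(M/M_U, -)` -/
noncomputable def gammaZHomIso :
    ExtSupp.gammaZHom U M ≅ (extDelta ((ModSite.quotOn O U).obj M)).F 0 :=
  Functor.isoWhiskerLeft (ModSite.sheafHom M)
    (Functor.isoWhiskerLeft (ModSite.sectOn O U) (extZeroCoyonedaIso (ModSite.unit O)).symm ≪≫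
      (extZeroAdjIso (quotSectAdj O U) (ModSite.unit O)).symm) ≪≫
  (extZeroAdjIso (ModSite.sheafHomAdj M) ((ModSite.quotOn O U).obj (ModSite.unit O))).symm ≪≫
  extZeroIsoOfIso (thetaIso O U M)

end Groth.Agent.Helper24.Supp
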