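import Mathlib
import Groth.Prelude.Def_ExtSupp
import Groth.Agent.Lib.Helper24.Supp7

/-!
# Restriction to a localised site is exact (without assuming a right adjoint)
-/

open CategoryTheory Limits Opposite
universe u v
set_option linter.unusedSectionVars false
namespace Groth.Agent.Helper24.Supp
open Groth.Agent.Helper24.FrMod Groth.Agent.Helper17.MT Groth.Agent.Helper24.GSS
  Groth.Agent.Helper24.CechH
open Abelian

variable {C : Type u} [SmallCategory C] {J : GrothendieckTopology C}
variable (O : Sheaf J CommRingCat.{u}) (X : C)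

theorem epi_restr_map {M N : ModSite.Mod O} (f : M ⟶ N) [Epi f] :
    Epi ((ModSite.restr O X).map f) := by
  have h1 : Epi ((toAbF O).map f) := inferInstance
  have h2 : Sheaf.IsLocallySurjective ((toAbF O).map f) :=
    (Sheaf.isLocallySurjective_iff_epi' _ _).2 h1
  have h3 : Presheaf.IsLocallySurjective (J.over X)
      (Functor.whiskerLeft (Over.forget X).op ((toAbF O).map f).hom) :=
    isLocallySurjective_over J X _
  have h4 : Sheaf.IsLocallySurjective ((toAbF (O.over X)).map ((ModSite.restr O X).map f)) := h3
  have h5 : Epi ((toAbF (O.over X)).map ((ModSite.restr O X).map f)) :=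
    (Sheaf.isLocallySurjective_iff_epi' _ _).1 h4
  exact Functor.epi_of_epi_map (toAbF (O.over X)) h5

instance preservesFiniteLimits_restr : PreservesFiniteLimits (ModSite.restr O X) := by
  have : PreservesLimitsOfSize.{0, 0} (ModSite.restr O X) :=
    (ModSite.extZeroAdj O X).rightAdjoint_preservesLimits
  exact PreservesLimitsOfSize.preservesFiniteLimits _

instance preservesFiniteColimits_restr : PreservesFiniteColimits (ModSite.restr O X) := by
  rw [Functor.preservesFiniteColimits_iff_forall_exact_map_and_epi]
  intro S hS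
  have := hS.epi_g
  exact ⟨((Functor.preservesFiniteLimits_iff_forall_exact_map_and_mono
    (ModSite.restr O X)).1 inferInstance S hS).1, epi_restr_map O X S.g⟩

instance preservesMonomorphisms_extZero : (ModSite.extZero O X).PreservesMonomorphisms := by
  have := main9086 O X
  infer_instance

/-- restriction to a localised site preserves injective modules -/
theorem injective_restr (Q : ModSite.Mod O) [Injective Q] :
    Injective ((ModSite.restr O X).obj Q) :=
  Injective.injective_of_adjoint (ModSite.extZeroAdj O X) Q

section Postcomp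

variable {A : Type*} [Category A] [Abelian A] {B B' : Type*} [Category B] [Abelian B]
  [Category B'] [Abelian B']
  (T : DeltaF.CohDeltaFunctor A B ℕ) (G : B ⥤ B') [G.Additive] [PreservesFiniteLimits G]
  [PreservesFiniteColimits G]

/-- push a δ-functor forward along an exact functor -/
noncomputable def postcomp : DeltaF.CohDeltaFunctor A B' ℕ where
  F n := T.F n ⋙ G
  additive n := inferInstance
  δ S hS n₀ n₁ h := G.map (T.δ S hS n₀ n₁ h)
  δ_natural {S S'} hS hS' φ n₀ n₁ h := by
    change G.map ((T.F n₀).map φ.τ₃) ≫ G.map _ = G.map _ ≫ G.map ((T.F n₁).map φ.τ₁)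
    rw [← G.map_comp, ← G.map_comp, T.δ_natural hS hS' φ n₀ n₁ h]
  exact₂ S hS n := (T.exact₂ S hS n).map G
  comp_δ S hS n₀ n₁ h := by
    change G.map ((T.F n₀).map S.g) ≫ G.map _ = 0
    rw [← G.map_comp, T.comp_δ S hS n₀ n₁ h, G.map_zero]
  exact₃ S hS n₀ n₁ h := (T.exact₃ S hS n₀ n₁ h).map G
  δ_comp S hS n₀ n₁ h := by
    change G.map _ ≫ G.map ((T.F n₁).map S.f) = 0
    rw [← G.map_comp, T.δ_comp S hS n₀ n₁ h, G.map_zero]
  exact₁ S hS n₀ n₁ h := (T.exact₁ S hS n₀ n₁ h).map G

theorem postcomp_effaceable (hT : T.IsEffaceable) : (postcomp T G).IsEffaceable := fun n X => by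
  obtain ⟨Y, u, hu, h0⟩ := hT n X
  refine ⟨Y, u, hu, ?_⟩
  change G.map ((T.F (n + 1)).map u) = 0
  rw [h0, G.map_zero]

end Postcomp

section Commute

variable {A A' : Type*} [Category A] [Abelian A] [Category A'] [Abelian A']
  {B B' : Type*} [Category B] [Abelian B] [Category B'] [Abelian B']
  [EnoughInjectives A] [EnoughInjectives A']

lemma rdDelta_effaceable' (F : A ⥤ B) [F.Additive] :
    (rdDelta F).IsEffaceable := fun n X =>
  ⟨Injective.under X, Injective.ι X, inferInstance,
    (Functor.isZero_rightDerived_obj_injective_succ F n _).eq_of_tgt _ _⟩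

/-- right derived functors commute with exact functors on the target -/
theorem nonempty_rightDerived_comp_exact_iso (F : A ⥤ B) [F.Additive] [PreservesFiniteLimits F]
    (G : B ⥤ B') [G.Additive] [PreservesFiniteLimits G] [PreservesFiniteColimits G] (n : ℕ) :
    Nonempty (F.rightDerived n ⋙ G ≅ (F ⋙ G).rightDerived n) := by
  have : PreservesFiniteLimits (F ⋙ G) := comp_preservesFiniteLimits F G
  exact nonempty_iso_rightDerived (postcomp (rdDelta F) G)
    (postcomp_effaceable _ G (rdDelta_effaceable' F)) (F ⋙ G)
    (Functor.isoWhiskerRight F.rightDerivedZeroIsoSelf G) n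

/-- right derived functors commute with exact functors on the source which preserve injectives -/
theorem nonempty_exact_comp_rightDerived_iso (G : A' ⥤ A) [G.Additive] [PreservesFiniteLimits G]
    [PreservesFiniteColimits G] (hG : ∀ Q : A', Injective Q → Injective (G.obj Q))
    (F : A ⥤ B) [F.Additive] [PreservesFiniteLimits F] (n : ℕ) :
    Nonempty (G ⋙ F.rightDerived n ≅ (G ⋙ F).rightDerived n) := by
  have : PreservesFiniteLimits (G ⋙ F) := comp_preservesFiniteLimits G F
  refine nonempty_iso_rightDerived (comap G (rdDelta F)) ?_ (G ⋙ F)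
    (Functor.isoWhiskerLeft G F.rightDerivedZeroIsoSelf) n
  intro k X
  have := hG (Injective.under X) inferInstance
  exact ⟨Injective.under X, Injective.ι X, inferInstance,
    (Functor.isZero_rightDerived_obj_injective_succ F k _).eq_of_tgt _ _⟩

end Commute

end Groth.Agent.Helper24.Supp
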