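import Mathlib
import Groth.Agent.Lib.Helper24.Supp8

/-!
# Abstract tools for local cohomology sheaves of locally closed subsets (helper24)

* `prop_of_exact₅`: a property of objects stable under isomorphisms, kernels, cokernels and
  extensions passes to the middle term of a five term exact sequence;
* `nonempty_exact_comp_rightDerived_iso_of_acyclic`, `nonempty_comparison`: comparison of right
  derived functors along exact functors sending injectives to acyclic objects.
-/

open CategoryTheory Limits Opposite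
universe u v
set_option linter.unusedSectionVars false
set_option autoImplicit false

namespace Groth.Agent.Helper24.LC

open Groth.Agent.Helper24.GSS Groth.Agent.Helper24.CechH Groth.Agent.Helper24.Supp

section Five

variable {𝒜 : Type*} [Category 𝒜] [Abelian 𝒜] (P : 𝒜 → Prop)
  (hiso : ∀ {M N : 𝒜}, (M ≅ N) → P M → P N)
  (hker : ∀ {M N : 𝒜} (f : M ⟶ N), P M → P N → P (kernel f))
  (hcoker : ∀ {M N : 𝒜} (f : M ⟶ N), P M → P N → P (cokernel f))
  (hext : ∀ S : ShortComplex 𝒜, S.ShortExact → P S.X₁ → P S.X₃ → P S.X₂)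

include hker hcoker hext in
theorem prop_of_exact₅ {A B X C D : 𝒜} (f : A ⟶ B) (g : B ⟶ X) (h : X ⟶ C) (k : C ⟶ D)
    (w₁ : f ≫ g = 0) (w₂ : g ≫ h = 0) (w₃ : h ≫ k = 0)
    (e₁ : (ShortComplex.mk f g w₁).Exact) (e₂ : (ShortComplex.mk g h w₂).Exact)
    (e₃ : (ShortComplex.mk h k w₃).Exact) (hA : P A) (hB : P B) (hC : P C) (hD : P D) : P X := by
  have hm : Mono (cokernel.desc f g w₁) := (ShortComplex.exact_iff_mono_cokernel_desc _).1 e₁
  have he : Epi (kernel.lift k h w₃) := (ShortComplex.exact_iff_epi_kernel_lift _).1 e₃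
  have w₄ : g ≫ kernel.lift k h w₃ = 0 := by
    rw [← cancel_mono (kernel.ι k), Category.assoc, kernel.lift_ι, zero_comp, w₂]
  have w₅ : cokernel.desc f g w₁ ≫ kernel.lift k h w₃ = 0 := by
    rw [← cancel_epi (cokernel.π f), cokernel.π_desc_assoc, comp_zero, w₄]
  have e₄ : (ShortComplex.mk g (kernel.lift k h w₃) w₄).Exact := by
    let ψ : ShortComplex.mk g (kernel.lift k h w₃) w₄ ⟶ ShortComplex.mk g h w₂ :=
      { τ₁ := 𝟙 _
        τ₂ := 𝟙 _
        τ₃ := kernel.ι k
        comm₁₂ := by simp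
        comm₂₃ := by simp }
    haveI : Epi ψ.τ₁ := inferInstanceAs (Epi (𝟙 _))
    haveI : IsIso ψ.τ₂ := inferInstanceAs (IsIso (𝟙 _))
    haveI : Mono ψ.τ₃ := inferInstanceAs (Mono (kernel.ι k))
    exact (ShortComplex.exact_iff_of_epi_of_isIso_of_mono ψ).2 e₂
  have e₅ : (ShortComplex.mk (cokernel.desc f g w₁) (kernel.lift k h w₃) w₅).Exact := by
    let φ : ShortComplex.mk g (kernel.lift k h w₃) w₄ ⟶
        ShortComplex.mk (cokernel.desc f g w₁) (kernel.lift k h w₃) w₅ :=
      { τ₁ := cokernel.π f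
        τ₂ := 𝟙 _
        τ₃ := 𝟙 _
        comm₁₂ := by simp
        comm₂₃ := by simp }
    haveI : Epi φ.τ₁ := inferInstanceAs (Epi (cokernel.π f))
    haveI : IsIso φ.τ₂ := inferInstanceAs (IsIso (𝟙 _))
    haveI : Mono φ.τ₃ := inferInstanceAs (Mono (𝟙 _))
    exact (ShortComplex.exact_iff_of_epi_of_isIso_of_mono φ).1 e₄
  exact hext _ (ShortComplex.ShortExact.mk' e₅ hm he) (hcoker f hA hB) (hker k hC hD)

include hker in
theorem prop_of_exact₃ {X C D : 𝒜} (h : X ⟶ C) (k : C ⟶ D) (w₃ : h ≫ k = 0) [Mono h]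
    (e₃ : (ShortComplex.mk h k w₃).Exact) (hiso : ∀ {M N : 𝒜}, (M ≅ N) → P M → P N)
    (hC : P C) (hD : P D) : P X := by
  haveI : Mono (ShortComplex.mk h k w₃).f := inferInstanceAs (Mono h)
  have hl : IsLimit (KernelFork.ofι h w₃) := e₃.fIsKernel
  exact hiso (IsLimit.conePointUniqueUpToIso (kernelIsKernel k) hl) (hker k hC hD)

end Five

section Compare

variable {A : Type*} [Category A] [Abelian A] [EnoughInjectives A]
  {A' : Type*} [Category A'] [Abelian A']
  {B : Type*} [Category B] [Abelian B] [EnoughInjectives B]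
  {B' : Type*} [Category B'] [Abelian B']

/-- right derived functors commute with exact functors on the source which send injectives to
acyclic objects -/
theorem nonempty_exact_comp_rightDerived_iso_of_acyclic (U : A ⥤ B) [U.Additive]
    [PreservesFiniteLimits U] [PreservesFiniteColimits U] (G : B ⥤ B') [G.Additive]
    [PreservesFiniteLimits G]
    (hU : ∀ Q : A, Injective Q → ∀ k : ℕ, IsZero ((G.rightDerived (k + 1)).obj (U.obj Q)))
    (n : ℕ) : Nonempty (U ⋙ G.rightDerived n ≅ (U ⋙ G).rightDerived n) := by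
  have : PreservesFiniteLimits (U ⋙ G) := comp_preservesFiniteLimits U G
  refine nonempty_iso_rightDerived (comap U (rdDelta G)) ?_ (U ⋙ G)
    (Functor.isoWhiskerLeft U G.rightDerivedZeroIsoSelf) n
  intro k X
  exact ⟨Injective.under X, Injective.ι X, inferInstance,
    (hU (Injective.under X) inferInstance k).eq_of_tgt _ _⟩

/-- comparison of the right derived functors of `K` and of `G` along exact functors `U`, `U'`
with `K ⋙ U' ≅ U ⋙ G`, when `U` sends injectives to `G`-acyclic objects -/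
theorem nonempty_comparison (U : A ⥤ B) [U.Additive] [PreservesFiniteLimits U]
    [PreservesFiniteColimits U] (U' : A' ⥤ B') [U'.Additive] [PreservesFiniteLimits U']
    [PreservesFiniteColimits U'] (K : A ⥤ A') [K.Additive] [PreservesFiniteLimits K]
    (G : B ⥤ B') [G.Additive] [PreservesFiniteLimits G] (φ : K ⋙ U' ≅ U ⋙ G)
    (hU : ∀ Q : A, Injective Q → ∀ k : ℕ, IsZero ((G.rightDerived (k + 1)).obj (U.obj Q)))
    (n : ℕ) : Nonempty (K.rightDerived n ⋙ U' ≅ U ⋙ G.rightDerived n) := by
  obtain ⟨e1⟩ := nonempty_rightDerived_comp_exact_iso K U' n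
  obtain ⟨e2⟩ := nonempty_rightDerived_iso_of_iso (K ⋙ U') (U ⋙ G) φ n
  obtain ⟨e3⟩ := nonempty_exact_comp_rightDerived_iso_of_acyclic U G hU n
  exact ⟨e1 ≪≫ e2 ≪≫ e3.symm⟩

end Compare

end Groth.Agent.Helper24.LC
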