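import Mathlib
import Groth.Prelude.Def_SuppFam
import Groth.Agent.Lib.Helper9.ShfSupp4
import Groth.Agent.Lib.Helper9.LocLES
import Groth.Agent.Lib.Helper17.FCH7
import Groth.Agent.Lib.Helper24.Flasque

/-!
# Flasque sheaves are acyclic for sections with supports in a locally closed subset (helper24)
-/

set_option autoImplicit false
set_option linter.unusedSectionVars false
set_option linter.style.haveILetI false
universe u
open CategoryTheory CategoryTheory.Limits Opposite TopologicalSpace

namespace Groth.Agent.Helper24.LC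

open Groth.Agent.Helper9.ShfSupp
open Groth.Agent.Helper13.DeltaPsh (extPsh)

variable {X : TopCat.{u}}

theorem res_zero_surjective (F : CohTop.Ab X) [TopCat.Sheaf.IsFlasque F] {W V : Opens X}
    (h : W ≤ V) : Function.Surjective (CohTop.res F 0 h) := by
  intro y
  have he : Epi (F.obj.map (homOfLE h).op) := TopCat.Presheaf.IsFlasque.epi _
  obtain ⟨s, hs⟩ := (AddCommGrpCat.epi_iff_surjective _).1 he
    (Groth.Agent.Helper17.FCH.psi F W y)
  refine ⟨(Groth.Agent.Helper17.FCH.psi F V).symm s, ?_⟩
  apply (Groth.Agent.Helper17.FCH.psi F W).injective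
  rw [Groth.Agent.Helper17.FCH.psi_res, AddEquiv.apply_symm_apply]
  exact hs

theorem subsingleton_HZ_succ_of_isFlasque (F : CohTop.Ab X) [hF : TopCat.Sheaf.IsFlasque F]
    {W V : Opens X} (h : W ≤ V) (q : ℕ) : Subsingleton (LocCohZ.HZ F (q + 1) h) := by
  apply Groth.Agent.Helper9.LocLES.subsingleton_succ F h q
  · cases q with
    | zero => exact res_zero_surjective F h
    | succ n =>
      intro y
      haveI := Groth.Agent.Helper24.Flasque.HU_succ_subsingleton n F hF W
      exact ⟨0, Subsingleton.elim _ _⟩
  · intro a b _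
    haveI := Groth.Agent.Helper24.Flasque.HU_succ_subsingleton q F hF V
    exact Subsingleton.elim _ _

theorem isZero_HZshLC_succ_of_isFlasque {W V : Opens X} (h : W ≤ V) (F : CohTop.Ab X)
    [hF : TopCat.Sheaf.IsFlasque F] (q : ℕ) : IsZero ((SuppFam.HZshLC h (q + 1)).obj F) := by
  obtain ⟨e⟩ := rightDerived_iso_sheafify (lcData h) (q + 1)
  refine IsZero.of_iso ?_ (e.app F)
  change IsZero ((presheafToSheaf (Opens.grothendieckTopology X) AddCommGrpCat.{u}).obj
      (((extPsh.{u} (lcFam h).E).F (q + 1)).obj F))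
  apply Functor.map_isZero
  apply Functor.isZero
  intro d
  have := subsingleton_HZ_succ_of_isFlasque F ((lcFam h).le d.unop) q
  exact AddCommGrpCat.isZero_of_subsingleton
    (AddCommGrpCat.of (LocCohZ.HZ F (q + 1) ((lcFam h).le d.unop)))

end Groth.Agent.Helper24.LC
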