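import Mathlib
import Groth.Prelude.Def_SuppFam
import Groth.Prelude.Def_Coh
import Groth.Prelude.Def_DCoh2
import Groth.Agent.Lib.Helper13.RpushCmp
import Groth.Agent.Lib.Helper9.OpenRes4

/-!
# Sections with supports: modules versus abelian sheaves (helper24)

`Γ_Z` on `O_X`-modules and on abelian sheaves correspond under the forgetful functor, and so do
the sections with supports in a locally closed subset.
-/

set_option autoImplicit false
set_option linter.unusedSectionVars false
set_option linter.style.haveILetI false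
universe u
open CategoryTheory CategoryTheory.Limits Opposite AlgebraicGeometry TopologicalSpace

namespace Groth.Agent.Helper24.LC

open Groth.Agent.Helper13.ToAbExact (toAbF)
open Groth.Agent.Helper9.OpenRes

section Closed

variable {X : Scheme.{u}} (U : X.Opens)

/-- the module-level unit `M ⟶ j_* j^* M` -/
noncomputable abbrev ηm (M : X.Modules) :
    M ⟶ (Scheme.Modules.restrictFunctor U.ι ⋙ Scheme.Modules.pushforward U.ι).obj M :=
  (Scheme.Modules.restrictAdjunction U.ι).unit.app M

lemma toAb_ηm (M : X.Modules) : (toAbF X).map (ηm U M) =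
    (restrAdj (X := X.carrier) U).unit.app ((toAbF X).obj M) := rfl

/-- the inclusion `Γ_Z(M) ⟶ M` on underlying abelian sheaves -/
noncomputable def aM (M : X.Modules) :
    (toAbF X).obj (kernel (ηm U M)) ⟶ (toAbF X).obj M :=
  (toAbF X).map (kernel.ι (ηm U M))

lemma aM_w (M : X.Modules) :
    aM U M ≫ (restrAdj (X := X.carrier) U).unit.app ((toAbF X).obj M) = 0 := by
  have h : (toAbF X).map (kernel.ι (ηm U M)) ≫ (toAbF X).map (ηm U M) = 0 := by
    rw [← Functor.map_comp, kernel.condition, Functor.map_zero]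
  exact h

/-- `toAb Γ_Z(M)` is a kernel of the abelian unit -/
noncomputable def aM_isLimit (M : X.Modules) : IsLimit (KernelFork.ofι (aM U M) (aM_w U M)) := by
  have h := KernelFork.mapIsLimit _ (kernelIsKernel (ηm U M)) (toAbF X)
  exact h

lemma ιF_w (F : CohTop.Ab X.carrier) :
    ιF U F ≫ (restrAdj (X := X.carrier) U).unit.app F = 0 := ιF_comp_unit U F

/-- `Γ_Z(F)` is a kernel of the abelian unit -/
noncomputable def ιF_isLimit (F : CohTop.Ab X.carrier) :
    IsLimit (KernelFork.ofι (ιF U F) (ιF_w U F)) := by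
  haveI : Mono (sc U F).f := inferInstanceAs (Mono (ι U F))
  exact (sc_exact U F).fIsKernel

/-- the comparison on objects -/
noncomputable def cmpIso (M : X.Modules) :
    (toAbF X).obj (kernel (ηm U M)) ≅
      (LocCohZ.sectSuppF (X := X.carrier) U).obj ((toAbF X).obj M) :=
  IsLimit.conePointUniqueUpToIso (aM_isLimit U M) (ιF_isLimit U ((toAbF X).obj M))

lemma cmpIso_hom_ιF (M : X.Modules) :
    (cmpIso U M).hom ≫ ιF U ((toAbF X).obj M) = aM U M :=
  IsLimit.conePointUniqueUpToIso_hom_comp (aM_isLimit U M) (ιF_isLimit U ((toAbF X).obj M))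
    WalkingParallelPair.zero

/-- the map induced on kernels -/
noncomputable def kMap {M N : X.Modules} (f : M ⟶ N) : kernel (ηm U M) ⟶ kernel (ηm U N) :=
  (DCoh.gammaZ U.ι).map f

lemma kMap_ι {M N : X.Modules} (f : M ⟶ N) :
    kMap U f ≫ kernel.ι (ηm U N) = kernel.ι (ηm U M) ≫ f :=
  kernel.lift_ι _ _ _

lemma aM_nat {M N : X.Modules} (f : M ⟶ N) :
    (toAbF X).map (kMap U f) ≫ aM U N = aM U M ≫ (toAbF X).map f := by
  unfold aM
  rw [← Functor.map_comp, ← Functor.map_comp, kMap_ι]

lemma cmpIso_nat {M N : X.Modules} (f : M ⟶ N) :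
    (toAbF X).map (kMap U f) ≫ (cmpIso U N).hom =
      (cmpIso U M).hom ≫ (LocCohZ.sectSuppF (X := X.carrier) U).map ((toAbF X).map f) := by
  haveI : Mono (ιF U ((toAbF X).obj N)) := inferInstance
  rw [← cancel_mono (ιF U ((toAbF X).obj N))]
  rw [Category.assoc, cmpIso_hom_ιF, aM_nat, Category.assoc, map_ιF, ← Category.assoc,
    cmpIso_hom_ιF]

/-- `Γ_Z` commutes with the forgetful functor to abelian sheaves -/
noncomputable def gammaZToAb :
    DCoh.gammaZ U.ι ⋙ toAbF X ≅ toAbF X ⋙ LocCohZ.sectSuppF (X := X.carrier) U :=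
  NatIso.ofComponents (fun M => cmpIso U M) (fun {M N} f => cmpIso_nat U f)

end Closed

end Groth.Agent.Helper24.LC
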