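import Mathlib
import Groth.Agent.Lib.Helper24.LC2

/-!
# Sections with supports in a locally closed subset: modules versus abelian sheaves (helper24)
-/

set_option autoImplicit false
set_option linter.unusedSectionVars false
set_option linter.style.haveILetI false
universe u
open CategoryTheory CategoryTheory.Limits Opposite AlgebraicGeometry TopologicalSpace

namespace Groth.Agent.Helper24.LC

open Groth.Agent.Helper13.ToAbExact (toAbF)
open Groth.Agent.Helper9.OpenRes

section LocClosed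

variable {Y : Scheme.{u}} (V₂ V₁ : Y.Opens)

/-- the open `V₂ ∩ V₁` of the scheme `V₁` -/
abbrev UU : (↑V₁ : Scheme.{u}).Opens := V₁.ι ⁻¹ᵁ V₂

/-- module-level sections with supports in `V₁ ∖ V₂` -/
noncomputable def KLC : Y.Modules ⥤ Y.Modules :=
  Scheme.Modules.restrictFunctor V₁.ι ⋙ DCoh.gammaZ (UU V₂ V₁).ι ⋙
    Scheme.Modules.pushforward V₁.ι

variable {V₂ V₁}

/-- components of the comparison -/
noncomputable def klcIso (h : V₂ ≤ V₁) (M : Y.Modules) :
    (KLC V₂ V₁ ⋙ toAbF Y).obj M ≅ (toAbF Y ⋙ SuppFam.sectSuppLC (X := Y.carrier) h).obj M :=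
  (CohTop.push (CohCx.incl (X := Y.carrier) V₁)).mapIso
    ((gammaZToAb (UU V₂ V₁)).app ((Scheme.Modules.restrictFunctor V₁.ι).obj M))

lemma klcIso_nat (h : V₂ ≤ V₁) {M N : Y.Modules} (f : M ⟶ N) :
    (KLC V₂ V₁ ⋙ toAbF Y).map f ≫ (klcIso h N).hom =
      (klcIso h M).hom ≫ (toAbF Y ⋙ SuppFam.sectSuppLC (X := Y.carrier) h).map f := by
  have key := (gammaZToAb (UU V₂ V₁)).hom.naturality
    ((Scheme.Modules.restrictFunctor V₁.ι).map f)
  have key2 := congrArg (CohTop.push (CohCx.incl (X := Y.carrier) V₁)).map key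
  exact ((CohTop.push (CohCx.incl (X := Y.carrier) V₁)).map_comp
      ((DCoh.gammaZ (UU V₂ V₁).ι ⋙ toAbF ↑V₁).map ((Scheme.Modules.restrictFunctor V₁.ι).map f))
      ((gammaZToAb (UU V₂ V₁)).hom.app ((Scheme.Modules.restrictFunctor V₁.ι).obj N))).symm.trans
    (key2.trans ((CohTop.push (CohCx.incl (X := Y.carrier) V₁)).map_comp
      ((gammaZToAb (UU V₂ V₁)).hom.app ((Scheme.Modules.restrictFunctor V₁.ι).obj M))
      ((toAbF ↑V₁ ⋙ LocCohZ.sectSuppF (X := (↑V₁ : Scheme.{u}).carrier) (UU V₂ V₁)).map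
        ((Scheme.Modules.restrictFunctor V₁.ι).map f))))

/-- sections with supports in a locally closed subset commute with the forgetful functor to
abelian sheaves -/
noncomputable def klcToAb (h : V₂ ≤ V₁) :
    KLC V₂ V₁ ⋙ toAbF Y ≅ toAbF Y ⋙ SuppFam.sectSuppLC (X := Y.carrier) h :=
  NatIso.ofComponents (fun M => klcIso h M) (fun f => klcIso_nat h f)

end LocClosed

end Groth.Agent.Helper24.LC
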