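import Mathlib
import Groth.Agent.Lib.Helper24.LC3
import Groth.Agent.Lib.Helper24.RelExt2
import Groth.Agent.Lib.Helper9.LocCohQC
import Groth.Agent.Lib.Helper17.IR1

/-!
# Module-level sections with supports in a locally closed subset: the short exact sequence on
injective modules (helper24)
-/

set_option autoImplicit false
set_option linter.unusedSectionVars false
set_option linter.style.haveILetI false
universe u
open CategoryTheory CategoryTheory.Limits Opposite AlgebraicGeometry TopologicalSpace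

namespace Groth.Agent.Helper24.LC

open Groth.Agent.Helper9.LocCohQC

section QC

variable {Y : Scheme.{u}} (V₂ V₁ : Y.Opens)

/-- restriction to `V₁` -/
noncomputable abbrev R₁ : Y.Modules ⥤ (↑V₁ : Scheme.{u}).Modules :=
  Scheme.Modules.restrictFunctor V₁.ι

/-- direct image from `V₁` -/
noncomputable abbrev P₁ : (↑V₁ : Scheme.{u}).Modules ⥤ Y.Modules :=
  Scheme.Modules.pushforward V₁.ι

/-- the inclusion of `V₂ ∩ V₁` into `V₁` -/
noncomputable abbrev jj : (↑(UU V₂ V₁) : Scheme.{u}) ⟶ (↑V₁ : Scheme.{u}) := (UU V₂ V₁).ι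

/-- `j₁_* j₁^*` -/
noncomputable def T₂ : Y.Modules ⥤ Y.Modules := R₁ V₁ ⋙ P₁ V₁

/-- `j₁_* (j'_* j'^*) j₁^*` -/
noncomputable def T₁ : Y.Modules ⥤ Y.Modules := R₁ V₁ ⋙ P (jj V₂ V₁) ⋙ P₁ V₁

instance additive_KLC : (KLC V₂ V₁).Additive := by
  unfold KLC
  infer_instance

instance additive_T₂ : (T₂ V₁).Additive := by
  unfold T₂
  infer_instance

instance additive_T₁ : (T₁ V₂ V₁).Additive := by
  unfold T₁
  infer_instance

instance pfl_KLC : PreservesFiniteLimits (KLC V₂ V₁) := by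
  unfold KLC
  haveI : PreservesFiniteLimits (DCoh.gammaZ (UU V₂ V₁).ι) := preservesFiniteLimits_G (jj V₂ V₁)
  infer_instance

/-- `Γ_{LC} ⟶ j₁_* j₁^*` -/
noncomputable def αLC : KLC V₂ V₁ ⟶ T₂ V₁ where
  app M := (P₁ V₁).map ((ι (jj V₂ V₁)).app ((R₁ V₁).obj M))
  naturality M N f := by
    show (P₁ V₁).map ((G (jj V₂ V₁)).map ((R₁ V₁).map f)) ≫
        (P₁ V₁).map ((ι (jj V₂ V₁)).app ((R₁ V₁).obj N)) =
      (P₁ V₁).map ((ι (jj V₂ V₁)).app ((R₁ V₁).obj M)) ≫ (P₁ V₁).map ((R₁ V₁).map f)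
    rw [← Functor.map_comp, ← Functor.map_comp, ι_nat]

/-- `j₁_* j₁^* ⟶ j₁_* (j'_* j'^*) j₁^*` -/
noncomputable def βLC : T₂ V₁ ⟶ T₁ V₂ V₁ where
  app M := (P₁ V₁).map ((η (jj V₂ V₁)).app ((R₁ V₁).obj M))
  naturality M N f := by
    show (P₁ V₁).map ((R₁ V₁).map f) ≫ (P₁ V₁).map ((η (jj V₂ V₁)).app ((R₁ V₁).obj N)) =
      (P₁ V₁).map ((η (jj V₂ V₁)).app ((R₁ V₁).obj M)) ≫
        (P₁ V₁).map ((P (jj V₂ V₁)).map ((R₁ V₁).map f))
    rw [← Functor.map_comp, ← Functor.map_comp, η_nat]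

lemma αβ (M : Y.Modules) : (αLC V₂ V₁).app M ≫ (βLC V₂ V₁).app M = 0 := by
  show (P₁ V₁).map ((ι (jj V₂ V₁)).app ((R₁ V₁).obj M)) ≫
    (P₁ V₁).map ((η (jj V₂ V₁)).app ((R₁ V₁).obj M)) = 0
  rw [← Functor.map_comp, ι_η, Functor.map_zero]

lemma η_app_surjective (N : (↑V₁ : Scheme.{u}).Modules) [Injective N]
    (V : (↑V₁ : Scheme.{u}).Opens) :
    Function.Surjective (((η (jj V₂ V₁)).app N).app V) := by
  have hI : @Injective (SheafOfModules.{u} (↑V₁ : Scheme.{u}).ringCatSheaf) _ N :=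
    ⟨fun {A B} g f hf => @Injective.factors (↑V₁ : Scheme.{u}).Modules _ N _ A B g f hf⟩
  have hm : Mono (homOfLE ((jj V₂ V₁).image_preimage_le V)) :=
    ⟨fun _ _ _ => Subsingleton.elim _ _⟩
  exact @Groth.Agent.Helper13.ModFlasque.restrict_surjective_of_injective _ _ _
    (↑V₁ : Scheme.{u}).ringCatSheaf _ _ N hI _ _ (homOfLE ((jj V₂ V₁).image_preimage_le V)) hm

lemma epi_push_η (N : (↑V₁ : Scheme.{u}).Modules) [Injective N] :
    Epi ((P₁ V₁).map ((η (jj V₂ V₁)).app N)) := by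
  refine Groth.Agent.Helper18.BasisCrit.epi_of_basis _ (B := Set.univ) ?_ ?_
  · rw [Opens.isBasis_iff_nbhd]
    intro V x hx
    exact ⟨V, trivial, hx, le_rfl⟩
  · intro W _
    exact η_app_surjective V₂ V₁ N (V₁.ι ⁻¹ᵁ W)

theorem shortExact_LC (Q : Y.Modules) [Injective Q] :
    (ShortComplex.mk ((αLC V₂ V₁).app Q) ((βLC V₂ V₁).app Q) (αβ V₂ V₁ Q)).ShortExact := by
  haveI : Injective ((R₁ V₁).obj Q) := Groth.Agent.Helper17.IR.main11327 Y V₁ Q inferInstance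
  have hS := shortExact_of_injective (jj V₂ V₁) ((R₁ V₁).obj Q)
  have h1 : (ShortComplex.mk ((P₁ V₁).map ((ι (jj V₂ V₁)).app ((R₁ V₁).obj Q)))
      ((P₁ V₁).map ((η (jj V₂ V₁)).app ((R₁ V₁).obj Q))) (αβ V₂ V₁ Q)).Exact :=
    hS.exact.map_of_mono_of_preservesKernel (P₁ V₁) hS.mono_f inferInstance
  have h2 : Mono ((P₁ V₁).map ((ι (jj V₂ V₁)).app ((R₁ V₁).obj Q))) := inferInstance
  have h3 : Epi ((P₁ V₁).map ((η (jj V₂ V₁)).app ((R₁ V₁).obj Q))) :=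
    epi_push_η V₂ V₁ ((R₁ V₁).obj Q)
  exact ShortComplex.ShortExact.mk' h1 h2 h3

end QC

end Groth.Agent.Helper24.LC
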