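import Mathlib

/-!
# Sheaves of modules on a small site form a Grothendieck abelian category

Consequences: enough injectives, injective resolutions, `HasExt`.
Usage: `open Groth.Agent.Helper24.ModGroth` then the instances below are available
(`isGrothendieckAbelian_sheafOfModules`, `enoughInjectives_sheafOfModules`).
-/

set_option autoImplicit false
universe u
open CategoryTheory CategoryTheory.Limits

namespace Groth.Agent.Helper24.ModGroth

lemma isSeparator_of_adjunction {𝒜 ℬ : Type*} [Category 𝒜] [Category ℬ] [HasZeroMorphisms 𝒜]
    [HasZeroMorphisms ℬ] {F : 𝒜 ⥤ ℬ} {G : ℬ ⥤ 𝒜} (adj : F ⊣ G) [G.Faithful] {X : 𝒜}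
    (hX : IsSeparator X) : IsSeparator (F.obj X) := by
  rw [isSeparator_def]
  intro M N f g h
  apply G.map_injective
  rw [isSeparator_def] at hX
  apply hX
  intro h₀
  have := h ((adj.homEquiv _ _).symm h₀)
  have h2 := congrArg (adj.homEquiv _ _) this
  rw [Adjunction.homEquiv_naturality_right, Adjunction.homEquiv_naturality_right,
    Equiv.apply_symm_apply] at h2
  exact h2

variable {C : Type u} [SmallCategory C] {J : GrothendieckTopology C} (R : Sheaf J RingCat.{u})

instance ab5_presheafOfModules : AB5OfSize.{u, u} (PresheafOfModules.{u} R.obj) :=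
  ⟨fun K _ _ => HasExactColimitsOfShape.domain_of_functor K (PresheafOfModules.toPresheaf R.obj)⟩

instance hasSeparator_presheafOfModules : HasSeparator (PresheafOfModules.{u} R.obj) := by
  have hS := PresheafOfModules.freeYoneda.isSeparating R.obj
  refine ⟨⟨Limits.sigmaObj (yoneda ⋙ PresheafOfModules.free R.obj).obj, ?_⟩⟩
  exact ObjectProperty.IsSeparating.isSeparator_coproduct hS

instance ab5_sheafOfModules : AB5OfSize.{u, u} (SheafOfModules.{u} R) :=
  ⟨fun K _ _ => (PresheafOfModules.sheafificationAdjunction (𝟙 R.obj)).hasExactColimitsOfShape K⟩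

instance hasSeparator_sheafOfModules : HasSeparator (SheafOfModules.{u} R) :=
  ⟨⟨_, isSeparator_of_adjunction (PresheafOfModules.sheafificationAdjunction (𝟙 R.obj))
    (isSeparator_separator _)⟩⟩

/-- sheaves of modules on a small site form a Grothendieck abelian category -/
instance isGrothendieckAbelian_sheafOfModules : IsGrothendieckAbelian.{u} (SheafOfModules.{u} R) := { }

instance enoughInjectives_sheafOfModules : EnoughInjectives (SheafOfModules.{u} R) := inferInstance

end Groth.Agent.Helper24.ModGroth
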