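import Mathlib
import Groth.Agent.Lib.Helper24.LC5
import Groth.Agent.Lib.Helper24.LC4
import Groth.Agent.Lib.Helper24.LC1
import Groth.Agent.Lib.Helper24.ModGroth
import Groth.Agent.Lib.Helper13.RpushQCoh
import Groth.Agent.Lib.Helper13.QCohExt

/-!
# Quasi-coherence of the local cohomology sheaves of a locally closed subset (helper24)
-/

set_option autoImplicit false
set_option linter.unusedSectionVars false
set_option linter.style.haveILetI false
universe u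
open CategoryTheory CategoryTheory.Limits Opposite AlgebraicGeometry TopologicalSpace

namespace Groth.Agent.Helper24.LC

open Groth.Agent.Helper24.ModGroth Groth.Agent.Helper9.LocCohQC
open Groth.Agent.Helper13.ToAbExact (toAbF)

/-- modules on a scheme have enough injectives -/
noncomputable instance enoughInjectives_modules (Y : Scheme.{u}) : EnoughInjectives Y.Modules :=
  inferInstanceAs (EnoughInjectives (SheafOfModules.{u} Y.ringCatSheaf))

section QC6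

variable {Y : Scheme.{u}} (V₂ V₁ : Y.Opens)

lemma range_comp (h : V₂ ≤ V₁) :
    Set.range ((V₁.ι ⁻¹ᵁ V₂).ι ≫ V₁.ι).base = Set.range V₂.ι.base := by
  ext x
  simp only [Scheme.Hom.comp_base, TopCat.hom_comp, ContinuousMap.coe_comp, Set.mem_range,
    Function.comp_apply]
  constructor
  · rintro ⟨y, rfl⟩
    exact ⟨⟨V₁.ι ((V₁.ι ⁻¹ᵁ V₂).ι y), y.2⟩, rfl⟩
  · rintro ⟨y, rfl⟩
    exact ⟨⟨⟨y.1, h y.2⟩, y.2⟩, rfl⟩

lemma quasiCompact_comp [QuasiCompact V₂.ι] (h : V₂ ≤ V₁) :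
    QuasiCompact ((V₁.ι ⁻¹ᵁ V₂).ι ≫ V₁.ι) := by
  have hr := range_comp V₂ V₁ h
  let e := IsOpenImmersion.isoOfRangeEq ((V₁.ι ⁻¹ᵁ V₂).ι ≫ V₁.ι) V₂.ι hr
  have he : e.hom ≫ V₂.ι = (V₁.ι ⁻¹ᵁ V₂).ι ≫ V₁.ι := IsOpenImmersion.isoOfRangeEq_hom_fac _ _ _
  rw [← he]
  infer_instance

/-- the higher derived functors of `j₁_* j₁^*` preserve quasi-coherence -/
theorem isQuasicoherent_T₂ [QuasiCompact V₁.ι] (F : Y.Modules) [F.IsQuasicoherent] (p : ℕ) :
    (((T₂ V₁).rightDerived p).obj F).IsQuasicoherent := by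
  obtain ⟨e⟩ := rightDerived_P_iso V₁.ι p
  haveI : ((Scheme.Modules.restrictFunctor V₁.ι).obj F).IsQuasicoherent := inferInstance
  have hq := Groth.Agent.Helper13.RpushQCoh.isQuasicoherent_Rpush V₁.ι
    ((Scheme.Modules.restrictFunctor V₁.ι).obj F) p
  exact Groth.Agent.Helper13.QCohLocal.isQuasicoherent_of_iso (e.app F).symm (hM := hq)

/-- `j₁_* (j'_* j'^*) j₁^* ≅ j₂_* j₂^*` -/
noncomputable def T₁Iso : T₁ V₂ V₁ ≅ P (jj V₂ V₁ ≫ V₁.ι) :=
  (Functor.isoWhiskerLeft (R₁ V₁ ⋙ Scheme.Modules.restrictFunctor (jj V₂ V₁))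
      (Scheme.Modules.pushforwardComp (jj V₂ V₁) V₁.ι)) ≪≫
    (Functor.isoWhiskerRight (Scheme.Modules.restrictFunctorComp (jj V₂ V₁) V₁.ι).symm
      (Scheme.Modules.pushforward (jj V₂ V₁ ≫ V₁.ι)))

/-- the higher derived functors of `j₁_* (j'_* j'^*) j₁^*` preserve quasi-coherence -/
theorem isQuasicoherent_T₁ [QuasiCompact V₂.ι] (h : V₂ ≤ V₁) (F : Y.Modules)
    [F.IsQuasicoherent] (p : ℕ) :
    (((T₁ V₂ V₁).rightDerived p).obj F).IsQuasicoherent := by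
  haveI := quasiCompact_comp V₂ V₁ h
  obtain ⟨e0⟩ := Groth.Agent.Helper24.GSS.nonempty_rightDerived_iso_of_iso _ _ (T₁Iso V₂ V₁) p
  obtain ⟨e⟩ := rightDerived_P_iso (jj V₂ V₁ ≫ V₁.ι) p
  haveI : ((Scheme.Modules.restrictFunctor (jj V₂ V₁ ≫ V₁.ι)).obj F).IsQuasicoherent :=
    inferInstance
  have hq := Groth.Agent.Helper13.RpushQCoh.isQuasicoherent_Rpush (jj V₂ V₁ ≫ V₁.ι)
    ((Scheme.Modules.restrictFunctor (jj V₂ V₁ ≫ V₁.ι)).obj F) p
  exact Groth.Agent.Helper13.QCohLocal.isQuasicoherent_of_iso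
    ((e0.app F) ≪≫ (e.app F)).symm (hM := hq)

/-- quasi-coherence of the derived functors of the module-level sections with supports in a
locally closed subset -/
theorem isQuasicoherent_KLC [QuasiCompact V₁.ι] [QuasiCompact V₂.ι] (h : V₂ ≤ V₁)
    (F : Y.Modules) [F.IsQuasicoherent] (i : ℕ) :
    (((KLC V₂ V₁).rightDerived i).obj F).IsQuasicoherent := by
  obtain ⟨hmono, hex, δ, hδ⟩ := Groth.Agent.Helper24.RelExt.les (αLC V₂ V₁) (βLC V₂ V₁)
    (fun Q _ => αβ V₂ V₁ Q) (fun Q hQ => @shortExact_LC _ V₂ V₁ Q hQ) F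
  let Pq : Y.Modules → Prop := fun M => M.IsQuasicoherent
  have hiso : ∀ {M N : Y.Modules}, (M ≅ N) → Pq M → Pq N :=
    fun e hM => Groth.Agent.Helper13.QCohLocal.isQuasicoherent_of_iso e (hM := hM)
  have hker : ∀ {M N : Y.Modules} (f : M ⟶ N), Pq M → Pq N → Pq (kernel f) :=
    fun {M N} f hM hN => @Groth.Agent.Helper13.QCohLocal.isQuasicoherent_kernel _ M N hM hN f
  have hcoker : ∀ {M N : Y.Modules} (f : M ⟶ N), Pq M → Pq N → Pq (cokernel f) :=
    fun {M N} f hM hN => @Groth.Agent.Helper13.QCohLocal.isQuasicoherent_cokernel _ M N hM hN f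
  have hext : ∀ S : ShortComplex Y.Modules, S.ShortExact → Pq S.X₁ → Pq S.X₃ → Pq S.X₂ :=
    fun S hS h1 h3 => Groth.Agent.Helper13.QCohExt.main S hS h1 h3
  have h2 : ∀ p : ℕ, Pq (((T₂ V₁).rightDerived p).obj F) := fun p => isQuasicoherent_T₂ V₁ F p
  have h1 : ∀ p : ℕ, Pq (((T₁ V₂ V₁).rightDerived p).obj F) :=
    fun p => isQuasicoherent_T₁ V₂ V₁ h F p
  show Pq (((KLC V₂ V₁).rightDerived i).obj F)
  cases i with
  | zero =>
    obtain ⟨w', e⟩ := hex 0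
    haveI := hmono
    exact prop_of_exact₃ Pq hker _ _ w' e hiso (h2 0) (h1 0)
  | succ n =>
    obtain ⟨w1, e1⟩ := (hδ n).1
    obtain ⟨w2, e2⟩ := (hδ n).2
    obtain ⟨w3, e3⟩ := hex (n + 1)
    exact prop_of_exact₅ Pq hker hcoker hext _ _ _ _ w1 w2 w3 e1 e2 e3 (h2 n) (h1 n)
      (h2 (n + 1)) (h1 (n + 1))

/-- comparison with the local cohomology sheaves of the underlying abelian sheaf -/
theorem nonempty_rightDerived_KLC_toAb (h : V₂ ≤ V₁) (i : ℕ) :
    Nonempty ((KLC V₂ V₁).rightDerived i ⋙ toAbF Y ≅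
      toAbF Y ⋙ SuppFam.HZshLC (X := Y.carrier) h i) := by
  refine nonempty_comparison (toAbF Y) (toAbF Y) (KLC V₂ V₁)
    (SuppFam.sectSuppLC (X := Y.carrier) h) (klcToAb h) ?_ i
  intro Q hQ k
  have hfl := Groth.Agent.Helper13.ModFlasque.isFlasque_toAb Q
  exact isZero_HZshLC_succ_of_isFlasque h ((toAbF Y).obj Q) k (hF := hfl)

/-- the local cohomology sheaves of a quasi-coherent module with supports in a locally closed
subset `V₁ ∖ V₂` (with quasi-compact inclusions) are quasi-coherent -/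
theorem main13584 [QuasiCompact V₁.ι] [QuasiCompact V₂.ι] (h : V₂ ≤ V₁) (F : Y.Modules)
    (hF : F.IsQuasicoherent) (i : ℕ) :
    ∃ M : Y.Modules, M.IsQuasicoherent ∧
      Nonempty (Coh.toAb M ≅ (SuppFam.HZshLC (X := Y.carrier) h i).obj (Coh.toAb F)) := by
  haveI := hF
  obtain ⟨e⟩ := nonempty_rightDerived_KLC_toAb V₂ V₁ h i
  exact ⟨((KLC V₂ V₁).rightDerived i).obj F, isQuasicoherent_KLC V₂ V₁ h F i, ⟨e.app F⟩⟩

end QC6

end Groth.Agent.Helper24.LC
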