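import Mathlib
import Groth.Prelude.Def_ModSite
import Groth.Prelude.Def_ModSite2
import Groth.Prelude.Def_ExtSupp
import Groth.Agent.Lib.Helper24.FrMod4
import Groth.Agent.Lib.Helper17.MT6

/-!
Exactness of `ℋom_O(-, Q)` in the first variable (helper24):
left exactness for every `Q`, and surjectivity on sections for injective `Q`.
-/

set_option autoImplicit false
set_option linter.style.haveILetI false
set_option linter.unusedSectionVars false
universe v u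
open CategoryTheory CategoryTheory.Limits Opposite

namespace Groth.Agent.Helper24.RelExt

section Adj

variable {𝒜 : Type u} [Category.{v} 𝒜] [Abelian 𝒜]

lemma homEquiv_zero' {L R : 𝒜 ⥤ 𝒜} (adj : L ⊣ R) [L.PreservesZeroMorphisms] (N Q : 𝒜) :
    adj.homEquiv N Q 0 = 0 := by
  have h : (adj.homEquiv N Q).symm 0 = 0 := by
    rw [Adjunction.homEquiv_counit, Functor.map_zero, zero_comp]
  rw [← h, Equiv.apply_symm_apply]

lemma homEquiv_conj {L₁ L₂ R₁ R₂ : 𝒜 ⥤ 𝒜} (adj₁ : L₁ ⊣ R₁) (adj₂ : L₂ ⊣ R₂) (a : L₁ ⟶ L₂)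
    (N Q : 𝒜) (φ : L₂.obj N ⟶ Q) :
    adj₁.homEquiv N Q (a.app N ≫ φ) =
      adj₂.homEquiv N Q φ ≫ (conjugateEquiv adj₂ adj₁ a).app Q := by
  rw [Adjunction.homEquiv_unit, Adjunction.homEquiv_unit, Functor.map_comp]
  have h1 := (conjugateEquiv adj₂ adj₁ a).naturality φ
  have h2 := unit_conjugateEquiv adj₂ adj₁ a N
  calc adj₁.unit.app N ≫ R₁.map (a.app N) ≫ R₁.map φ
      = (adj₁.unit.app N ≫ R₁.map (a.app N)) ≫ R₁.map φ := (Category.assoc _ _ _).symm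
    _ = (adj₂.unit.app N ≫ (conjugateEquiv adj₂ adj₁ a).app (L₂.obj N)) ≫ R₁.map φ := by rw [h2]
    _ = adj₂.unit.app N ≫ (conjugateEquiv adj₂ adj₁ a).app (L₂.obj N) ≫ R₁.map φ :=
        Category.assoc _ _ _
    _ = adj₂.unit.app N ≫ R₂.map φ ≫ (conjugateEquiv adj₂ adj₁ a).app Q := by rw [← h1]
    _ = (adj₂.unit.app N ≫ R₂.map φ) ≫ (conjugateEquiv adj₂ adj₁ a).app Q :=
        (Category.assoc _ _ _).symm

variable {L₁ L₂ L₃ R₁ R₂ R₃ : 𝒜 ⥤ 𝒜} (adj₁ : L₁ ⊣ R₁) (adj₂ : L₂ ⊣ R₂) (adj₃ : L₃ ⊣ R₃)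
  [L₁.PreservesZeroMorphisms] [L₂.PreservesZeroMorphisms] [L₃.PreservesZeroMorphisms]
  (a : L₁ ⟶ L₂) (b : L₂ ⟶ L₃)

include adj₃ in
theorem mono_conj_app (hb : ∀ N, Epi (b.app N)) (Q : 𝒜) :
    Mono ((conjugateEquiv adj₃ adj₂ b).app Q) := by
  apply Preadditive.mono_of_cancel_zero
  intro N x hx
  have h1 := homEquiv_conj adj₂ adj₃ b N Q ((adj₃.homEquiv N Q).symm x)
  rw [Equiv.apply_symm_apply, hx] at h1
  have h2 : b.app N ≫ (adj₃.homEquiv N Q).symm x = 0 := by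
    apply (adj₂.homEquiv N Q).injective
    rw [h1, homEquiv_zero']
  haveI := hb N
  have h3 : (adj₃.homEquiv N Q).symm x = 0 := (cancel_epi (b.app N)).1 (h2.trans comp_zero.symm)
  have h4 := congrArg (adj₃.homEquiv N Q) h3
  rw [Equiv.apply_symm_apply, homEquiv_zero'] at h4
  exact h4

theorem conj_comp_zero (hab : ∀ N, a.app N ≫ b.app N = 0) (Q : 𝒜) :
    (conjugateEquiv adj₃ adj₂ b).app Q ≫ (conjugateEquiv adj₂ adj₁ a).app Q = 0 := by
  have h1 := homEquiv_conj adj₂ adj₃ b (R₃.obj Q) Q (adj₃.counit.app Q)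
  have h2 := homEquiv_conj adj₁ adj₂ a (R₃.obj Q) Q (b.app (R₃.obj Q) ≫ adj₃.counit.app Q)
  rw [h1, ← Category.assoc, hab, zero_comp, homEquiv_zero'] at h2
  have h3 : adj₃.homEquiv (R₃.obj Q) Q (adj₃.counit.app Q) = 𝟙 _ := by
    rw [Adjunction.homEquiv_unit]
    exact adj₃.right_triangle_components Q
  rw [h3, Category.id_comp] at h2
  exact h2.symm

theorem exact_conj (hab : ∀ N, a.app N ≫ b.app N = 0)
    (hex : ∀ N, (ShortComplex.mk _ _ (hab N)).Exact) (hb : ∀ N, Epi (b.app N)) (Q : 𝒜) :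
    (ShortComplex.mk _ _ (conj_comp_zero adj₁ adj₂ adj₃ a b hab Q)).Exact := by
  haveI := mono_conj_app adj₂ adj₃ b hb Q
  apply ShortComplex.exact_of_f_is_kernel
  refine KernelFork.IsLimit.ofι' _ _ (fun {W} k hk => ?_)
  have hk' : k ≫ (conjugateEquiv adj₂ adj₁ a).app Q = 0 := hk
  have h1 := homEquiv_conj adj₁ adj₂ a W Q ((adj₂.homEquiv W Q).symm k)
  rw [Equiv.apply_symm_apply, hk'] at h1
  have h2 : a.app W ≫ (adj₂.homEquiv W Q).symm k = 0 := by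
    apply (adj₁.homEquiv W Q).injective
    rw [h1, homEquiv_zero']
  haveI : Epi (ShortComplex.mk _ _ (hab W)).g := hb W
  let φ : L₃.obj W ⟶ Q := (hex W).desc ((adj₂.homEquiv W Q).symm k) h2
  have hφ : b.app W ≫ φ = (adj₂.homEquiv W Q).symm k := (hex W).g_desc _ _
  refine ⟨adj₃.homEquiv W Q φ, ?_⟩
  have h3 := homEquiv_conj adj₂ adj₃ b W Q φ
  rw [hφ, Equiv.apply_symm_apply] at h3
  exact h3.symm

include adj₁ in
theorem lift_conj (N Q : 𝒜) [Injective Q] (hN : Mono (a.app N)) (c : N ⟶ R₁.obj Q) :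
    ∃ b' : N ⟶ R₂.obj Q, b' ≫ (conjugateEquiv adj₂ adj₁ a).app Q = c := by
  let χ := (adj₁.homEquiv N Q).symm c
  let ψ := Injective.factorThru χ (a.app N)
  refine ⟨adj₂.homEquiv N Q ψ, ?_⟩
  rw [← homEquiv_conj adj₁ adj₂ a N Q ψ, Injective.comp_factorThru]
  exact Equiv.apply_symm_apply _ _

end Adj

end Groth.Agent.Helper24.RelExt
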