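import Mathlib
import Groth.Prelude.Def_ModSite
import Groth.Prelude.Def_ModSite2
import Groth.Prelude.Def_ExtSupp
import Groth.Agent.Lib.Helper24.FrMod4
import Groth.Agent.Lib.Helper17.MT6
import Groth.Agent.Lib.Helper24.RelExt3

/-!
Exactness of `ℋom_O(-, Q)` in the first variable on a ringed site (helper24).
-/

set_option autoImplicit false
set_option linter.style.haveILetI false
set_option linter.unusedSectionVars false
universe u
open CategoryTheory CategoryTheory.Limits Opposite

namespace Groth.Agent.Helper24.RelExt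

open Groth.Agent.Helper17.MT Groth.Agent.Helper24.FrMod

section SiteHom
variable {C : Type u} [SmallCategory C] {J : GrothendieckTopology C} {O : Sheaf J CommRingCat.{u}}

variable (S : ShortComplex (ModSite.Mod O))
  [ModSite.HasSheafHom S.X₁] [ModSite.HasSheafHom S.X₂] [ModSite.HasSheafHom S.X₃]

lemma flip_comp_zero (N : ModSite.Mod O) :
    ((ModSite.tensorBi O).flip.map S.f).app N ≫ ((ModSite.tensorBi O).flip.map S.g).app N = 0 := by
  show (TL O N).map S.f ≫ (TL O N).map S.g = 0
  rw [← Functor.map_comp, S.zero, Functor.map_zero]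

theorem sheafHom_comp_zero (Q : ModSite.Mod O) :
    (ExtSupp.sheafHomMap S.g).app Q ≫ (ExtSupp.sheafHomMap S.f).app Q = 0 :=
  conj_comp_zero (ModSite.sheafHomAdj S.X₁) (ModSite.sheafHomAdj S.X₂) (ModSite.sheafHomAdj S.X₃)
    ((ModSite.tensorBi O).flip.map S.f) ((ModSite.tensorBi O).flip.map S.g) (flip_comp_zero S) Q

variable {S}

theorem sheafHom_mono (hS : S.ShortExact) (Q : ModSite.Mod O) :
    Mono ((ExtSupp.sheafHomMap S.g).app Q) := by
  refine mono_conj_app (ModSite.sheafHomAdj S.X₂) (ModSite.sheafHomAdj S.X₃)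
    ((ModSite.tensorBi O).flip.map S.g) (fun N => ?_) Q
  haveI := hS.epi_g
  show Epi ((TL O N).map S.g)
  infer_instance

theorem sheafHom_exact (hS : S.ShortExact) (Q : ModSite.Mod O) :
    (ShortComplex.mk _ _ (sheafHom_comp_zero S Q)).Exact := by
  refine exact_conj (ModSite.sheafHomAdj S.X₁) (ModSite.sheafHomAdj S.X₂) (ModSite.sheafHomAdj S.X₃)
    ((ModSite.tensorBi O).flip.map S.f) ((ModSite.tensorBi O).flip.map S.g) (flip_comp_zero S)
    (fun N => ?_) (fun N => ?_) Q
  · exact hS.exact.map_of_epi_of_preservesCokernel (TL O N) hS.epi_g inferInstance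
  · haveI := hS.epi_g
    show Epi ((TL O N).map S.g)
    infer_instance

theorem sheafHom_lift (hS : S.ShortExact) (P : Sheaf J Ab.{u}) (hP : TF P) (Q : ModSite.Mod O)
    [Injective Q] (c : (Fr O).obj P ⟶ (ModSite.sheafHom S.X₁).obj Q) :
    ∃ b' : (Fr O).obj P ⟶ (ModSite.sheafHom S.X₂).obj Q,
      b' ≫ (ExtSupp.sheafHomMap S.f).app Q = c := by
  refine lift_conj (ModSite.sheafHomAdj S.X₁) (ModSite.sheafHomAdj S.X₂)
    ((ModSite.tensorBi O).flip.map S.f) ((Fr O).obj P) Q ?_ c
  haveI := hS.mono_f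
  haveI := preservesFiniteLimits_TL_of_isFlat O ((Fr O).obj P) (isFlat_Fr hP)
  show Mono ((TL O ((Fr O).obj P)).map S.f)
  infer_instance

/-- the free abelian sheaf on a representable -/
noncomputable abbrev ZY (U : C) : Sheaf J Ab.{u} :=
  (presheafToSheaf J AddCommGrpCat.{u}).obj (yoneda.obj U ⋙ AddCommGrpCat.free.{u})

lemma tf_ZY (U : C) : TF (ZY (J := J) U) := tf_free (yoneda.obj U)

/-- maps out of the free module on a representable are sections -/
noncomputable def secEquiv (U : C) (H : ModSite.Mod O) :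
    ((Fr O).obj (ZY U) ⟶ H) ≃ (ModSite.toAb H).obj.obj (op U) :=
  ((frAdj O).homEquiv (ZY U) H).trans
    (((freeAdj (J := J)).homEquiv (yoneda.obj U) (ModSite.toAb H)).trans yonedaEquiv)

lemma secEquiv_comp (U : C) {H H' : ModSite.Mod O} (w : H ⟶ H') (c : (Fr O).obj (ZY U) ⟶ H) :
    secEquiv U H' (c ≫ w) = ((toAbF O).map w).hom.app (op U) (secEquiv U H c) := by
  unfold secEquiv
  simp only [Equiv.trans_apply]
  rw [Adjunction.homEquiv_naturality_right, Adjunction.homEquiv_naturality_right,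
    yonedaEquiv_comp]
  rfl

theorem sheafHom_surjective (hS : S.ShortExact) (Q : ModSite.Mod O) [Injective Q] (U : C) :
    Function.Surjective
      (((toAbF O).map ((ExtSupp.sheafHomMap S.f).app Q)).hom.app (op U)) := by
  intro s
  obtain ⟨b', hb'⟩ := sheafHom_lift hS (ZY U) (tf_ZY U) Q
    ((secEquiv U ((ModSite.sheafHom S.X₁).obj Q)).symm s)
  refine ⟨secEquiv U _ b', ?_⟩
  rw [← secEquiv_comp, hb', Equiv.apply_symm_apply]

end SiteHom

end Groth.Agent.Helper24.RelExt
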