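import Mathlib
import Groth.Prelude.Def_ModSite
import Groth.Prelude.Def_ModSite2
import Groth.Prelude.Def_ExtSupp
import Groth.Prelude.Def_Coh
import Groth.Agent.Lib.Helper24.RelExt2
import Groth.Agent.Lib.Helper24.RelExt4
import Groth.Agent.Lib.Helper18.BasisCrit

/-!
Long exact sequence of relative Ext sheaves in the first variable (helper24).
-/

set_option autoImplicit false
set_option linter.style.haveILetI false
set_option linter.unusedSectionVars false
universe u
open CategoryTheory CategoryTheory.Limits Opposite AlgebraicGeometry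

namespace Groth.Agent.Helper24.RelExt

section Scheme

variable {X Y : Scheme.{u}} (f : X ⟶ Y) (S : ShortComplex X.Modules)
  [ModSite.HasSheafHom (O := X.sheaf) S.X₁] [ModSite.HasSheafHom (O := X.sheaf) S.X₂]
  [ModSite.HasSheafHom (O := X.sheaf) S.X₃]

/-- `ℋom(S.X₃, Q)` as an object of `X.Modules` -/
noncomputable def H₃ (Q : X.Modules) : X.Modules := (ModSite.sheafHom (O := X.sheaf) S.X₃).obj Q
/-- `ℋom(S.X₂, Q)` as an object of `X.Modules` -/
noncomputable def H₂ (Q : X.Modules) : X.Modules := (ModSite.sheafHom (O := X.sheaf) S.X₂).obj Q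
/-- `ℋom(S.X₁, Q)` as an object of `X.Modules` -/
noncomputable def H₁ (Q : X.Modules) : X.Modules := (ModSite.sheafHom (O := X.sheaf) S.X₁).obj Q

/-- `ℋom(S.X₃, Q) ⟶ ℋom(S.X₂, Q)` as a morphism of `X.Modules` -/
noncomputable def uQ (Q : X.Modules) : H₃ S Q ⟶ H₂ S Q :=
  (ExtSupp.sheafHomMap (O := X.sheaf) S.g).app Q

/-- `ℋom(S.X₂, Q) ⟶ ℋom(S.X₁, Q)` as a morphism of `X.Modules` -/
noncomputable def vQ (Q : X.Modules) : H₂ S Q ⟶ H₁ S Q :=
  (ExtSupp.sheafHomMap (O := X.sheaf) S.f).app Q

lemma uQ_vQ (Q : X.Modules) : uQ S Q ≫ vQ S Q = 0 :=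
  sheafHom_comp_zero (O := X.sheaf) S Q

lemma w_T (Q : X.Modules) :
    (Functor.whiskerRight (ExtSupp.sheafHomMap (O := X.sheaf) S.g)
        (Scheme.Modules.pushforward f)).app Q ≫
      (Functor.whiskerRight (ExtSupp.sheafHomMap (O := X.sheaf) S.f)
        (Scheme.Modules.pushforward f)).app Q = 0 := by
  show (Scheme.Modules.pushforward f).map (uQ S Q) ≫ (Scheme.Modules.pushforward f).map (vQ S Q) = 0
  rw [← Functor.map_comp, uQ_vQ, Functor.map_zero]

variable {S}

theorem shortExact_T (hS : S.ShortExact) (Q : X.Modules) [Injective Q] :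
    (ShortComplex.mk _ _ (w_T f S Q)).ShortExact := by
  have hm : Mono (uQ S Q) := sheafHom_mono (O := X.sheaf) hS Q
  have he : (ShortComplex.mk (uQ S Q) (vQ S Q) (uQ_vQ S Q)).Exact :=
    sheafHom_exact (O := X.sheaf) hS Q
  have h1 : (ShortComplex.mk ((Scheme.Modules.pushforward f).map (uQ S Q))
      ((Scheme.Modules.pushforward f).map (vQ S Q)) (w_T f S Q)).Exact :=
    he.map_of_mono_of_preservesKernel (Scheme.Modules.pushforward f) hm inferInstance
  have h2 : Mono ((Scheme.Modules.pushforward f).map (uQ S Q)) := inferInstance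
  have h3 : Epi ((Scheme.Modules.pushforward f).map (vQ S Q)) := by
    refine Groth.Agent.Helper18.BasisCrit.epi_of_basis _ (B := Set.univ) ?_ ?_
    · rw [TopologicalSpace.Opens.isBasis_iff_nbhd]
      intro V x hx
      exact ⟨V, trivial, hx, le_rfl⟩
    · intro V _
      have hQ : @Injective (ModSite.Mod X.sheaf) _ Q :=
        ⟨fun {A B} g f hf => @Injective.factors X.Modules _ Q _ A B g f hf⟩
      exact @sheafHom_surjective _ _ _ X.sheaf S _ _ _ hS Q hQ (f ⁻¹ᵁ V)
  exact ShortComplex.ShortExact.mk' h1 h2 h3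

end Scheme

end Groth.Agent.Helper24.RelExt
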