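import Mathlib
import Groth.Prelude.Def_ModSite
import Groth.Prelude.Def_ModSite2
import Groth.Prelude.Def_ExtSupp
import Groth.Agent.Lib.Helper24.RelExt4

/-!
More on `ℋom_O(-, Q)` in the first variable on a ringed site: functoriality, and left exactness
on right exact sequences (helper24).
-/

set_option autoImplicit false
set_option linter.style.haveILetI false
set_option linter.unusedSectionVars false
universe u
open CategoryTheory CategoryTheory.Limits Opposite

namespace Groth.Agent.Helper24.RelExt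

open Groth.Agent.Helper17.MT Groth.Agent.Helper24.FrMod

section SiteHom2
variable {C : Type u} [SmallCategory C] {J : GrothendieckTopology C} {O : Sheaf J CommRingCat.{u}}

theorem sheafHomMap_comp {M'' M' M : ModSite.Mod O} [ModSite.HasSheafHom M'']
    [ModSite.HasSheafHom M'] [ModSite.HasSheafHom M] (u' : M'' ⟶ M') (u : M' ⟶ M) :
    ExtSupp.sheafHomMap (u' ≫ u) = ExtSupp.sheafHomMap u ≫ ExtSupp.sheafHomMap u' := by
  show conjugateEquiv _ _ _ = conjugateEquiv _ _ _ ≫ conjugateEquiv _ _ _
  rw [conjugateEquiv_comp, ← Functor.map_comp]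

theorem sheafHomMap_zero (M' M Q : ModSite.Mod O) [ModSite.HasSheafHom M']
    [ModSite.HasSheafHom M] : (ExtSupp.sheafHomMap (0 : M' ⟶ M)).app Q = 0 := by
  have h := conj_comp_zero (ModSite.sheafHomAdj M') (ModSite.sheafHomAdj M')
    (ModSite.sheafHomAdj M) (𝟙 _) ((ModSite.tensorBi O).flip.map (0 : M' ⟶ M))
    (fun N => by
      show 𝟙 _ ≫ (TL O N).map (0 : M' ⟶ M) = 0
      rw [Functor.map_zero, comp_zero]) Q
  rw [conjugateEquiv_id] at h
  simpa using h

theorem sheafHomMap_mono {M' M : ModSite.Mod O} [ModSite.HasSheafHom M'] [ModSite.HasSheafHom M]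
    (u : M' ⟶ M) [Epi u] (Q : ModSite.Mod O) : Mono ((ExtSupp.sheafHomMap u).app Q) := by
  refine mono_conj_app (ModSite.sheafHomAdj M') (ModSite.sheafHomAdj M)
    ((ModSite.tensorBi O).flip.map u) (fun N => ?_) Q
  show Epi ((TL O N).map u)
  infer_instance

theorem sheafHom_exact' (S : ShortComplex (ModSite.Mod O))
    [ModSite.HasSheafHom S.X₁] [ModSite.HasSheafHom S.X₂] [ModSite.HasSheafHom S.X₃]
    (hS : S.Exact) [Epi S.g] (Q : ModSite.Mod O) :
    (ShortComplex.mk _ _ (sheafHom_comp_zero S Q)).Exact := by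
  refine exact_conj (ModSite.sheafHomAdj S.X₁) (ModSite.sheafHomAdj S.X₂) (ModSite.sheafHomAdj S.X₃)
    ((ModSite.tensorBi O).flip.map S.f) ((ModSite.tensorBi O).flip.map S.g) (flip_comp_zero S)
    (fun N => ?_) (fun N => ?_) Q
  · exact hS.map_of_epi_of_preservesCokernel (TL O N) inferInstance inferInstance
  · show Epi ((TL O N).map S.g)
    infer_instance

end SiteHom2

end Groth.Agent.Helper24.RelExt
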