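import Mathlib
import Groth.Prelude.Def_ModSite
import Groth.Prelude.Def_ModSite2
import Groth.Prelude.Def_ExtSupp
import Groth.Prelude.Def_Coh
import Groth.Agent.Lib.Helper24.RelExt5
import Groth.Agent.Lib.Helper24.RelExt8
import Groth.Agent.Lib.Helper24.RelExt9
import Groth.Agent.Lib.Helper17.MT2

/-!
Relative Ext sheaves `R^p (f_* ℋom(M, -))` computed from a resolution of `M` by acyclic modules
(helper24): the family `M ↦ f_* ℋom(M, -)` as a `ContraFam`.
-/

set_option autoImplicit false
set_option linter.style.haveILetI false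
set_option linter.unusedSectionVars false
universe u
open CategoryTheory CategoryTheory.Limits Opposite AlgebraicGeometry

namespace Groth.Agent.Helper24.RelExt

open Groth.Agent.Helper17.MT

section Fam2

variable {X Y : Scheme.{u}} (f : X ⟶ Y)

/-- every module has an internal hom -/
theorem hasSheafHom' (M : X.Modules) : ModSite.HasSheafHom (O := X.sheaf) M :=
  Groth.Agent.Helper17.MT.main6165 X.sheaf M

attribute [local instance] hasSheafHom'

/-- `ℋom(M, -)` as an endofunctor of `X.Modules` -/
noncomputable def SH (M : X.Modules) : X.Modules ⥤ X.Modules :=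
  ModSite.sheafHom (O := X.sheaf) M

instance additive_SH (M : X.Modules) : (SH M).Additive :=
  inferInstanceAs ((ModSite.sheafHom (O := X.sheaf) M).Additive)

instance isRightAdjoint_SH (M : X.Modules) : (SH M).IsRightAdjoint :=
  (ModSite.sheafHomAdj (O := X.sheaf) M).isRightAdjoint

/-- contravariance of `ℋom(M, -)` in `M` -/
noncomputable def SHmap {M' M : X.Modules} (u : M' ⟶ M) : SH M ⟶ SH M' :=
  ExtSupp.sheafHomMap (O := X.sheaf) u

/-- `ℋom(M, Q) ⟶ ℋom(M', Q)` as a morphism of `X.Modules` -/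
noncomputable def SHapp {M' M : X.Modules} (u : M' ⟶ M) (Q : X.Modules) :
    (SH M).obj Q ⟶ (SH M').obj Q :=
  (ExtSupp.sheafHomMap (O := X.sheaf) u).app Q

lemma SHapp_comp {M'' M' M : X.Modules} (u' : M'' ⟶ M') (u : M' ⟶ M) (Q : X.Modules) :
    SHapp (u' ≫ u) Q = SHapp u Q ≫ SHapp u' Q :=
  congrArg (fun t => t.app Q) (sheafHomMap_comp (O := X.sheaf) u' u)

lemma SHapp_zero (M' M Q : X.Modules) : SHapp (0 : M' ⟶ M) Q = 0 :=
  sheafHomMap_zero (O := X.sheaf) M' M Q

lemma SHapp_mono {M' M : X.Modules} (u : M' ⟶ M) (hu : Epi u) (Q : X.Modules) :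
    Mono (SHapp u Q) := by
  have hu' : @Epi (ModSite.Mod X.sheaf) _ _ _ u := hu
  exact @sheafHomMap_mono _ _ _ X.sheaf M' M _ _ u hu' Q

lemma SHapp_w (S : ShortComplex X.Modules) (Q : X.Modules) : SHapp S.g Q ≫ SHapp S.f Q = 0 :=
  sheafHom_comp_zero (O := X.sheaf) S Q

lemma SHapp_exact (S : ShortComplex X.Modules) (hS : S.Exact) (hg : Epi S.g) (Q : X.Modules) :
    (ShortComplex.mk (SHapp S.g Q) (SHapp S.f Q) (SHapp_w S Q)).Exact := by
  have hg' : @Epi (ModSite.Mod X.sheaf) _ _ _ S.g := hg
  exact @sheafHom_exact' _ _ _ X.sheaf S _ _ _ hS hg' Q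

/-- `T_M = f_* ∘ ℋom(M, -)` -/
noncomputable def TM (M : X.Modules) : X.Modules ⥤ Y.Modules :=
  SH M ⋙ Scheme.Modules.pushforward f

instance additive_TM (M : X.Modules) : (TM f M).Additive := by
  unfold TM
  infer_instance

instance preservesFiniteLimits_TM (M : X.Modules) : PreservesFiniteLimits (TM f M) := by
  unfold TM
  exact comp_preservesFiniteLimits _ _

/-- contravariance of `T_M` in `M` -/
noncomputable def Tmap {M' M : X.Modules} (u : M' ⟶ M) : TM f M ⟶ TM f M' :=
  Functor.whiskerRight (SHmap u) (Scheme.Modules.pushforward f)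

lemma Tmap_app {M' M : X.Modules} (u : M' ⟶ M) (Q : X.Modules) :
    (Tmap f u).app Q = (Scheme.Modules.pushforward f).map (SHapp u Q) := rfl

/-- the family `M ↦ f_* ℋom(M, -)` -/
noncomputable def fam : ContraFam X.Modules Y.Modules where
  T := TM f
  add := additive_TM f
  pfl := preservesFiniteLimits_TM f
  t u := Tmap f u
  t_comp u' u Q := by
    rw [Tmap_app, Tmap_app, Tmap_app, SHapp_comp, Functor.map_comp]
    rfl
  t_zero M' M Q := by
    rw [Tmap_app, SHapp_zero, Functor.map_zero]
    rfl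
  mono u hu Q := by
    have hm := SHapp_mono u hu Q
    show Mono ((Scheme.Modules.pushforward f).map (SHapp u Q))
    infer_instance
  exact S hS hg Q w := by
    have he := SHapp_exact S hS hg Q
    have hm := SHapp_mono S.g hg Q
    exact he.map_of_mono_of_preservesKernel (Scheme.Modules.pushforward f) hm inferInstance
  epi S hS Q hQ := (shortExact_T f hS Q).epi_g

end Fam2

end Groth.Agent.Helper24.RelExt
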