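import Mathlib
import Groth.Prelude.Def_ModSite
import Groth.Prelude.Def_ModSite2
import Groth.Prelude.Def_ExtSupp
import Groth.Prelude.Def_Coh
import Groth.Agent.Lib.Helper24.RelExt10
import Groth.Agent.Lib.Helper29.SHomC
import Groth.Agent.Lib.Helper9.ClosedEmb

/-!
Ext sheaves `ℰxt^p(M, -)` computed from a resolution of `M` by acyclic modules (helper24):
the family `M ↦ ℋom(M, -)` as a `ContraFam`, and acyclicity of finite locally free modules.
-/

set_option autoImplicit false
set_option linter.style.haveILetI false
set_option linter.unusedSectionVars false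
universe u
open CategoryTheory CategoryTheory.Limits Opposite AlgebraicGeometry

namespace Groth.Agent.Helper24.RelExt

section Fam3

variable {X : Scheme.{u}}

attribute [local instance] hasSheafHom'

instance preservesFiniteLimits_SH (M : X.Modules) : PreservesFiniteLimits (SH M) := inferInstance

lemma SHapp_epi {S : ShortComplex X.Modules} (hS : S.ShortExact) (Q : X.Modules) [Injective Q] :
    Epi (SHapp S.f Q) := by
  refine Groth.Agent.Helper18.BasisCrit.epi_of_basis _ (B := Set.univ) ?_ ?_
  · rw [TopologicalSpace.Opens.isBasis_iff_nbhd]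
    intro V x hx
    exact ⟨V, trivial, hx, le_rfl⟩
  · intro V _
    have hQ : @Injective (ModSite.Mod X.sheaf) _ Q :=
      ⟨fun {A B} g f hf => @Injective.factors X.Modules _ Q _ A B g f hf⟩
    exact @sheafHom_surjective _ _ _ X.sheaf S _ _ _ hS Q hQ V

variable (X) in
/-- the family `M ↦ ℋom(M, -)` -/
noncomputable def famSH : ContraFam X.Modules X.Modules where
  T := SH
  add := additive_SH
  pfl := preservesFiniteLimits_SH
  t u := SHmap u
  t_comp u' u Q := SHapp_comp u' u Q
  t_zero M' M Q := SHapp_zero M' M Q
  mono u hu Q := SHapp_mono u hu Q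
  exact S hS hg Q w := SHapp_exact S hS hg Q
  epi S hS Q hQ := SHapp_epi hS Q

/-- `ℋom(E, -)` is exact for `E` finite locally free, hence its higher derived functors vanish -/
theorem isZero_rightDerived_SH_of_isFinLocFree [HasInjectiveResolutions X.Modules] (E : X.Modules)
    (hE : FlatMod.IsFinLocFree E) (p : ℕ) (G : X.Modules) :
    IsZero (((SH E).rightDerived (p + 1)).obj G) := by
  obtain ⟨h1, h2⟩ := Groth.Agent.Helper29.SHomC.exact_homFun E hE
  have iso : SH E ≅ Groth.Agent.Helper29.SHomA.homFun E :=
    Groth.Agent.Helper29.SHomA.sheafHomIso E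
  haveI : PreservesFiniteLimits (SH E) := preservesFiniteLimits_of_natIso iso.symm
  haveI : PreservesFiniteColimits (SH E) := preservesFiniteColimits_of_natIso iso.symm
  exact Groth.Agent.Helper9.ClosedEmb.isZero_rightDerived_of_exact (SH E) p G

end Fam3

end Groth.Agent.Helper24.RelExt
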