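import Mathlib
import Groth.Prelude.Def_ModSite2
import Groth.Prelude.Def_SpSeq
import Groth.Agent.Lib.Helper24.FrMod4

/-!
# The local-to-global Ext spectral sequence on a ringed site (flexible targets)
-/

set_option autoImplicit false
universe u
open CategoryTheory CategoryTheory.Limits

namespace Groth.Agent.Helper24.ExtSS

open Groth.Agent.Helper24.FrMod Groth.Agent.Helper24.GSS Groth.Agent.Helper17.MT
  Groth.Agent.Helper24.CechH

lemma enoughInjectives_of_hasInjectiveResolutions (A : Type*) [Category A] [Abelian A]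
    [HasInjectiveResolutions A] : EnoughInjectives A := by
  refine ⟨fun X => ?_⟩
  let I : InjectiveResolution X := (HasInjectiveResolution.out (Z := X)).some
  exact ⟨{ J := I.cocomplex.X 0
           injective := I.injective 0
           f := (I.ι.f 0 : X ⟶ I.cocomplex.X 0)
           mono := inferInstanceAs (Mono (I.ι.f 0)) }⟩

theorem exists_localToGlobal_ext {C : Type u} [SmallCategory C] {J : GrothendieckTopology C}
    (O : Sheaf J CommRingCat.{u}) (M N : ModSite.Mod O)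
    [ModSite.HasSheafHom M] [HasInjectiveResolutions (ModSite.Mod O)] [HasExt.{u} (ModSite.Mod O)]
    (H' : ℤ → AddCommGrpCat.{u}) (E2 : ℤ → ℤ → AddCommGrpCat.{u})
    (hH : ∀ n : ℕ, Nonempty (AddCommGrpCat.of (Abelian.Ext.{u} M N n) ≅ H' n))
    (hH' : ∀ n : ℤ, n < 0 → IsZero (H' n))
    (h2 : ∀ p q : ℕ, Nonempty (AddCommGrpCat.of
      (ModSite.HC O ((ModSite.extSh M q).obj N) p) ≅ E2 p q))
    (h2' : ∀ p q : ℤ, (p < 0 ∨ q < 0) → IsZero (E2 p q)) :
    ∃ (E : E₂CohomologicalSpectralSequence AddCommGrpCat.{u}) (a : SpSeq.Abutment E H'),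
      (∀ n : ℤ, a.IsFinite n) ∧ SpSeq.IsBounded E ∧
      ∀ p q : ℤ, Nonempty ((E.page 2 le_rfl).X (p, q) ≅ E2 p q) := by
  have : EnoughInjectives (ModSite.Mod O) := enoughInjectives_of_hasInjectiveResolutions _
  have : HasDerivedCategory.{u + 1} (ModSite.Mod O) := HasDerivedCategory.standard _
  have hZ : TF (ZC (J := J)) := tf_constant
  refine exists_grothendieck_spectralSequence' (SZ (O := O) (ZC (J := J))) (ModSite.sheafHom M)
    ?_ N _ _ ?_ hH' ?_ h2'
  · intro Q hQ q hq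
    obtain ⟨k, rfl⟩ : ∃ k, q = k + 1 := ⟨q - 1, by omega⟩
    obtain ⟨e⟩ := nonempty_SZ_rightDerived_iso (O := O) (ZC (J := J)) hZ
      ((ModSite.sheafHom M).obj Q) (k + 1)
    have : Subsingleton (Abelian.Ext (ZC (J := J))
        (ModSite.toAb ((ModSite.sheafHom M).obj Q)) (k + 1)) :=
      ext_sheafHom_subsingleton _ hZ M Q k
    exact IsZero.of_iso (@AddCommGrpCat.isZero_of_subsingleton
      (AddCommGrpCat.of (Abelian.Ext (ZC (J := J))
        (ModSite.toAb ((ModSite.sheafHom M).obj Q)) (k + 1))) this) e.symm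
  · intro n
    let e₀ : ModSite.sheafHom M ⋙ SZ (O := O) (ZC (J := J)) ≅
        (extDelta ((Fr O ⋙ TR O M).obj (ZC (J := J)))).F 0 :=
      (extZeroAdjIso (adjL M) (ZC (J := J))).symm
    obtain ⟨e1⟩ := nonempty_rightDerived_iso_of_iso _ _ e₀ n
    obtain ⟨e2⟩ := nonempty_iso_rightDerived_obj (extDelta ((Fr O ⋙ TR O M).obj (ZC (J := J))))
      (extDelta_effaceable _) _ (Iso.refl _) n N
    obtain ⟨e3⟩ := nonempty_ext_iso_of_iso (LZIso O M) N n
    obtain ⟨e4⟩ := hH n
    exact ⟨e1.app N ≪≫ e2.symm ≪≫ e3 ≪≫ e4⟩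
  · intro p q
    obtain ⟨e⟩ := nonempty_SZ_rightDerived_iso (O := O) (ZC (J := J)) hZ
      (((ModSite.sheafHom M).rightDerived q).obj N) p
    obtain ⟨e'⟩ := h2 p q
    exact ⟨e.symm ≪≫ e'⟩

end Groth.Agent.Helper24.ExtSS
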