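import Mathlib
import Groth.Agent.Lib.Helper29.SHomD
import Groth.Agent.Lib.Helper13.ProjFormulaLF
import Groth.Agent.Lib.Helper13.ResAffine
import Groth.Agent.Lib.Helper24.LC1

/-!
# Relative Ext sheaves twisted by finite locally free modules (helper24)

* `θNatIso E hE : - ⊗ E ≅ 𝓗om(E^∨, -)` for `E` finite locally free (naturality of helper13's `θ`);
* `braidRight A B : (- ⊗ A) ⊗ B ≅ (- ⊗ B) ⊗ A`;
* `commHom E F hE : 𝓗om(F, - ⊗ E) ≅ 𝓗om(F, -) ⊗ E` for `E` finite locally free;
* `twistIso`: `f_* 𝓗om(F, - ⊗ L^∨) ⊗ N ≅ f_* 𝓗om(F ⊗ L, - ⊗ f^* N)`;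
* `main16282`: the same for the right derived functors.
-/

set_option autoImplicit false
set_option maxHeartbeats 400000
universe u
open CategoryTheory CategoryTheory.Limits AlgebraicGeometry Opposite TopologicalSpace TensorProduct
open Groth.Agent.Helper13.QCoh Groth.Agent.Helper13.FinType Groth.Agent.Helper13.LocFree
open Groth.Agent.Helper13.Tensor Groth.Agent.Helper13.TensorFunctor RefHull
open Groth.Agent.Lead.HomSh Groth.Agent.Helper13.HomShAff Groth.Agent.Helper13.TensorHom
open Groth.Agent.Helper13.DualFinLocFree Groth.Agent.Helper29.SHomA Groth.Agent.Helper29.SHomC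
open Groth.Agent.Helper29.SHomD

namespace Groth.Agent.Helper24.ExtTw

variable {X : Scheme.{u}}

lemma contr_natural {N N' : X.Modules} (E : X.Modules) (g : N ⟶ N') :
    Groth.Agent.Helper13.Tensor.map
        (Groth.Agent.Helper13.Tensor.map g (𝟙 E)) (𝟙 (homSh E (Coh.structureModule X))) ≫
      contr N' E = contr N E ≫ g := by
  apply hom_ext₃
  intro U n e d
  rw [Scheme.Modules.Hom.comp_app, Scheme.Modules.Hom.comp_app, ConcreteCategory.comp_apply,
    ConcreteCategory.comp_apply, map_app_tmul, map_app_tmul, contr_app_tmul, contr_app_tmul]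
  exact (Scheme.Modules.Hom.app_smul g _ _).symm

lemma θ_natural {N N' : X.Modules} (E : X.Modules) (g : N ⟶ N') :
    (tensorRight E).map g ≫ θ N' E =
      θ N E ≫ (homFun (homSh E (Coh.structureModule X))).map g := by
  have h1 : (tensorRight E).map g ≫ θ N' E =
      curry ((tensorRight (homSh E (Coh.structureModule X))).map ((tensorRight E).map g) ≫
        contr N' E) :=
    (homEquiv_naturality (homSh E (Coh.structureModule X)) _ (contr N' E)).symm
  have h2 : θ N E ≫ (homFun (homSh E (Coh.structureModule X))).map g =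
      curry (contr N E ≫ g) := by
    have := (adj (homSh E (Coh.structureModule X))).homEquiv_naturality_right (contr N E) g
    rw [adj_homEquiv, adj_homEquiv] at this
    exact this.symm
  rw [h1, h2]
  congr 1
  exact contr_natural E g

/-- `- ⊗ E ≅ 𝓗om(E^∨, -)` for `E` finite locally free. -/
noncomputable def θNatIso (E : X.Modules) (hE : FlatMod.IsFinLocFree E) :
    tensorRight E ≅ homFun (homSh E (Coh.structureModule X)) :=
  NatIso.ofComponents (fun N => @asIso _ _ _ _ (θ N E) (isIso_θ N E hE))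
    (fun g => θ_natural E g)

/-- `(- ⊗ A) ⊗ B ≅ (- ⊗ B) ⊗ A`. -/
noncomputable def braidRight (A B : X.Modules) :
    tensorRight A ⋙ tensorRight B ≅ tensorRight B ⋙ tensorRight A :=
  tensorRightAssoc A B ≪≫ tensorRightCongr (Groth.Agent.Helper13.Tensor.braid A B) ≪≫
    (tensorRightAssoc B A).symm

/-- `𝓗om(F, - ⊗ E) ≅ 𝓗om(F, -) ⊗ E` for `E` finite locally free. -/
noncomputable def commHom (E F : X.Modules) (hE : FlatMod.IsFinLocFree E) :
    tensorRight E ⋙ homFun F ≅ homFun F ⋙ tensorRight E :=
  Functor.isoWhiskerRight (θNatIso E hE) (homFun F) ≪≫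
    (homFunComp F (homSh E (Coh.structureModule X))).symm ≪≫
    homFunCongr (Groth.Agent.Helper13.Tensor.braid F (homSh E (Coh.structureModule X))) ≪≫
    homFunComp (homSh E (Coh.structureModule X)) F ≪≫
    Functor.isoWhiskerLeft (homFun F) (θNatIso E hE).symm

end Groth.Agent.Helper24.ExtTw
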