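import Mathlib
import Groth.Agent.Lib.Helper24.ExtTw1

/-!
# Relative Ext sheaves twisted by finite locally free modules, II (helper24)

* `twistIso₀`: `f_* 𝓗om(F, - ⊗ L^∨) ⊗ N ≅ f_* 𝓗om(F ⊗ L, - ⊗ f^* N)` for the concrete sheaf Hom;
* `main16282`: the same for the right derived functors of the chosen internal Homs.
-/

set_option autoImplicit false
set_option maxHeartbeats 400000
universe u
open CategoryTheory CategoryTheory.Limits AlgebraicGeometry Opposite TopologicalSpace TensorProduct
open Groth.Agent.Helper13.QCoh Groth.Agent.Helper13.FinType Groth.Agent.Helper13.LocFree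
open Groth.Agent.Helper13.Tensor Groth.Agent.Helper13.TensorFunctor RefHull
open Groth.Agent.Lead.HomSh Groth.Agent.Helper13.HomShAff Groth.Agent.Helper13.TensorHom
open Groth.Agent.Helper13.DualFinLocFree Groth.Agent.Helper29.SHomA Groth.Agent.Helper29.SHomC
open Groth.Agent.Helper29.SHomD

namespace Groth.Agent.Helper24.ExtTw

variable {X Y : Scheme.{u}} (f : X ⟶ Y)

/-- `f_* 𝓗om(F, - ⊗ L^∨) ⊗ N ≅ f_* 𝓗om(F ⊗ L, - ⊗ f^* N)`. -/
noncomputable def twistIso₀ (F L : X.Modules) (N : Y.Modules) (hL : FlatMod.IsFinLocFree L)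
    (hN : FlatMod.IsFinLocFree N) :
    (tensorRight (homSh L (Coh.structureModule X)) ⋙ homFun F ⋙ Scheme.Modules.pushforward f) ⋙
        tensorRight N ≅
      tensorRight ((Scheme.Modules.pullback f).obj N) ⋙ homFun (CohB1.tensorMod F L) ⋙
        Scheme.Modules.pushforward f :=
  (Iso.refl _ : (tensorRight (homSh L (Coh.structureModule X)) ⋙ homFun F ⋙
      Scheme.Modules.pushforward f) ⋙ tensorRight N ≅
    tensorRight (homSh L (Coh.structureModule X)) ⋙ homFun F ⋙
      (Scheme.Modules.pushforward f ⋙ tensorRight N)) ≪≫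
  Functor.isoWhiskerLeft (tensorRight (homSh L (Coh.structureModule X)))
    (Functor.isoWhiskerLeft (homFun F) (Groth.Agent.Helper13.ProjFormulaLF.νIso f N hN)) ≪≫
  (Iso.refl _ : tensorRight (homSh L (Coh.structureModule X)) ⋙ homFun F ⋙
      (tensorRight ((Scheme.Modules.pullback f).obj N) ⋙ Scheme.Modules.pushforward f) ≅
    tensorRight (homSh L (Coh.structureModule X)) ⋙
      (homFun F ⋙ tensorRight ((Scheme.Modules.pullback f).obj N)) ⋙
        Scheme.Modules.pushforward f) ≪≫
  Functor.isoWhiskerLeft (tensorRight (homSh L (Coh.structureModule X)))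
    (Functor.isoWhiskerRight (commHom ((Scheme.Modules.pullback f).obj N) F
      (Groth.Agent.Helper13.ResAffine.isFinLocFree_pullback f N hN)).symm
      (Scheme.Modules.pushforward f)) ≪≫
  (Iso.refl _ : tensorRight (homSh L (Coh.structureModule X)) ⋙
      (tensorRight ((Scheme.Modules.pullback f).obj N) ⋙ homFun F) ⋙
        Scheme.Modules.pushforward f ≅
    (tensorRight (homSh L (Coh.structureModule X)) ⋙
      tensorRight ((Scheme.Modules.pullback f).obj N)) ⋙ homFun F ⋙
        Scheme.Modules.pushforward f) ≪≫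
  Functor.isoWhiskerRight (braidRight (homSh L (Coh.structureModule X))
      ((Scheme.Modules.pullback f).obj N)) (homFun F ⋙ Scheme.Modules.pushforward f) ≪≫
  (Iso.refl _ : (tensorRight ((Scheme.Modules.pullback f).obj N) ⋙
      tensorRight (homSh L (Coh.structureModule X))) ⋙ homFun F ⋙
        Scheme.Modules.pushforward f ≅
    tensorRight ((Scheme.Modules.pullback f).obj N) ⋙
      (tensorRight (homSh L (Coh.structureModule X)) ⋙ homFun F) ⋙
        Scheme.Modules.pushforward f) ≪≫
  Functor.isoWhiskerLeft (tensorRight ((Scheme.Modules.pullback f).obj N))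
    (Functor.isoWhiskerRight
      (Functor.isoWhiskerRight (homFunIso L hL) (homFun F) ≪≫ (homFunComp F L).symm)
      (Scheme.Modules.pushforward f))

theorem exact_tensorRight_of_iso {E E' : X.Modules} (hE : FlatMod.IsFinLocFree E) (e : E' ≅ E) :
    PreservesFiniteLimits (tensorRight E') ∧ PreservesFiniteColimits (tensorRight E') := by
  obtain ⟨h1, h2⟩ := exact_tensorRight E (flat_stalk E hE)
  exact ⟨preservesFiniteLimits_of_natIso (tensorRightCongr e.symm),
    preservesFiniteColimits_of_natIso (tensorRightCongr e.symm)⟩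

theorem injective_tensorRight_of_iso {E E' : X.Modules} (hE : FlatMod.IsFinLocFree E) (e : E' ≅ E)
    (Q : X.Modules) (hQ : Injective Q) : Injective ((tensorRight E').obj Q) := by
  haveI := hQ
  have h1 : Injective (CohB1.tensorMod Q E) := injective_tensorMod_right Q E hE
  have e2 : (tensorRight E').obj Q ≅ CohB1.tensorMod Q E := (tensorRightCongr e).app Q
  exact Injective.of_iso e2.symm h1

theorem preservesFiniteLimits_sheafHom (D : X.Modules) [ModSite.HasSheafHom (O := X.sheaf) D] :
    PreservesFiniteLimits (ModSite.sheafHom (O := X.sheaf) D : X.Modules ⥤ X.Modules) :=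
  ⟨fun _ _ _ => (ModSite.sheafHomAdj (O := X.sheaf) D).rightAdjoint_preservesLimits.preservesLimitsOfShape⟩

theorem preservesFiniteLimits_pushforward :
    PreservesFiniteLimits (Scheme.Modules.pushforward f) :=
  ⟨fun _ _ _ => (Scheme.Modules.pullbackPushforwardAdjunction f).rightAdjoint_preservesLimits.preservesLimitsOfShape⟩

open Groth.Agent.Helper24.Supp Groth.Agent.Helper24.GSS Groth.Agent.Helper24.LC in
/-- abstract form: all functors given with instances -/
theorem main_abstract [EnoughInjectives X.Modules]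
    (U V : X.Modules ⥤ X.Modules) (U' : Y.Modules ⥤ Y.Modules) (Φ₁ Φ₂ : X.Modules ⥤ Y.Modules)
    [U.Additive] [V.Additive] [U'.Additive] [Φ₁.Additive] [Φ₂.Additive]
    [PreservesFiniteLimits U] [PreservesFiniteColimits U]
    [PreservesFiniteLimits V] [PreservesFiniteColimits V]
    [PreservesFiniteLimits U'] [PreservesFiniteColimits U']
    [PreservesFiniteLimits Φ₁] [PreservesFiniteLimits Φ₂]
    (φ : (V ⋙ Φ₂) ⋙ U' ≅ U ⋙ Φ₁)
    (hU : ∀ Q : X.Modules, Injective Q → Injective (U.obj Q))
    (hV : ∀ Q : X.Modules, Injective Q → Injective (V.obj Q)) (p : ℕ) (G : X.Modules) :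
    Nonempty ((Φ₁.rightDerived p).obj (U.obj G) ≅
      U'.obj ((Φ₂.rightDerived p).obj (V.obj G))) := by
  haveI : (V ⋙ Φ₂).Additive := inferInstance
  haveI : PreservesFiniteLimits (V ⋙ Φ₂) := comp_preservesFiniteLimits _ _
  have hU' : ∀ Q : X.Modules, Injective Q → ∀ k : ℕ,
      IsZero ((Φ₁.rightDerived (k + 1)).obj (U.obj Q)) := by
    intro Q hQ k
    haveI := hU Q hQ
    exact Functor.isZero_rightDerived_obj_injective_succ Φ₁ k (U.obj Q)
  have hV' : ∀ Q : X.Modules, Injective Q → ∀ k : ℕ,
      IsZero ((Φ₂.rightDerived (k + 1)).obj (V.obj Q)) := by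
    intro Q hQ k
    haveI := hV Q hQ
    exact Functor.isZero_rightDerived_obj_injective_succ Φ₂ k (V.obj Q)
  obtain ⟨e⟩ := nonempty_comparison U U' (V ⋙ Φ₂) Φ₁ φ hU' p
  obtain ⟨e3⟩ := nonempty_exact_comp_rightDerived_iso_of_acyclic V Φ₂ hV' p
  exact ⟨(e.app G).symm ≪≫ U'.mapIso (e3.app G).symm⟩

theorem main16282 (F G L : X.Modules) (N : Y.Modules)
    (hL : FlatMod.IsFinLocFree L) (hN : FlatMod.IsFinLocFree N) (p : ℕ)
    [ModSite.HasSheafHom (O := X.sheaf) F] [ModSite.HasSheafHom (O := X.sheaf) L]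
    [ModSite.HasSheafHom (O := X.sheaf) (CohB1.tensorMod F L)]
    [HasInjectiveResolutions (ModSite.Mod X.sheaf)]
    [h₂ : (ModSite.sheafHom (O := X.sheaf) F ⋙ Scheme.Modules.pushforward f).Additive]
    [h₁ : (ModSite.sheafHom (O := X.sheaf) (CohB1.tensorMod F L) ⋙
      Scheme.Modules.pushforward f).Additive] :
    Nonempty (((ModSite.sheafHom (O := X.sheaf) (CohB1.tensorMod F L) ⋙
        Scheme.Modules.pushforward f).rightDerived p).obj
        (CohB1.tensorMod G ((Scheme.Modules.pullback f).obj N)) ≅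
      CohB1.tensorMod (((ModSite.sheafHom (O := X.sheaf) F ⋙
        Scheme.Modules.pushforward f).rightDerived p).obj
        (CohB1.tensorMod G ((ModSite.sheafHom (O := X.sheaf) L).obj (Coh.structureModule X)))) N) := by
  haveI : EnoughInjectives (ModSite.Mod X.sheaf) :=
    Groth.Agent.Helper24.ExtSS.enoughInjectives_of_hasInjectiveResolutions _
  haveI : EnoughInjectives X.Modules := ‹EnoughInjectives (ModSite.Mod X.sheaf)›
  -- the dual of `L`
  let Ld' : X.Modules := (ModSite.sheafHom (O := X.sheaf) L).obj (Coh.structureModule X)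
  let dL : Ld' ≅ homSh L (Coh.structureModule X) :=
    (sheafHomIso L).app (Coh.structureModule X)
  have hLd : FlatMod.IsFinLocFree (homSh L (Coh.structureModule X)) := isFinLocFree_dual L hL
  have hfN : FlatMod.IsFinLocFree ((Scheme.Modules.pullback f).obj N) :=
    Groth.Agent.Helper13.ResAffine.isFinLocFree_pullback f N hN
  -- the functors
  let SF : X.Modules ⥤ X.Modules := ModSite.sheafHom (O := X.sheaf) F
  let SFL : X.Modules ⥤ X.Modules := ModSite.sheafHom (O := X.sheaf) (CohB1.tensorMod F L)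
  let U : X.Modules ⥤ X.Modules := tensorRight ((Scheme.Modules.pullback f).obj N)
  let U' : Y.Modules ⥤ Y.Modules := tensorRight N
  let V : X.Modules ⥤ X.Modules := tensorRight Ld'
  let Φ₂ : X.Modules ⥤ Y.Modules := SF ⋙ Scheme.Modules.pushforward f
  let Φ₁ : X.Modules ⥤ Y.Modules := SFL ⋙ Scheme.Modules.pushforward f
  haveI : Φ₂.Additive := h₂
  haveI : Φ₁.Additive := h₁
  haveI : U.Additive := inferInstanceAs (tensorRight _).Additive
  haveI : U'.Additive := inferInstanceAs (tensorRight _).Additive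
  haveI : V.Additive := inferInstanceAs (tensorRight _).Additive
  obtain ⟨hU1, hU2⟩ := exact_tensorRight _ (flat_stalk _ hfN)
  haveI : PreservesFiniteLimits U := hU1
  haveI : PreservesFiniteColimits U := hU2
  obtain ⟨hU'1, hU'2⟩ := exact_tensorRight _ (flat_stalk _ hN)
  haveI : PreservesFiniteLimits U' := hU'1
  haveI : PreservesFiniteColimits U' := hU'2
  obtain ⟨hV1, hV2⟩ := exact_tensorRight_of_iso hLd dL
  haveI : PreservesFiniteLimits V := hV1
  haveI : PreservesFiniteColimits V := hV2
  haveI : PreservesFiniteLimits (Scheme.Modules.pushforward f) := preservesFiniteLimits_pushforward f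
  haveI : PreservesFiniteLimits SF := preservesFiniteLimits_sheafHom F
  haveI : PreservesFiniteLimits SFL := preservesFiniteLimits_sheafHom (CohB1.tensorMod F L)
  haveI : PreservesFiniteLimits Φ₂ := comp_preservesFiniteLimits SF _
  haveI : PreservesFiniteLimits Φ₁ := comp_preservesFiniteLimits SFL _
  -- the comparison isomorphism in degree zero
  let φ : (V ⋙ Φ₂) ⋙ U' ≅ U ⋙ Φ₁ :=
    Functor.isoWhiskerRight
      (Functor.isoWhiskerRight (tensorRightCongr dL) Φ₂ ≪≫
        Functor.isoWhiskerLeft (tensorRight (homSh L (Coh.structureModule X)))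
          (Functor.isoWhiskerRight (sheafHomIso F) (Scheme.Modules.pushforward f))) U' ≪≫
    twistIso₀ f F L N hL hN ≪≫
    Functor.isoWhiskerLeft U
      (Functor.isoWhiskerRight (sheafHomIso (CohB1.tensorMod F L)).symm
        (Scheme.Modules.pushforward f))
  exact main_abstract U V U' Φ₁ Φ₂ φ
    (fun Q hQ => injective_tensorRight_of_iso hfN (Iso.refl _) Q hQ)
    (fun Q hQ => injective_tensorRight_of_iso hLd dL Q hQ) p G

end Groth.Agent.Helper24.ExtTw
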