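import Mathlib
import Groth.Agent.Lib.Helper13.TensorRestrict
import Groth.Agent.Lib.Helper29.SHomD

/-!
# The sheaf Hom commutes with restriction to an open subscheme (helper24)

For an open `U` of a scheme `X` and `O_X`-modules `F`, `G`, the canonical map
`α : 𝓗om(F, G)|_U ⟶ 𝓗om(F|_U, G|_U)` (for the concrete sheaf Hom `RefHull.homSh`) is an
isomorphism, naturally in `G`.
-/

set_option autoImplicit false
set_option maxHeartbeats 400000
universe u
open CategoryTheory CategoryTheory.Limits AlgebraicGeometry Opposite TopologicalSpace TensorProduct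
open Groth.Agent.Helper13.QCoh Groth.Agent.Helper13.FinType Groth.Agent.Helper13.Inv
open Groth.Agent.Helper13.Tensor Groth.Agent.Helper13.TensorFunctor RefHull
open Groth.Agent.Lead.HomSh Groth.Agent.Helper13.HomShAff Groth.Agent.Helper13.TensorHom
open Groth.Agent.Helper29.SHomA

namespace Groth.Agent.Helper24.ResHom

variable {X : Scheme.{u}} (U : X.Opens) (F G : X.Modules)

/-- the evaluation map restricted to `U` -/
noncomputable def β :
    CohB1.tensorMod ((homSh F G).restrict U.ι) (F.restrict U.ι) ⟶ G.restrict U.ι :=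
  restrictHom U.ι (homSh F G) F ≫ (Scheme.Modules.restrictFunctor U.ι).map (ev F G)

lemma β_app_tmul {V : (U : Scheme.{u}).Opens} (g : Γ(homSh F G, U.ι ''ᵁ V))
    (m : Γ(F, U.ι ''ᵁ V)) :
    (β U F G).app V (tmul _ _ (toRes U.ι (homSh F G) g) (toRes U.ι F m)) =
      toRes U.ι G (evalSec g m) := by
  unfold β
  rw [Scheme.Modules.Hom.comp_app, ConcreteCategory.comp_apply, restrictHom_app_tmul]
  exact ev_app_tmul F G g m

/-- the comparison map `𝓗om(F, G)|_U ⟶ 𝓗om(F|_U, G|_U)` -/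
noncomputable def α : (homSh F G).restrict U.ι ⟶ homSh (F.restrict U.ι) (G.restrict U.ι) :=
  curry (β U F G)

lemma τ_α_apply {V : (U : Scheme.{u}).Opens} (g : Γ(homSh F G, U.ι ''ᵁ V)) (y : V)
    (v : (F.restrict U.ι).presheaf.stalk y.1) :
    τ U.ι G y.1 (((α U F G).app V (toRes U.ι (homSh F G) g)).1 y v) =
      g.1 ⟨U.ι y.1, ⟨y.1, y.2, rfl⟩⟩ (τ U.ι F y.1 v) := by
  obtain ⟨W₀, hW₀, m₀, rfl⟩ := TopCat.Presheaf.exists_germ_eq (F.restrict U.ι).presheaf v
  let W : (U : Scheme.{u}).Opens := V ⊓ W₀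
  have hyW : y.1 ∈ W := ⟨y.2, hW₀⟩
  let iV : W ⟶ V := homOfLE inf_le_left
  let iW : W ⟶ W₀ := homOfLE inf_le_right
  have e1 : (F.restrict U.ι).presheaf.germ W₀ y.1 hW₀ m₀ =
      (F.restrict U.ι).presheaf.germ W y.1 hyW ((F.restrict U.ι).presheaf.map iW.op m₀) :=
    (TopCat.Presheaf.germ_res_apply _ iW y.1 hyW m₀).symm
  rw [e1]
  unfold α
  rw [curry_app_apply]
  have e2 : ((homSh F G).restrict U.ι).presheaf.germ V y.1 y.2 (toRes U.ι (homSh F G) g) =
      ((homSh F G).restrict U.ι).presheaf.germ W y.1 hyW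
        (((homSh F G).restrict U.ι).presheaf.map iV.op (toRes U.ι (homSh F G) g)) :=
    (TopCat.Presheaf.germ_res_apply _ iV y.1 hyW _).symm
  rw [e2, curryAt_germ]
  let g' : Γ(homSh F G, U.ι ''ᵁ W) :=
    (homSh F G).presheaf.map (U.ι.opensFunctor.map iV).op g
  let m' : Γ(F, U.ι ''ᵁ W) := F.presheaf.map (U.ι.opensFunctor.map iW).op m₀
  have e3 : (β U F G).app W (tmul _ _
      (((homSh F G).restrict U.ι).presheaf.map iV.op (toRes U.ι (homSh F G) g))
      ((F.restrict U.ι).presheaf.map iW.op m₀)) = toRes U.ι G (evalSec g' m') :=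
    β_app_tmul U F G g' m'
  rw [e3, τ_germ, τ_germ]
  change G.presheaf.germ (U.ι ''ᵁ W) (U.ι y.1) _ (evalSec g' m') = _
  rw [germ_evalSec]
  rfl

/-- transport of a stalk map on `U` to a stalk map on `X` -/
noncomputable def conjInv (y : (U : Scheme.{u}))
    (φ : StalkHom (F.restrict U.ι) (G.restrict U.ι) y) : StalkHom F G (U.ι y) where
  toFun v := τ U.ι G y (φ ((τ U.ι F y).symm v))
  map_add' a b := by rw [map_add, map_add, map_add]
  map_smul' r v := by
    rw [RingHom.id_apply, τ_symm_smul, map_smul, τ_smul]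

lemma conjInv_apply (y : (U : Scheme.{u}))
    (φ : StalkHom (F.restrict U.ι) (G.restrict U.ι) y) (v : F.presheaf.stalk (U.ι y)) :
    conjInv U F G y φ v = τ U.ι G y (φ ((τ U.ι F y).symm v)) := rfl

lemma mem_of_mem_image {V : (U : Scheme.{u}).Opens} {x : X} (hx : x ∈ U.ι ''ᵁ V) : x ∈ U := by
  obtain ⟨y, _, rfl⟩ := hx
  exact y.2

lemma mem_of_mem_image' {V : (U : Scheme.{u}).Opens} {x : X} (hx : x ∈ U.ι ''ᵁ V) (hxU : x ∈ U) :
    (⟨x, hxU⟩ : (U : Scheme.{u})) ∈ V := by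
  obtain ⟨y, hy, h⟩ := hx
  have : y = ⟨x, hxU⟩ := Subtype.ext h
  rw [← this]; exact hy

end Groth.Agent.Helper24.ResHom
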