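import Mathlib
import Groth.Agent.Lib.Helper24.ResHom1

/-!
# The sheaf Hom commutes with restriction to an open subscheme, II (helper24)

The comparison map `α : 𝓗om(F, G)|_U ⟶ 𝓗om(F|_U, G|_U)` is an isomorphism.
-/

set_option autoImplicit false
set_option maxHeartbeats 400000
universe u
open CategoryTheory CategoryTheory.Limits AlgebraicGeometry Opposite TopologicalSpace TensorProduct
open Groth.Agent.Helper13.QCoh Groth.Agent.Helper13.FinType Groth.Agent.Helper13.Inv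
open Groth.Agent.Helper13.Tensor Groth.Agent.Helper13.TensorFunctor RefHull
open Groth.Agent.Lead.HomSh Groth.Agent.Helper13.HomShAff Groth.Agent.Helper13.TensorHom
open Groth.Agent.Helper29.SHomA

namespace Groth.Agent.Helper24.ResHom

variable {X : Scheme.{u}} (U : X.Opens) (F G : X.Modules)

/-- `conjInv` with the base point given as a point of `X` lying in `U` -/
noncomputable def conjInv' (x : X) (hx : x ∈ U)
    (φ : StalkHom (F.restrict U.ι) (G.restrict U.ι) ⟨x, hx⟩) : StalkHom F G x :=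
  conjInv U F G ⟨x, hx⟩ φ

lemma conjInv'_apply (x : X) (hx : x ∈ U)
    (φ : StalkHom (F.restrict U.ι) (G.restrict U.ι) ⟨x, hx⟩) (v : F.presheaf.stalk x) :
    conjInv' U F G x hx φ v = τ U.ι G ⟨x, hx⟩ (φ ((τ U.ι F ⟨x, hx⟩).symm v)) := rfl

/-- the family of stalk maps on `U.ι ''ᵁ V` attached to a section of `𝓗om(F|_U, G|_U)` over `V` -/
noncomputable def backFam {V : (U : Scheme.{u}).Opens}
    (h : Γ(homSh (F.restrict U.ι) (G.restrict U.ι), V)) :
    ∀ x : ↥(U.ι ''ᵁ V), StalkHom F G x.1 :=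
  fun x => conjInv' U F G x.1 (mem_of_mem_image U x.2)
    (h.1 ⟨⟨x.1, mem_of_mem_image U x.2⟩, mem_of_mem_image' U x.2 (mem_of_mem_image U x.2)⟩)

lemma backFam_apply {V : (U : Scheme.{u}).Opens}
    (h : Γ(homSh (F.restrict U.ι) (G.restrict U.ι), V)) (x : X) (hx : x ∈ U.ι ''ᵁ V)
    (hxU : x ∈ U) (v : F.presheaf.stalk x) :
    backFam U F G h ⟨x, hx⟩ v =
      τ U.ι G ⟨x, hxU⟩ (h.1 ⟨⟨x, hxU⟩, mem_of_mem_image' U hx hxU⟩
        ((τ U.ι F ⟨x, hxU⟩).symm v)) := rfl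

lemma isLocSect_backFam {V : (U : Scheme.{u}).Opens}
    (h : Γ(homSh (F.restrict U.ι) (G.restrict U.ι), V)) :
    IsLocSect F G (backFam U F G h) := by
  intro W i m x
  have hxV : x.1 ∈ U.ι ''ᵁ V := i.le x.2
  have hxU := mem_of_mem_image U hxV
  let V' : (U : Scheme.{u}).Opens := U.ι ⁻¹ᵁ W
  have hV'V : V' ≤ V := fun y hy => mem_of_mem_image' U (i.le hy) y.2
  let y₀ : V' := ⟨⟨x.1, hxU⟩, x.2⟩
  have hle : U.ι ''ᵁ V' ≤ W := U.ι.image_preimage_le W
  let m' : Γ(F.restrict U.ι, V') := toRes U.ι F (F.presheaf.map (homOfLE hle).op m)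
  obtain ⟨W'', hW'', k, n, hn⟩ := isLocSect_of_mem h V' (homOfLE hV'V) m' y₀
  refine ⟨U.ι ''ᵁ W'', ⟨y₀.1, hW'', rfl⟩,
    homOfLE ((U.ι.image_mono k.le).trans hle), n, fun z => ?_⟩
  have hzU := mem_of_mem_image U z.2
  have hzW'' := mem_of_mem_image' U z.2 hzU
  have e := hn ⟨⟨z.1, hzU⟩, hzW''⟩
  have e4 : (τ U.ι F ⟨z.1, hzU⟩).symm
      (F.presheaf.germ W z.1 (((U.ι.image_mono k.le).trans hle) z.2) m) =
      (F.restrict U.ι).presheaf.germ V' ⟨z.1, hzU⟩ (k.le hzW'') m' := by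
    apply (τ U.ι F ⟨z.1, hzU⟩).injective
    rw [AddEquiv.apply_symm_apply, τ_germ]
    exact (TopCat.Presheaf.germ_res_apply F.presheaf (homOfLE hle) z.1 _ m).symm
  rw [backFam_apply U F G h z.1 _ hzU, e4]
  erw [e]
  rw [τ_germ]
  rfl

/-- the section of `𝓗om(F, G)` over `U.ι ''ᵁ V` attached to a section of `𝓗om(F|_U, G|_U)` -/
noncomputable def back {V : (U : Scheme.{u}).Opens}
    (h : Γ(homSh (F.restrict U.ι) (G.restrict U.ι), V)) : Γ(homSh F G, U.ι ''ᵁ V) :=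
  ⟨backFam U F G h, isLocSect_backFam U F G h⟩


lemma α_app_eq_imp (V : (U : Scheme.{u}).Opens) (g₁ g₂ : Γ(homSh F G, U.ι ''ᵁ V))
    (hg : (α U F G).app V (toRes U.ι (homSh F G) g₁) =
      (α U F G).app V (toRes U.ι (homSh F G) g₂)) : g₁ = g₂ := by
  have key : ∀ x : ↥(U.ι ''ᵁ V), g₁.1 x = g₂.1 x := by
    intro x
    have hxU := mem_of_mem_image U x.2
    have hxV := mem_of_mem_image' U x.2 hxU
    apply LinearMap.ext
    intro v
    obtain ⟨w, rfl⟩ := (τ U.ι F ⟨x.1, hxU⟩).surjective v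
    have e1 := τ_α_apply U F G g₁ ⟨⟨x.1, hxU⟩, hxV⟩ w
    have e2 := τ_α_apply U F G g₂ ⟨⟨x.1, hxU⟩, hxV⟩ w
    have e3 := congrArg (fun t : Γ(homSh (F.restrict U.ι) (G.restrict U.ι), V) =>
      τ U.ι G ⟨x.1, hxU⟩ (t.1 ⟨⟨x.1, hxU⟩, hxV⟩ w)) hg
    exact e1.symm.trans (e3.trans e2)
  exact sec_ext key

/-- inverse of `toRes` -/
def ofRes {X Y : Scheme.{u}} (f : X ⟶ Y) [IsOpenImmersion f] (M : Y.Modules) {U : X.Opens}
    (t : Γ(M.restrict f, U)) : Γ(M, f ''ᵁ U) := t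

lemma toRes_ofRes {X Y : Scheme.{u}} (f : X ⟶ Y) [IsOpenImmersion f] (M : Y.Modules) {U : X.Opens}
    (t : Γ(M.restrict f, U)) : toRes f M (ofRes f M t) = t := rfl

lemma α_app_injective (V : (U : Scheme.{u}).Opens) :
    Function.Injective ((α U F G).app V) := by
  intro g₁ g₂ hg
  have hg' : (α U F G).app V (toRes U.ι (homSh F G) (ofRes U.ι (homSh F G) g₁)) =
      (α U F G).app V (toRes U.ι (homSh F G) (ofRes U.ι (homSh F G) g₂)) := hg
  have h1 := α_app_eq_imp U F G V (ofRes U.ι (homSh F G) g₁) (ofRes U.ι (homSh F G) g₂) hg'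
  have h2 := congrArg (toRes U.ι (homSh F G)) h1
  have h3 := (toRes_ofRes U.ι (homSh F G) g₁).symm.trans (h2.trans (toRes_ofRes U.ι (homSh F G) g₂))
  exact h3

lemma α_app_back (V : (U : Scheme.{u}).Opens)
    (h : Γ(homSh (F.restrict U.ι) (G.restrict U.ι), V)) :
    (α U F G).app V (toRes U.ι (homSh F G) (back U F G h)) = h := by
  apply sec_ext
  intro y
  apply LinearMap.ext
  intro v
  apply (τ U.ι G y.1).injective
  rw [τ_α_apply]
  exact congrArg (τ U.ι G y.1) (congrArg (h.1 y) ((τ U.ι F y.1).symm_apply_apply v))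

lemma α_app_surjective (V : (U : Scheme.{u}).Opens) :
    Function.Surjective ((α U F G).app V) :=
  fun h => ⟨toRes U.ι (homSh F G) (back U F G h), α_app_back U F G V h⟩

instance isIso_α : IsIso (α U F G) := by
  rw [Scheme.Modules.Hom.isIso_iff_isIso_app]
  intro V
  rw [ConcreteCategory.isIso_iff_bijective]
  exact ⟨α_app_injective U F G V, α_app_surjective U F G V⟩

/-- `𝓗om(F, G)|_U ≅ 𝓗om(F|_U, G|_U)` -/
noncomputable def αIso : (homSh F G).restrict U.ι ≅ homSh (F.restrict U.ι) (G.restrict U.ι) :=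
  asIso (α U F G)

end Groth.Agent.Helper24.ResHom
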