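import Mathlib
import Groth.Agent.Lib.Helper24.ResHom2

/-!
# The sheaf Hom commutes with restriction to an open subscheme, III (helper24)

Naturality of `α : 𝓗om(F, G)|_U ⟶ 𝓗om(F|_U, G|_U)` in `G`; the natural isomorphism
`𝓗om(F, -) ⋙ (-)|_U ≅ (-)|_U ⋙ 𝓗om(F|_U, -)`.
-/

set_option autoImplicit false
set_option maxHeartbeats 400000
universe u
open CategoryTheory CategoryTheory.Limits AlgebraicGeometry Opposite TopologicalSpace TensorProduct
open Groth.Agent.Helper13.QCoh Groth.Agent.Helper13.FinType Groth.Agent.Helper13.Inv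
open Groth.Agent.Helper13.Tensor Groth.Agent.Helper13.TensorFunctor RefHull
open Groth.Agent.Lead.HomSh Groth.Agent.Helper13.HomShAff Groth.Agent.Helper13.TensorHom
open Groth.Agent.Helper29.SHomA

namespace Groth.Agent.Helper24.ResHom

/-- naturality of `restrictHom` in the first variable -/
lemma restrictHom_natural₁ {X Y : Scheme.{u}} (f : Y ⟶ X) [IsOpenImmersion f]
    {A A' : X.Modules} (k : A ⟶ A') (B : X.Modules) :
    Groth.Agent.Helper13.Tensor.map ((Scheme.Modules.restrictFunctor f).map k)
        (𝟙 (B.restrict f)) ≫ restrictHom f A' B =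
      restrictHom f A B ≫
        (Scheme.Modules.restrictFunctor f).map (Groth.Agent.Helper13.Tensor.map k (𝟙 B)) := by
  apply Groth.Agent.Helper13.Tensor.hom_ext
  intro V m n
  rw [Scheme.Modules.Hom.comp_app, Scheme.Modules.Hom.comp_app, ConcreteCategory.comp_apply,
    ConcreteCategory.comp_apply, map_app_tmul]
  have e1 : (restrictHom f A' B).app V (tmul (A'.restrict f) (B.restrict f)
      (((Scheme.Modules.restrictFunctor f).map k).app V m) ((𝟙 (B.restrict f) : _ ⟶ _).app V n)) =
      toRes f (CohB1.tensorMod A' B) (tmul A' B (k.app (f ''ᵁ V) (ofRes f A m)) (ofRes f B n)) :=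
    restrictHom_app_tmul f A' B (k.app (f ''ᵁ V) (ofRes f A m)) (ofRes f B n)
  have e2 : (restrictHom f A B).app V (tmul (A.restrict f) (B.restrict f) m n) =
      toRes f (CohB1.tensorMod A B) (tmul A B (ofRes f A m) (ofRes f B n)) :=
    restrictHom_app_tmul f A B (ofRes f A m) (ofRes f B n)
  rw [e1, e2]
  have e3 := map_app_tmul k (𝟙 B) (ofRes f A m) (ofRes f B n)
  exact congrArg (toRes f (CohB1.tensorMod A' B)) e3.symm

variable {X : Scheme.{u}} (U : X.Opens) (F : X.Modules)

/-- `𝓗om(F, g)` with clean types -/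
noncomputable def homMap (F : X.Modules) {G G' : X.Modules} (g : G ⟶ G') :
    homSh F G ⟶ homSh F G' := curry (ev F G ≫ g)

lemma homFun_map' (F : X.Modules) {G G' : X.Modules} (g : G ⟶ G') :
    (homFun F).map g = homMap F g := homFun_map F g

lemma map_homMap_ev (F : X.Modules) {G G' : X.Modules} (g : G ⟶ G') :
    Groth.Agent.Helper13.Tensor.map (homMap F g) (𝟙 F) ≫ ev F G' = ev F G ≫ g :=
  uncurry_curry (ev F G ≫ g)

lemma β_natural {G G' : X.Modules} (g : G ⟶ G') :
    Groth.Agent.Helper13.Tensor.map ((Scheme.Modules.restrictFunctor U.ι).map (homMap F g))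
        (𝟙 (F.restrict U.ι)) ≫ β U F G' =
      β U F G ≫ (Scheme.Modules.restrictFunctor U.ι).map g := by
  unfold β
  have h1 := restrictHom_natural₁ U.ι (homMap F g) F
  rw [← Category.assoc, h1, Category.assoc, Category.assoc, ← Functor.map_comp,
    ← Functor.map_comp, map_homMap_ev]

lemma α_natural' {G G' : X.Modules} (g : G ⟶ G') :
    (Scheme.Modules.restrictFunctor U.ι).map (homMap F g) ≫ α U F G' =
      α U F G ≫ homMap (F.restrict U.ι) ((Scheme.Modules.restrictFunctor U.ι).map g) := by
  apply uncurry_injective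
  rw [uncurry_comp, uncurry_comp]
  have e1 : uncurry (α U F G') = β U F G' := uncurry_curry _
  have e2 : uncurry (homMap (F.restrict U.ι) ((Scheme.Modules.restrictFunctor U.ι).map g)) =
      ev (F.restrict U.ι) (G.restrict U.ι) ≫ (Scheme.Modules.restrictFunctor U.ι).map g :=
    uncurry_curry _
  have e3 : Groth.Agent.Helper13.Tensor.map (α U F G) (𝟙 (F.restrict U.ι)) ≫
      ev (F.restrict U.ι) (G.restrict U.ι) = β U F G := uncurry_curry (β U F G)
  rw [e1, e2, β_natural, ← Category.assoc, e3]

lemma α_natural {G G' : X.Modules} (g : G ⟶ G') :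
    (homFun F ⋙ Scheme.Modules.restrictFunctor U.ι).map g ≫ (αIso U F G').hom =
      (αIso U F G).hom ≫
        (Scheme.Modules.restrictFunctor U.ι ⋙ homFun (F.restrict U.ι)).map g := by
  have h1 : (homFun F ⋙ Scheme.Modules.restrictFunctor U.ι).map g =
      (Scheme.Modules.restrictFunctor U.ι).map (homMap F g) := by
    rw [Functor.comp_map, homFun_map']
    rfl
  have h2 : (Scheme.Modules.restrictFunctor U.ι ⋙ homFun (F.restrict U.ι)).map g =
      homMap (F.restrict U.ι) ((Scheme.Modules.restrictFunctor U.ι).map g) := by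
    rw [Functor.comp_map, homFun_map']
  rw [h1, h2]
  exact α_natural' U F g

/-- `𝓗om(F, -) ⋙ (-)|_U ≅ (-)|_U ⋙ 𝓗om(F|_U, -)` -/
noncomputable def αNatIso :
    homFun F ⋙ Scheme.Modules.restrictFunctor U.ι ≅
      Scheme.Modules.restrictFunctor U.ι ⋙ homFun (F.restrict U.ι) :=
  NatIso.ofComponents (fun G => αIso U F G) (fun g => α_natural U F g)

end Groth.Agent.Helper24.ResHom
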