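import Mathlib
import Groth.Agent.Lib.Helper24.ResHom3
import Groth.Agent.Lib.Helper24.ExtTw2
import Groth.Agent.Lib.Helper17.IR1

/-!
# Ext sheaves commute with restriction to an open subscheme (helper24)
-/

set_option autoImplicit false
set_option maxHeartbeats 400000
universe u
open CategoryTheory CategoryTheory.Limits AlgebraicGeometry Opposite TopologicalSpace TensorProduct
open Groth.Agent.Helper13.QCoh Groth.Agent.Helper13.FinType Groth.Agent.Helper13.Inv
open Groth.Agent.Helper13.Tensor Groth.Agent.Helper13.TensorFunctor RefHull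
open Groth.Agent.Lead.HomSh Groth.Agent.Helper13.HomShAff Groth.Agent.Helper13.TensorHom
open Groth.Agent.Helper29.SHomA

namespace Groth.Agent.Helper24.ResHom

variable {X : Scheme.{u}} (U : X.Opens) (F : X.Modules)

/-- the chosen internal Hom commutes with restriction to an open subscheme -/
noncomputable def sheafHomRestrictIso [ModSite.HasSheafHom (O := X.sheaf) F]
    [ModSite.HasSheafHom (O := (↑U : Scheme.{u}).sheaf) (F.restrict U.ι)] :
    (ModSite.sheafHom (O := X.sheaf) F : X.Modules ⥤ X.Modules) ⋙
        Scheme.Modules.restrictFunctor U.ι ≅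
      Scheme.Modules.restrictFunctor U.ι ⋙
        (ModSite.sheafHom (O := (↑U : Scheme.{u}).sheaf) (F.restrict U.ι) :
          (↑U : Scheme.{u}).Modules ⥤ (↑U : Scheme.{u}).Modules) :=
  Functor.isoWhiskerRight (sheafHomIso F) (Scheme.Modules.restrictFunctor U.ι) ≪≫
    αNatIso U F ≪≫
    Functor.isoWhiskerLeft (Scheme.Modules.restrictFunctor U.ι)
      (sheafHomIso (F.restrict U.ι)).symm

theorem main11328 (G : X.Modules) (i : ℕ)
    [ModSite.HasSheafHom (O := X.sheaf) F] [HasInjectiveResolutions (ModSite.Mod X.sheaf)]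
    [ModSite.HasSheafHom (O := (↑U : Scheme.{u}).sheaf) (F.restrict U.ι)]
    [HasInjectiveResolutions (ModSite.Mod (↑U : Scheme.{u}).sheaf)] :
    Nonempty ((Scheme.Modules.restrictFunctor U.ι).obj
        ((ModSite.extSh (O := X.sheaf) F i).obj G) ≅
      (ModSite.extSh (O := (↑U : Scheme.{u}).sheaf) (F.restrict U.ι) i).obj
        (G.restrict U.ι)) := by
  haveI : EnoughInjectives (ModSite.Mod X.sheaf) :=
    Groth.Agent.Helper24.ExtSS.enoughInjectives_of_hasInjectiveResolutions _
  haveI : EnoughInjectives X.Modules := ‹EnoughInjectives (ModSite.Mod X.sheaf)›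
  haveI : EnoughInjectives (ModSite.Mod (↑U : Scheme.{u}).sheaf) :=
    Groth.Agent.Helper24.ExtSS.enoughInjectives_of_hasInjectiveResolutions _
  haveI : EnoughInjectives (↑U : Scheme.{u}).Modules :=
    ‹EnoughInjectives (ModSite.Mod (↑U : Scheme.{u}).sheaf)›
  let r : X.Modules ⥤ (↑U : Scheme.{u}).Modules := Scheme.Modules.restrictFunctor U.ι
  let K : X.Modules ⥤ X.Modules := ModSite.sheafHom (O := X.sheaf) F
  let H : (↑U : Scheme.{u}).Modules ⥤ (↑U : Scheme.{u}).Modules :=
    ModSite.sheafHom (O := (↑U : Scheme.{u}).sheaf) (F.restrict U.ι)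
  haveI : PreservesFiniteLimits r := CxOX.preservesFiniteLimits_restrictFunctor U.ι
  haveI : PreservesFiniteColimits r := CxOX.preservesFiniteColimits_restrictFunctor U.ι
  haveI : r.Additive := by
    haveI := preservesBinaryBiproducts_of_preservesBinaryProducts r
    exact Functor.additive_of_preservesBinaryBiproducts r
  haveI : K.Additive := ModSite.sheafHom_additive (O := X.sheaf) F
  haveI : H.Additive := ModSite.sheafHom_additive (O := (↑U : Scheme.{u}).sheaf) (F.restrict U.ι)
  haveI : PreservesFiniteLimits K := Groth.Agent.Helper24.ExtTw.preservesFiniteLimits_sheafHom F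
  haveI : PreservesFiniteLimits H :=
    Groth.Agent.Helper24.ExtTw.preservesFiniteLimits_sheafHom (F.restrict U.ι)
  have hU : ∀ Q : X.Modules, Injective Q → ∀ k : ℕ,
      IsZero ((H.rightDerived (k + 1)).obj (r.obj Q)) := by
    intro Q hQ k
    haveI : Injective (r.obj Q) := Groth.Agent.Helper17.IR.main11327 X U Q hQ
    exact Functor.isZero_rightDerived_obj_injective_succ H k (r.obj Q)
  obtain ⟨e⟩ := Groth.Agent.Helper24.LC.nonempty_comparison r r K H
    (sheafHomRestrictIso U F) hU i
  exact ⟨e.app G⟩

end Groth.Agent.Helper24.ResHom
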