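import Mathlib
import Groth.Agent.Lib.Helper24.CohExt1
import Groth.Agent.Lib.Helper24.RelExt11
import Groth.Agent.Lib.Helper24.ResHom4
import Groth.Agent.Lib.Helper24.LC6
import Groth.Agent.Lib.Lead.HomSh4
import Groth.Agent.Lib.Helper13.FinTypeRestrict
import Groth.Agent.Lib.Helper13.LocFree4
import Groth.Agent.Lib.Helper13.LocGen3
import Groth.Agent.Lib.Helper13.StalkBasis5
import Groth.Agent.Lib.Helper13.ResFinLocFree
import Groth.Agent.Lib.Helper13.QCohKer
import Groth.Agent.Lib.Helper13.ExtQCoh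

/-!
# Coherence of the Ext sheaves of coherent modules on a Noetherian scheme (helper24)
-/

set_option autoImplicit false
set_option maxHeartbeats 400000
set_option linter.style.haveILetI false
universe u
open CategoryTheory CategoryTheory.Limits AlgebraicGeometry Opposite TopologicalSpace

namespace Groth.Agent.Helper24.CohExt

open Groth.Agent.Helper24.RelExt
open Groth.Agent.Helper13.QCoh Groth.Agent.Helper13.FinType Groth.Agent.Helper13.LocFree

variable {Y : Scheme.{u}}

/-- coherence is invariant under isomorphisms -/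
theorem isCoh_of_iso {M N : Y.Modules} (e : M ≅ N) (hM : Coh.IsCoh M) : Coh.IsCoh N := by
  haveI := hM.1
  haveI := hM.2
  exact ⟨Groth.Agent.Helper13.QCohLocal.isQuasicoherent_of_iso e,
    Groth.Agent.Helper13.FinType.isFiniteType_of_epi e.hom⟩

/-- finite type is a local property -/
theorem isFiniteType_of_local (M : Y.Modules)
    (h : ∀ x : Y, ∃ V : Y.Opens, x ∈ V ∧
      SheafOfModules.IsFiniteType (R := (V : Scheme.{u}).ringCatSheaf) (M.restrict V.ι)) :
    SheafOfModules.IsFiniteType (R := Y.ringCatSheaf) M := by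
  apply isFiniteType_of_genOn
  intro x
  obtain ⟨V, hxV, hV⟩ := h x
  obtain ⟨y, rfl⟩ : ∃ y : (V : Scheme.{u}), V.ι.base y = x := ⟨⟨x, hxV⟩, rfl⟩
  obtain ⟨U', hyU', I, hI, s, hs⟩ := exists_genOn_of_isFiniteType (M.restrict V.ι) y
  have h2 := LocGenOn.of_restrict V.ι M U' s (LocGenOn.of_genOn hs)
  exact ⟨V.ι ''ᵁ U', ⟨y, hyU', rfl⟩, I, hI, _, GenOn.of_locGenOn h2⟩

/-- coherence is a local property -/
theorem isCoh_of_local (M : Y.Modules)
    (h : ∀ x : Y, ∃ V : Y.Opens, x ∈ V ∧ Coh.IsCoh (M.restrict V.ι)) : Coh.IsCoh M := by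
  refine ⟨?_, ?_⟩
  · apply Groth.Agent.Helper13.Ext.isQuasicoherent_of_forall_exists_restrict
    intro x
    obtain ⟨V, hxV, hV⟩ := h x
    exact ⟨V, hxV, hV.1⟩
  · apply isFiniteType_of_local
    intro x
    obtain ⟨V, hxV, hV⟩ := h x
    exact ⟨V, hxV, hV.2⟩

/-- the restriction of a coherent module to an open subscheme is coherent -/
theorem isCoh_restrict (M : Y.Modules) (hM : Coh.IsCoh M) (V : Y.Opens) :
    Coh.IsCoh (M.restrict V.ι) := by
  haveI := hM.1
  haveI := hM.2
  exact ⟨inferInstance, isFiniteType_restrict V.ι M⟩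

/-- finite locally free modules are coherent -/
theorem isCoh_of_isFinLocFree (L : Y.Modules) (hL : FlatMod.IsFinLocFree L) : Coh.IsCoh L := by
  haveI : L.IsQuasicoherent :=
    Groth.Agent.Helper13.ResFinLocFree.isQuasicoherent_of_isFinLocFree L hL
  haveI : SheafOfModules.IsFinitePresentation (R := Y.ringCatSheaf) L :=
    isFinitePresentation_of_isFinLocFree L hL
  exact ⟨inferInstance, inferInstance⟩

/-- the kernel of a morphism of coherent modules on a locally Noetherian scheme is coherent -/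
theorem isCoh_kernel [IsLocallyNoetherian Y] {M N : Y.Modules} (hM : Coh.IsCoh M)
    (hN : Coh.IsCoh N) (φ : M ⟶ N) : Coh.IsCoh (kernel φ) := by
  haveI : M.IsQuasicoherent := hM.1
  haveI : N.IsQuasicoherent := hN.1
  haveI : SheafOfModules.IsFiniteType (R := Y.ringCatSheaf) M := hM.2
  haveI hq : (kernel φ).IsQuasicoherent := Groth.Agent.Helper13.QCohLocal.isQuasicoherent_kernel φ
  refine ⟨hq, ?_⟩
  apply isFiniteType_of_finite_sections (kernel φ)
  intro x
  obtain ⟨_, ⟨U, hU, rfl⟩, hxU, -⟩ :=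
    Y.isBasis_affineOpens.exists_subset_of_mem_open (Set.mem_univ x) isOpen_univ
  refine ⟨U, hxU, hU, ?_⟩
  haveI : IsNoetherianRing Γ(Y, U) := IsLocallyNoetherian.component_noetherian ⟨U, hU⟩
  haveI : Module.Finite Γ(Y, U) Γ(M, U) := finite_sections_of_isFiniteType M hU
  let ι : Γ(kernel φ, U) →ₗ[Γ(Y, U)] Γ(M, U) :=
    { toFun := fun t => (kernel.ι φ).app U t
      map_add' := fun a b => map_add _ a b
      map_smul' := fun r t => Scheme.Modules.Hom.app_smul (kernel.ι φ) r t }
  have hinj : Function.Injective ι := (mono_iff_app_injective (kernel.ι φ)).1 inferInstance U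
  exact Module.Finite.of_injective ι hinj

/-- coherent modules on an affine scheme are quotients of finite free modules -/
theorem exists_epi_freeMod [IsAffine Y] (M : Y.Modules) (hM : Coh.IsCoh M) :
    ∃ (L : Y.Modules) (π : L ⟶ M), FlatMod.IsFinLocFree L ∧ Epi π := by
  haveI := hM.1
  haveI := hM.2
  haveI : Module.Finite Γ(Y, ⊤) Γ(M, ⊤) :=
    finite_sections_of_isFiniteType M (isAffineOpen_top Y)
  obtain ⟨n, s, hs⟩ := Module.Finite.exists_fin (R := Γ(Y, ⊤)) (M := Γ(M, ⊤))
  refine ⟨FlatMod.freeMod Y n, descSec M s, isFinLocFree_freeMod n, ?_⟩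
  rw [Groth.Agent.Helper13.StalkBasis.epi_descSec_iff]
  intro y
  exact Groth.Agent.Helper13.StalkBasis.comb_surjective_of_span M s y trivial
    (genOn_of_span_eq_top M (isAffineOpen_top Y) s hs y trivial)

/-- coherent modules on an affine locally Noetherian scheme have resolutions by finite locally
free modules -/
theorem exists_resData_free [IsAffine Y] [IsLocallyNoetherian Y] (F : Y.Modules)
    (hF : Coh.IsCoh F) : ∃ R : ResData F, ∀ j, FlatMod.IsFinLocFree (R.Lx j) :=
  exists_resData (P := Coh.IsCoh) (Q := FlatMod.IsFinLocFree) isCoh_of_isFinLocFree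
    exists_epi_freeMod (fun f hM hN => isCoh_kernel hM hN f) F hF

/-- the homology of a short complex of coherent modules is coherent -/
theorem isCoh_homology [IsLocallyNoetherian Y] (S : ShortComplex Y.Modules)
    (h1 : Coh.IsCoh S.X₁) (h2 : Coh.IsCoh S.X₂) (h3 : Coh.IsCoh S.X₃) : Coh.IsCoh S.homology := by
  have hZ : Coh.IsCoh S.cycles :=
    isCoh_of_iso S.cyclesIsoKernel.symm (isCoh_kernel h2 h3 S.g)
  haveI := h1.1
  haveI := hZ.1
  haveI := hZ.2
  let eH : S.homology ≅ cokernel S.toCycles :=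
    IsColimit.coconePointUniqueUpToIso S.homologyIsCokernel (colimit.isColimit _)
  refine ⟨?_, ?_⟩
  · haveI := Groth.Agent.Helper13.QCohLocal.isQuasicoherent_cokernel S.toCycles
    exact Groth.Agent.Helper13.QCohLocal.isQuasicoherent_of_iso eH.symm
  · exact isFiniteType_of_epi S.homologyπ

end Groth.Agent.Helper24.CohExt
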