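import Mathlib
set_option autoImplicit false
set_option linter.unusedSectionVars false
universe u
open CategoryTheory CategoryTheory.Limits AlgebraicGeometry TopologicalSpace Opposite

/-!
Gluing morphisms of `O_X`-modules from a compatible family of linear maps on sections over affine opens.
-/

namespace Groth.Agent.Helper24.KoszMap

variable {X : Scheme.{u}}

/-- restriction of a section to a smaller open -/
noncomputable abbrev res (M : X.Modules) {U V : X.Opens} (h : U ≤ V) (m : Γ(M, V)) : Γ(M, U) :=
  M.presheaf.map (homOfLE h).op m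

theorem res_smul (M : X.Modules) {U V : X.Opens} (h : U ≤ V) (r : Γ(X, V)) (m : Γ(M, V)) :
    res M h (r • m) = X.presheaf.map (homOfLE h).op r • res M h m :=
  Scheme.Modules.map_smul M (homOfLE h) r m

theorem res_add (G : X.Modules) {U V : X.Opens} (h : U ≤ V) (m m' : Γ(G, V)) :
    res G h (m + m') = res G h m + res G h m' := map_add _ _ _

theorem res_zero (G : X.Modules) {U V : X.Opens} (h : U ≤ V) : res G h (0 : Γ(G, V)) = 0 :=
  map_zero _

theorem res_res (M : X.Modules) {U V W : X.Opens} (h : U ≤ V) (h' : V ≤ W) (m : Γ(M, W)) :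
    res M h (res M h' m) = res M (h.trans h') m := by
  have h1 : M.presheaf.map (homOfLE h').op ≫ M.presheaf.map (homOfLE h).op =
      M.presheaf.map (homOfLE (h.trans h')).op := by
    rw [← M.presheaf.map_comp]; rfl
  exact congr($h1 m)

/-- the action of a morphism of modules on sections, as a linear map -/
noncomputable def appLin {M N : X.Modules} (φ : M ⟶ N) (U : X.Opens) :
    Γ(M, U) →ₗ[Γ(X, U)] Γ(N, U) where
  toFun := φ.app U
  map_add' := map_add _
  map_smul' r x := Scheme.Modules.Hom.app_smul φ r x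

@[simp] theorem appLin_apply {M N : X.Modules} (φ : M ⟶ N) (U : X.Opens) (x : Γ(M, U)) :
    appLin φ U x = φ.app U x := rfl

theorem app_res {M N : X.Modules} (φ : M ⟶ N) {U V : X.Opens} (h : U ≤ V) (m : Γ(M, V)) :
    φ.app U (res M h m) = res N h (φ.app V m) :=
  congr($(φ.mapPresheaf.naturality (homOfLE h).op) m)

/-- sections agreeing on all affine opens inside `W` agree -/
theorem eq_of_affine (G : X.Modules) (W : X.Opens) (s t : Γ(G, W))
    (h : ∀ (U : X.affineOpens) (hle : U.1 ≤ W), res G hle s = res G hle t) :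
    s = t := by
  refine TopCat.Sheaf.eq_of_locally_eq' (⟨G.presheaf, G.isSheaf⟩ : TopCat.Sheaf Ab X)
    (fun i : {U : X.affineOpens // U.1 ≤ W} => i.1.1) W (fun i => homOfLE i.2) ?_ s t (fun i => ?_)
  · intro x hx
    obtain ⟨_, ⟨U, hU, rfl⟩, hxU, hUW⟩ := X.isBasis_affineOpens.exists_subset_of_mem_open hx W.2
    exact Opens.mem_iSup.mpr ⟨⟨⟨U, hU⟩, hUW⟩, hxU⟩
  · exact h i.1 i.2

/-- two morphisms of modules agreeing on sections over affine opens are equal -/
theorem hom_ext_affine {M N : X.Modules} (α β : M ⟶ N)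
    (h : ∀ (U : X.affineOpens) (m : Γ(M, U.1)), α.app U.1 m = β.app U.1 m) : α = β := by
  apply Scheme.Modules.hom_ext
  intro W
  ext m
  refine eq_of_affine N W _ _ (fun U hle => ?_)
  rw [← app_res, ← app_res]
  exact h U _

section Glue

variable (M N : X.Modules)
  (ψ : ∀ U : X.affineOpens, Γ(M, U.1) →ₗ[Γ(X, U.1)] Γ(N, U.1))
  (hψ : ∀ (U V : X.affineOpens) (h : V.1 ≤ U.1) (x : Γ(M, U.1)),
    ψ V (res M h x) = res N h (ψ U x))

/-- the affine opens form a basis -/
theorem isBasis_affine : Opens.IsBasis (Set.range (fun U : X.affineOpens => U.1)) := by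
  rw [Subtype.range_val]
  exact X.isBasis_affineOpens

include hψ in
theorem basisNat_nat (i j : (InducedCategory (Opens X) (fun U : X.affineOpens => U.1))ᵒᵖ)
    (g : i ⟶ j) (x : Γ(M, i.unop.1)) :
    ψ j.unop (M.presheaf.map ((inducedFunctor (fun U : X.affineOpens => U.1)).op.map g) x) =
      N.presheaf.map ((inducedFunctor (fun U : X.affineOpens => U.1)).op.map g) (ψ i.unop x) :=
  hψ i.unop j.unop (leOfHom g.unop.hom) x

/-- the family as a natural transformation on the basis -/
noncomputable def basisNat :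
    (inducedFunctor (fun U : X.affineOpens => U.1)).op ⋙ M.presheaf ⟶
      (inducedFunctor (fun U : X.affineOpens => U.1)).op ⋙ N.presheaf where
  app i := AddCommGrpCat.ofHom (ψ i.unop).toAddMonoidHom
  naturality i j g := by
    ext x
    exact basisNat_nat M N ψ hψ i j g x

/-- the glued map of abelian presheaves -/
noncomputable def gluedHom : M.presheaf ⟶ N.presheaf :=
  TopCat.Sheaf.restrictHomEquivHom M.presheaf
    (⟨N.presheaf, N.isSheaf⟩ : TopCat.Sheaf Ab X) isBasis_affine (basisNat M N ψ hψ)

theorem gluedHom_app_affine (U : X.affineOpens) (x : Γ(M, U.1)) :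
    (gluedHom M N ψ hψ).app (op U.1) x = ψ U x := by
  have h1 := TopCat.Sheaf.extend_hom_app M.presheaf
    (⟨N.presheaf, N.isSheaf⟩ : TopCat.Sheaf Ab X) isBasis_affine (basisNat M N ψ hψ) U
  exact congr($h1 x)

theorem gluedHom_naturality {W W' : X.Opens} (hle : W' ≤ W) (m : Γ(M, W)) :
    (gluedHom M N ψ hψ).app (op W') (res M hle m) =
      res N hle ((gluedHom M N ψ hψ).app (op W) m) :=
  congr($((gluedHom M N ψ hψ).naturality (homOfLE hle).op) m)

theorem gluedHom_smul (W : X.Opens) (r : Γ(X, W)) (m : Γ(M, W)) :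
    (gluedHom M N ψ hψ).app (op W) (r • m) = r • (gluedHom M N ψ hψ).app (op W) m := by
  refine eq_of_affine N W _ _ (fun U hle => ?_)
  rw [← gluedHom_naturality, res_smul, res_smul, gluedHom_app_affine M N ψ hψ U, map_smul,
    ← gluedHom_app_affine M N ψ hψ U, gluedHom_naturality]

/-- the morphism of modules glued from a compatible family on affine opens -/
noncomputable def glue : M ⟶ N :=
  ⟨PresheafOfModules.homMk (gluedHom M N ψ hψ) (fun W r m => gluedHom_smul M N ψ hψ W.unop r m)⟩

theorem glue_app (U : X.affineOpens) (x : Γ(M, U.1)) :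
    (glue M N ψ hψ).app U.1 x = ψ U x :=
  gluedHom_app_affine M N ψ hψ U x

end Glue

end Groth.Agent.Helper24.KoszMap
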