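import Mathlib
import Groth.Agent.Lib.Helper26.PnReg3
import Groth.Agent.Lib.Helper13.PnFin1
import Groth.Agent.Lib.Helper13.PnSerre
import Groth.Agent.Lib.Helper13.FinGlobGen
import Groth.Agent.Lib.Helper13.InvTwist
import Groth.Agent.Lib.Helper13.TensorFunctor
import Groth.Agent.Lib.Helper13.QCohFin
import Groth.Agent.S0844

/-!
# Regularity and one-step linear resolutions on `P^n_k`: general lemmas (helper24)
-/

set_option autoImplicit false
set_option linter.unusedSectionVars false
set_option linter.style.haveILetI false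
set_option linter.unusedVariables false
universe u
open CategoryTheory CategoryTheory.Limits AlgebraicGeometry Opposite TopologicalSpace
open Groth.Agent.Helper13.TwistSES Groth.Agent.Helper13.ToAbExact

namespace Groth.Agent.Helper24.PnRegRes

open Abelian in
/-- `H^p(X₃) = 0` and `H^{p+1}(X₂) = 0` give `H^{p+1}(X₁) = 0`. -/
theorem HH_subsingleton_X₁ {X : Scheme.{u}} (S : ShortComplex X.Modules) (hS : S.ShortExact)
    (p : ℕ) (h3 : Subsingleton (Coh.HH X S.X₃ p)) (h2 : Subsingleton (Coh.HH X S.X₂ (p + 1))) :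
    Subsingleton (Coh.HH X S.X₁ (p + 1)) := by
  have hS' := toAb_shortExact S hS
  refine subsingleton_of_forall_eq 0 fun x₁ => ?_
  obtain ⟨x₃, hx₃⟩ := Ext.covariant_sequence_exact₁ _ hS' x₁
    (Subsingleton.elim (α := Coh.HH X S.X₂ (p + 1)) _ _) (n₀ := p) rfl
  have h0 : x₃ = 0 := Subsingleton.elim (α := Coh.HH X S.X₃ p) x₃ 0
  rw [← hx₃, h0, Ext.zero_comp]
  rfl

open Abelian in
/-- `H^0(X₂) → H^0(X₃)` surjective and `H^1(X₂) = 0` give `H^1(X₁) = 0`. -/
theorem HH_subsingleton_X₁_of_surj {X : Scheme.{u}} (S : ShortComplex X.Modules)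
    (hS : S.ShortExact)
    (hsurj : Function.Surjective
      (Sheaf.H.map ((SheafOfModules.toSheaf X.ringCatSheaf).map S.g) 0))
    (h2 : Subsingleton (Coh.HH X S.X₂ 1)) : Subsingleton (Coh.HH X S.X₁ 1) := by
  have hS' := toAb_shortExact S hS
  refine subsingleton_of_forall_eq 0 fun x₁ => ?_
  obtain ⟨x₃, hx₃⟩ := Ext.covariant_sequence_exact₁ _ hS' x₁
    (Subsingleton.elim (α := Coh.HH X S.X₂ 1) _ _) (n₀ := 0) rfl
  obtain ⟨x₂, hx₂⟩ := hsurj x₃
  rw [← hx₃, ← hx₂, Sheaf.H.map_apply]
  change (x₂.comp (Ext.mk₀ _) (add_zero 0)).comp hS'.extClass _ = 0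
  rw [Ext.comp_assoc_of_second_deg_zero]
  have := hS'.comp_extClass
  change (x₂.comp ((Ext.mk₀ (S.map (toAbF X)).g).comp hS'.extClass (zero_add 1)) _) = 0
  rw [this]
  exact Ext.comp_zero x₂ _ _ _ _

section Pn

variable (k : Type u) [Field k] (n : ℕ)

open Groth.Agent.Helper13 Groth.Agent.Helper13.Tensor Groth.Agent.Helper13.TensorFunctor

/-- finite coproducts of quasi-coherent modules are quasi-coherent. -/
theorem isQuasicoherent_sigma_fin {X : Scheme.{u}} {b : ℕ} (M : Fin b → X.Modules)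
    (h : ∀ i, (M i).IsQuasicoherent) : (∐ M).IsQuasicoherent := by
  haveI := h
  haveI : (∏ᶜ M).IsQuasicoherent := Groth.Agent.Helper13.QCohFin.isQuasicoherent_pi M h
  exact Groth.Agent.Helper13.QCohLocal.isQuasicoherent_of_iso
    ((biproduct.isoProduct M).symm ≪≫ biproduct.isoCoproduct M)

/-- cohomology of a twist of a finite sum of twisting sheaves. -/
theorem HH_sigma_twist (b : ℕ) (a d : ℤ) (p : ℕ)
    (h : Subsingleton (Coh.HH (CohB1.ProjSpace n k) (Twist.twistProjSpace n k (a + d)) p)) :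
    Subsingleton (Coh.HH (CohB1.ProjSpace n k)
      (CohB1.tensorMod (∐ fun _ : Fin b => Twist.twistProjSpace n k a)
        (Twist.twistProjSpace n k d)) p) := by
  refine Groth.Agent.Helper13.PnSerre.subsingleton_sigma k
    (fun _ : Fin b => Twist.twistProjSpace n k a) (tensorRight (Twist.twistProjSpace n k d)) p
    (fun j => ?_)
  obtain ⟨e⟩ := Groth.Agent.Helper26.PnTwist.twist_tensor_iso n k a d
  exact Groth.Agent.Helper9.AffStrat.HH_subsingleton_of_iso e p h

/-- cohomology of a twist of a free module. -/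
theorem HH_free_twist (b : ℕ) (d : ℤ) (p : ℕ)
    (h : Subsingleton (Coh.HH (CohB1.ProjSpace n k) (Twist.twistProjSpace n k d) p)) :
    Subsingleton (Coh.HH (CohB1.ProjSpace n k)
      (CohB1.tensorMod (FlatMod.freeMod (CohB1.ProjSpace n k) b)
        (Twist.twistProjSpace n k d)) p) := by
  refine Groth.Agent.Helper13.PnSerre.subsingleton_sigma k
    (fun _ : Fin b => Coh.structureModule (CohB1.ProjSpace n k))
    (tensorRight (Twist.twistProjSpace n k d)) p (fun j => ?_)
  exact Groth.Agent.Helper9.AffStrat.HH_subsingleton_of_iso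
    (Tensor.lid (Twist.twistProjSpace n k d)) p h

/-- `H^p` of a free module. -/
theorem HH_free (b : ℕ) (p : ℕ)
    (h : Subsingleton (Coh.HH (CohB1.ProjSpace n k) (Twist.twistProjSpace n k 0) p)) :
    Subsingleton (Coh.HH (CohB1.ProjSpace n k) (FlatMod.freeMod (CohB1.ProjSpace n k) b) p) := by
  obtain ⟨e0⟩ := Groth.Agent.Helper13.PnFin.twist_zero_iso n k
  refine Groth.Agent.Helper13.PnSerre.subsingleton_sigma k
    (fun _ : Fin b => Coh.structureModule (CohB1.ProjSpace n k)) (𝟭 _) p (fun j => ?_)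
  exact Groth.Agent.Helper9.AffStrat.HH_subsingleton_of_iso e0.symm p h

end Pn

end Groth.Agent.Helper24.PnRegRes
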