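import Mathlib
import Groth.Agent.Lib.Helper24.PnRegRes1
import Groth.Agent.Lib.Helper5.CXA1
import Groth.Agent.S19605

/-!
# Mumford's lemma on `P^n_k`: general long-exact-sequence lemmas and the multiplication step
(helper24)
-/

set_option autoImplicit false
set_option linter.unusedSectionVars false
set_option linter.style.haveILetI false
set_option linter.unusedVariables false
universe u
open CategoryTheory CategoryTheory.Limits AlgebraicGeometry Opposite TopologicalSpace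
open Groth.Agent.Helper13.TwistSES Groth.Agent.Helper13.ToAbExact

namespace Groth.Agent.Helper24.PnMumford

section General

variable {X : Scheme.{u}}

open Abelian in
/-- `H^p(X₃) = 0` gives `H^p(X₁) → H^p(X₂)` surjective. -/
theorem surj_f_of_X₃ (S : ShortComplex X.Modules) (hS : S.ShortExact) (p : ℕ)
    (h3 : Subsingleton (Coh.HH X S.X₃ p)) :
    Function.Surjective
      (Sheaf.H.map ((SheafOfModules.toSheaf X.ringCatSheaf).map S.f) p) := by
  have hS' := toAb_shortExact S hS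
  intro y
  obtain ⟨x₁, hx₁⟩ := Ext.covariant_sequence_exact₂ _ hS' y
    (Subsingleton.elim (α := Coh.HH X S.X₃ p) _ _)
  exact ⟨x₁, hx₁⟩

open Abelian in
/-- `H^0(X₂) → H^0(X₃)` surjective gives `H^1(X₁) → H^1(X₂)` injective. -/
theorem inj_f_of_surj_g (S : ShortComplex X.Modules) (hS : S.ShortExact)
    (hsurj : Function.Surjective
      (Sheaf.H.map ((SheafOfModules.toSheaf X.ringCatSheaf).map S.g) 0)) :
    Function.Injective
      (Sheaf.H.map ((SheafOfModules.toSheaf X.ringCatSheaf).map S.f) 1) := by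
  have hS' := toAb_shortExact S hS
  rw [injective_iff_map_eq_zero]
  intro x₁ hx₁
  obtain ⟨x₃, hx₃⟩ := Ext.covariant_sequence_exact₁ _ hS' x₁ hx₁ (n₀ := 0) rfl
  obtain ⟨x₂, hx₂⟩ := hsurj x₃
  rw [← hx₃, ← hx₂, Sheaf.H.map_apply]
  change (x₂.comp (Ext.mk₀ _) (add_zero 0)).comp hS'.extClass _ = 0
  rw [Ext.comp_assoc_of_second_deg_zero]
  have := hS'.comp_extClass
  change (x₂.comp ((Ext.mk₀ (S.map (toAbF X)).g).comp hS'.extClass (zero_add 1)) _) = 0
  rw [this]
  exact Ext.comp_zero x₂ _ _ _ _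

open Abelian in
/-- `H^1(X₁) → H^1(X₂)` injective gives `H^0(X₂) → H^0(X₃)` surjective. -/
theorem surj_g_of_inj_f (S : ShortComplex X.Modules) (hS : S.ShortExact)
    (hinj : Function.Injective
      (Sheaf.H.map ((SheafOfModules.toSheaf X.ringCatSheaf).map S.f) 1)) :
    Function.Surjective
      (Sheaf.H.map ((SheafOfModules.toSheaf X.ringCatSheaf).map S.g) 0) := by
  have hS' := toAb_shortExact S hS
  intro x₃
  have hd : x₃.comp hS'.extClass (zero_add 1) = 0 := by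
    apply hinj
    refine Eq.trans ?_ (map_zero _).symm
    rw [Sheaf.H.map_apply]
    change (x₃.comp hS'.extClass (zero_add 1)).comp (Ext.mk₀ (S.map (toAbF X)).f)
      (add_zero 1) = 0
    rw [Ext.comp_assoc_of_third_deg_zero]
    have := hS'.extClass_comp
    change x₃.comp (hS'.extClass.comp (Ext.mk₀ (S.map (toAbF X)).f) (add_zero 1)) _ = 0
    rw [this]
    exact Ext.comp_zero x₃ _ _ _ _
  obtain ⟨x₂, hx₂⟩ := Ext.covariant_sequence_exact₃ _ hS' x₃ (n₁ := 1) rfl hd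
  exact ⟨x₂, hx₂⟩

/-- surjectivity on `H^0` is surjectivity on global sections. -/
theorem surj_H0_iff {M M' : X.Modules} (φ : M ⟶ M') :
    Function.Surjective
      (Sheaf.H.map ((SheafOfModules.toSheaf X.ringCatSheaf).map φ) 0) ↔
      ∀ t : Γ(M', ⊤), ∃ s : Γ(M, ⊤), φ.app ⊤ s = t := by
  let T : Opens X := ⊤
  have hTop : IsTerminal T := isTerminalTop
  constructor
  · intro h t
    obtain ⟨x, hx⟩ := h ((Sheaf.H.equiv₀ (Coh.toAb M') hTop).symm t)
    refine ⟨Sheaf.H.equiv₀ (Coh.toAb M) hTop x, ?_⟩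
    have hnat := Sheaf.H.equiv₀_naturality hTop
      ((SheafOfModules.toSheaf X.ringCatSheaf).map φ) x
    rw [hx] at hnat
    refine Eq.trans ?_ (hnat.trans ?_)
    · rfl
    · exact (Sheaf.H.equiv₀ (Coh.toAb M') hTop).apply_symm_apply t
  · intro h y
    obtain ⟨s, hs⟩ := h (Sheaf.H.equiv₀ (Coh.toAb M') hTop y)
    refine ⟨(Sheaf.H.equiv₀ (Coh.toAb M) hTop).symm s, ?_⟩
    rw [Sheaf.H.equiv₀_symm_naturality, AddEquiv.symm_apply_eq]
    exact hs

open Groth.Agent.Helper13.Tensor in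
/-- if `π` is surjective on global sections and `H^0(M') ⊗ H^0(N) → H^0(M' ⊗ N)` is surjective,
then `π ⊗ N` is surjective on global sections. -/
theorem surj_top_tensor {M M' : X.Modules} (N : X.Modules) (π : M ⟶ M')
    (hπ : ∀ t : Γ(M', ⊤), ∃ s : Γ(M, ⊤), π.app ⊤ s = t)
    (hmul : Function.Surjective
      ((toSheafify (Opens.grothendieckTopology X) (CohB1.tensorPre M' N).presheaf).app (op ⊤))) :
    ∀ y : Γ(CohB1.tensorMod M' N, ⊤), ∃ x : Γ(CohB1.tensorMod M N, ⊤),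
      (Groth.Agent.Helper13.Tensor.map π (𝟙 N)).app ⊤ x = y := by
  intro y
  obtain ⟨t, ht⟩ := hmul y
  have key : ∀ t : Sec (ptensor (CohB1.toPMod M') (CohB1.toPMod N)) ⊤,
      ∃ x : Γ(CohB1.tensorMod M N, ⊤),
        (Groth.Agent.Helper13.Tensor.map π (𝟙 N)).app ⊤ x = (ηpre M' N).app (op ⊤) t := by
    intro t
    refine secT_induction (CohB1.toPMod M') (CohB1.toPMod N)
      (p := fun t => ∃ x : Γ(CohB1.tensorMod M N, ⊤),
        (Groth.Agent.Helper13.Tensor.map π (𝟙 N)).app ⊤ x = (ηpre M' N).app (op ⊤) t)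
      ?_ ?_ ?_ t
    · exact ⟨0, (map_zero _).trans (map_zero _).symm⟩
    · intro m n
      obtain ⟨m', rfl⟩ := hπ m
      exact ⟨tmul M N m' n, map_app_tmul π (𝟙 N) m' n⟩
    · rintro a b ⟨xa, hxa⟩ ⟨xb, hxb⟩
      refine ⟨xa + xb, ?_⟩
      refine (map_add _ xa xb).trans ?_
      rw [hxa, hxb]
      exact (map_add ((ηpre M' N).app (op ⊤)).hom a b).symm
  obtain ⟨x, hx⟩ := key t
  exact ⟨x, hx.trans ht⟩

end General

section Pn

variable (k : Type u) [Field k] (n : ℕ)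

open Groth.Agent.Helper13 Groth.Agent.Helper13.Tensor

/-- the isomorphism `(M ⊗ O(a)) ⊗ O(b) ≅ M ⊗ O(a + b)`, naturally in `M`. -/
theorem twist_step_natural {M M' : (CohB1.ProjSpace n k).Modules} (π : M ⟶ M') (a b : ℤ) :
    ∃ (εM : CohB1.tensorMod (CohB1.tensorMod M (Twist.twistProjSpace n k a))
          (Twist.twistProjSpace n k b) ≅ CohB1.tensorMod M (Twist.twistProjSpace n k (a + b)))
      (εM' : CohB1.tensorMod (CohB1.tensorMod M' (Twist.twistProjSpace n k a))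
          (Twist.twistProjSpace n k b) ≅ CohB1.tensorMod M' (Twist.twistProjSpace n k (a + b))),
      Tensor.map (Tensor.map π (𝟙 (Twist.twistProjSpace n k a))) (𝟙 (Twist.twistProjSpace n k b)) ≫
          εM'.hom =
        εM.hom ≫ Tensor.map π (𝟙 (Twist.twistProjSpace n k (a + b))) := by
  obtain ⟨e⟩ := Groth.Agent.Helper26.PnTwist.twist_tensor_iso n k a b
  refine ⟨Tensor.assoc _ _ _ ≪≫ Tensor.mapIso (Iso.refl M) e,
    Tensor.assoc _ _ _ ≪≫ Tensor.mapIso (Iso.refl M') e, ?_⟩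
  have h1 := Groth.Agent.Helper5.CXA.assoc_naturality π (𝟙 (Twist.twistProjSpace n k a))
    (𝟙 (Twist.twistProjSpace n k b))
  rw [Tensor.map_id] at h1
  have h2 : Tensor.map π (𝟙 (CohB1.tensorMod (Twist.twistProjSpace n k a)
        (Twist.twistProjSpace n k b))) ≫ Tensor.map (𝟙 M') e.hom =
      Tensor.map (𝟙 M) e.hom ≫ Tensor.map π (𝟙 (Twist.twistProjSpace n k (a + b))) := by
    rw [← Tensor.map_comp, ← Tensor.map_comp, Category.comp_id, Category.id_comp,
      Category.comp_id, Category.id_comp]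
  change Tensor.map (Tensor.map π (𝟙 _)) (𝟙 _) ≫ (Tensor.assoc M' _ _).hom ≫
      Tensor.map (𝟙 M') e.hom =
    ((Tensor.assoc M _ _).hom ≫ Tensor.map (𝟙 M) e.hom) ≫ Tensor.map π (𝟙 _)
  rw [← Category.assoc, h1, Category.assoc, h2, Category.assoc]

/-- **The multiplication step**: if `M(j) → Q(j)` is surjective on global sections, `Q` is
`m`-regular and `j ≥ m`, then `M(j+1) → Q(j+1)` is surjective on global sections. -/
theorem surj_step (Q M : (CohB1.ProjSpace n k).Modules) (hQ : Coh.IsCoh Q) (m : ℤ)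
    (hreg : Curv2.IsMRegular k n Q m) (π : M ⟶ Q) (j : ℤ) (hj : m ≤ j)
    (h : ∀ t : Γ(CohB1.tensorMod Q (Twist.twistProjSpace n k j), ⊤),
      ∃ s : Γ(CohB1.tensorMod M (Twist.twistProjSpace n k j), ⊤),
        (Tensor.map π (𝟙 (Twist.twistProjSpace n k j))).app ⊤ s = t) :
    ∀ t : Γ(CohB1.tensorMod Q (Twist.twistProjSpace n k (j + 1)), ⊤),
      ∃ s : Γ(CohB1.tensorMod M (Twist.twistProjSpace n k (j + 1)), ⊤),
        (Tensor.map π (𝟙 (Twist.twistProjSpace n k (j + 1)))).app ⊤ s = t := by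
  have hmul := Groth.Agent.S19605.result k n Q hQ m j hj hreg 1
  have h1 : ((1 : ℕ) : ℤ) = 1 := Nat.cast_one
  rw [h1] at hmul
  obtain ⟨εM, εQ, hnat⟩ := twist_step_natural k n π j 1
  have hS := surj_top_tensor (Twist.twistProjSpace n k 1)
    (Tensor.map π (𝟙 (Twist.twistProjSpace n k j))) h hmul
  intro t
  obtain ⟨x, hx⟩ := hS (εQ.inv.app ⊤ t)
  refine ⟨εM.hom.app ⊤ x, ?_⟩
  have h2 := congrArg (fun φ => φ.app ⊤ x) hnat
  have h3 : εQ.hom.app ⊤ (εQ.inv.app ⊤ t) = t := by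
    have := congrArg (fun φ => φ.app ⊤ t) εQ.inv_hom_id
    exact this
  calc (Tensor.map π (𝟙 (Twist.twistProjSpace n k (j + 1)))).app ⊤ (εM.hom.app ⊤ x)
      = (εM.hom ≫ Tensor.map π (𝟙 (Twist.twistProjSpace n k (j + 1)))).app ⊤ x := rfl
    _ = (Tensor.map (Tensor.map π (𝟙 (Twist.twistProjSpace n k j)))
          (𝟙 (Twist.twistProjSpace n k 1)) ≫ εQ.hom).app ⊤ x := h2.symm
    _ = εQ.hom.app ⊤ ((Tensor.map (Tensor.map π (𝟙 (Twist.twistProjSpace n k j)))
          (𝟙 (Twist.twistProjSpace n k 1))).app ⊤ x) := rfl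
    _ = εQ.hom.app ⊤ (εQ.inv.app ⊤ t) := by rw [hx]
    _ = t := h3

end Pn

end Groth.Agent.Helper24.PnMumford
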