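import Mathlib
import Groth.Agent.Lib.Helper24.PnRegRes1
import Groth.Agent.Lib.Helper26.DevB
import Groth.Agent.Lib.Helper13.CohRoof
import Groth.Agent.Lib.Helper13.InvTensor
import Groth.Agent.Lib.Helper13.QCohPush
import Groth.Agent.Lib.Helper13.PushFinite
import Groth.Agent.Lib.Helper5.CI4
import Groth.Prelude.Def_W4c2seshadriposJets
import Groth.Prelude.Def_ClSub2

/-!
# Cohomology of powers of the ideal of a closed point twisted by an invertible module (helper24)
-/

set_option autoImplicit false
set_option linter.unusedSectionVars false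
set_option linter.style.haveILetI false
set_option linter.unusedVariables false
universe u
open CategoryTheory CategoryTheory.Limits AlgebraicGeometry Opposite TopologicalSpace
open Groth.Agent.Helper13.TwistSES Groth.Agent.Helper13.ToAbExact

namespace Groth.Agent.Helper24.PtIdeal

/-- a subsingleton space has Krull dimension at most zero. -/
theorem topologicalKrullDim_le_zero_of_subsingleton (T : Type*) [TopologicalSpace T]
    [Subsingleton T] : topologicalKrullDim T ≤ 0 := by
  unfold topologicalKrullDim
  haveI : Subsingleton (TopologicalSpace.IrreducibleCloseds T) := by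
    refine ⟨fun A B => ?_⟩
    apply TopologicalSpace.IrreducibleCloseds.ext
    ext t
    constructor
    · intro _
      obtain ⟨b, hb⟩ := B.isIrreducible.nonempty
      rwa [Subsingleton.elim t b]
    · intro _
      obtain ⟨a, ha⟩ := A.isIrreducible.nonempty
      rwa [Subsingleton.elim t a]
  exact Order.krullDim_nonpos_of_subsingleton

/-- a scheme proper over a field is Noetherian. -/
theorem isNoetherian_of_proper (k : Type u) [Field k] (X : Scheme.{u})
    [X.Over (Spec (CommRingCat.of k))] [IsProper (X ↘ (Spec (CommRingCat.of k)))] :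
    IsNoetherian X := by
  haveI : LocallyOfFiniteType (X ↘ Spec (CommRingCat.of k)) := inferInstance
  haveI : IsLocallyNoetherian X :=
    LocallyOfFiniteType.isLocallyNoetherian (X ↘ Spec (CommRingCat.of k))
  haveI : CompactSpace X :=
    QuasiCompact.compactSpace_of_compactSpace (X ↘ Spec (CommRingCat.of k))
  exact {}

variable {X : Scheme.{u}}

/-- the support of a power of the ideal of a closed point is contained in the point. -/
theorem support_pow_subset (x : X) (hx : IsClosed ({x} : Set X)) (a : ℕ) :
    (((W4c2seshadripos.pointIdeal x hx) ^ a).support : Set X) ⊆ {x} := by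
  cases a with
  | zero =>
    have h0 : ((W4c2seshadripos.pointIdeal x hx) ^ 0).support = ⊥ := by
      rw [pow_zero]
      rfl
    rw [h0]
    intro y hy
    exact absurd hy (by simp)
  | succ a =>
    have h1 : ((W4c2seshadripos.pointIdeal x hx) ^ (a + 1)).support =
        (W4c2seshadripos.pointIdeal x hx).support :=
      Scheme.IdealSheafData.support_pow_succ _ a
    rw [h1]
    unfold W4c2seshadripos.pointIdeal
    rw [Scheme.IdealSheafData.coe_support_vanishingIdeal]
    exact subset_rfl

/-- the support of `O/I ⊗ N` is contained in the support of `I`. -/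
theorem support_quot_tensor_subset (I : X.IdealSheafData) (N : X.Modules) :
    CohB1.support (CohB1.tensorMod (ClSub.quotMod I) N) ⊆ (I.support : Set X) := by
  refine (Groth.Agent.Helper26.PnReg.support_tensorMod_subset _ N).trans ?_
  intro y hy
  rw [← Scheme.IdealSheafData.range_subschemeι]
  by_contra hyr
  apply hy
  exact ModuleCat.subsingleton_of_isZero
    (Groth.Agent.Helper5.CI.isZero_stalk_pushforward I.subschemeι _ y hyr)

/-- `O/I` is coherent. -/
theorem isCoh_quotMod (I : X.IdealSheafData) : Coh.IsCoh (ClSub.quotMod I) := by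
  have hO := Groth.Agent.Helper13.CohRoof.isCoh_structureModule I.subscheme
  haveI := hO.1
  haveI := hO.2
  exact ⟨Groth.Agent.Helper13.QCohPush.isQuasicoherent_pushforward I.subschemeι _,
    (Groth.Agent.Helper13.PushFinite.isFiniteType_pushforward_iff I.subschemeι _).1 inferInstance⟩

/-- tensoring a coherent module with an invertible module gives a coherent module. -/
theorem isCoh_tensor_invertible (M N : X.Modules) (hM : Coh.IsCoh M) (hN : PicF.IsInvertible N) :
    Coh.IsCoh (CohB1.tensorMod M N) := by
  haveI := hM.1
  haveI := hM.2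
  haveI : N.IsQuasicoherent := Groth.Agent.Helper13.Inv.isQuasicoherent_of_isInvertible _ hN
  haveI : SheafOfModules.IsFiniteType (R := X.ringCatSheaf) N :=
    Groth.Agent.Helper13.GlobGen.isFiniteType_of_isInvertible _ hN
  exact ⟨inferInstance, Groth.Agent.Helper13.Tensor.isFiniteType_tensorMod _ _⟩

/-- the short exact sequence `0 → I → O → O/I → 0`. -/
noncomputable def idealSC (I : X.IdealSheafData) : ShortComplex X.Modules :=
  ShortComplex.mk (ClSub.idealModι I) (ClSub.toSubscheme I)
    (kernel.condition (ClSub.toSubscheme I))

theorem idealSC_shortExact (I : X.IdealSheafData) : (idealSC I).ShortExact :=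
  { exact := ShortComplex.exact_kernel (ClSub.toSubscheme I)
    mono_f := inferInstanceAs (Mono (kernel.ι (ClSub.toSubscheme I)))
    epi_g := Groth.Agent.Helper26.DevB.epi_unitToPush I.subschemeι }

/-- if the support of `I` is at most a point, then `H^{p+1}(I ⊗ N) = 0` as soon as
`H^{p+1}(O ⊗ N) = 0`, for `p > 0` and `N` invertible. -/
theorem HH_ideal_tensor [IsNoetherian X] (I : X.IdealSheafData)
    (x : X) (hI : (I.support : Set X) ⊆ {x})
    (N : X.Modules) (hN : PicF.IsInvertible N) (p : ℕ) (hp : 0 < p)
    (h : Subsingleton (Coh.HH X (CohB1.tensorMod (Coh.structureModule X) N) (p + 1))) :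
    Subsingleton (Coh.HH X (CohB1.tensorMod (ClSub.idealMod I) N) (p + 1)) := by
  have hS := tensorSC_shortExact (idealSC I) (idealSC_shortExact I) N hN
  have hQN : Coh.IsCoh (CohB1.tensorMod (ClSub.quotMod I) N) :=
    isCoh_tensor_invertible _ N (isCoh_quotMod I) hN
  have hsupp : CohB1.support (CohB1.tensorMod (ClSub.quotMod I) N) ⊆ {x} :=
    (support_quot_tensor_subset I N).trans hI
  have hdim : topologicalKrullDim (CohB1.support (CohB1.tensorMod (ClSub.quotMod I) N)) ≤ 0 := by
    haveI : Subsingleton (CohB1.support (CohB1.tensorMod (ClSub.quotMod I) N)) := by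
      refine ⟨fun a b => Subtype.ext ?_⟩
      rw [Set.mem_singleton_iff.1 (hsupp a.2), Set.mem_singleton_iff.1 (hsupp b.2)]
    exact topologicalKrullDim_le_zero_of_subsingleton _
  have h3 : Subsingleton (Coh.HH X (tensorSC (idealSC I) N).X₃ p) :=
    Groth.Agent.Helper26.PnReg.HH_subsingleton_of_supportDim_le_zero _ hQN hdim p hp
  exact Groth.Agent.Helper24.PnRegRes.HH_subsingleton_X₁ (tensorSC (idealSC I) N) hS p h3 h

end Groth.Agent.Helper24.PtIdeal
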