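import Mathlib
import Groth.Agent.Lib.Helper24.PtIdeal0
import Groth.Agent.Lib.Helper24.PnMumford1
import Groth.Agent.Lib.Helper24.KoszMap1
import Groth.Agent.S9514

/-!
# `H^1(m_x^{a+1} ⊗ N) → H^1(m_x^a ⊗ N)` is surjective (helper24)
-/

set_option autoImplicit false
set_option linter.unusedSectionVars false
set_option linter.style.haveILetI false
set_option linter.unusedVariables false
universe u
open CategoryTheory CategoryTheory.Limits AlgebraicGeometry Opposite TopologicalSpace
open Groth.Agent.Helper13.TwistSES Groth.Agent.Helper13.ToAbExact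

namespace Groth.Agent.Helper24.PtIdeal

section Abstract

variable {C : Type*} [Category C] [Abelian C]

/-- if `ι = ker π`, `ι'` is a monomorphism and `j ≫ ι' = ι`, then `j = ker (ι' ≫ π)`. -/
theorem exact_of_kernel_of_fac {A A' O Q : C} (ι : A ⟶ O) (ι' : A' ⟶ O) [Mono ι'] (π : O ⟶ Q)
    (w : ι ≫ π = 0) (hker : IsLimit (KernelFork.ofι ι w)) (j : A ⟶ A') (hj : j ≫ ι' = ι)
    (wj : j ≫ ι' ≫ π = 0) : (ShortComplex.mk j (ι' ≫ π) wj).Exact := by
  haveI : Mono ι := mono_of_isLimit_fork hker
  have hK : IsLimit (KernelFork.ofι j wj) :=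
    Fork.IsLimit.mk' _ fun s =>
      let l := KernelFork.IsLimit.lift' hker (s.ι ≫ ι')
        (by rw [Category.assoc]; exact KernelFork.condition s)
      ⟨l.1, by
        rw [← cancel_mono ι']
        simp only [Fork.ι_ofι, Category.assoc]
        rw [hj]
        exact l.2, fun {m} hm => by
        rw [← cancel_mono ι]
        have h2 : m ≫ ι = s.ι ≫ ι' := by
          rw [← hj, ← Category.assoc]
          congr 1
        exact h2.trans l.2.symm⟩
  exact ShortComplex.exact_of_f_is_kernel _ hK

end Abstract

variable {X : Scheme.{u}}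

/-- the support of `O/I` is contained in the support of `I`. -/
theorem support_quotMod_subset (I : X.IdealSheafData) :
    CohB1.support (ClSub.quotMod I) ⊆ (I.support : Set X) := by
  intro y hy
  rw [← Scheme.IdealSheafData.range_subschemeι]
  by_contra hyr
  apply hy
  exact ModuleCat.subsingleton_of_isZero
    (Groth.Agent.Helper5.CI.isZero_stalk_pushforward I.subschemeι _ y hyr)

/-- for `J ≤ J'` the ideal module of `J` maps to zero in `O/J'`. -/
theorem idealModι_comp_toSubscheme_of_le (J J' : X.IdealSheafData) (hle : J ≤ J') :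
    ClSub.idealModι J ≫ ClSub.toSubscheme J' = 0 := by
  apply Groth.Agent.Helper24.KoszMap.hom_ext_affine
  intro U s
  have h0 : (ClSub.toSubscheme J).app U.1 ((ClSub.idealModι J).app U.1 s) = 0 := by
    have := congrArg (fun φ => φ.app U.1 s) (kernel.condition (ClSub.toSubscheme J))
    exact this
  have hmem : ((ClSub.idealModι J).app U.1 s : Γ(X, U.1)) ∈ J.ideal U := by
    rw [← Scheme.IdealSheafData.ker_subschemeι_app]
    exact h0
  have hmem' := (Scheme.IdealSheafData.le_def.1 hle) U hmem
  rw [← Scheme.IdealSheafData.ker_subschemeι_app] at hmem'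
  exact hmem'

/-- the ideal module is coherent on a locally Noetherian scheme. -/
theorem isCoh_idealMod [IsLocallyNoetherian X] (I : X.IdealSheafData) :
    Coh.IsCoh (ClSub.idealMod I) :=
  (Groth.Agent.S9514.result X (Groth.Agent.Helper13.CohRoof.isCoh_structureModule X)
    (isCoh_quotMod I) (ClSub.toSubscheme I)).1

/-- for `J ≤ J'` with the support of `J` at most a point, and `N` invertible, nontriviality of
`H^1(J' ⊗ N)` implies nontriviality of `H^1(J ⊗ N)`. -/
theorem H1_nontrivial_of_le [IsNoetherian X] (J J' : X.IdealSheafData) (hle : J ≤ J') (x : X)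
    (hJ : (J.support : Set X) ⊆ {x}) (N : X.Modules) (hN : PicF.IsInvertible N)
    (h : Nontrivial (Coh.HH X (CohB1.tensorMod (ClSub.idealMod J') N) 1)) :
    Nontrivial (Coh.HH X (CohB1.tensorMod (ClSub.idealMod J) N) 1) := by
  have w := idealModι_comp_toSubscheme_of_le J J' hle
  let j : ClSub.idealMod J ⟶ ClSub.idealMod J' :=
    kernel.lift (ClSub.toSubscheme J') (ClSub.idealModι J) w
  have hj : j ≫ ClSub.idealModι J' = ClSub.idealModι J :=
    kernel.lift_ι (ClSub.toSubscheme J') (ClSub.idealModι J) w
  haveI hι : Mono (ClSub.idealModι J) := inferInstanceAs (Mono (kernel.ι (ClSub.toSubscheme J)))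
  haveI hι' : Mono (ClSub.idealModι J') :=
    inferInstanceAs (Mono (kernel.ι (ClSub.toSubscheme J')))
  haveI : Mono j := mono_of_mono_fac hj
  -- the cokernel embeds into `O/J`
  have wj : j ≫ ClSub.idealModι J' ≫ ClSub.toSubscheme J = 0 := by
    rw [← Category.assoc, hj]
    exact kernel.condition (ClSub.toSubscheme J)
  have hex := exact_of_kernel_of_fac (ClSub.idealModι J) (ClSub.idealModι J')
    (ClSub.toSubscheme J) (kernel.condition (ClSub.toSubscheme J))
    (kernelIsKernel (ClSub.toSubscheme J)) j hj wj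
  haveI hmono : Mono (cokernel.desc j (ClSub.idealModι J' ≫ ClSub.toSubscheme J) wj) :=
    hex.mono_cokernelDesc
  -- the short exact sequence `0 → J → J' → J'/J → 0`
  let S₁ : ShortComplex X.Modules := ShortComplex.mk j (cokernel.π j) (cokernel.condition j)
  have hS₁ : S₁.ShortExact :=
    { exact := ShortComplex.exact_cokernel j
      mono_f := inferInstanceAs (Mono j)
      epi_g := inferInstanceAs (Epi (cokernel.π j)) }
  have hT := tensorSC_shortExact S₁ hS₁ N hN
  have hC : Coh.IsCoh (cokernel j) :=
    (Groth.Agent.S9514.result X (isCoh_idealMod J) (isCoh_idealMod J') j).2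
  have hCN : Coh.IsCoh (CohB1.tensorMod (cokernel j) N) :=
    isCoh_tensor_invertible _ N hC hN
  have hsupp : CohB1.support (CohB1.tensorMod (cokernel j) N) ⊆ {x} := by
    refine (Groth.Agent.Helper26.PnReg.support_tensorMod_subset _ N).trans ?_
    intro y hy
    apply hJ
    apply support_quotMod_subset J
    intro hsub
    exact hy (Groth.Agent.Helper28.CohSub.subsingleton_stalk_of_mono
      (cokernel.desc j (ClSub.idealModι J' ≫ ClSub.toSubscheme J) wj) y hsub)
  have hdim : topologicalKrullDim (CohB1.support (CohB1.tensorMod (cokernel j) N)) ≤ 0 := by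
    haveI : Subsingleton (CohB1.support (CohB1.tensorMod (cokernel j) N)) := by
      refine ⟨fun a b => Subtype.ext ?_⟩
      rw [Set.mem_singleton_iff.1 (hsupp a.2), Set.mem_singleton_iff.1 (hsupp b.2)]
    exact topologicalKrullDim_le_zero_of_subsingleton _
  have h3 : Subsingleton (Coh.HH X (tensorSC S₁ N).X₃ 1) :=
    Groth.Agent.Helper26.PnReg.HH_subsingleton_of_supportDim_le_zero _ hCN hdim 1 Nat.one_pos
  have hsurj := Groth.Agent.Helper24.PnMumford.surj_f_of_X₃ (tensorSC S₁ N) hT 1 h3
  haveI : Nontrivial (Coh.HH X (tensorSC S₁ N).X₂ 1) := h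
  exact hsurj.nontrivial

theorem main15255 (k : Type u) [Field k]
    (X : Scheme.{u}) [X.Over (Spec (CommRingCat.of k))] [IsProper (X ↘ (Spec (CommRingCat.of k)))]
    [IsIntegral X] (x : X) (hx : IsClosed ({x} : Set X)) (L : X.Modules) (hL : PicF.IsInvertible L)
    (a m : ℕ) (ha : 0 < a) (hm : 0 < m)
    (h : Nontrivial (Coh.HH X (CohB1.tensorMod
      (ClSub.idealMod ((W4c2seshadripos.pointIdeal x hx) ^ a)) (CohB1.tensorPow L m)) 1)) :
    Nontrivial (Coh.HH X (CohB1.tensorMod
      (ClSub.idealMod ((W4c2seshadripos.pointIdeal x hx) ^ (a + 1))) (CohB1.tensorPow L m)) 1) := by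
  haveI := isNoetherian_of_proper k X
  have hle : (W4c2seshadripos.pointIdeal x hx) ^ (a + 1) ≤ (W4c2seshadripos.pointIdeal x hx) ^ a := by
    rw [Scheme.IdealSheafData.le_def]
    intro U
    rw [Scheme.IdealSheafData.ideal_pow, Scheme.IdealSheafData.ideal_pow]
    exact Ideal.pow_le_pow_right (Nat.le_succ a)
  exact H1_nontrivial_of_le _ _ hle x (support_pow_subset x hx (a + 1)) (CohB1.tensorPow L m)
    (Groth.Agent.Helper13.Inv.isInvertible_tensorPow L hL m) h

end Groth.Agent.Helper24.PtIdeal
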