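import Mathlib
import Groth.Prelude.Def_EtCore
import Groth.Prelude.Def_EtShriek2
import Groth.Agent.S0648

open CategoryTheory CategoryTheory.Limits AlgebraicGeometry Opposite
universe u
namespace Groth.Agent.Helper24.EtOpen

variable {U X : Scheme.{u}} (j : U ⟶ X) [hj : Etale j]

/-- site adjunction compEtale j ⊣ bc j -/
noncomputable def siteAdj : EtShriek.compEtale j ⊣ EtCoh.bc j :=
  MorphismProperty.Over.mapPullbackAdj EtCoh.etaleMP ⊤ j hj trivial

variable [EtShriek.JCont j]

noncomputable def resAdj : EtShriek.restrAlong j ⊣ EtCoh.push j :=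
  (siteAdj j).sheafPushforwardContinuous (E := AddCommGrpCat.{u+1}) U.smallEtaleTopology X.smallEtaleTopology

lemma resAdj_unit_app (G : EtCoh.Ab X) (T : X.Etale) :
    ((resAdj j).unit.app G).hom.app (op T) = G.obj.map ((siteAdj j).counit.app T).op := by
  simp [resAdj]

noncomputable def eIso : EtCoh.pull j ≅ EtShriek.restrAlong j :=
  Adjunction.leftAdjointUniq (EtCoh.pullPushAdj j) (resAdj j)

lemma unit_eIso (G : EtCoh.Ab X) :
    (EtCoh.pullPushAdj j).unit.app G ≫ (EtCoh.push j).map ((eIso j).hom.app G) = (resAdj j).unit.app G :=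
  Adjunction.unit_leftAdjointUniq_hom_app _ _ G

noncomputable def adjE : EtShriek.extZero j ⊣ EtCoh.pull j :=
  (EtShriek.extZeroAdj j).ofNatIsoRight (eIso j).symm

/-- the object `[U] = (U → X)` of `X.Etale` -/
noncomputable abbrev objOf : X.Etale := (EtShriek.compEtale j).obj (EtCoh.top U)

noncomputable abbrev toTop (T : X.Etale) : T ⟶ EtCoh.top X := (EtCore.topIsTerminal X).from T

/-- pullback of global sections along `j`, made explicit -/
lemma gsec_unit_eIso (G : EtCoh.Ab X) :
    (EtCore.gsec X).map ((EtCoh.pullPushAdj j).unit.app G) ≫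
      (EtCore.pushGsecIso j).hom.app ((EtCoh.pull j).obj G) ≫
        (EtCore.gsec U).map ((eIso j).hom.app G) = G.obj.map (toTop (objOf j)).op := by
  have h1 := (EtCore.pushGsecIso j).hom.naturality ((eIso j).hom.app G)
  rw [← h1, ← Category.assoc]
  have h2 : (EtCore.gsec X).map ((EtCoh.pullPushAdj j).unit.app G) ≫
      (EtCoh.push j ⋙ EtCore.gsec X).map ((eIso j).hom.app G) =
      (EtCore.gsec X).map ((resAdj j).unit.app G) := by
    rw [← unit_eIso, Functor.map_comp]
    rfl
  rw [h2]
  have h3 : (EtCore.gsec X).map ((resAdj j).unit.app G) =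
      G.obj.map ((siteAdj j).counit.app (EtCoh.top X)).op := resAdj_unit_app j G _
  rw [h3]
  have h4 : (EtCore.pushGsecIso j).hom.app ((EtShriek.restrAlong j).obj G) =
      G.obj.map ((EtShriek.compEtale j).map (EtCore.bcTopIso j).inv).op := rfl
  rw [h4]
  have key : (EtShriek.compEtale j).map (EtCore.bcTopIso j).inv ≫
      (siteAdj j).counit.app (EtCoh.top X) = toTop (objOf j) :=
    (EtCore.topIsTerminal X).hom_ext _ _
  have := congrArg (fun m => G.obj.map m.op) key
  simp only [op_comp, Functor.map_comp] at this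
  exact this

theorem E1 (M : AddCommGrpCat.{u+1}) :
    (EtCore.constAdj U).homEquiv _ _ ((EtCore.pullConstIso j).inv.app M ≫
      (eIso j).hom.app ((constantSheaf X.smallEtaleTopology AddCommGrpCat.{u+1}).obj M)) =
    (EtCore.constAdj X).unit.app M ≫
      ((constantSheaf X.smallEtaleTopology AddCommGrpCat.{u+1}).obj M).obj.map (toTop (objOf j)).op := by
  rw [Adjunction.homEquiv_naturality_right]
  have h1 : (EtCore.constAdj U).homEquiv _ _ ((EtCore.pullConstIso j).inv.app M) =
      (((EtCore.constAdj X).comp (EtCoh.pullPushAdj j)).ofNatIsoRight (EtCore.pushGsecIso j)).unit.app M := by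
    rw [EtCore.pullConstIso, Adjunction.leftAdjointUniq_inv_app,
      Adjunction.homEquiv_leftAdjointUniq_hom_app]
  rw [h1]
  simp only [Adjunction.ofNatIsoRight_unit, NatTrans.comp_app, Adjunction.comp_unit_app, Functor.whiskerLeft_app, Category.assoc]
  congr 1
  exact gsec_unit_eIso j _

end Groth.Agent.Helper24.EtOpen
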