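import Mathlib
import Groth.Prelude.Def_EtCore
import Groth.Prelude.Def_EtShriek2
import Groth.Agent.Lib.Helper24.EtOpen1

open CategoryTheory CategoryTheory.Limits AlgebraicGeometry Opposite
universe u
namespace Groth.Agent.Helper24.EtOpen

variable {X' Y' Z' : Scheme.{u}} (f : X' ⟶ Y') (t : Y' ⟶ Z') [hf : Etale f] [ht : Etale t]

instance : Etale (f ≫ t) := inferInstance

/-- composition of `compEtale` -/
noncomputable def siteComp : EtShriek.compEtale f ⋙ EtShriek.compEtale t ≅ EtShriek.compEtale (f ≫ t) :=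
  (MorphismProperty.Over.mapComp (P := EtCoh.etaleMP.{u}) ⊤ hf ht).symm

variable [EtShriek.JCont f] [EtShriek.JCont t] [EtShriek.JCont (f ≫ t)]
set_option linter.unusedSectionVars false

noncomputable def canIso : EtShriek.restrAlong t ⋙ EtShriek.restrAlong f ≅ EtShriek.restrAlong (f ≫ t) :=
  Functor.sheafPushforwardContinuousComp' (F := EtShriek.compEtale f) (G := EtShriek.compEtale t)
    (FG := EtShriek.compEtale (f ≫ t)) (siteComp f t) AddCommGrpCat.{u + 1}
    X'.smallEtaleTopology Y'.smallEtaleTopology Z'.smallEtaleTopology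

lemma canIso_hom_app (G : EtCoh.Ab Z') (T : X'.Etale) :
    ((canIso f t).hom.app G).hom.app (op T) = G.obj.map ((siteComp f t).inv.app T).op := by
  simp [canIso]

lemma pushComp_hom_app (H : EtCoh.Ab X') (T : Z'.Etale) :
    ((EtCoh.pushComp t f).hom.app H).hom.app (op T) =
      H.obj.map ((MorphismProperty.Over.pullbackComp (P := EtCoh.etaleMP) (Q := ⊤) f t).hom.app T).op := by
  simp [EtCoh.pushComp]
  rfl


lemma site_key (T : Z'.Etale) :
    (siteComp f t).inv.app ((EtCoh.bc (f ≫ t)).obj T) ≫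
      (EtShriek.compEtale t).map ((EtShriek.compEtale f).map
        ((MorphismProperty.Over.pullbackComp (P := EtCoh.etaleMP) (Q := ⊤) f t).hom.app T)) ≫
      (EtShriek.compEtale t).map ((siteAdj f).counit.app ((EtCoh.bc t).obj T)) ≫
      (siteAdj t).counit.app T = (siteAdj (f ≫ t)).counit.app T := by
  apply MorphismProperty.Over.Hom.ext
  erw [MorphismProperty.Comma.comp_left, MorphismProperty.Comma.comp_left, MorphismProperty.Comma.comp_left]
  simp [siteComp, siteAdj, EtShriek.compEtale, EtCoh.bc]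
  exact pullbackLeftPullbackSndIso_inv_fst T.hom t f

lemma E2'' (G : EtCoh.Ab Z') :
    (resAdj t).unit.app G ≫ (EtCoh.push t).map ((resAdj f).unit.app ((EtShriek.restrAlong t).obj G)) ≫
      (EtCoh.pushComp t f).hom.app ((EtShriek.restrAlong f).obj ((EtShriek.restrAlong t).obj G)) ≫
      (EtCoh.push (f ≫ t)).map ((canIso f t).hom.app G) = (resAdj (f ≫ t)).unit.app G := by
  apply Sheaf.hom_ext
  ext T : 2
  induction T using Opposite.rec with | _ T => ?_
  have h1 := resAdj_unit_app t G T
  have h2 := resAdj_unit_app (f ≫ t) G T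
  have h3 := resAdj_unit_app f ((EtShriek.restrAlong t).obj G) ((EtCoh.bc t).obj T)
  have h4 := pushComp_hom_app f t ((EtShriek.restrAlong f).obj ((EtShriek.restrAlong t).obj G)) T
  have h5 := canIso_hom_app f t G ((EtCoh.bc (f ≫ t)).obj T)
  have key := congrArg (fun m => G.obj.map m.op) (site_key f t T)
  simp only [op_comp, Functor.map_comp] at key
  show ((resAdj t).unit.app G).hom.app (op T) ≫
      ((resAdj f).unit.app ((EtShriek.restrAlong t).obj G)).hom.app (op ((EtCoh.bc t).obj T)) ≫
      ((EtCoh.pushComp t f).hom.app ((EtShriek.restrAlong f).obj ((EtShriek.restrAlong t).obj G))).hom.app (op T) ≫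
      ((canIso f t).hom.app G).hom.app (op ((EtCoh.bc (f ≫ t)).obj T)) = _
  rw [h1, h2, h3, h4, h5, ← key]
  simp only [Category.assoc]
  rfl


lemma unit_comp_eIso (G : EtCoh.Ab Z') :
    (EtCoh.pullPushAdj t).unit.app G ≫ (EtCoh.push t).map ((EtCoh.pullPushAdj f).unit.app ((EtCoh.pull t).obj G)) ≫
      (EtCoh.push t).map ((EtCoh.push f).map ((eIso f).hom.app ((EtCoh.pull t).obj G) ≫
        (EtShriek.restrAlong f).map ((eIso t).hom.app G))) =
    (resAdj t).unit.app G ≫ (EtCoh.push t).map ((resAdj f).unit.app ((EtShriek.restrAlong t).obj G)) := by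
  rw [← unit_eIso t G, Category.assoc, ← Functor.map_comp, ← Functor.map_comp]
  congr 2
  rw [Functor.map_comp, ← Category.assoc, unit_eIso f]
  exact ((resAdj f).unit.naturality ((eIso t).hom.app G)).symm

theorem E2 (G : EtCoh.Ab Z') :
    (EtCore.pullComp f t).hom.app G ≫ (eIso f).hom.app ((EtCoh.pull t).obj G) ≫
      (EtShriek.restrAlong f).map ((eIso t).hom.app G) ≫ (canIso f t).hom.app G =
    (eIso (f ≫ t)).hom.app G := by
  apply ((EtCoh.pullPushAdj (f ≫ t)).homEquiv _ _).injective
  rw [Adjunction.homEquiv_unit, Adjunction.homEquiv_unit, unit_eIso, Functor.map_comp, ← Category.assoc]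
  have h1 : (EtCoh.pullPushAdj (f ≫ t)).unit.app G ≫ (EtCoh.push (f ≫ t)).map ((EtCore.pullComp f t).hom.app G) =
      (((EtCoh.pullPushAdj t).comp (EtCoh.pullPushAdj f)).ofNatIsoRight (EtCoh.pushComp t f)).unit.app G := by
    rw [EtCore.pullComp]
    exact Adjunction.unit_leftAdjointUniq_hom_app _ _ G
  rw [h1]
  simp only [Adjunction.ofNatIsoRight_unit, NatTrans.comp_app, Adjunction.comp_unit_app, Functor.whiskerLeft_app, Category.assoc, Functor.comp_obj]
  rw [← Category.assoc ((eIso f).hom.app _), Functor.map_comp (EtCoh.push (f ≫ t)) (_ ≫ _) ((canIso f t).hom.app G)]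
  have h2 := (EtCoh.pushComp t f).hom.naturality ((eIso f).hom.app ((EtCoh.pull t).obj G) ≫
        (EtShriek.restrAlong f).map ((eIso t).hom.app G))
  rw [← Category.assoc ((EtCoh.pushComp t f).hom.app _), ← h2]
  have h3 := unit_comp_eIso f t G
  have h4 := E2'' f t G
  rw [← h4, ← reassoc_of% h3]
  simp only [Functor.comp_map, Category.assoc]

end Groth.Agent.Helper24.EtOpen
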