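import Mathlib
import Groth.Prelude.Def_EtCore
import Groth.Prelude.Def_EtShriek2
import Groth.Agent.S0648
import Groth.Agent.Lib.Helper10.ExtAdj
import Groth.Agent.Lib.Helper24.EtOpen1
import Groth.Agent.Lib.Helper24.EtOpen2

open CategoryTheory CategoryTheory.Limits AlgebraicGeometry Opposite CategoryTheory.Abelian
universe u
set_option linter.unusedSectionVars false
namespace Groth.Agent.Helper24.EtOpen

open Groth.Agent.Helper10.ExtAdj

section One
variable {U X : Scheme.{u}} (j : U ⟶ X) [hj : Etale j] [EtShriek.JCont j]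

instance restrAlong_additive : (EtShriek.restrAlong j).Additive where

instance extZero_additive : (EtShriek.extZero j).Additive := (EtShriek.extZeroAdj j).left_adjoint_additive
instance extZero_pfl : PreservesFiniteLimits (EtShriek.extZero j) := Groth.Agent.S0648.result j
instance extZero_pfc : PreservesFiniteColimits (EtShriek.extZero j) :=
  have : PreservesColimitsOfSize.{0, 0} (EtShriek.extZero j) :=
    (EtShriek.extZeroAdj j).leftAdjoint_preservesColimits
  PreservesColimitsOfSize.preservesFiniteColimits _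

theorem pull_pfl : PreservesFiniteLimits (EtCoh.pull j) := by
  have : PreservesLimitsOfSize.{0, 0} (EtShriek.restrAlong j) :=
    (EtShriek.extZeroAdj j).rightAdjoint_preservesLimits
  have : PreservesFiniteLimits (EtShriek.restrAlong j) := PreservesLimitsOfSize.preservesFiniteLimits _
  exact preservesFiniteLimits_of_natIso (eIso j).symm

/-- `P_j = j_! ℤ_U` -/
noncomputable abbrev PP : EtCoh.Ab X := (EtShriek.extZero j).obj (EtCoh.const U ℤ)

/-- `ε_j : j_! ℤ_U ⟶ ℤ_X` -/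
noncomputable def eps : PP j ⟶ EtCoh.const X ℤ :=
  ((adjE j).homEquiv _ _).symm (EtCore.pullConst j ℤ).inv

lemma unit_eps : (adjE j).unit.app (EtCoh.const U ℤ) ≫ (EtCoh.pull j).map (eps j) =
    (EtCore.pullConst j ℤ).inv := by
  exact ((adjE j).homEquiv_unit _ _ _).symm.trans (Equiv.apply_symm_apply _ _)

variable [PreservesFiniteLimits (EtCoh.pull j)]

/-- the `Ext`-adjunction isomorphism `Ext^n(j_! ℤ, G) ≃ H^n(U, j⁻¹ G)` -/
noncomputable def Phi (G : EtCoh.Ab X) (n : ℕ) :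
    Ext (PP j) G n ≃+ EtCoh.H U ((EtCoh.pull j).obj G) n :=
  extAdjEquiv (adjE j) (EtCoh.const U ℤ) G n

lemma Phi_apply (G : EtCoh.Ab X) (n : ℕ) (e : Ext (PP j) G n) :
    Phi j G n e = (Ext.mk₀ ((adjE j).unit.app (EtCoh.const U ℤ))).comp
      (e.mapExactFunctor (EtCoh.pull j)) (zero_add n) := rfl

theorem Hpull_eq (G : EtCoh.Ab X) (n : ℕ) (x : EtCoh.H X G n) :
    EtCore.Hpull j G n x = Phi j G n ((Ext.mk₀ (eps j)).comp x (zero_add n)) := by
  rw [Phi_apply, Ext.mapExactFunctor_comp, Ext.mapExactFunctor_mk₀, Ext.mk₀_comp_mk₀_assoc, unit_eps]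
  rfl

end One

section Two
variable {X' Y' Z' : Scheme.{u}} (f : X' ⟶ Y') (t : Y' ⟶ Z') (f₀ : X' ⟶ Z') (w : f ≫ t = f₀)
  [Etale f] [Etale t] [Etale f₀] [EtShriek.JCont f] [EtShriek.JCont t] [EtShriek.JCont f₀]
  [PreservesFiniteLimits (EtCoh.pull f)] [PreservesFiniteLimits (EtCoh.pull t)]
  [PreservesFiniteLimits (EtCoh.pull f₀)]

/-- the comparison isomorphism used in `HpullVia` -/
noncomputable abbrev theta : EtCoh.pull t ⋙ EtCoh.pull f ≅ EtCoh.pull f₀ :=
  (EtCore.pullComp f t).symm ≪≫ EtCore.pullCongr w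

/-- `κ : P_{f₀} ⟶ P_t` -/
noncomputable def kap : PP f₀ ⟶ PP t :=
  ((adjE f₀).homEquiv _ _).symm ((EtCore.pullConst f ℤ).inv ≫
    (EtCoh.pull f).map ((adjE t).unit.app (EtCoh.const Y' ℤ)) ≫ (theta f t f₀ w).hom.app (PP t))

lemma unit_kap : (adjE f₀).unit.app (EtCoh.const X' ℤ) ≫ (EtCoh.pull f₀).map (kap f t f₀ w) =
    (EtCore.pullConst f ℤ).inv ≫
      (EtCoh.pull f).map ((adjE t).unit.app (EtCoh.const Y' ℤ)) ≫ (theta f t f₀ w).hom.app (PP t) :=
  ((adjE f₀).homEquiv_unit _ _ _).symm.trans (Equiv.apply_symm_apply _ _)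

theorem HpullVia_eq (G : EtCoh.Ab Z') (n : ℕ) (y : Ext (PP t) G n) :
    EtCore.HpullVia f t f₀ w G n (Phi t G n y) =
      Phi f₀ G n ((Ext.mk₀ (kap f t f₀ w)).comp y (zero_add n)) := by
  have hnat := ExtMap.naturality
    ((ExtMap.ofFunctor (EtCoh.pull t)).comp (ExtMap.ofFunctor (EtCoh.pull f)))
    (ExtMap.ofFunctor (EtCoh.pull f₀)) (theta f t f₀ w).hom n y
  have hnat' : (Ext.mk₀ ((theta f t f₀ w).hom.app (PP t))).comp (y.mapExactFunctor (EtCoh.pull f₀)) (zero_add n) =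
      ((y.mapExactFunctor (EtCoh.pull t)).mapExactFunctor (EtCoh.pull f)).comp
        (Ext.mk₀ ((theta f t f₀ w).hom.app G)) (add_zero n) := hnat
  have h1 : EtCore.HpullVia f t f₀ w G n (Phi t G n y) =
      ((Ext.mk₀ (EtCore.pullConst f ℤ).inv).comp
        ((Phi t G n y).mapExactFunctor (EtCoh.pull f)) (zero_add n)).comp
          (Ext.mk₀ ((theta f t f₀ w).hom.app G)) (add_zero n) := rfl
  have hR : Phi f₀ G n ((Ext.mk₀ (kap f t f₀ w)).comp y (zero_add n)) =
      (Ext.mk₀ ((EtCore.pullConst f ℤ).inv ≫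
        (EtCoh.pull f).map ((adjE t).unit.app (EtCoh.const Y' ℤ)) ≫ (theta f t f₀ w).hom.app (PP t))).comp
        (y.mapExactFunctor (EtCoh.pull f₀)) (zero_add n) := by
    rw [Phi_apply, Ext.mapExactFunctor_comp, Ext.mapExactFunctor_mk₀, Ext.mk₀_comp_mk₀_assoc, unit_kap]
  have hL : (Phi t G n y).mapExactFunctor (EtCoh.pull f) =
      (Ext.mk₀ ((EtCoh.pull f).map ((adjE t).unit.app (EtCoh.const Y' ℤ)))).comp
        ((y.mapExactFunctor (EtCoh.pull t)).mapExactFunctor (EtCoh.pull f)) (zero_add n) := by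
    rw [Phi_apply, Ext.mapExactFunctor_comp, Ext.mapExactFunctor_mk₀]
  rw [h1, hR, hL, Ext.mk₀_comp_mk₀_assoc, Ext.comp_assoc_of_third_deg_zero, ← hnat',
    Ext.mk₀_comp_mk₀_assoc, Category.assoc]

end Two

end Groth.Agent.Helper24.EtOpen
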