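import Mathlib
import Groth.Prelude.Def_EtCore
import Groth.Prelude.Def_EtShriek2
import Groth.Agent.Lib.Helper24.EtOpen3

open CategoryTheory CategoryTheory.Limits AlgebraicGeometry Opposite CategoryTheory.Abelian
universe u
set_option linter.unusedSectionVars false
namespace Groth.Agent.Helper24.EtOpen

section Sections
variable {U X : Scheme.{u}} (j : U ⟶ X) [hj : Etale j] [EtShriek.JCont j]

abbrev MZ : AddCommGrpCat.{u+1} := AddCommGrpCat.of (ULift.{u+1} ℤ)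

/-- `Hom(ℤ_X, G) ≃ (ℤ ⟶ G(X))` -/
noncomputable def secX (G : EtCoh.Ab X) : (EtCoh.const X ℤ ⟶ G) ≃ (MZ.{u} ⟶ G.obj.obj (op (EtCoh.top X))) :=
  (EtCore.constAdj X).homEquiv MZ G

/-- `Hom(j_! ℤ_U, G) ≃ (ℤ ⟶ G(U → X))` -/
noncomputable def secJ (G : EtCoh.Ab X) : (PP j ⟶ G) ≃ (MZ.{u} ⟶ G.obj.obj (op (objOf j))) :=
  ((EtShriek.extZeroAdj j).homEquiv (EtCoh.const U ℤ) G).trans
    ((EtCore.constAdj U).homEquiv MZ ((EtShriek.restrAlong j).obj G))

lemma secX_apply (G : EtCoh.Ab X) (φ : EtCoh.const X ℤ ⟶ G) :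
    secX G φ = (EtCore.constAdj X).unit.app MZ ≫ φ.hom.app (op (EtCoh.top X)) :=
  (EtCore.constAdj X).homEquiv_unit _ _ _

/-- the universal section of `P_j` over `(U → X)` -/
noncomputable def uJ : MZ.{u} ⟶ (PP j).obj.obj (op (objOf j)) := secJ j (PP j) (𝟙 _)

lemma secJ_apply (G : EtCoh.Ab X) (ψ : PP j ⟶ G) :
    secJ j G ψ = (EtCore.constAdj U).unit.app MZ ≫
      ((EtShriek.extZeroAdj j).unit.app (EtCoh.const U ℤ)).hom.app (op (EtCoh.top U)) ≫
      ψ.hom.app (op (objOf j)) := by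
  show (EtCore.constAdj U).homEquiv MZ _ ((EtShriek.extZeroAdj j).homEquiv _ _ ψ) = _
  rw [Adjunction.homEquiv_unit, Adjunction.homEquiv_unit]
  rfl

lemma secJ_comp (G G' : EtCoh.Ab X) (ψ : PP j ⟶ G) (α : G ⟶ G') :
    secJ j G' (ψ ≫ α) = secJ j G ψ ≫ α.hom.app (op (objOf j)) := by
  rw [secJ_apply, secJ_apply]
  simp only [Category.assoc]
  rfl

lemma extZeroAdj_homEquiv (G : EtCoh.Ab X) (ψ : PP j ⟶ G) :
    (EtShriek.extZeroAdj j).homEquiv _ _ ψ = (adjE j).homEquiv _ _ ψ ≫ (eIso j).hom.app G := by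
  rw [adjE, Adjunction.homEquiv_ofNatIsoRight_apply, Category.assoc]
  simp

theorem K1 (G : EtCoh.Ab X) (φ : EtCoh.const X ℤ ⟶ G) :
    secJ j G (eps j ≫ φ) = secX G φ ≫ G.obj.map (toTop (objOf j)).op := by
  rw [secJ_comp, secX_apply, Category.assoc, ← φ.hom.naturality, ← Category.assoc]
  congr 1
  show (EtCore.constAdj U).homEquiv MZ _ ((EtShriek.extZeroAdj j).homEquiv _ _ (eps j)) = _
  rw [extZeroAdj_homEquiv, eps, Equiv.apply_symm_apply]
  exact E1 j MZ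

end Sections

section Sections2
variable {X' Y' Z' : Scheme.{u}} (f : X' ⟶ Y') (t : Y' ⟶ Z') (f₀ : X' ⟶ Z') (w : f ≫ t = f₀)
  [hf : Etale f] [ht : Etale t] [hf₀ : Etale f₀] [EtShriek.JCont f] [EtShriek.JCont t] [EtShriek.JCont f₀]

lemma unitE_eIso (j : X' ⟶ Y') [Etale j] [EtShriek.JCont j] (B : EtCoh.Ab X') :
    (adjE j).unit.app B ≫ (eIso j).hom.app ((EtShriek.extZero j).obj B) =
      (EtShriek.extZeroAdj j).unit.app B := by
  simp [adjE]

lemma theta_rfl_app [Etale (f ≫ t)] (P : EtCoh.Ab Z') :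
    (theta f t (f ≫ t) rfl).hom.app P = (EtCore.pullComp f t).inv.app P := by
  simp [theta, EtCore.pullCongr]

lemma homEquiv_kap_rfl [Etale (f ≫ t)] [EtShriek.JCont (f ≫ t)] :
    (EtShriek.extZeroAdj (f ≫ t)).homEquiv _ _ (kap f t (f ≫ t) rfl) =
      ((EtCore.pullConst f ℤ).inv ≫ (eIso f).hom.app (EtCoh.const Y' ℤ)) ≫
        (EtShriek.restrAlong f).map ((EtShriek.extZeroAdj t).unit.app (EtCoh.const Y' ℤ)) ≫
        (canIso f t).hom.app (PP t) := by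
  rw [extZeroAdj_homEquiv, kap, Equiv.apply_symm_apply, theta_rfl_app]
  simp only [Category.assoc]
  congr 1
  have h1 := (eIso f).hom.naturality ((adjE t).unit.app (EtCoh.const Y' ℤ))
  have h2 := unitE_eIso t (EtCoh.const Y' ℤ)
  have h3 := E2 f t (PP t)
  rw [← h3, Iso.inv_hom_id_app_assoc, ← h2, Functor.map_comp, Category.assoc]
  exact (reassoc_of% h1) _

lemma hom_objOf_ext [Mono t] {T : Z'.Etale} (a b : T ⟶ objOf t) : a = b := by
  apply MorphismProperty.Over.Hom.ext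
  have ha : a.left ≫ (objOf t).hom = T.hom := MorphismProperty.Over.w a
  have hb : b.left ≫ (objOf t).hom = T.hom := MorphismProperty.Over.w b
  have h : (objOf t).hom = 𝟙 _ ≫ t := rfl
  rw [h, Category.id_comp] at ha hb
  exact (cancel_mono t).1 (ha.trans hb.symm)

omit hf ht in
lemma cat_aux {C : Type*} [Category C] {M a b c d e : C} (u : M ⟶ a) (A : a ⟶ b) (B : b ⟶ c) (Cc : c ⟶ d)
    (B' : a ⟶ e) (A' : e ⟶ c) (I : e ⟶ e) (D : e ⟶ d)
    (h : A ≫ B = B' ≫ A') (hI : I = 𝟙 _) (hD : D = A' ≫ Cc) :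
    (u ≫ A) ≫ B ≫ Cc = u ≫ (B' ≫ I) ≫ D := by
  subst hI hD
  simp [reassoc_of% h]

theorem K2' [Etale (f ≫ t)] [EtShriek.JCont (f ≫ t)] [Mono t] (ι : objOf (f ≫ t) ⟶ objOf t) :
    secJ (f ≫ t) (PP t) (kap f t (f ≫ t) rfl) = secJ t (PP t) (𝟙 _) ≫ (PP t).obj.map ι.op := by
  have h0 : secJ (f ≫ t) (PP t) (kap f t (f ≫ t) rfl) =
      (EtCore.constAdj X').homEquiv MZ _
        ((EtShriek.extZeroAdj (f ≫ t)).homEquiv _ _ (kap f t (f ≫ t) rfl)) := rfl
  have hE : (EtCore.constAdj X').homEquiv MZ ((EtShriek.restrAlong f).obj (EtCoh.const Y' ℤ))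
      ((EtCore.pullConst f ℤ).inv ≫ (eIso f).hom.app (EtCoh.const Y' ℤ)) =
      (EtCore.constAdj Y').unit.app MZ ≫ (EtCoh.const Y' ℤ).obj.map (toTop (objOf f)).op := E1 f MZ
  rw [h0, homEquiv_kap_rfl, Adjunction.homEquiv_naturality_right, hE, secJ_apply]
  have h1 := ((EtShriek.extZeroAdj t).unit.app (EtCoh.const Y' ℤ)).hom.naturality
    (toTop (objOf f)).op
  have h2 := canIso_hom_app f t (PP t) (EtCoh.top X')
  have h3 : ι = (siteComp f t).inv.app (EtCoh.top X') ≫ (EtShriek.compEtale t).map (toTop (objOf f)) :=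
    hom_objOf_ext t _ _
  have h4 : (EtCore.gsec X').map
        ((EtShriek.restrAlong f).map ((EtShriek.extZeroAdj t).unit.app (EtCoh.const Y' ℤ)) ≫
          (canIso f t).hom.app (PP t)) =
      ((EtShriek.extZeroAdj t).unit.app (EtCoh.const Y' ℤ)).hom.app (op (objOf f)) ≫
        ((canIso f t).hom.app (PP t)).hom.app (op (EtCoh.top X')) := rfl
  have h1' : (EtCoh.const Y' ℤ).obj.map (toTop (objOf f)).op ≫
      ((EtShriek.extZeroAdj t).unit.app (EtCoh.const Y' ℤ)).hom.app (op (objOf f)) =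
      ((EtShriek.extZeroAdj t).unit.app (EtCoh.const Y' ℤ)).hom.app (op (EtCoh.top Y')) ≫
        (PP t).obj.map ((EtShriek.compEtale t).map (toTop (objOf f))).op := h1
  have h5 : (PP t).obj.map ι.op = (PP t).obj.map ((EtShriek.compEtale t).map (toTop (objOf f))).op ≫
      (PP t).obj.map ((siteComp f t).inv.app (EtCoh.top X')).op := by
    rw [h3, op_comp, Functor.map_comp]
  have h6 : (𝟙 (PP t) : PP t ⟶ PP t).hom.app (op (objOf t)) = 𝟙 _ := rfl
  rw [h4, h2]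
  exact cat_aux _ _ _ _ _ _ _ _ h1' h6 h5

theorem K2 [Mono t] (G : EtCoh.Ab Z') (ψ : PP t ⟶ G) (ι : objOf f₀ ⟶ objOf t) :
    secJ f₀ G (kap f t f₀ w ≫ ψ) = secJ t G ψ ≫ G.obj.map ι.op := by
  subst w
  have h1 : secJ t G ψ = secJ t (PP t) (𝟙 _) ≫ ψ.hom.app (op (objOf t)) := by
    rw [← secJ_comp, Category.id_comp]
  rw [secJ_comp, h1, K2' f t ι, Category.assoc, Category.assoc]
  congr 1
  exact ψ.hom.naturality ι.op

end Sections2

end Groth.Agent.Helper24.EtOpen
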