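import Mathlib
import Groth.Prelude.Def_EtCore
import Groth.Prelude.Def_EtShriek2
import Groth.Agent.Lib.Helper1.SHC5
import Groth.Agent.Lib.Helper24.EtOpen4

open CategoryTheory CategoryTheory.Limits AlgebraicGeometry Opposite CategoryTheory.Abelian
universe u
set_option linter.unusedSectionVars false
namespace Groth.Agent.Helper24.EtOpen

section Flasque

variable {C : Type (u + 1)} [Category.{u} C]

/-- free presheaf of abelian groups on a representable (universe-lifted) -/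
noncomputable abbrev freeY (T : C) : Cᵒᵖ ⥤ AddCommGrpCat.{u + 1} :=
  yoneda.obj T ⋙ uliftFunctor.{u + 1, u} ⋙ AddCommGrpCat.free.{u + 1}

noncomputable abbrev freeYMap {T' T : C} (m : T' ⟶ T) : freeY T' ⟶ freeY T :=
  Functor.whiskerRight (yoneda.map m) (uliftFunctor.{u + 1, u} ⋙ AddCommGrpCat.free.{u + 1})

instance mono_freeYMap {T' T : C} (m : T' ⟶ T) [Mono m] : Mono (freeYMap m) := by
  have h1 : ∀ S : Cᵒᵖ, Mono ((freeYMap m).app S) := by
    intro S
    have : Mono (uliftFunctor.{u + 1, u}.map ((yoneda.map m).app S)) := by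
      rw [mono_iff_injective]
      rintro ⟨a⟩ ⟨b⟩ hab
      have : a ≫ m = b ≫ m := congrArg ULift.down hab
      exact congrArg ULift.up ((cancel_mono m).1 this)
    exact inferInstanceAs (Mono (AddCommGrpCat.free.{u + 1}.map
      (uliftFunctor.{u + 1, u}.map ((yoneda.map m).app S))))
  exact NatTrans.mono_of_mono_app _

/-- the presheaf map `ℤ[h_T] ⟶ P` attached to a section of `P` over `T` -/
noncomputable def ofSec (P : Cᵒᵖ ⥤ AddCommGrpCat.{u + 1}) {T : C} (s : P.obj (op T)) : freeY T ⟶ P where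
  app S := AddCommGrpCat.ofHom (FreeAbelianGroup.lift (fun g : ULift.{u + 1} (S.unop ⟶ T) => P.map g.down.op s))
  naturality S S' φ := by
    apply AddCommGrpCat.hom_ext
    apply FreeAbelianGroup.lift_ext
    intro g
    show FreeAbelianGroup.lift _ (FreeAbelianGroup.map _ (FreeAbelianGroup.of g)) =
      P.map φ (FreeAbelianGroup.lift _ (FreeAbelianGroup.of g))
    rw [FreeAbelianGroup.map_of_apply, FreeAbelianGroup.lift_apply_of, FreeAbelianGroup.lift_apply_of]
    show P.map (φ.unop ≫ g.down).op s = P.map φ (P.map g.down.op s)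
    rw [op_comp, Functor.map_comp]
    rfl

lemma ofSec_app_of (P : Cᵒᵖ ⥤ AddCommGrpCat.{u + 1}) {T : C} (s : P.obj (op T)) (S : Cᵒᵖ)
    (g : ULift.{u + 1} (S.unop ⟶ T)) :
    (ofSec P s).app S (FreeAbelianGroup.of g) = P.map g.down.op s :=
  FreeAbelianGroup.lift_apply_of _ _

/-- restriction maps of an injective presheaf along monomorphisms are surjective -/
theorem presheaf_flasque (P : Cᵒᵖ ⥤ AddCommGrpCat.{u + 1}) [Injective P] {T' T : C} (m : T' ⟶ T) [Mono m]
    (s' : P.obj (op T')) : ∃ s : P.obj (op T), P.map m.op s = s' := by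
  let ψ := Injective.factorThru (ofSec P s') (freeYMap m)
  have hψ : freeYMap m ≫ ψ = ofSec P s' := Injective.comp_factorThru _ _
  refine ⟨ψ.app (op T) (FreeAbelianGroup.of ⟨𝟙 T⟩), ?_⟩
  have h1 := congrArg (fun k => k.hom (FreeAbelianGroup.of (ULift.up (𝟙 T)))) (ψ.naturality m.op)
  have h2 := congrArg (fun ν => (ν.app (op T')).hom (FreeAbelianGroup.of (ULift.up (𝟙 T')))) hψ
  simp only [AddCommGrpCat.hom_comp, AddMonoidHom.coe_comp, Function.comp_apply, NatTrans.comp_app] at h1 h2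
  rw [ofSec_app_of] at h2
  have e1 : ((freeY T).map m.op).hom (FreeAbelianGroup.of (ULift.up (𝟙 T))) =
      FreeAbelianGroup.of (ULift.up m) := by
    show FreeAbelianGroup.map _ (FreeAbelianGroup.of _) = _
    rw [FreeAbelianGroup.map_of_apply]
    congr 1
    exact congrArg ULift.up (Category.comp_id m)
  have e2 : ((freeYMap m).app (op T')).hom (FreeAbelianGroup.of (ULift.up (𝟙 T'))) =
      FreeAbelianGroup.of (ULift.up m) := by
    show FreeAbelianGroup.map _ (FreeAbelianGroup.of _) = _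
    rw [FreeAbelianGroup.map_of_apply]
    congr 1
    exact congrArg ULift.up (Category.id_comp m)
  rw [e1] at h1
  rw [e2] at h2
  refine h1.symm.trans (h2.trans ?_)
  show (P.map (𝟙 T').op).hom s' = s'
  rw [op_id, P.map_id]
  rfl

/-- the morphism `ULift ℤ ⟶ A` picking an element -/
noncomputable def pick {A : AddCommGrpCat.{u + 1}} (s : A) : MZ.{u} ⟶ A :=
  AddCommGrpCat.ofHom ((zmultiplesHom A s).comp AddEquiv.ulift.toAddMonoidHom)

lemma pick_apply {A : AddCommGrpCat.{u + 1}} (s : A) : (pick s).hom (ULift.up 1) = s := by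
  show (zmultiplesHom A s) (1 : ℤ) = s
  exact one_zsmul s

lemma MZ_hom_ext {A : AddCommGrpCat.{u + 1}} (a b : MZ.{u} ⟶ A)
    (h : a.hom (ULift.up 1) = b.hom (ULift.up 1)) : a = b := by
  apply AddCommGrpCat.hom_ext
  have : a.hom.comp (AddEquiv.ulift.{0, u + 1} (α := ℤ)).symm.toAddMonoidHom =
      b.hom.comp (AddEquiv.ulift.{0, u + 1} (α := ℤ)).symm.toAddMonoidHom := by
    apply AddMonoidHom.ext_int
    exact h
  ext ⟨n⟩
  exact DFunLike.congr_fun this n

theorem sheaf_flasque {X : Scheme.{u}} (I : EtCoh.Ab X) [Injective I] {T' T : X.Etale} (m : T' ⟶ T) [Mono m]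
    (c : MZ.{u} ⟶ I.obj.obj (op T')) : ∃ a : MZ.{u} ⟶ I.obj.obj (op T), a ≫ I.obj.map m.op = c := by
  have : Injective I.obj :=
    Injective.injective_of_adjoint (sheafificationAdjunction X.smallEtaleTopology AddCommGrpCat.{u + 1}) I
  obtain ⟨s, hs⟩ := presheaf_flasque I.obj m (c.hom (ULift.up 1))
  refine ⟨pick s, ?_⟩
  apply MZ_hom_ext
  show (I.obj.map m.op).hom ((pick s).hom (ULift.up 1)) = _
  rw [pick_apply]
  exact hs

end Flasque

section Glue
variable {X : Scheme.{u}} (U V : X.Opens) (hUV : U ⊔ V = ⊤)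

lemma toTop_left (T : X.Etale) : (toTop T).left = T.hom := by
  have h : (toTop T).left ≫ 𝟙 X = T.hom := MorphismProperty.Over.w (toTop T)
  exact (Category.comp_id _).symm.trans h

/-- the two arrows `(U → X) ⟶ X`, `(V → X) ⟶ X` -/
noncomputable abbrev twoArr : ∀ k : WalkingPair, pairFunction (objOf U.ι) (objOf V.ι) k ⟶ EtCoh.top X :=
  fun k => WalkingPair.casesOn k (toTop (objOf U.ι)) (toTop (objOf V.ι))

include hUV in
lemma cover_two : Sieve.ofArrows (pairFunction (objOf U.ι) (objOf V.ι)) (twoArr U V) ∈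
    X.smallEtaleTopology (EtCoh.top X) := by
  apply Groth.Agent.Helper1.SHC.mem_of_pointwise
  intro x
  have hx : (x : X) ∈ U ⊔ V := by rw [hUV]; trivial
  rcases hx with h | h
  · refine ⟨objOf U.ι, toTop _, (⟨x, h⟩ : U), Sieve.ofArrows_mk _ (twoArr U V) WalkingPair.left, ?_⟩
    rw [toTop_left]
    rfl
  · refine ⟨objOf V.ι, toTop _, (⟨x, h⟩ : V), Sieve.ofArrows_mk _ (twoArr U V) WalkingPair.right, ?_⟩
    rw [toTop_left]
    rfl

include hUV in
lemma glue_unique (G : EtCoh.Ab X) {E : AddCommGrpCat.{u + 1}} (s s' : E ⟶ G.obj.obj (op (EtCoh.top X)))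
    (h1 : s ≫ G.obj.map (toTop (objOf U.ι)).op = s' ≫ G.obj.map (toTop (objOf U.ι)).op)
    (h2 : s ≫ G.obj.map (toTop (objOf V.ι)).op = s' ≫ G.obj.map (toTop (objOf V.ι)).op) : s = s' := by
  refine G.property.hom_ext_ofArrows (twoArr U V) (cover_two U V hUV) ?_
  rintro (_ | _)
  · exact h1
  · exact h2

/-- a map to both `(U → X)` and `(V → X)` factors through `(U ⊓ V → X)` -/
lemma exists_lift_inf {T : X.Etale} (a : T ⟶ objOf U.ι) (b : T ⟶ objOf V.ι) :
    Nonempty (T ⟶ objOf (U ⊓ V).ι) := by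
  have ha : a.left ≫ U.ι = T.hom := by
    have h : a.left ≫ (𝟙 _ ≫ U.ι) = T.hom := MorphismProperty.Over.w a
    rwa [Category.id_comp] at h
  have hb : b.left ≫ V.ι = T.hom := by
    have h : b.left ≫ (𝟙 _ ≫ V.ι) = T.hom := MorphismProperty.Over.w b
    rwa [Category.id_comp] at h
  have hr : Set.range T.hom ⊆ Set.range (U ⊓ V).ι := by
    rw [Scheme.Opens.range_ι]
    rintro _ ⟨y, rfl⟩
    constructor
    · rw [← ha]
      exact (a.left y).2
    · rw [← hb]
      exact (b.left y).2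
  let ℓ : T.left ⟶ (U ⊓ V).toScheme := IsOpenImmersion.lift (U ⊓ V).ι T.hom hr
  have hℓ : ℓ ≫ (𝟙 _ ≫ (U ⊓ V).ι) = T.hom := by
    rw [Category.id_comp]
    exact IsOpenImmersion.lift_fac _ _ _
  exact ⟨MorphismProperty.Over.homMk ℓ hℓ trivial⟩

include hUV in
lemma glue_exists (G : EtCoh.Ab X) {E : AddCommGrpCat.{u + 1}} (a : E ⟶ G.obj.obj (op (objOf U.ι)))
    (b : E ⟶ G.obj.obj (op (objOf V.ι)))
    (ιU : objOf (U ⊓ V).ι ⟶ objOf U.ι) (ιV : objOf (U ⊓ V).ι ⟶ objOf V.ι)
    (hab : a ≫ G.obj.map ιU.op = b ≫ G.obj.map ιV.op) :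
    ∃ s : E ⟶ G.obj.obj (op (EtCoh.top X)), s ≫ G.obj.map (toTop (objOf U.ι)).op = a ∧
      s ≫ G.obj.map (toTop (objOf V.ι)).op = b := by
  have key : ∀ {T : X.Etale} (a' : T ⟶ objOf U.ι) (b' : T ⟶ objOf V.ι),
      a ≫ G.obj.map a'.op = b ≫ G.obj.map b'.op := by
    intro T a' b'
    obtain ⟨ℓ⟩ := exists_lift_inf U V a' b'
    have e1 : a' = ℓ ≫ ιU := hom_objOf_ext U.ι _ _
    have e2 : b' = ℓ ≫ ιV := hom_objOf_ext V.ι _ _
    rw [e1, e2, op_comp, op_comp, Functor.map_comp, Functor.map_comp, reassoc_of% hab]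
  let x : ∀ k : WalkingPair, E ⟶ G.obj.obj (op (pairFunction (objOf U.ι) (objOf V.ι) k)) :=
    fun k => WalkingPair.casesOn k a b
  have hx : ∀ ⦃W : X.Etale⦄ ⦃i j : WalkingPair⦄ (a' : W ⟶ pairFunction (objOf U.ι) (objOf V.ι) i)
      (b' : W ⟶ pairFunction (objOf U.ι) (objOf V.ι) j),
      a' ≫ twoArr U V i = b' ≫ twoArr U V j → x i ≫ G.obj.map a'.op = x j ≫ G.obj.map b'.op := by
    rintro W (_ | _) (_ | _) a' b' -
    · have : a' = b' := hom_objOf_ext U.ι _ _
      rw [this]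
    · exact key a' b'
    · exact (key b' a').symm
    · have : a' = b' := hom_objOf_ext V.ι _ _
      rw [this]
  refine ⟨G.property.amalgamateOfArrows (twoArr U V) (cover_two U V hUV) x hx, ?_, ?_⟩
  · exact G.property.amalgamateOfArrows_map (twoArr U V) (cover_two U V hUV) x hx WalkingPair.left
  · exact G.property.amalgamateOfArrows_map (twoArr U V) (cover_two U V hUV) x hx WalkingPair.right

end Glue

end Groth.Agent.Helper24.EtOpen
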