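import Mathlib
import Groth.Agent.Lib.Helper24.FrRing1
import Groth.Agent.Lib.Helper24.FrMod4
import Groth.Agent.Lib.Helper24.ModGroth

/-!
# (RingCat version) The free `R`-module on an abelian sheaf, `Fr ⊣ toSheaf`, exactness on
torsion-free sheaves, and cohomology of modules computed on the underlying abelian sheaf.
-/

open CategoryTheory Limits Opposite TensorProduct

namespace Groth.Agent.Helper24.FrRing

universe u
set_option linter.unusedSectionVars false
open Groth.Agent.Helper24.FrMod (TF tf_sections tf_of_mono exact_sections enough_tf tf_free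
  tf_constant ZC constZ)
open Groth.Agent.Helper24.GSS Groth.Agent.Helper24.CechH DeltaF Groth.Agent.Helper24.ModGroth

variable {C : Type u} [SmallCategory C] {J : GrothendieckTopology C} (O : Sheaf J RingCat.{u})

/-- sheafification of presheaves of modules -/
noncomputable abbrev shf : PSh O ⥤ SheafOfModules.{u} O :=
  PresheafOfModules.sheafification.{u} (𝟙 O.obj)

/-- the underlying presheaf of modules -/
noncomputable abbrev fgt : SheafOfModules.{u} O ⥤ PSh O := SheafOfModules.forget O

/-- `a ⊣ i` -/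
noncomputable def shfAdj : shf O ⊣ fgt O :=
  PresheafOfModules.sheafificationAdjunction (𝟙 O.obj)

/-- `a i ≅ 𝟭` -/
noncomputable def fgtShfIso : fgt O ⋙ shf O ≅ 𝟭 (SheafOfModules.{u} O) :=
  (asIso (PresheafOfModules.sheafificationAdjunction (𝟙 O.obj)).counit :)

/-- the free `O`-module on an abelian sheaf -/
noncomputable def Fr : Sheaf J Ab.{u} ⥤ SheafOfModules.{u} O :=
  sheafToPresheaf J Ab.{u} ⋙ frP O ⋙ shf O

/-- the underlying abelian sheaf -/
noncomputable abbrev toAbF : SheafOfModules.{u} O ⥤ Sheaf J Ab.{u} :=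
  SheafOfModules.toSheaf O

/-- `Fr ⊣ toAb` -/
noncomputable def frAdj : Fr O ⊣ toAbF O :=
  ((frPAdj O).comp (shfAdj O)).restrictFullyFaithful
    (iC := sheafToPresheaf J Ab.{u}) (iD := 𝟭 (SheafOfModules.{u} O))
    (fullyFaithfulSheafToPresheaf J Ab.{u}) (Functor.FullyFaithful.id _)
    (NatIso.ofComponents (fun _ => Iso.refl _))
    (NatIso.ofComponents (fun _ => Iso.refl _))

instance : (Fr O).IsLeftAdjoint := (frAdj O).isLeftAdjoint

instance additive_Fr : (Fr O).Additive := (frAdj O).left_adjoint_additive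

theorem Fr_map {A A' : Sheaf J Ab.{u}} (φ : A ⟶ A') :
    (Fr O).map φ = (shf O).map ((frP O).map φ.hom) := rfl

theorem mono_shf_map_of_isLocallyInjective {X Y : PSh O} (g : X ⟶ Y)
    [Presheaf.IsLocallyInjective J ((PresheafOfModules.toPresheaf _).map g)] :
    Mono ((shf O).map g) := by
  apply (SheafOfModules.toSheaf O).mono_of_mono_map
  change Mono ((presheafToSheaf J AddCommGrpCat).map ((PresheafOfModules.toPresheaf _).map g))
  have := (Presheaf.isLocallyInjective_presheafToSheaf_map_iff J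
    ((PresheafOfModules.toPresheaf _).map g)).mpr inferInstance
  exact Sheaf.mono_of_isLocallyInjective _

variable {O}

theorem frHomMap_injective {S : ShortComplex (Sheaf J Ab.{u})} (hS : S.ShortExact)
    (h3 : TF S.X₃) (W : Cᵒᵖ) : Function.Injective (frHomMap (O := O) S.f.hom W) := by
  have := hS.mono_f
  let g : S.X₁.obj.obj W →ₗ[ℤ] S.X₂.obj.obj W := (S.f.hom.app W).hom.toIntLinearMap
  let f₀ : S.X₂.obj.obj W →ₗ[ℤ] S.X₃.obj.obj W := (S.g.hom.app W).hom.toIntLinearMap
  let f : S.X₂.obj.obj W →ₗ[ℤ] LinearMap.range f₀ := f₀.rangeRestrict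
  have hg : Function.Injective g := FrMod.injective_app_of_mono S.f W
  have hf : Function.Surjective f := LinearMap.surjective_rangeRestrict f₀
  have := tf_sections h3 W
  have : Module.IsTorsionFree ℤ (LinearMap.range f₀) :=
    Function.Injective.moduleIsTorsionFree (LinearMap.range f₀).subtype
      (Submodule.injective_subtype _) (fun r m => rfl)
  have H : Function.Exact g f := by
    intro y
    constructor
    · intro hy
      have hy' : (S.g.hom.app W).hom y = 0 := congrArg Subtype.val hy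
      exact exact_sections hS W y hy'
    · rintro ⟨x, rfl⟩
      apply Subtype.ext
      show (S.g.hom.app W).hom ((S.f.hom.app W).hom x) = 0
      have := S.zero
      exact congrArg (fun m => (m.hom.app W).hom x) this
  exact LinearMap.lTensor_injective_of_exact_of_flat f hf g hg H (O.obj.obj W)

theorem mono_Fr_map {S : ShortComplex (Sheaf J Ab.{u})} (hS : S.ShortExact) (h3 : TF S.X₃) :
    Mono ((Fr O).map S.f) := by
  rw [Fr_map]
  have : Presheaf.IsLocallyInjective J
      ((PresheafOfModules.toPresheaf _).map ((frP O).map S.f.hom)) := by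
    apply Presheaf.isLocallyInjective_of_injective
    intro W
    exact frHomMap_injective hS h3 W
  exact mono_shf_map_of_isLocallyInjective O _

section Acyc

open Abelian

/-- extension property for the underlying abelian sheaf of an injective module -/
theorem extend_toAb (G : SheafOfModules.{u} O) [Injective G] {S : ShortComplex (Sheaf J Ab.{u})}
    (hS : S.ShortExact) (h3 : TF S.X₃) (η : S.X₁ ⟶ (toAbF O).obj G) :
    ∃ ζ : S.X₂ ⟶ (toAbF O).obj G, S.f ≫ ζ = η := by
  have := mono_Fr_map (O := O) hS h3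
  let η' := ((frAdj O).homEquiv _ _).symm η
  let ζ' := Injective.factorThru η' ((Fr O).map S.f)
  refine ⟨(frAdj O).homEquiv _ _ ζ', ?_⟩
  rw [← Adjunction.homEquiv_naturality_left, Injective.comp_factorThru]
  exact Equiv.apply_symm_apply _ _

/-- `Ext^{n+1}(P, G) = 0` for torsion-free `P` and `G` (the abelian sheaf of) an injective module -/
theorem ext_toAb_injective_subsingleton (P : Sheaf J Ab.{u}) (hP : TF P)
    (G : SheafOfModules.{u} O) [Injective G] (n : ℕ) :
    Subsingleton (Ext P ((toAbF O).obj G) (n + 1)) := by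
  refine subsingleton_of_forall_eq 0 fun ξ => ?_
  exact ExtVanish.ext_eq_zero ((toAbF O).obj G) TF
    (fun X => enough_tf X)
    (fun S hS h2 _ => by
      have := hS.mono_f
      exact tf_of_mono S.f h2)
    (fun S hS h3 η => extend_toAb G hS h3 η) n P hP ξ

/-- injective modules are totally acyclic -/
theorem totallyAcyclic_toAb_injective (G : SheafOfModules.{u} O) [Injective G] :
    CohCx.IsTotallyAcyclic ((toAbF O).obj G) := fun K p =>
  ext_toAb_injective_subsingleton _ (tf_free K.obj) G p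

end Acyc

section UnitIso

variable (O)

/-- `n ↦ n • 1` -/
noncomputable def zToUnit : constZ (C := C) ⟶ (PresheafOfModules.unit O.obj).presheaf where
  app W := AddCommGrpCat.ofHom
    ((zmultiplesHom (O.obj.obj W) (1 : O.obj.obj W)).comp AddEquiv.ulift.toAddMonoidHom)
  naturality W W' g := by
    ext n
    change (zmultiplesHom (O.obj.obj W') (1 : O.obj.obj W')) (AddEquiv.ulift n) =
      (O.obj.map g).hom ((zmultiplesHom (O.obj.obj W) (1 : O.obj.obj W)) (AddEquiv.ulift n))
    simp only [zmultiplesHom_apply]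
    rw [map_zsmul, map_one]

theorem zToUnit_app (W : Cᵒᵖ) (n : ULift.{u} ℤ) :
    (zToUnit O).app W n = n.down • (1 : O.obj.obj W) := rfl

/-- `O ⊗ ℤ ⟶ O` -/
noncomputable def frUnitHom : frObj O (constZ (C := C)) ⟶ PresheafOfModules.unit O.obj :=
  adjFrom (zToUnit O)

/-- `a ⊗ n ↦ n • a`, with clean types -/
noncomputable def adjU (W : Cᵒᵖ) : FS O (constZ (C := C)) W →+ O.obj.obj W :=
  adjFromAdd (zToUnit O) W

theorem adjU_tmul (W : Cᵒᵖ) (a : O.obj.obj W) (n : ULift.{u} ℤ) :
    adjU O W (a ⊗ₜ n) = n.down • a := by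
  change a • (n.down • (1 : O.obj.obj W)) = n.down • a
  rw [smul_eq_mul, mul_smul_comm, mul_one]

/-- `a ↦ a ⊗ 1` -/
noncomputable def unitToFrAdd (W : Cᵒᵖ) : O.obj.obj W →+ FS O (constZ (C := C)) W where
  toFun a := a ⊗ₜ (ULift.up 1 : ULift.{u} ℤ)
  map_zero' := TensorProduct.zero_tmul _ _
  map_add' a b := TensorProduct.add_tmul a b _

theorem unitToFrAdd_apply (W : Cᵒᵖ) (a : O.obj.obj W) :
    unitToFrAdd O W a = a ⊗ₜ (ULift.up 1 : ULift.{u} ℤ) := rfl

theorem unitToFrAdd_mul (W : Cᵒᵖ) (r a : O.obj.obj W) :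
    unitToFrAdd O W (r * a) = r • unitToFrAdd O W a := by
  rw [unitToFrAdd_apply, unitToFrAdd_apply, TensorProduct.smul_tmul', smul_eq_mul]

theorem unitToFrAdd_adjU (W : Cᵒᵖ) (m : FS O (constZ (C := C)) W) :
    unitToFrAdd O W (adjU O W m) = m := by
  induction m using TensorProduct.induction_on with
  | zero => rw [map_zero, map_zero]
  | tmul a n =>
    rw [adjU_tmul, unitToFrAdd_apply, TensorProduct.smul_tmul]
    congr 1
    apply ULift.ext
    simp
  | add a b ha hb => rw [map_add, map_add, ha, hb]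

theorem adjU_unitToFrAdd (W : Cᵒᵖ) (a : O.obj.obj W) : adjU O W (unitToFrAdd O W a) = a := by
  rw [unitToFrAdd_apply, adjU_tmul, one_smul]

/-- `O ⟶ O ⊗ ℤ` -/
noncomputable def frUnitInv : PresheafOfModules.unit O.obj ⟶ frObj O (constZ (C := C)) :=
  PresheafOfModules.homMk (M₁ := PresheafOfModules.unit _) (M₂ := frObj O (constZ (C := C)))
    { app := fun W => AddCommGrpCat.ofHom (unitToFrAdd O W)
      naturality := fun W W' g => by
        ext a
        rfl }
    (fun W r a => unitToFrAdd_mul O W r a)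

/-- `frP (const ℤ) ≅ unit` -/
noncomputable def frUnitIso : (frP O).obj (constZ (C := C)) ≅ PresheafOfModules.unit O.obj where
  hom := frUnitHom O
  inv := frUnitInv O
  hom_inv_id := by
    apply (PresheafOfModules.toPresheaf _).map_injective
    ext W m
    exact unitToFrAdd_adjU O W m
  inv_hom_id := by
    apply (PresheafOfModules.toPresheaf _).map_injective
    ext W a
    exact adjU_unitToFrAdd O W a

/-- `Fr ∘ sheafify ≅ sheafify ∘ frP` (uniqueness of left adjoints) -/
noncomputable def frSheafifyIso :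
    presheafToSheaf J AddCommGrpCat.{u} ⋙ Fr O ≅ frP O ⋙ shf O :=
  ((sheafificationAdjunction J AddCommGrpCat.{u}).comp (frAdj O)).leftAdjointUniq
    (((frPAdj O).comp (shfAdj O)).ofNatIsoRight
      (NatIso.ofComponents (fun _ => Iso.refl _) :
        fgt O ⋙ PresheafOfModules.toPresheaf _ ≅ toAbF O ⋙ sheafToPresheaf J AddCommGrpCat.{u}))

/-- `Fr ℤ ≅ O` -/
noncomputable def frZIso : (Fr O).obj (ZC (J := J)) ≅ SheafOfModules.unit O :=
  (frSheafifyIso O).app (constZ (C := C)) ≪≫ (shf O).mapIso (frUnitIso O) ≪≫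
    (fgtShfIso O).app (SheafOfModules.unit O)

end UnitIso

section Bridge

open Abelian

variable (O)

/-- the δ-functor `H ↦ Ext^n(Z, toAb H)` on `Mod O` -/
noncomputable def DZ (Z : Sheaf J Ab.{u}) :
    CohDeltaFunctor (SheafOfModules.{u} O) AddCommGrpCat.{u} ℕ :=
  comap (toAbF O) (extDelta Z)

lemma DZ_effaceable (Z : Sheaf J Ab.{u}) (hZ : TF Z) : (DZ O Z).IsEffaceable := fun n H => by
  refine ⟨Injective.under H, Injective.ι H, inferInstance, ?_⟩
  have hz : IsZero (((DZ O Z).F (n + 1)).obj (Injective.under H)) := by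
    have : Subsingleton (Ext Z ((toAbF O).obj (Injective.under H)) (n + 1)) :=
      ext_toAb_injective_subsingleton Z hZ (Injective.under H) n
    exact @AddCommGrpCat.isZero_of_subsingleton
      (AddCommGrpCat.of (Ext Z ((toAbF O).obj (Injective.under H)) (n + 1))) this
  exact hz.eq_of_tgt _ _

/-- `H ↦ Hom(Z, toAb H)` -/
noncomputable abbrev SZ (Z : Sheaf J Ab.{u}) : SheafOfModules.{u} O ⥤ AddCommGrpCat.{u} :=
  toAbF O ⋙ (extDelta Z).F 0

/-- cohomology of the underlying abelian sheaf is the derived functor computed in `Mod O` -/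
theorem nonempty_SZ_rightDerived_iso (Z : Sheaf J Ab.{u}) (hZ : TF Z) (H : SheafOfModules.{u} O)
    (p : ℕ) :
    Nonempty (AddCommGrpCat.of (Ext Z ((toAbF O).obj H) p) ≅ ((SZ O Z).rightDerived p).obj H) :=
  nonempty_iso_rightDerived_obj (DZ O Z) (DZ_effaceable O Z hZ) (SZ O Z) (Iso.refl _) p H

/-- `Ext_O(Fr Z, H) ≅ Ext(Z, toAb H)` for torsion-free `Z` -/
theorem nonempty_ext_Fr_iso [HasExt.{u} (SheafOfModules.{u} O)] (Z : Sheaf J Ab.{u}) (hZ : TF Z)
    (H : SheafOfModules.{u} O) (p : ℕ) :
    Nonempty (AddCommGrpCat.of (Ext ((Fr O).obj Z) H p) ≅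
      AddCommGrpCat.of (Ext Z ((toAbF O).obj H) p)) := by
  obtain ⟨e1⟩ := nonempty_iso_rightDerived_obj (extDelta ((Fr O).obj Z)) (extDelta_effaceable _)
    (toAbF O ⋙ (extDelta Z).F 0) (extZeroAdjIso (frAdj O) Z) p H
  obtain ⟨e2⟩ := nonempty_SZ_rightDerived_iso O Z hZ H p
  exact ⟨e1 ≪≫ e2.symm⟩

end Bridge

end Groth.Agent.Helper24.FrRing
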