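import Mathlib
import Groth.Agent.Lib.Helper13.PnFin1
import Groth.Agent.Lib.Helper13.ToAbExact
import Groth.Agent.Lib.Helper9.PowKill

/-!
# The long exact cohomology sequence of a short exact sequence of modules, linearly (helper24)

For `X` over `Spec A` and a short exact sequence `S` of `O_X`-modules, the connecting homomorphism
`H^p(S.X₃) → H^{p+1}(S.X₁)` is `A`-linear, and the long exact sequence is exact as a sequence of
`A`-linear maps.  Over a field this gives the usual dimension count.
-/

set_option autoImplicit false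
set_option linter.unusedSectionVars false
set_option linter.style.haveILetI false
set_option linter.unusedVariables false
universe u
open CategoryTheory CategoryTheory.Limits AlgebraicGeometry Opposite TopologicalSpace
open Groth.Agent.Helper13.PnFin Groth.Agent.Helper13.ToAbExact Abelian

namespace Groth.Agent.Helper24.LinLES

variable {X : Scheme.{u}}

/-- multiplication by a global function, as an endomorphism of the short complex of abelian
sheaves underlying a short complex of modules. -/
noncomputable def smulSC (S : ShortComplex X.Modules) (r : Coh.Γtop X) :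
    S.map (toAbF X) ⟶ S.map (toAbF X) where
  τ₁ := Coh.smulAb S.X₁ r
  τ₂ := Coh.smulAb S.X₂ r
  τ₃ := Coh.smulAb S.X₃ r
  comm₁₂ := (Groth.Agent.Helper9.PowKill.toSheaf_map_comp_smulAb S.f r).symm
  comm₂₃ := (Groth.Agent.Helper9.PowKill.toSheaf_map_comp_smulAb S.g r).symm

variable (A : Type u) [CommRing A] [X.Over (Spec (CommRingCat.of A))]

/-- scalar multiplication on cohomology, as a Yoneda composition. -/
theorem smul_eq_comp (M : X.Modules) (a : A) (p : ℕ) (y : Coh.HH X M p) :
    a • y = Ext.comp y (Ext.mk₀ (Coh.smulAb M (Coh.toGlobal (X ↘ Spec (CommRingCat.of A)) a)))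
      (add_zero p) := rfl

/-- the connecting homomorphism `H^p(S.X₃) → H^q(S.X₁)`, `q = p + 1`, as an `A`-linear map. -/
noncomputable def hdelta (S : ShortComplex X.Modules) (hS : S.ShortExact) (p q : ℕ)
    (hpq : p + 1 = q) : Coh.HH X S.X₃ p →ₗ[A] Coh.HH X S.X₁ q where
  toFun x := Ext.comp x (toAb_shortExact S hS).extClass hpq
  map_add' y z := Ext.add_comp y z _ hpq
  map_smul' a y := by
    have hnat := ShortComplex.ShortExact.extClass_naturality (toAb_shortExact S hS)
      (toAb_shortExact S hS) (smulSC S (Coh.toGlobal (X ↘ Spec (CommRingCat.of A)) a))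
    rw [RingHom.id_apply]
    refine (congrArg (fun z => Ext.comp z (toAb_shortExact S hS).extClass hpq)
      (smul_eq_comp A S.X₃ a p y)).trans ?_
    refine Eq.trans ?_ (smul_eq_comp A S.X₁ a q _).symm
    show Ext.comp (Ext.comp y (Ext.mk₀ (smulSC S _).τ₃) (add_zero p))
        (toAb_shortExact S hS).extClass hpq =
      Ext.comp (Ext.comp y (toAb_shortExact S hS).extClass hpq) (Ext.mk₀ (smulSC S _).τ₁)
        (add_zero q)
    rw [Ext.comp_assoc_of_second_deg_zero, Ext.comp_assoc_of_third_deg_zero]
    exact congrArg (fun z => Ext.comp y z hpq) hnat.symm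

theorem hdelta_apply (S : ShortComplex X.Modules) (hS : S.ShortExact) (p q : ℕ)
    (hpq : p + 1 = q) (x : Coh.HH X S.X₃ p) :
    hdelta A S hS p q hpq x = Ext.comp x (toAb_shortExact S hS).extClass hpq := rfl

/-- exactness at `H^p(S.X₂)`. -/
theorem range_f_eq_ker_g (S : ShortComplex X.Modules) (hS : S.ShortExact) (p : ℕ) :
    LinearMap.range (hstar A S.f p) = LinearMap.ker (hstar A S.g p) := by
  ext y
  constructor
  · rintro ⟨x, rfl⟩
    rw [LinearMap.mem_ker, ← LinearMap.comp_apply, ← hstar_comp, S.zero, hstar_zero]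
    rfl
  · intro hy
    obtain ⟨x₁, hx₁⟩ := Ext.covariant_sequence_exact₂ _ (toAb_shortExact S hS) y hy
    exact ⟨x₁, hx₁⟩

/-- exactness at `H^p(S.X₃)`. -/
theorem range_g_eq_ker_δ (S : ShortComplex X.Modules) (hS : S.ShortExact) (p q : ℕ)
    (hpq : p + 1 = q) :
    LinearMap.range (hstar A S.g p) = LinearMap.ker (hdelta A S hS p q hpq) := by
  ext y
  constructor
  · rintro ⟨x, rfl⟩
    rw [LinearMap.mem_ker]
    show Ext.comp (Ext.comp x (Ext.mk₀ ((toAbF X).map S.g)) (add_zero p))
      (toAb_shortExact S hS).extClass hpq = 0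
    rw [Ext.comp_assoc_of_second_deg_zero]
    have h0 := (toAb_shortExact S hS).comp_extClass
    exact (congrArg (fun z => Ext.comp x z hpq) h0).trans (Ext.comp_zero _ _ _ _ _)
  · intro hy
    obtain ⟨x₂, hx₂⟩ := Ext.covariant_sequence_exact₃ _ (toAb_shortExact S hS) y hpq hy
    exact ⟨x₂, hx₂⟩

/-- exactness at `H^q(S.X₁)`, `q = p + 1`. -/
theorem range_δ_eq_ker_f (S : ShortComplex X.Modules) (hS : S.ShortExact) (p q : ℕ)
    (hpq : p + 1 = q) :
    LinearMap.range (hdelta A S hS p q hpq) = LinearMap.ker (hstar A S.f q) := by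
  ext y
  constructor
  · rintro ⟨x, rfl⟩
    rw [LinearMap.mem_ker]
    show Ext.comp (Ext.comp x (toAb_shortExact S hS).extClass hpq)
      (Ext.mk₀ ((toAbF X).map S.f)) (add_zero q) = 0
    rw [Ext.comp_assoc_of_third_deg_zero]
    have h0 := (toAb_shortExact S hS).extClass_comp
    exact (congrArg (fun z => Ext.comp x z hpq) h0).trans (Ext.comp_zero _ _ _ _ _)
  · intro hy
    obtain ⟨x₃, hx₃⟩ := Ext.covariant_sequence_exact₁ _ (toAb_shortExact S hS) y hy hpq
    exact ⟨x₃, hx₃⟩

/-- `H^0` of a monomorphism is injective. -/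
theorem hstar_f_injective_zero (S : ShortComplex X.Modules) (hS : S.ShortExact) :
    Function.Injective (hstar A S.f 0) := by
  haveI : Mono ((toAbF X).map S.f) := (toAb_shortExact S hS).mono_f
  exact Ext.postcomp_mk₀_injective_of_mono _ ((toAbF X).map S.f)

/-- the dimension count for the six-term exact sequence
`0 → H^0(S.X₁) → H^0(S.X₂) → H^0(S.X₃) → H^1(S.X₁) → H^1(S.X₂) → H^1(S.X₃) = 0`. -/
theorem finrank_formula (k : Type u) [Field k] {X : Scheme.{u}}
    [X.Over (Spec (CommRingCat.of k))]
    (S : ShortComplex X.Modules) (hS : S.ShortExact)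
    [Module.Finite k (Coh.HH X S.X₂ 0)] [Module.Finite k (Coh.HH X S.X₃ 0)]
    [Module.Finite k (Coh.HH X S.X₁ 1)]
    (h3 : Subsingleton (Coh.HH X S.X₃ 1)) :
    Module.finrank k (Coh.HH X S.X₃ 0) + Module.finrank k (Coh.HH X S.X₁ 0) +
      Module.finrank k (Coh.HH X S.X₂ 1) =
    Module.finrank k (Coh.HH X S.X₂ 0) + Module.finrank k (Coh.HH X S.X₁ 1) := by
  have hf0 := hstar_f_injective_zero k S hS
  have e1 := LinearMap.finrank_range_add_finrank_ker (hstar k S.g 0)
  have e2 := LinearMap.finrank_range_add_finrank_ker (hdelta k S hS 0 1 rfl)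
  have e3 := LinearMap.finrank_range_add_finrank_ker (hstar k S.f 1)
  rw [← range_f_eq_ker_g k S hS 0, LinearMap.finrank_range_of_inj hf0] at e1
  rw [← range_g_eq_ker_δ k S hS 0 1 rfl] at e2
  rw [← range_δ_eq_ker_f k S hS 0 1 rfl] at e3
  have hsurj : LinearMap.range (hstar k S.f 1) = ⊤ := by
    rw [range_f_eq_ker_g k S hS 1]
    ext y
    simp only [LinearMap.mem_ker, Submodule.mem_top, iff_true]
    exact Subsingleton.elim _ _
  rw [hsurj, finrank_top] at e3
  omega

end Groth.Agent.Helper24.LinLES
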