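import Mathlib
import Groth.Agent.Lib.Helper24.PnMumford1
import Groth.Agent.S3224
import Groth.Agent.S0038
import Groth.Agent.S9514

/-!
# Mumford's lemma on `P^n_k` (helper24)

`0 → F(-1) → F → Q → 0` with `Q` `m`-regular.
-/

set_option autoImplicit false
set_option linter.unusedSectionVars false
set_option linter.style.haveILetI false
set_option linter.unusedVariables false
universe u
open CategoryTheory CategoryTheory.Limits AlgebraicGeometry Opposite TopologicalSpace
open Groth.Agent.Helper13.TwistSES Groth.Agent.Helper13.ToAbExact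

namespace Groth.Agent.Helper24.PnMumford

section General

variable {X : Scheme.{u}} (A : Type u) [CommRing A] [X.Over (Spec (CommRingCat.of A))]

open Groth.Agent.Helper13.PnFin

/-- an isomorphism of modules gives a linear equivalence on cohomology. -/
noncomputable def hEquiv {M M' : X.Modules} (e : M ≅ M') (p : ℕ) :
    Coh.HH X M p ≃ₗ[A] Coh.HH X M' p :=
  LinearEquiv.ofLinear (hstar A e.hom p) (hstar A e.inv p)
    (by rw [← hstar_comp, e.inv_hom_id, hstar_id])
    (by rw [← hstar_comp, e.hom_inv_id, hstar_id])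

end General

section Pn

variable (k : Type u) [Field k] (n : ℕ)

open Groth.Agent.Helper13 Groth.Agent.Helper13.Tensor Groth.Agent.Helper26.PnReg
open Groth.Agent.Helper13.PnFin

/-- `h^1(F(j))`. -/
noncomputable def h1 (F : (CohB1.ProjSpace n k).Modules) (j : ℤ) : ℕ :=
  Module.finrank k (Coh.HH (CohB1.ProjSpace n k)
    (CohB1.tensorMod F (Twist.twistProjSpace n k j)) 1)

theorem main11296 (F : (CohB1.ProjSpace n k).Modules) (hF : Coh.IsCoh F)
    (ι : CohB1.tensorMod F (Twist.twistProjSpace n k (-1)) ⟶ F) [Mono ι] (m : ℤ)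
    (hG : Curv2.IsMRegular k n (cokernel ι) m) :
    (∀ (i : ℕ) (j : ℤ), 2 ≤ i → m - i ≤ j →
        Subsingleton (Coh.HH (CohB1.ProjSpace n k)
          (CohB1.tensorMod F (Twist.twistProjSpace n k j)) i)) ∧
    (∀ j : ℤ, m - 1 ≤ j → h1 k n F j ≤ h1 k n F (j - 1)) ∧
    (∀ j : ℤ, m - 1 + (h1 k n F (m - 1) : ℤ) ≤ j →
        Subsingleton (Coh.HH (CohB1.ProjSpace n k)
          (CohB1.tensorMod F (Twist.twistProjSpace n k j)) 1)) ∧
    Curv2.IsMRegular k n F (m + (h1 k n F (m - 1) : ℤ)) := by
  haveI := Groth.Agent.Helper26.PnReg.isNoetherian_projSpace k n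
  -- coherence
  have hF1 : Coh.IsCoh (CohB1.tensorMod F (Twist.twistProjSpace n k (-1))) :=
    isCoh_tensor_twist k n F hF (-1)
  have hQ : Coh.IsCoh (cokernel ι) := (Groth.Agent.S9514.result _ hF1 hF ι).2
  -- the short exact sequence and its twists
  let S : ShortComplex (CohB1.ProjSpace n k).Modules :=
    ShortComplex.mk ι (cokernel.π ι) (cokernel.condition ι)
  have hS : S.ShortExact :=
    { exact := ShortComplex.exact_cokernel ι
      mono_f := inferInstanceAs (Mono ι)
      epi_g := inferInstanceAs (Epi (cokernel.π ι)) }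
  have hSj : ∀ j : ℤ, (tensorSC S (Twist.twistProjSpace n k j)).ShortExact :=
    fun j => twist_shortExact k n S hS j
  -- vanishing for the cokernel
  have hR : ∀ (i : ℕ) (r : ℤ), 1 ≤ i → m - i ≤ r →
      Subsingleton (Coh.HH (CohB1.ProjSpace n k)
        (CohB1.tensorMod (cokernel ι) (Twist.twistProjSpace n k r)) i) := by
    refine Groth.Agent.S3224.result k n (cokernel ι) hQ m ?_
    intro i hi
    by_cases hin : i ≤ n
    · exact hG i hi hin
    · haveI := (isCoh_tensor_twist k n (cokernel ι) hQ (m - i)).1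
      exact HH_subsingleton_projSpace_of_lt k n _ i (by omega)
  -- Serre vanishing
  obtain ⟨N₀, hN₀⟩ := Groth.Agent.Helper13.PnSerre.serre_vanishing n k F hF
  -- the kernel term of the twisted sequence
  have hE : ∀ j : ℤ, Nonempty ((tensorSC S (Twist.twistProjSpace n k j)).X₁ ≅
      CohB1.tensorMod F (Twist.twistProjSpace n k (j - 1))) := by
    intro j
    obtain ⟨e⟩ := twist_twist_iso k n F (-1) j
    have he : (-1 : ℤ) + j = j - 1 := by ring
    rw [he] at e
    exact ⟨e⟩
  -- (i)
  have hi_ : ∀ (p : ℕ), 1 ≤ p → ∀ (t : ℕ) (j : ℤ), m - ((p + 1 : ℕ) : ℤ) ≤ j → N₀ ≤ j + t →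
      Subsingleton (Coh.HH (CohB1.ProjSpace n k)
        (CohB1.tensorMod F (Twist.twistProjSpace n k j)) (p + 1)) := by
    intro p hp t
    induction t with
    | zero =>
      intro j _ hj
      exact hN₀ j (by simpa using hj) (p + 1) (Nat.succ_pos p)
    | succ t ih =>
      intro j hmj hj
      have h2 := ih (j + 1) (by omega) (by push_cast at hj ⊢; omega)
      have h3 : Subsingleton (Coh.HH (CohB1.ProjSpace n k)
          (tensorSC S (Twist.twistProjSpace n k (j + 1))).X₃ p) :=
        hR p (j + 1) hp (by push_cast at hmj ⊢; omega)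
      have h1' := Groth.Agent.Helper24.PnRegRes.HH_subsingleton_X₁
        (tensorSC S (Twist.twistProjSpace n k (j + 1))) (hSj (j + 1)) p h3 h2
      obtain ⟨e⟩ := hE (j + 1)
      have he : j + 1 - 1 = j := by ring
      rw [he] at e
      exact Groth.Agent.Helper9.AffStrat.HH_subsingleton_of_iso e.symm (p + 1) h1'
  have hi' : ∀ (i : ℕ) (j : ℤ), 2 ≤ i → m - i ≤ j →
      Subsingleton (Coh.HH (CohB1.ProjSpace n k)
        (CohB1.tensorMod F (Twist.twistProjSpace n k j)) i) := by
    intro i j hi hj
    obtain ⟨p, rfl⟩ : ∃ p, i = p + 1 := ⟨i - 1, by omega⟩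
    have hself := Int.self_le_toNat (N₀ - j)
    exact hi_ p (by omega) (N₀ - j).toNat j hj (by omega)
  -- finiteness
  have hfin : ∀ (M : (CohB1.ProjSpace n k).Modules), Coh.IsCoh M → ∀ p : ℕ,
      Module.Finite k (Coh.HH (CohB1.ProjSpace n k) M p) :=
    fun M hM p => Groth.Agent.S0038.result n k M hM p
  have hcohF : ∀ j : ℤ, Coh.IsCoh (CohB1.tensorMod F (Twist.twistProjSpace n k j)) :=
    fun j => isCoh_tensor_twist k n F hF j
  have hcohX1 : ∀ j : ℤ, Coh.IsCoh (tensorSC S (Twist.twistProjSpace n k j)).X₁ :=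
    fun j => isCoh_tensor_twist k n _ hF1 j
  -- the maps `σ_j : H^1(F(-1)(j)) → H^1(F(j))`
  have hσsurj : ∀ j : ℤ, m - 1 ≤ j → Function.Surjective
      (hstar k (tensorSC S (Twist.twistProjSpace n k j)).f 1) := by
    intro j hj
    have h3 : Subsingleton (Coh.HH (CohB1.ProjSpace n k)
        (tensorSC S (Twist.twistProjSpace n k j)).X₃ 1) :=
      hR 1 j le_rfl (by push_cast; omega)
    intro y
    obtain ⟨x, hx⟩ := surj_f_of_X₃ (tensorSC S (Twist.twistProjSpace n k j)) (hSj j) 1 h3 y
    exact ⟨x, hx⟩
  have hX1rank : ∀ j : ℤ, Module.finrank k (Coh.HH (CohB1.ProjSpace n k)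
      (tensorSC S (Twist.twistProjSpace n k j)).X₁ 1) = h1 k n F (j - 1) := by
    intro j
    obtain ⟨e⟩ := hE j
    exact LinearEquiv.finrank_eq (hEquiv k e 1)
  -- (ii)
  have hii : ∀ j : ℤ, m - 1 ≤ j → h1 k n F j ≤ h1 k n F (j - 1) := by
    intro j hj
    haveI := hfin _ (hcohX1 j) 1
    have h := LinearMap.finrank_le_finrank_of_surjective (hσsurj j hj)
    rw [hX1rank j] at h
    exact h
  -- the multiplication step on `H^0`
  have hK : ∀ j : ℤ, m ≤ j →
      Function.Surjective (Sheaf.H.map ((SheafOfModules.toSheaf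
        (CohB1.ProjSpace n k).ringCatSheaf).map
          (tensorSC S (Twist.twistProjSpace n k j)).g) 0) →
      Function.Surjective (Sheaf.H.map ((SheafOfModules.toSheaf
        (CohB1.ProjSpace n k).ringCatSheaf).map
          (tensorSC S (Twist.twistProjSpace n k (j + 1))).g) 0) := by
    intro j hj h
    have h' := (surj_H0_iff _).1 h
    refine (surj_H0_iff _).2 ?_
    exact surj_step k n (cokernel ι) F hQ m hG (cokernel.π ι) j hj h'
  have hKall : ∀ j : ℤ, m ≤ j →
      Function.Surjective (Sheaf.H.map ((SheafOfModules.toSheaf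
        (CohB1.ProjSpace n k).ringCatSheaf).map
          (tensorSC S (Twist.twistProjSpace n k j)).g) 0) →
      ∀ (t : ℕ) (j' : ℤ), j' = j + t →
        Function.Surjective (Sheaf.H.map ((SheafOfModules.toSheaf
          (CohB1.ProjSpace n k).ringCatSheaf).map
            (tensorSC S (Twist.twistProjSpace n k j')).g) 0) := by
    intro j hj h t
    induction t with
    | zero =>
      intro j' hj'
      obtain rfl : j' = j := by simpa using hj'
      exact h
    | succ t ih =>
      intro j' hj'
      have h1' := ih (j + t) rfl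
      have h2 := hK (j + t) (by omega) h1'
      obtain rfl : j' = j + t + 1 := by push_cast at hj'; omega
      exact h2
  -- equality of ranks forces vanishing
  have hF2 : ∀ j : ℤ, m ≤ j → h1 k n F j = h1 k n F (j - 1) →
      Subsingleton (Coh.HH (CohB1.ProjSpace n k)
        (CohB1.tensorMod F (Twist.twistProjSpace n k (j - 1))) 1) := by
    intro j hj heq
    haveI := hfin _ (hcohX1 j) 1
    haveI : Module.Finite k (Coh.HH (CohB1.ProjSpace n k)
        (tensorSC S (Twist.twistProjSpace n k j)).X₂ 1) := hfin _ (hcohF j) 1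
    have hrk : Module.finrank k (Coh.HH (CohB1.ProjSpace n k)
        (tensorSC S (Twist.twistProjSpace n k j)).X₁ 1) =
        Module.finrank k (Coh.HH (CohB1.ProjSpace n k)
          (tensorSC S (Twist.twistProjSpace n k j)).X₂ 1) :=
      (hX1rank j).trans heq.symm
    have hinj : Function.Injective (hstar k (tensorSC S (Twist.twistProjSpace n k j)).f 1) :=
      (LinearMap.injective_iff_surjective_of_finrank_eq_finrank hrk).2 (hσsurj j (by omega))
    have hinj' : Function.Injective (Sheaf.H.map ((SheafOfModules.toSheaf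
        (CohB1.ProjSpace n k).ringCatSheaf).map
          (tensorSC S (Twist.twistProjSpace n k j)).f) 1) := fun a b hab => hinj hab
    have hρ := surj_g_of_inj_f _ (hSj j) hinj'
    have hρall : ∀ j' : ℤ, j ≤ j' →
        Function.Surjective (Sheaf.H.map ((SheafOfModules.toSheaf
          (CohB1.ProjSpace n k).ringCatSheaf).map
            (tensorSC S (Twist.twistProjSpace n k j')).g) 0) := by
      intro j' hjj'
      have hnn := Int.toNat_of_nonneg (sub_nonneg.2 hjj')
      exact hKall j hj hρ (j' - j).toNat j' (by omega)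
    have hinjall : ∀ j' : ℤ, j ≤ j' →
        Function.Injective (Sheaf.H.map ((SheafOfModules.toSheaf
          (CohB1.ProjSpace n k).ringCatSheaf).map
            (tensorSC S (Twist.twistProjSpace n k j')).f) 1) :=
      fun j' h => inj_f_of_surj_g _ (hSj j') (hρall j' h)
    have hdown : ∀ (t : ℕ) (j' : ℤ), j - 1 ≤ j' → N₀ ≤ j' + t →
        Subsingleton (Coh.HH (CohB1.ProjSpace n k)
          (CohB1.tensorMod F (Twist.twistProjSpace n k j')) 1) := by
      intro t
      induction t with
      | zero =>
        intro j' _ h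
        exact hN₀ j' (by simpa using h) 1 Nat.one_pos
      | succ t ih =>
        intro j' h1' h2
        have hV := ih (j' + 1) (by omega) (by push_cast at h2 ⊢; omega)
        haveI : Subsingleton (Coh.HH (CohB1.ProjSpace n k)
            (tensorSC S (Twist.twistProjSpace n k (j' + 1))).X₂ 1) := hV
        have hX1 : Subsingleton (Coh.HH (CohB1.ProjSpace n k)
            (tensorSC S (Twist.twistProjSpace n k (j' + 1))).X₁ 1) :=
          (hinjall (j' + 1) (by omega)).subsingleton
        obtain ⟨e'⟩ := hE (j' + 1)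
        have he : j' + 1 - 1 = j' := by ring
        rw [he] at e'
        exact Groth.Agent.Helper9.AffStrat.HH_subsingleton_of_iso e'.symm 1 hX1
    have hself := Int.self_le_toNat (N₀ - (j - 1))
    exact hdown (N₀ - (j - 1)).toNat (j - 1) le_rfl (by omega)
  -- the descent of `h^1`
  have hF3 : ∀ (t : ℕ) (j : ℤ), j = m - 1 + t → h1 k n F j ≤ h1 k n F (m - 1) - t := by
    intro t
    induction t with
    | zero =>
      intro j hj
      obtain rfl : j = m - 1 := by simpa using hj
      omega
    | succ t ih =>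
      intro j hj
      have hjm : m ≤ j := by push_cast at hj; omega
      have h1' := hii j (by omega)
      have h2 := ih (j - 1) (by push_cast at hj; omega)
      by_cases heq : h1 k n F j = h1 k n F (j - 1)
      · haveI := hF2 j hjm heq
        have h0 : h1 k n F (j - 1) = 0 := Module.finrank_zero_of_subsingleton
        omega
      · omega
  -- (iii)
  have hiii : ∀ j : ℤ, m - 1 + (h1 k n F (m - 1) : ℤ) ≤ j →
      Subsingleton (Coh.HH (CohB1.ProjSpace n k)
        (CohB1.tensorMod F (Twist.twistProjSpace n k j)) 1) := by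
    intro j hj
    have hnn : (0 : ℤ) ≤ (h1 k n F (m - 1) : ℤ) := Int.natCast_nonneg _
    have hj0 : 0 ≤ j - (m - 1) := by omega
    have htn := Int.toNat_of_nonneg hj0
    have h := hF3 (j - (m - 1)).toNat j (by omega)
    have h0 : h1 k n F j = 0 := by omega
    haveI := hfin _ (hcohF j) 1
    exact Module.finrank_zero_iff.1 h0
  -- (iv)
  have hiv : Curv2.IsMRegular k n F (m + (h1 k n F (m - 1) : ℤ)) := by
    intro i hi1 hin
    have hnn : (0 : ℤ) ≤ (h1 k n F (m - 1) : ℤ) := Int.natCast_nonneg _
    rcases Nat.lt_or_ge i 2 with h | h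
    · obtain rfl : i = 1 := by omega
      exact hiii _ (by push_cast; omega)
    · exact hi' i _ h (by omega)
  exact ⟨hi', hii, hiii, hiv⟩

end Pn

end Groth.Agent.Helper24.PnMumford
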