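import Groth.Agent.Lib.Helper24.RlimTrunc2
import Groth.Prelude.Def_WeakSerre

/-!
# Tools for derived limits of eventually constant systems

* `weakSerre_five`: five-term closure property of a weak Serre subcategory
* `isZero_homology_obj₃`, `prop_homology_obj₃`: cohomology of a cone
* `subsingleton_hom_of_window`: vanishing of maps into a bounded below object from vanishing of
  the contributions of its cohomology objects
* `bijective_postcomp_of_homology_iso`
-/

set_option autoImplicit false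
universe w' w v u
open CategoryTheory CategoryTheory.Limits Opposite Pretriangulated DerivedCategory

namespace Groth.Agent.Helper24.RlimConst

section Five

variable {𝒜 : Type u} [Category.{v} 𝒜] [Abelian 𝒜] (P : ObjectProperty 𝒜) [WSerre.IsWeakSerre P]

/-- the five-term closure property of a weak Serre subcategory -/
theorem weakSerre_five {X₁ X₂ X₃ X₄ X₅ : 𝒜} (f : X₁ ⟶ X₂) (g : X₂ ⟶ X₃) (h : X₃ ⟶ X₄)
    (k : X₄ ⟶ X₅) (w₁ : f ≫ g = 0) (w₂ : g ≫ h = 0) (w₃ : h ≫ k = 0)
    (e₁ : (ShortComplex.mk f g w₁).Exact) (e₂ : (ShortComplex.mk g h w₂).Exact)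
    (e₃ : (ShortComplex.mk h k w₃).Exact) (h₁ : P X₁) (h₂ : P X₂) (h₄ : P X₄) (h₅ : P X₅) :
    P X₃ := by
  -- image of `g`
  let I := Abelian.image g
  let e : X₂ ⟶ I := Abelian.factorThruImage g
  let m : I ⟶ X₃ := Abelian.image.ι g
  have hem : e ≫ m = g := Abelian.image.fac g
  have wfe : f ≫ e = 0 := by
    rw [← cancel_mono m, Category.assoc, hem, w₁, zero_comp]
  have ex1 : (ShortComplex.mk f e wfe).Exact := by
    let φ : ShortComplex.mk f e wfe ⟶ ShortComplex.mk f g w₁ :=
      { τ₁ := 𝟙 _, τ₂ := 𝟙 _, τ₃ := m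
        comm₁₂ := by simp
        comm₂₃ := by simpa using hem.symm }
    have : Epi φ.τ₁ := by dsimp [φ]; infer_instance
    have : IsIso φ.τ₂ := by dsimp [φ]; infer_instance
    have : Mono φ.τ₃ := by dsimp [φ]; infer_instance
    exact (ShortComplex.exact_iff_of_epi_of_isIso_of_mono φ).2 e₁
  have hI : P I := by
    have : Epi (ShortComplex.mk f e wfe).g := by dsimp; infer_instance
    exact P.prop_of_isColimit_cokernelCofork (k := CokernelCofork.ofπ e wfe) ex1.gIsCokernel h₁ h₂
  -- image of `h`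
  let I' := Abelian.image h
  let e' : X₃ ⟶ I' := Abelian.factorThruImage h
  let m' : I' ⟶ X₄ := Abelian.image.ι h
  have hem' : e' ≫ m' = h := Abelian.image.fac h
  have wmk : m' ≫ k = 0 := by
    rw [← cancel_epi e', ← Category.assoc, hem', w₃, comp_zero]
  have ex2 : (ShortComplex.mk m' k wmk).Exact := by
    let φ : ShortComplex.mk h k w₃ ⟶ ShortComplex.mk m' k wmk :=
      { τ₁ := e', τ₂ := 𝟙 _, τ₃ := 𝟙 _
        comm₁₂ := by simpa using hem'
        comm₂₃ := by simp }
    have : Epi φ.τ₁ := by dsimp [φ]; infer_instance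
    have : IsIso φ.τ₂ := by dsimp [φ]; infer_instance
    have : Mono φ.τ₃ := by dsimp [φ]; infer_instance
    exact (ShortComplex.exact_iff_of_epi_of_isIso_of_mono φ).1 e₃
  have hI' : P I' := by
    have : Mono (ShortComplex.mk m' k wmk).f := by dsimp; infer_instance
    exact P.prop_of_isLimit_kernelFork (k := KernelFork.ofι m' wmk) ex2.fIsKernel h₄ h₅
  -- the short exact sequence `I ⟶ X₃ ⟶ I'`
  have wmh : m ≫ h = 0 := by
    rw [← cancel_epi e, ← Category.assoc, hem, w₂, comp_zero]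
  have wme : m ≫ e' = 0 := by
    rw [← cancel_mono m', Category.assoc, hem', wmh, zero_comp]
  have ex3 : (ShortComplex.mk m h wmh).Exact := by
    let φ : ShortComplex.mk g h w₂ ⟶ ShortComplex.mk m h wmh :=
      { τ₁ := e, τ₂ := 𝟙 _, τ₃ := 𝟙 _
        comm₁₂ := by simpa using hem
        comm₂₃ := by simp }
    have : Epi φ.τ₁ := by dsimp [φ]; infer_instance
    have : IsIso φ.τ₂ := by dsimp [φ]; infer_instance
    have : Mono φ.τ₃ := by dsimp [φ]; infer_instance
    exact (ShortComplex.exact_iff_of_epi_of_isIso_of_mono φ).1 e₂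
  have ex4 : (ShortComplex.mk m e' wme).Exact := by
    let φ : ShortComplex.mk m e' wme ⟶ ShortComplex.mk m h wmh :=
      { τ₁ := 𝟙 _, τ₂ := 𝟙 _, τ₃ := m'
        comm₁₂ := by simp
        comm₂₃ := by simpa using hem'.symm }
    have : Epi φ.τ₁ := by dsimp [φ]; infer_instance
    have : IsIso φ.τ₂ := by dsimp [φ]; infer_instance
    have : Mono φ.τ₃ := by dsimp [φ]; infer_instance
    exact (ShortComplex.exact_iff_of_epi_of_isIso_of_mono φ).2 ex3
  have hS : (ShortComplex.mk m e' wme).ShortExact :=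
    { exact := ex4
      mono_f := by dsimp; infer_instance
      epi_g := by dsimp; infer_instance }
  exact P.prop_X₂_of_shortExact hS hI hI'

end Five

end Groth.Agent.Helper24.RlimConst

namespace Groth.Agent.Helper24.RlimConst

open Groth.Agent.Helper24.RlimTrunc

section Cone

variable {𝒜 : Type u} [Category.{v} 𝒜] [Abelian 𝒜] [HasDerivedCategory.{w} 𝒜]

theorem isZero_homology_obj₃ (T : Triangle (DerivedCategory 𝒜)) (hT : T ∈ distTriang _) (q : ℤ)
    (h0 : IsIso ((homologyFunctor 𝒜 q).map T.mor₁))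
    (h1 : IsIso ((homologyFunctor 𝒜 (q + 1)).map T.mor₁)) :
    IsZero ((homologyFunctor 𝒜 q).obj T.obj₃) := by
  have e0 : Epi (((homologyFunctor 𝒜 0).shift q).map T.mor₁) := by
    change Epi ((homologyFunctor 𝒜 q).map T.mor₁); infer_instance
  have m1 : Mono (((homologyFunctor 𝒜 0).shift (q + 1)).map T.mor₁) := by
    change Mono ((homologyFunctor 𝒜 (q + 1)).map T.mor₁); infer_instance
  have z1 := ((homologyFunctor 𝒜 0).homologySequence_epi_shift_map_mor₁_iff T hT q).1 e0
  have z2 := ((homologyFunctor 𝒜 0).homologySequence_mono_shift_map_mor₁_iff T hT q (q + 1) rfl).1 m1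
  exact ((homologyFunctor 𝒜 0).homologySequence_exact₃ T hT q (q + 1) rfl).isZero_X₂ z1 z2

end Cone

section Window

variable {𝒜 : Type u} [Category.{v} 𝒜] [Abelian 𝒜] [HasDerivedCategory.{w} 𝒜]

open DerivedCategory.TStructure

lemma subsingleton_hom_of_iso {D : Type*} [Category D] {W X Y : D} (e : X ≅ Y)
    (h : Subsingleton (W ⟶ Y)) : Subsingleton (W ⟶ X) :=
  ⟨fun f g => (cancel_mono e.hom).1 (h.elim _ _)⟩

theorem subsingleton_hom_of_window (Z : 𝒜) (j' : ℤ) :
    ∀ (n : ℕ) (C : DerivedCategory 𝒜) (a : ℤ), C.IsGE a → j' + 1 - a ≤ n →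
      (∀ q, a ≤ q → q ≤ j' → Subsingleton ((singleFunctor 𝒜 0).obj Z ⟶
        ((singleFunctor 𝒜 q).obj ((homologyFunctor 𝒜 q).obj C))⟦j'⟧)) →
      Subsingleton ((singleFunctor 𝒜 0).obj Z ⟶ C⟦j'⟧) := by
  have base : ∀ (C : DerivedCategory 𝒜) (a : ℤ), C.IsGE a → j' < a →
      Subsingleton ((singleFunctor 𝒜 0).obj Z ⟶ C⟦j'⟧) := by
    intro C a hC hlt
    have h1 : t.IsGE (C⟦j'⟧) (a - j') := t.isGE_shift C a j' (a - j') (by omega)
    have h2 : t.IsLE ((singleFunctor 𝒜 0).obj Z) 0 := inferInstance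
    exact ⟨fun f g => by
      rw [t.zero_of_isLE_of_isGE f 0 (a - j') (by omega) h2 h1,
        t.zero_of_isLE_of_isGE g 0 (a - j') (by omega) h2 h1]⟩
  intro n
  induction n with
  | zero =>
    intro C a hC hn _
    exact base C a hC (by omega)
  | succ n ih =>
    intro C a hC hn hq
    by_cases hlt : j' < a
    · exact base C a hC hlt
    · have hle : a ≤ j' := by omega
      obtain ⟨e⟩ := exists_fib_iso C a (a + 1) rfl
      have hF : Subsingleton ((singleFunctor 𝒜 0).obj Z ⟶ (fib C a (a + 1))⟦j'⟧) :=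
        subsingleton_hom_of_iso ((shiftFunctor _ j').mapIso e) (hq a le_rfl hle)
      -- the truncation `τ_{≥ a+1} C`
      have hC' : ((t.truncGE (a + 1)).obj C).IsGE (a + 1) := inferInstance
      have h3 : Subsingleton ((singleFunctor 𝒜 0).obj Z ⟶ ((t.truncGE (a + 1)).obj C)⟦j'⟧) := by
        refine ih _ (a + 1) hC' (by push_cast at hn; omega) (fun q hq1 hq2 => ?_)
        have hiso := isIso_homologyMap_truncGEπ C (a + 1) q hq1
        let i := asIso ((homologyFunctor 𝒜 q).map ((t.truncGEπ (a + 1)).app C))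
        exact subsingleton_hom_of_iso
          ((shiftFunctor _ j').mapIso ((singleFunctor 𝒜 q).mapIso i.symm)) (hq q (by omega) hq2)
      have hc := isIso_cmp C a (a + 1) rfl
      have h3' : Subsingleton ((singleFunctor 𝒜 0).obj Z ⟶
          ((t.truncGE (a + 1)).obj ((t.truncGE a).obj C))⟦j'⟧) :=
        subsingleton_hom_of_iso ((shiftFunctor _ j').mapIso (asIso (cmp C a (a + 1))).symm) h3
      -- exactness
      let F' := preadditiveCoyoneda.obj (op ((singleFunctor 𝒜 0).obj Z))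
      have hT := t.triangleLTGE_distinguished (a + 1) ((t.truncGE a).obj C)
      have hex := F'.homologySequence_exact₂ _ hT j'
      rw [ShortComplex.ab_exact_iff] at hex
      have h2 : Subsingleton ((singleFunctor 𝒜 0).obj Z ⟶ ((t.truncGE a).obj C)⟦j'⟧) := by
        refine ⟨fun f g => ?_⟩
        have hz : ∀ φ : (singleFunctor 𝒜 0).obj Z ⟶ ((t.truncGE a).obj C)⟦j'⟧, φ = 0 := by
          intro φ
          obtain ⟨y, hy⟩ := hex φ (h3'.elim _ _)
          have hy0 : y = 0 := hF.elim _ _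
          rw [← hy, hy0, map_zero]
          rfl
        rw [hz f, hz g]
      have : IsIso ((t.truncGEπ a).app C) := inferInstance
      exact subsingleton_hom_of_iso ((shiftFunctor _ j').mapIso (asIso ((t.truncGEπ a).app C))) h2

end Window

end Groth.Agent.Helper24.RlimConst

namespace Groth.Agent.Helper24.RlimConst

open Groth.Agent.Helper24.RlimTrunc

section ClaimC

variable {𝒜 : Type u} [Category.{v} 𝒜] [Abelian 𝒜] [HasDerivedCategory.{w} 𝒜]
  (P : ObjectProperty 𝒜) [WSerre.IsWeakSerre P]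

open DerivedCategory.TStructure

theorem prop_homology_obj₃ (T : Triangle (DerivedCategory 𝒜)) (hT : T ∈ distTriang _)
    (h₁ : ∀ q, P ((homologyFunctor 𝒜 q).obj T.obj₁)) (h₂ : ∀ q, P ((homologyFunctor 𝒜 q).obj T.obj₂))
    (q : ℤ) : P ((homologyFunctor 𝒜 q).obj T.obj₃) :=
  weakSerre_five P _ _ _ _
    ((homologyFunctor 𝒜 0).homologySequence_comp T hT q)
    ((homologyFunctor 𝒜 0).comp_homologySequenceδ T hT q (q + 1) rfl)
    ((homologyFunctor 𝒜 0).homologySequenceδ_comp T hT q (q + 1) rfl)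
    ((homologyFunctor 𝒜 0).homologySequence_exact₂ T hT q)
    ((homologyFunctor 𝒜 0).homologySequence_exact₃ T hT q (q + 1) rfl)
    ((homologyFunctor 𝒜 0).homologySequence_exact₁ T hT q (q + 1) rfl)
    (h₁ q) (h₂ q) (h₁ (q + 1)) (h₂ (q + 1))

variable [HasExt.{w'} 𝒜]

theorem bijective_postcomp_of_homology_iso (Z : 𝒜) (d : ℕ)
    (hP : ∀ F, P F → ∀ k : ℕ, d < k → Subsingleton (Abelian.Ext.{w'} Z F k))
    {X Y : DerivedCategory 𝒜} (f : X ⟶ Y) (hX : WSerre.cohInPlus P X) (hY : WSerre.cohInPlus P Y)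
    (j' : ℤ)
    (hiso : ∀ q, j' - d - 1 ≤ q → q ≤ j' + 1 → IsIso ((homologyFunctor 𝒜 q).map f)) :
    Function.Bijective (fun φ : (singleFunctor 𝒜 0).obj Z ⟶ X⟦j'⟧ => φ ≫ f⟦j'⟧') := by
  obtain ⟨Cn, g, h, hT⟩ := distinguished_cocone_triangle f
  obtain ⟨hX1, a, hXa⟩ := hX
  obtain ⟨hY1, a', hYa⟩ := hY
  -- the cone is bounded below
  have hXs : t.IsGE (X⟦(1 : ℤ)⟧) (a - 1) := t.isGE_shift X a 1 (a - 1) (by omega)
  have hCn : t.IsGE Cn (min a' (a - 1)) := by
    have h1 : t.IsGE Y (min a' (a - 1)) := t.isGE_of_ge Y _ a' (min_le_left _ _)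
    have h3 : t.IsGE (X⟦(1 : ℤ)⟧) (min a' (a - 1)) := t.isGE_of_ge _ _ (a - 1) (min_le_right _ _)
    exact t.isGE₂ _ (rot_of_distTriang _ hT) _ h1 h3
  have hPC : ∀ q, P ((homologyFunctor 𝒜 q).obj Cn) :=
    prop_homology_obj₃ P _ hT hX1 hY1
  have hwin : ∀ j'' : ℤ, (j'' = j' - 1 ∨ j'' = j') →
      Subsingleton ((singleFunctor 𝒜 0).obj Z ⟶ Cn⟦j''⟧) := by
    intro j'' hj''
    refine subsingleton_hom_of_window Z j'' (j'' + 1 - min a' (a - 1)).toNat Cn _ hCn
      (Int.self_le_toNat _) (fun q _ hq2 => ?_)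
    by_cases hq : j'' - d ≤ q
    · have hz : IsZero ((homologyFunctor 𝒜 q).obj Cn) :=
        isZero_homology_obj₃ _ hT q
          (hiso q (by rcases hj'' with rfl | rfl <;> omega) (by rcases hj'' with rfl | rfl <;> omega))
          (hiso (q + 1) (by rcases hj'' with rfl | rfl <;> omega)
            (by rcases hj'' with rfl | rfl <;> omega))
      have hz2 : IsZero (((singleFunctor 𝒜 q).obj ((homologyFunctor 𝒜 q).obj Cn))⟦j''⟧) :=
        (shiftFunctor _ j'').map_isZero ((singleFunctor 𝒜 q).map_isZero hz)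
      exact ⟨fun φ ψ => hz2.eq_of_tgt _ _⟩
    · obtain ⟨k, hk⟩ := Int.eq_ofNat_of_zero_le (show 0 ≤ j'' - q by omega)
      exact subsingleton_hom_shift (Iso.refl _) Z k j'' (by omega)
        (hP _ (hPC q) k (by omega))
  let F' := preadditiveCoyoneda.obj (op ((singleFunctor 𝒜 0).obj Z))
  have z0 : IsZero ((F'.shift (j' - 1)).obj (Triangle.mk f g h).obj₃) := by
    have : Subsingleton ((F'.shift (j' - 1)).obj (Triangle.mk f g h).obj₃) :=
      hwin (j' - 1) (Or.inl rfl)
    exact AddCommGrpCat.isZero_of_subsingleton _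
  have z1 : IsZero ((F'.shift j').obj (Triangle.mk f g h).obj₃) := by
    have : Subsingleton ((F'.shift j').obj (Triangle.mk f g h).obj₃) := hwin j' (Or.inr rfl)
    exact AddCommGrpCat.isZero_of_subsingleton _
  have hiso2 := isIso_shift_map_mor₁ F' _ hT (j' - 1) j' (by omega) z0 z1
  exact (ConcreteCategory.isIso_iff_bijective _).1 hiso2

end ClaimC

end Groth.Agent.Helper24.RlimConst
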