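import Groth.Agent.Lib.Helper24.RlimSeq2
import Mathlib.Algebra.Homology.DerivedCategory.TStructure
import Mathlib.Algebra.Homology.DerivedCategory.FullyFaithful
import Mathlib.Algebra.Homology.DerivedCategory.Ext.Basic

/-!
# Derived limits of truncation towers: abstract part

* `exists_isRlimVia`: a derived limit of a tower exists once the product exists.
* `isRlimVia_of_iso`: transport of `IsRlimVia` along an isomorphism.
* homology of the truncations `τ_{≥ n}` in a derived category and the fibre of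
  `τ_{≥ a} E ⟶ τ_{≥ a+1} E`.
-/

set_option autoImplicit false
universe w v u v' u'
open CategoryTheory CategoryTheory.Limits Opposite Pretriangulated

namespace Groth.Agent.Helper24.RlimTrunc

section Abstract

variable {T : Type u'} [Category.{v'} T] [Preadditive T] [HasZeroObject T] [HasShift T ℤ]
    [∀ n : ℤ, (shiftFunctor T n).Additive] [Pretriangulated T]

theorem exists_isRlimVia (K : ℕ → T) (t : ∀ n, K (n + 1) ⟶ K n) [HasProduct K] :
    ∃ (L : T) (a : ∀ n, L ⟶ K n), CohCx.IsRlimVia K t L a := by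
  obtain ⟨L, α, c, h⟩ := distinguished_cocone_triangle₁
    (Pi.lift fun n => Pi.π K n - Pi.π K (n + 1) ≫ t n)
  refine ⟨L, fun n => α ≫ Pi.π K n, c, ?_⟩
  have : Pi.lift (fun n => α ≫ Pi.π K n) = α := by
    apply Pi.hom_ext
    intro n
    rw [Pi.lift_π]
  rw [this]
  exact h

theorem isRlimVia_of_iso {K : ℕ → T} {t : ∀ n, K (n + 1) ⟶ K n} [HasProduct K] {L : T}
    {a : ∀ n, L ⟶ K n} (hL : CohCx.IsRlimVia K t L a) {E : T} (ψ : E ⟶ L) [IsIso ψ]
    (e : ∀ n, E ⟶ K n) (he : ∀ n, ψ ≫ a n = e n) : CohCx.IsRlimVia K t E e := by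
  obtain ⟨c, hc⟩ := hL
  refine ⟨c ≫ (inv ψ)⟦(1 : ℤ)⟧', ?_⟩
  obtain ⟨i, hi⟩ : ∃ i : E ≅ L, i.hom = ψ := ⟨asIso ψ, rfl⟩
  refine isomorphic_distinguished _ hc _ ?_
  refine Triangle.isoMk _ _ i (Iso.refl _) (Iso.refl _) ?_ ?_ ?_
  · change Pi.lift e ≫ 𝟙 _ = i.hom ≫ Pi.lift a
    rw [Category.comp_id, hi]
    apply Pi.hom_ext
    intro n
    rw [Pi.lift_π, Category.assoc, Pi.lift_π, he]
  · change (Pi.lift fun n => Pi.π K n - Pi.π K (n + 1) ≫ t n) ≫ 𝟙 _ =
      𝟙 _ ≫ (Pi.lift fun n => Pi.π K n - Pi.π K (n + 1) ≫ t n)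
    rw [Category.comp_id, Category.id_comp]
  · change (c ≫ (inv ψ)⟦(1 : ℤ)⟧') ≫ i.hom⟦(1 : ℤ)⟧' = 𝟙 _ ≫ c
    rw [hi, Category.id_comp, Category.assoc, ← Functor.map_comp, IsIso.inv_hom_id]
    have h1 : (shiftFunctor T (1 : ℤ)).map (𝟙 L) = 𝟙 _ := (shiftFunctor T (1 : ℤ)).map_id L
    rw [h1]
    exact Category.comp_id c

variable {A' : Type u} [Category.{v} A'] [Abelian A'] (F : T ⥤ A') [F.IsHomological]
  [F.ShiftSequence ℤ]

theorem isIso_shift_map_mor₂ (Tr : Triangle T) (hT : Tr ∈ distTriang T) (n₀ n₁ : ℤ)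
    (h : n₀ + 1 = n₁) (h0 : IsZero ((F.shift n₀).obj Tr.obj₁))
    (h1 : IsZero ((F.shift n₁).obj Tr.obj₁)) : IsIso ((F.shift n₀).map Tr.mor₂) := by
  have hm : Mono ((F.shift n₀).map Tr.mor₂) :=
    (F.homologySequence_mono_shift_map_mor₂_iff Tr hT n₀).2 (h0.eq_of_src _ _)
  have he : Epi ((F.shift n₀).map Tr.mor₂) :=
    (F.homologySequence_epi_shift_map_mor₂_iff Tr hT n₀ n₁ h).2 (h1.eq_of_tgt _ _)
  exact isIso_of_mono_of_epi _

theorem isIso_shift_map_mor₁ (Tr : Triangle T) (hT : Tr ∈ distTriang T) (n₀ n₁ : ℤ)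
    (h : n₀ + 1 = n₁) (h0 : IsZero ((F.shift n₀).obj Tr.obj₃))
    (h1 : IsZero ((F.shift n₁).obj Tr.obj₃)) : IsIso ((F.shift n₁).map Tr.mor₁) := by
  have hm : Mono ((F.shift n₁).map Tr.mor₁) :=
    (F.homologySequence_mono_shift_map_mor₁_iff Tr hT n₀ n₁ h).2 (h0.eq_of_src _ _)
  have he : Epi ((F.shift n₁).map Tr.mor₁) :=
    (F.homologySequence_epi_shift_map_mor₁_iff Tr hT n₁).2 (h1.eq_of_tgt _ _)
  exact isIso_of_mono_of_epi _

end Abstract

end Groth.Agent.Helper24.RlimTrunc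

open DerivedCategory

namespace Groth.Agent.Helper24.RlimTrunc

section Der

variable {A : Type u} [Category.{v} A] [Abelian A] [HasDerivedCategory.{w} A]

open DerivedCategory.TStructure

theorem isIso_homologyMap_truncGEπ (E : DerivedCategory A) (n i : ℤ) (h : n ≤ i) :
    IsIso ((homologyFunctor A i).map ((t.truncGEπ n).app E)) := by
  have hT := t.triangleLTGE_distinguished n E
  have h0 : IsZero (((homologyFunctor A 0).shift i).obj ((t.triangleLTGE n).obj E).obj₁) :=
    isZero_of_isLE ((t.truncLT n).obj E) (n - 1) i (by omega)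
  have h1 : IsZero (((homologyFunctor A 0).shift (i + 1)).obj ((t.triangleLTGE n).obj E).obj₁) :=
    isZero_of_isLE ((t.truncLT n).obj E) (n - 1) (i + 1) (by omega)
  exact isIso_shift_map_mor₂ (homologyFunctor A 0) _ hT i (i + 1) rfl h0 h1

theorem isZero_homology_truncGE (E : DerivedCategory A) (n i : ℤ) (h : i < n) :
    IsZero ((homologyFunctor A i).obj ((t.truncGE n).obj E)) :=
  isZero_of_isGE ((t.truncGE n).obj E) n i h

variable (E : DerivedCategory A) (a b : ℤ) (hab : a + 1 = b)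

/-- the fibre of `τ_{≥ a} E ⟶ τ_{≥ b} E`, `b = a + 1` -/
noncomputable abbrev fib : DerivedCategory A := (t.truncLT b).obj ((t.truncGE a).obj E)

/-- comparison `τ_{≥ b} E ≅ τ_{≥ b} τ_{≥ a} E` -/
noncomputable abbrev cmp : (t.truncGE b).obj E ⟶ (t.truncGE b).obj ((t.truncGE a).obj E) :=
  (t.truncGE b).map ((t.truncGEπ a).app E)

include hab in
theorem isIso_cmp : IsIso (cmp E a b) :=
  t.isIso_truncGE_map_truncGEπ_app b a (by omega) E

include hab in
theorem natTrans_cmp :
    (t.natTransTruncGEOfLE a b (by omega)).app E ≫ cmp E a b =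
      (t.truncGEπ b).app ((t.truncGE a).obj E) := by
  have : t.IsGE ((t.truncGE b).obj ((t.truncGE a).obj E)) a :=
    t.isGE_of_ge _ a b (by omega)
  apply t.from_truncGE_obj_ext
  have h1 := t.π_natTransTruncGEOfLE_app a b (by omega) E
  calc (t.truncGEπ a).app E ≫ (t.natTransTruncGEOfLE a b (by omega)).app E ≫ cmp E a b
      = ((t.truncGEπ a).app E ≫ (t.natTransTruncGEOfLE a b (by omega)).app E) ≫ cmp E a b :=
        (Category.assoc _ _ _).symm
    _ = (t.truncGEπ b).app E ≫ cmp E a b := by rw [h1]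
    _ = _ := ((t.truncGEπ b).naturality ((t.truncGEπ a).app E)).symm

include hab in
theorem fib_isLE : t.IsLE (fib E a b) a := t.isLE_truncLT_obj _ b a (by omega)

theorem fib_isGE : t.IsGE (fib E a b) a := inferInstance

include hab in
/-- the fibre is the cohomology object in degree `a`, placed in degree `a` -/
theorem exists_fib_iso :
    Nonempty (fib E a b ≅ (singleFunctor A a).obj ((homologyFunctor A a).obj E)) := by
  have h1 : (fib E a b).IsLE a := fib_isLE E a b hab
  have h2 : (fib E a b).IsGE a := fib_isGE E a b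
  obtain ⟨Y, ⟨e₁⟩⟩ := exists_iso_singleFunctor_obj_of_isGE_of_isLE (fib E a b) a
  -- `Y ≅ H^a(E)`
  have hT := t.triangleLTGE_distinguished b ((t.truncGE a).obj E)
  have h0 : IsZero (((homologyFunctor A 0).shift (a - 1)).obj
      ((t.triangleLTGE b).obj ((t.truncGE a).obj E)).obj₃) :=
    isZero_of_isGE ((t.truncGE b).obj ((t.truncGE a).obj E)) b (a - 1) (by omega)
  have h0' : IsZero (((homologyFunctor A 0).shift a).obj
      ((t.triangleLTGE b).obj ((t.truncGE a).obj E)).obj₃) :=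
    isZero_of_isGE ((t.truncGE b).obj ((t.truncGE a).obj E)) b a (by omega)
  have i1 : IsIso ((homologyFunctor A a).map ((t.truncLTι b).app ((t.truncGE a).obj E))) :=
    isIso_shift_map_mor₁ (homologyFunctor A 0) _ hT (a - 1) a (by omega) h0 h0'
  have i2 : IsIso ((homologyFunctor A a).map ((t.truncGEπ a).app E)) :=
    isIso_homologyMap_truncGEπ E a a le_rfl
  let e₂ : Y ≅ (homologyFunctor A a).obj E :=
    ((singleFunctorCompHomologyFunctorIso A a).app Y).symm ≪≫
      (homologyFunctor A a).mapIso e₁.symm ≪≫ asIso ((homologyFunctor A a).map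
        ((t.truncLTι b).app ((t.truncGE a).obj E))) ≪≫
      (asIso ((homologyFunctor A a).map ((t.truncGEπ a).app E))).symm
  exact ⟨e₁ ≪≫ (singleFunctor A a).mapIso e₂⟩

end Der

end Groth.Agent.Helper24.RlimTrunc

namespace Groth.Agent.Helper24.RlimTrunc

section Ext

variable {A : Type u} [Category.{v} A] [Abelian A] [HasDerivedCategory.{w} A]

/-- `F[j] ≅ Y[k]` when `F` is `Y` placed in degree `a` and `j = a + k` -/
noncomputable def shiftSingleIso {F : DerivedCategory A} {Y : A} {a : ℤ}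
    (e : F ≅ (singleFunctor A a).obj Y) (k : ℕ) (j : ℤ) (hj : j = a + k) :
    F⟦j⟧ ≅ ((singleFunctor A 0).obj Y)⟦(k : ℤ)⟧ :=
  (shiftFunctor _ j).mapIso e ≪≫
    ((singleFunctors A).shiftIso j (-(k : ℤ)) a (by omega)).app Y ≪≫
    (((singleFunctors A).shiftIso (k : ℤ) (-(k : ℤ)) 0 (by omega)).app Y).symm

universe w'

theorem subsingleton_hom_shift [HasExt.{w'} A] {F : DerivedCategory A} {Y : A} {a : ℤ}
    (e : F ≅ (singleFunctor A a).obj Y) (Z : A) (k : ℕ) (j : ℤ) (hj : j = a + k)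
    (h : Subsingleton (Abelian.Ext.{w'} Z Y k)) :
    Subsingleton ((singleFunctor A 0).obj Z ⟶ F⟦j⟧) := by
  have h1 : Subsingleton ((singleFunctor A 0).obj Z ⟶ ((singleFunctor A 0).obj Y)⟦(k : ℤ)⟧) :=
    (Abelian.Ext.homEquiv (X := Z) (Y := Y) (n := k)).symm.subsingleton
  refine ⟨fun f g => ?_⟩
  have := h1.elim (f ≫ (shiftSingleIso e k j hj).hom) (g ≫ (shiftSingleIso e k j hj).hom)
  exact (cancel_mono (shiftSingleIso e k j hj).hom).1 this

end Ext

end Groth.Agent.Helper24.RlimTrunc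

namespace Groth.Agent.Helper24.RlimTrunc

section Bij

universe w'

variable {A : Type u} [Category.{v} A] [Abelian A] [HasDerivedCategory.{w} A] [HasExt.{w'} A]

open DerivedCategory.TStructure

theorem bijective_postcomp_tower (E : DerivedCategory A) (a b : ℤ) (hab : a + 1 = b) (Z : A)
    (k : ℕ) (j : ℤ) (hj : j = a + k)
    (h0 : Subsingleton (Abelian.Ext.{w'} Z ((homologyFunctor A a).obj E) k))
    (h1 : Subsingleton (Abelian.Ext.{w'} Z ((homologyFunctor A a).obj E) (k + 1))) :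
    Function.Bijective (fun f : (singleFunctor A 0).obj Z ⟶ ((t.truncGE a).obj E)⟦j⟧ =>
      f ≫ ((t.natTransTruncGEOfLE a b (by omega)).app E)⟦j⟧') := by
  obtain ⟨e⟩ := exists_fib_iso E a b hab
  have s0 := subsingleton_hom_shift e Z k j hj h0
  have s1 := subsingleton_hom_shift e Z (k + 1) (j + 1) (by push_cast; omega) h1
  let F' := preadditiveCoyoneda.obj (op ((singleFunctor A 0).obj Z))
  have hT := t.triangleLTGE_distinguished b ((t.truncGE a).obj E)
  have z0 : IsZero ((F'.shift j).obj ((t.triangleLTGE b).obj ((t.truncGE a).obj E)).obj₁) := by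
    have : Subsingleton ((F'.shift j).obj ((t.triangleLTGE b).obj ((t.truncGE a).obj E)).obj₁) := s0
    exact AddCommGrpCat.isZero_of_subsingleton _
  have z1 : IsZero ((F'.shift (j + 1)).obj ((t.triangleLTGE b).obj ((t.truncGE a).obj E)).obj₁) := by
    have : Subsingleton ((F'.shift (j + 1)).obj
      ((t.triangleLTGE b).obj ((t.truncGE a).obj E)).obj₁) := s1
    exact AddCommGrpCat.isZero_of_subsingleton _
  have hiso := isIso_shift_map_mor₂ F' _ hT j (j + 1) rfl z0 z1
  have hbij : Function.Bijective (fun f : (singleFunctor A 0).obj Z ⟶ ((t.truncGE a).obj E)⟦j⟧ =>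
      f ≫ ((t.truncGEπ b).app ((t.truncGE a).obj E))⟦j⟧') :=
    (ConcreteCategory.isIso_iff_bijective _).1 hiso
  have hc := isIso_cmp E a b hab
  have hn : (t.natTransTruncGEOfLE a b (by omega)).app E =
      (t.truncGEπ b).app ((t.truncGE a).obj E) ≫ inv (cmp E a b) := by
    rw [← natTrans_cmp E a b hab, Category.assoc, IsIso.hom_inv_id, Category.comp_id]
  have hbij2 : Function.Bijective
      (fun f : (singleFunctor A 0).obj Z ⟶ ((t.truncGE b).obj ((t.truncGE a).obj E))⟦j⟧ =>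
        f ≫ (inv (cmp E a b))⟦j⟧') := by
    constructor
    · intro f g hfg
      exact (cancel_mono _).1 hfg
    · intro g
      refine ⟨g ≫ (cmp E a b)⟦j⟧', ?_⟩
      change (g ≫ (cmp E a b)⟦j⟧') ≫ (inv (cmp E a b))⟦j⟧' = g
      rw [Category.assoc, ← Functor.map_comp, IsIso.hom_inv_id, CategoryTheory.Functor.map_id,
        Category.comp_id]
  have := hbij2.comp hbij
  convert this using 2
  rename_i f
  change f ≫ _ = (f ≫ _) ≫ _
  rw [hn, Functor.map_comp, Category.assoc]

end Bij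

end Groth.Agent.Helper24.RlimTrunc
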