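import Mathlib
import Groth.Agent.Lib.Helper24.RlimTrunc
import Groth.Agent.Lib.Helper24.RlimConst

/-!
# Way-out dévissage for natural transformations between triangulated functors on derived categories
-/

set_option autoImplicit false
universe w₁ w₂ v₁ v₂ u₁ u₂
open CategoryTheory CategoryTheory.Limits Pretriangulated

namespace Groth.Agent.Helper24.WayOut

section NatIso

variable {D₁ : Type u₁} {D₂ : Type u₂} [Category.{v₁} D₁] [Category.{v₂} D₂]
  [Preadditive D₁] [Preadditive D₂] [HasZeroObject D₁] [HasZeroObject D₂]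
  [HasShift D₁ ℤ] [HasShift D₂ ℤ]
  [∀ n : ℤ, (shiftFunctor D₁ n).Additive] [∀ n : ℤ, (shiftFunctor D₂ n).Additive]
  [Pretriangulated D₁] [Pretriangulated D₂]
  {T₁ T₂ : D₁ ⥤ D₂} (η : T₁ ⟶ T₂)

omit [Preadditive D₁] [Preadditive D₂] [HasZeroObject D₁] [HasZeroObject D₂]
  [HasShift D₁ ℤ] [HasShift D₂ ℤ] [∀ n : ℤ, (shiftFunctor D₁ n).Additive]
  [∀ n : ℤ, (shiftFunctor D₂ n).Additive] [Pretriangulated D₁] [Pretriangulated D₂] in
lemma isIso_app_of_iso {X Y : D₁} (e : X ≅ Y) (h : IsIso (η.app X)) : IsIso (η.app Y) := by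
  have : η.app Y = T₁.map e.inv ≫ η.app X ≫ T₂.map e.hom := by
    rw [← η.naturality, ← Category.assoc, ← T₁.map_comp, e.inv_hom_id, T₁.map_id, Category.id_comp]
  rw [this]
  infer_instance

variable [T₁.CommShift ℤ] [T₂.CommShift ℤ] [NatTrans.CommShift η ℤ]

omit [Preadditive D₁] [Preadditive D₂] [HasZeroObject D₁] [HasZeroObject D₂]
  [∀ n : ℤ, (shiftFunctor D₁ n).Additive]
  [∀ n : ℤ, (shiftFunctor D₂ n).Additive] [Pretriangulated D₁] [Pretriangulated D₂] in
lemma isIso_app_shift (X : D₁) (n : ℤ) (h : IsIso (η.app X)) : IsIso (η.app (X⟦n⟧)) := by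
  rw [NatTrans.app_shift η n X]
  infer_instance

variable [T₁.IsTriangulated] [T₂.IsTriangulated]

omit [T₁.CommShift ℤ] [T₂.CommShift ℤ] [NatTrans.CommShift η ℤ] [T₁.IsTriangulated]
  [T₂.IsTriangulated] [HasZeroObject D₁] [HasZeroObject D₂] [∀ n : ℤ, (shiftFunctor D₁ n).Additive]
  [∀ n : ℤ, (shiftFunctor D₂ n).Additive] [Pretriangulated D₁] [Pretriangulated D₂]
  [HasShift D₁ ℤ] [HasShift D₂ ℤ] in
lemma isIso_app_of_isZero [T₁.PreservesZeroMorphisms] [T₂.PreservesZeroMorphisms]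
    (X : D₁) (hX : IsZero X) : IsIso (η.app X) := by
  have h1 : IsZero (T₁.obj X) := T₁.map_isZero hX
  have h2 : IsZero (T₂.obj X) := T₂.map_isZero hX
  exact ⟨0, h1.eq_of_src _ _, h2.eq_of_src _ _⟩

/-- the morphism of triangles induced by a natural transformation compatible with shifts -/
@[simps]
def mapTriangleHom (T : Triangle D₁) : T₁.mapTriangle.obj T ⟶ T₂.mapTriangle.obj T where
  hom₁ := η.app T.obj₁
  hom₂ := η.app T.obj₂
  hom₃ := η.app T.obj₃
  comm₁ := η.naturality T.mor₁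
  comm₂ := η.naturality T.mor₂
  comm₃ := by
    change (T₁.map T.mor₃ ≫ (T₁.commShiftIso (1 : ℤ)).hom.app T.obj₁) ≫ (η.app T.obj₁)⟦(1 : ℤ)⟧' =
      η.app T.obj₃ ≫ T₂.map T.mor₃ ≫ (T₂.commShiftIso (1 : ℤ)).hom.app T.obj₁
    rw [Category.assoc, NatTrans.shift_app_comm η (1 : ℤ) T.obj₁, ← Category.assoc,
      η.naturality, Category.assoc]

/-- two out of three -/
lemma isIso_app_obj₂ (T : Triangle D₁) (hT : T ∈ distTriang D₁) (h₁ : IsIso (η.app T.obj₁))
    (h₃ : IsIso (η.app T.obj₃)) : IsIso (η.app T.obj₂) :=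
  isIso₂_of_isIso₁₃ (mapTriangleHom η T) (T₁.map_distinguished T hT) (T₂.map_distinguished T hT)
    h₁ h₃

end NatIso


open DerivedCategory DerivedCategory.TStructure Groth.Agent.Helper24.RlimTrunc

section Trunc

variable {𝒜 : Type u₁} [Category.{v₁} 𝒜] [Abelian 𝒜] [HasDerivedCategory.{w₁} 𝒜]

theorem isIso_homologyMap_truncLTι (E : DerivedCategory 𝒜) (n i : ℤ) (h : i < n) :
    IsIso ((homologyFunctor 𝒜 i).map ((t.truncLTι n).app E)) := by
  have hT := t.triangleLTGE_distinguished n E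
  have h0 : IsZero (((homologyFunctor 𝒜 0).shift (i - 1)).obj ((t.triangleLTGE n).obj E).obj₃) :=
    isZero_of_isGE ((t.truncGE n).obj E) n (i - 1) (by omega)
  have h1 : IsZero (((homologyFunctor 𝒜 0).shift i).obj ((t.triangleLTGE n).obj E).obj₃) :=
    isZero_of_isGE ((t.truncGE n).obj E) n i (by omega)
  exact isIso_shift_map_mor₁ (homologyFunctor 𝒜 0) _ hT (i - 1) i (by omega) h0 h1

/-- an object concentrated in degree `a` is `H^a` placed in degree `0`, shifted -/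
theorem exists_iso_single_shift (X : DerivedCategory 𝒜) (a : ℤ) [X.IsGE a] [X.IsLE a] :
    Nonempty (X ≅ ((singleFunctor 𝒜 0).obj ((homologyFunctor 𝒜 a).obj X))⟦-a⟧) := by
  obtain ⟨Y, ⟨e⟩⟩ := exists_iso_singleFunctor_obj_of_isGE_of_isLE X a
  let e₂ : Y ≅ (homologyFunctor 𝒜 a).obj X :=
    ((singleFunctorCompHomologyFunctorIso 𝒜 a).app Y).symm ≪≫ (homologyFunctor 𝒜 a).mapIso e.symm
  exact ⟨e ≪≫ (singleFunctor 𝒜 a).mapIso e₂ ≪≫
    (((singleFunctors 𝒜).shiftIso (-a) a 0 (by omega)).app _).symm⟩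

end Trunc

section Devissage

variable {𝒜 : Type u₁} [Category.{v₁} 𝒜] [Abelian 𝒜] [HasDerivedCategory.{w₁} 𝒜]
  (𝒮 : ObjectProperty (DerivedCategory 𝒜))
  (h_iso : ∀ {X Y : DerivedCategory 𝒜}, (X ≅ Y) → 𝒮 X → 𝒮 Y)
  (h_shift : ∀ (X : DerivedCategory 𝒜) (n : ℤ), 𝒮 X → 𝒮 (X⟦n⟧))
  (h_zero : ∀ X : DerivedCategory 𝒜, IsZero X → 𝒮 X)
  (h_tri : ∀ T : Triangle (DerivedCategory 𝒜), T ∈ distTriang _ → 𝒮 T.obj₁ → 𝒮 T.obj₃ → 𝒮 T.obj₂)

include h_iso h_shift in
theorem devissage_single (X : DerivedCategory 𝒜) (a : ℤ) (h1 : X.IsGE a) (h2 : X.IsLE a)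
    (hX : ∀ q, 𝒮 ((singleFunctor 𝒜 0).obj ((homologyFunctor 𝒜 q).obj X))) : 𝒮 X := by
  obtain ⟨e⟩ := exists_iso_single_shift X a
  exact h_iso e.symm (h_shift _ _ (hX a))

include h_iso h_shift h_zero h_tri in
theorem devissage_bounded : ∀ (n : ℕ) (X : DerivedCategory 𝒜) (a : ℤ), X.IsGE a → X.IsLE (a + n) →
    (∀ q, 𝒮 ((singleFunctor 𝒜 0).obj ((homologyFunctor 𝒜 q).obj X))) → 𝒮 X := by
  intro n
  induction n with
  | zero =>
    intro X a h1 h2 hX
    have h2' : X.IsLE a := by simpa using h2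
    exact devissage_single 𝒮 h_iso h_shift X a h1 h2' hX
  | succ n ih =>
    intro X a h1 h2 hX
    have hb : a + (n : ℤ) + 1 = a + ((n + 1 : ℕ) : ℤ) := by push_cast; ring
    have hT := t.triangleLTGE_distinguished (a + n + 1) X
    refine h_tri _ hT ?_ ?_
    · -- `τ_{< b} X`
      change 𝒮 ((t.truncLT (a + n + 1)).obj X)
      have g1 : ((t.truncLT (a + n + 1)).obj X).IsGE a := inferInstance
      have g2 : ((t.truncLT (a + n + 1)).obj X).IsLE (a + n) := t.isLE_truncLT_obj X _ _ (by omega)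
      refine ih _ a g1 g2 (fun q => ?_)
      by_cases hq : q < a + n + 1
      · have := isIso_homologyMap_truncLTι X (a + n + 1) q hq
        exact h_iso ((singleFunctor 𝒜 0).mapIso
          (asIso ((homologyFunctor 𝒜 q).map ((t.truncLTι (a + n + 1)).app X))).symm) (hX q)
      · exact h_zero _ (Functor.map_isZero _
          (isZero_of_isLE ((t.truncLT (a + n + 1)).obj X) (a + n) q (by omega)))
    · change 𝒮 ((t.truncGE (a + n + 1)).obj X)
      have g1 : ((t.truncGE (a + n + 1)).obj X).IsGE (a + n + 1) := inferInstance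
      have g2 : ((t.truncGE (a + n + 1)).obj X).IsLE (a + n + 1) := by
        have : X.IsLE (a + n + 1) := by rw [hb]; exact h2
        infer_instance
      refine devissage_single 𝒮 h_iso h_shift _ _ g1 g2 (fun q => ?_)
      by_cases hq : a + n + 1 ≤ q
      · have := isIso_homologyMap_truncGEπ X (a + n + 1) q hq
        exact h_iso ((singleFunctor 𝒜 0).mapIso
          (asIso ((homologyFunctor 𝒜 q).map ((t.truncGEπ (a + n + 1)).app X)))) (hX q)
      · exact h_zero _ (Functor.map_isZero _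
          (isZero_of_isGE ((t.truncGE (a + n + 1)).obj X) (a + n + 1) q (by omega)))

end Devissage

end Groth.Agent.Helper24.WayOut
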