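import Groth.Agent.Lib.Helper24.RFProd
import Groth.Agent.Lib.Helper24.GSSHyper
import Groth.Agent.Lib.Helper24.WayOut1

/-!
# Cohomological bounds for unbounded right derived functors on bounded objects
-/

set_option autoImplicit false
universe w' w v' v u' u
open CategoryTheory CategoryTheory.Limits

namespace Groth.Agent.Helper24.RFBound

open Groth.Agent.Helper11 DerivedCategory

variable {A : Type u} [Category.{v} A] [Abelian A] [IsGrothendieckAbelian.{v} A]
  [HasDerivedCategory.{w} A]
  {B : Type u'} [Category.{v'} B] [Abelian B] [HasDerivedCategory.{w'} B]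
  (F : A ⥤ B) [F.Additive]
  (R : DerivedCategory A ⥤ DerivedCategory B)
  (β : F.mapHomotopyCategory (ComplexShape.up ℤ) ⋙ Qh ⟶ Qh ⋙ R)
  [R.IsRightDerivedFunctor β (KI.WK A)]

include F β in
/-- `RF` of a bounded below complex of injectives -/
theorem nonempty_iso_of_injective (L : CochainComplex A ℤ) (a : ℤ) [L.IsStrictlyGE a]
    [∀ n, Injective (L.X n)] :
    Nonempty (R.obj (Q.obj L) ≅ Q.obj ((F.mapHomologicalComplex (ComplexShape.up ℤ)).obj L)) := by
  haveI : L.IsKInjective := CochainComplex.isKInjective_of_injective L a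
  have h1 : IsIso (β.app ((KI.quo A).obj L)) := KI.isIso_unit.{w} _ R β L
  exact ⟨(@asIso _ _ _ _ (β.app ((KI.quo A).obj L)) h1).symm⟩

include F β in
/-- the lower bound -/
theorem isZero_homology_of_isGE (E : DerivedCategory A) (a : ℤ) [E.IsGE a] (i : ℤ) (hi : i < a) :
    IsZero ((homologyFunctor B i).obj (R.obj E)) := by
  obtain ⟨K, hK, ⟨e⟩⟩ := exists_iso_Q_obj_of_isGE E a
  obtain ⟨L, j, hj, hL, hL'⟩ :=
    CochainComplex.Plus.modelCategoryQuillen.exists_quasiIso_injective K a
  have hj' : IsIso (Q.map j) := by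
    rw [DerivedCategory.isIso_Q_map_iff_quasiIso]
    exact hj
  obtain ⟨e'⟩ := nonempty_iso_of_injective F R β L a
  have e'' : R.obj E ≅ Q.obj ((F.mapHomologicalComplex (ComplexShape.up ℤ)).obj L) :=
    R.mapIso (e ≪≫ @asIso _ _ _ _ (Q.map j) hj') ≪≫ e'
  refine IsZero.of_iso ?_ ((homologyFunctor B i).mapIso e'' ≪≫
    (homologyFunctorFactors B i).app _)
  exact ShortComplex.isZero_homology_of_isZero_X₂ _
    (F.map_isZero (L.isZero_of_isStrictlyGE a i hi))

section Single

variable [HasInjectiveResolutions A]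

/-- an injective resolution of `M` placed in degrees `≥ b` -/
noncomputable def Lb (M : A) (b : ℤ) : CochainComplex A ℤ :=
  (injectiveResolution M).cocomplex.extend (ComplexShape.embeddingUpIntGE b)

instance (M : A) (b : ℤ) : (Lb M b).IsStrictlyGE b :=
  inferInstanceAs (((injectiveResolution M).cocomplex.extend
    (ComplexShape.embeddingUpIntGE b)).IsStrictlySupported (ComplexShape.embeddingUpIntGE b))

instance (M : A) (b : ℤ) (n : ℤ) : Injective ((Lb M b).X n) := by
  by_cases h : ∃ i : ℕ, (ComplexShape.embeddingUpIntGE b).f i = n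
  · obtain ⟨i, hi⟩ := h
    exact Injective.of_iso
      ((injectiveResolution M).cocomplex.extendXIso (ComplexShape.embeddingUpIntGE b) hi).symm
      inferInstance
  · exact Limits.IsZero.injective
      ((injectiveResolution M).cocomplex.isZero_extend_X (ComplexShape.embeddingUpIntGE b) n
        (fun i hi => h ⟨i, hi⟩))

/-- the homology of `F` applied to `Lb M b` -/
noncomputable def homologyLbIso (M : A) (b : ℤ) (p : ℕ) (i : ℤ) (hi : b + p = i) :
    ((F.mapHomologicalComplex (ComplexShape.up ℤ)).obj (Lb M b)).homology i ≅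
      (F.rightDerived p).obj M :=
  (HomologicalComplex.homologyFunctor B _ i).mapIso
      (Groth.Agent.Helper24.GSS.mapExtendIso F (ComplexShape.embeddingUpIntGE b)
        (injectiveResolution M).cocomplex) ≪≫
    HomologicalComplex.extendHomologyIso
      ((F.mapHomologicalComplex (ComplexShape.up ℕ)).obj (injectiveResolution M).cocomplex)
      (ComplexShape.embeddingUpIntGE b) (j := p) (j' := i) hi ≪≫
    ((injectiveResolution M).isoRightDerivedObj F p).symm

/-- the homology of `Lb M b` outside degree `b` vanishes -/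
lemma isZero_homology_Lb (M : A) (b i : ℤ) (hi : i ≠ b) : IsZero ((Lb M b).homology i) := by
  by_cases h : i < b
  · exact ShortComplex.isZero_homology_of_isZero_X₂ _ ((Lb M b).isZero_of_isStrictlyGE b i h)
  · obtain ⟨p, hp⟩ : ∃ p : ℕ, b + (p + 1 : ℕ) = i := ⟨(i - b - 1).toNat, by push_cast; omega⟩
    refine IsZero.of_iso ?_ (HomologicalComplex.extendHomologyIso
      (injectiveResolution M).cocomplex (ComplexShape.embeddingUpIntGE b) (j := p + 1) (j' := i) hp)
    rw [← HomologicalComplex.exactAt_iff_isZero_homology]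
    exact (injectiveResolution M).cocomplex_exactAt_succ p

/-- the homology of `Lb M b` in degree `b` is `M` -/
noncomputable def homologyLbSelfIso (M : A) (b : ℤ) : (Lb M b).homology b ≅ M :=
  HomologicalComplex.extendHomologyIso
      (injectiveResolution M).cocomplex (ComplexShape.embeddingUpIntGE b) (j := 0) (j' := b)
      (by simp [ComplexShape.embeddingUpIntGE]) ≪≫
    (asIso (HomologicalComplex.homologyMap (injectiveResolution M).ι 0)).symm ≪≫
    HomologicalComplex.singleObjHomologySelfIso (ComplexShape.up ℕ) 0 M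

instance (M : A) (b : ℤ) : (Q.obj (Lb M b)).IsGE b := by
  rw [isGE_Q_obj_iff]
  infer_instance

instance (M : A) (b : ℤ) : (Q.obj (Lb M b)).IsLE b := by
  rw [isLE_iff]
  intro i hi
  exact (isZero_homology_Lb M b i (by omega)).of_iso ((homologyFunctorFactors A i).app _)

/-- an object concentrated in degree `b` is the image of `Lb (H^b) b` -/
theorem nonempty_iso_Q_Lb (E : DerivedCategory A) (b : ℤ) [E.IsGE b] [E.IsLE b] :
    Nonempty (E ≅ Q.obj (Lb ((homologyFunctor A b).obj E) b)) := by
  obtain ⟨Y, ⟨e⟩⟩ := exists_iso_singleFunctor_obj_of_isGE_of_isLE E b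
  obtain ⟨Y', ⟨e'⟩⟩ := exists_iso_singleFunctor_obj_of_isGE_of_isLE
    (Q.obj (Lb ((homologyFunctor A b).obj E) b)) b
  have i1 : Y ≅ (homologyFunctor A b).obj E :=
    ((singleFunctorCompHomologyFunctorIso A b).app Y).symm ≪≫ (homologyFunctor A b).mapIso e.symm
  have i2 : Y' ≅ (homologyFunctor A b).obj E :=
    ((singleFunctorCompHomologyFunctorIso A b).app Y').symm ≪≫
      (homologyFunctor A b).mapIso e'.symm ≪≫ (homologyFunctorFactors A b).app _ ≪≫
      homologyLbSelfIso _ b
  exact ⟨e ≪≫ (singleFunctor A b).mapIso (i1 ≪≫ i2.symm) ≪≫ e'.symm⟩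

include F β in
/-- the upper bound for objects concentrated in a single degree -/
theorem isZero_homology_of_single (E : DerivedCategory A) (b : ℤ) [E.IsGE b] [E.IsLE b] (N : ℕ)
    (hE : ∀ p : ℕ, N ≤ p → IsZero ((F.rightDerived p).obj ((homologyFunctor A b).obj E)))
    (i : ℤ) (hi : b + N ≤ i) : IsZero ((homologyFunctor B i).obj (R.obj E)) := by
  obtain ⟨e⟩ := nonempty_iso_Q_Lb E b
  obtain ⟨e'⟩ := nonempty_iso_of_injective F R β (Lb ((homologyFunctor A b).obj E) b) b
  obtain ⟨p, hp⟩ : ∃ p : ℕ, b + p = i := ⟨(i - b).toNat, by omega⟩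
  exact IsZero.of_iso (hE p (by omega)) ((homologyFunctor B i).mapIso (R.mapIso e ≪≫ e') ≪≫
    (homologyFunctorFactors B i).app _ ≪≫ homologyLbIso F _ b p i hp)

open DerivedCategory.TStructure Groth.Agent.Helper24.RlimTrunc Groth.Agent.Helper24.WayOut
  Pretriangulated in
include F β in
/-- the upper bound for bounded objects -/
theorem isZero_homology_of_bounded (P : A → Prop) (hP : ∀ {G G' : A}, (G ≅ G') → P G → P G')
    (N : ℕ) (hF : ∀ G, P G → ∀ p : ℕ, N ≤ p → IsZero ((F.rightDerived p).obj G)) :
    ∀ (n : ℕ) (E : DerivedCategory A) (a : ℤ), E.IsGE a → E.IsLE (a + n) →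
      (∀ q, a ≤ q → q ≤ a + n → P ((homologyFunctor A q).obj E)) →
      ∀ i, a + n + N ≤ i → IsZero ((homologyFunctor B i).obj (R.obj E)) := by
  intro n
  induction n with
  | zero =>
    intro E a h1 h2 hE i hi
    haveI := h1
    haveI : E.IsLE a := by simpa using h2
    exact isZero_homology_of_single F R β E a N (hF _ (hE a le_rfl (by simp))) i (by simpa using hi)
  | succ n ih =>
    intro E a h1 h2 hE i hi
    haveI := h1
    have hb : a + (n : ℤ) + 1 = a + ((n + 1 : ℕ) : ℤ) := by push_cast; ring
    haveI : E.IsLE (a + n + 1) := by rw [hb]; exact h2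
    have hT := t.triangleLTGE_distinguished (a + n + 1) E
    obtain ⟨c', hT'⟩ := Groth.Agent.Helper29.TriR.exists_distinguished
      (F.mapHomotopyCategory (ComplexShape.up ℤ) ⋙ Qh) R β _ hT
    have hex := HomologySequence.exact₂ _ hT' i
    refine hex.isZero_of_both_zeros ?_ ?_
    · -- `τ_{< b} E`
      have g1 : ((t.truncLT (a + n + 1)).obj E).IsGE a := inferInstance
      have g2 : ((t.truncLT (a + n + 1)).obj E).IsLE (a + n) := t.isLE_truncLT_obj E _ _ (by omega)
      refine IsZero.eq_of_src (ih _ a g1 g2 (fun q hq1 hq2 => ?_) i (by push_cast at hi; omega)) _ _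
      have := isIso_homologyMap_truncLTι E (a + n + 1) q (by omega)
      exact hP (asIso ((homologyFunctor A q).map ((t.truncLTι (a + n + 1)).app E))).symm
        (hE q hq1 (by push_cast; omega))
    · -- `τ_{≥ b} E`
      have g1 : ((t.truncGE (a + n + 1)).obj E).IsGE (a + n + 1) := inferInstance
      have g2 : ((t.truncGE (a + n + 1)).obj E).IsLE (a + n + 1) := inferInstance
      have := isIso_homologyMap_truncGEπ E (a + n + 1) (a + n + 1) le_rfl
      have hPb : P ((homologyFunctor A (a + n + 1)).obj ((t.truncGE (a + n + 1)).obj E)) :=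
        hP (asIso ((homologyFunctor A (a + n + 1)).map ((t.truncGEπ (a + n + 1)).app E)))
          (hE _ (by omega) (by push_cast; omega))
      exact IsZero.eq_of_tgt (isZero_homology_of_single F R β _ (a + n + 1) N (hF _ hPb) i
        (by push_cast at hi; omega)) _ _

end Single

end Groth.Agent.Helper24.RFBound
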