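import Groth.Agent.Lib.Helper24.RFQc9
import Groth.Agent.Lib.Helper13.Qcqs
import Groth.Agent.S0028

/-!
# Affine morphisms: `f_*` on complexes of quasi-coherent modules, conservativity
-/

set_option autoImplicit false
universe u
open CategoryTheory CategoryTheory.Limits AlgebraicGeometry

attribute [local instance] HasDerivedCategory.standard

namespace Groth.Agent.Helper24.RFQc

open DerivedCategory Groth.Agent.Helper9.Leray Groth.Agent.Helper29.LRAdj
  Groth.Agent.Helper13.ToAbExact Groth.Agent.Helper13.Qcqs Opposite TopologicalSpace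

variable {X S : Scheme.{u}}

/-- quasi-coherent modules are acyclic for the direct image along an affine morphism -/
theorem acyc_of_affine (f : X ⟶ S) [IsAffineHom f] (M : X.Modules) (hM : qc X M) :
    Acyc (Scheme.Modules.pushforward f) M := by
  intro i hi
  haveI : Coh.IsQCoh M := hM
  obtain ⟨e⟩ := Groth.Agent.S11319.result f M i
  exact Groth.Agent.Helper24.RFSumSch.isZero_of_isZero_toAb S _
    ((Groth.Agent.S0028.result f M i hi).of_iso e)

section Zero

variable (F : X.Modules)

lemma subsingleton_basicOpen [F.IsQuasicoherent] {U : X.Opens} (hU : IsAffineOpen U)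
    (hz : Subsingleton Γ(F, U)) (g : Γ(X, U)) : Subsingleton Γ(F, X.basicOpen g) := by
  have key : ∀ s : Γ(F, X.basicOpen g), s = 0 := fun s => by
    obtain ⟨n, t, ht⟩ := exists_pow_smul_eq_res_of_qcqs F hU.isCompact hU.isQuasiSeparated g _ rfl
      (X.basicOpen_le g) s
    have ht0 : t = 0 := Subsingleton.elim _ _
    rw [ht0, map_zero] at ht
    have hu : IsUnit (resO (X.basicOpen_le g) g) := X.toRingedSpace.isUnit_res_basicOpen g
    exact (hu.pow n).smul_eq_zero.mp ht.symm
  exact ⟨fun s s' => by rw [key s, key s']⟩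

/-- a module whose sections vanish on a basis-like family of opens is zero -/
lemma isZero_of_sections (h : ∀ U : X.Opens, ∃ (ι : Type u) (Y : ι → X.Opens) (g : ∀ i, Y i ⟶ U),
    Sieve.ofArrows Y g ∈ (Opens.grothendieckTopology X) U ∧ ∀ i, Subsingleton Γ(F, Y i)) :
    IsZero F := by
  have hiso : IsIso ((toAbF X).map (0 : F ⟶ F)) := by
    apply Groth.Agent.Helper24.RlimTrunc.isIso_of_locally_bijective
    intro U
    obtain ⟨ι, Y, g, hcov, hY⟩ := h U
    refine ⟨ι, Y, g, hcov, fun i => ?_⟩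
    haveI : Subsingleton (((toAbF X).obj F).obj.obj (op (Y i))) := hY i
    exact ⟨fun a b _ => Subsingleton.elim a b, fun b => ⟨b, Subsingleton.elim _ _⟩⟩
  have hz : IsZero ((toAbF X).obj F) := by
    rw [IsZero.iff_id_eq_zero]
    have h1 : (toAbF X).map (0 : F ⟶ F) = 0 := Functor.map_zero _ _ _
    rw [h1] at hiso
    exact (@IsIso.hom_inv_id _ _ _ _ (0 : (toAbF X).obj F ⟶ (toAbF X).obj F) hiso).symm.trans
      zero_comp
  exact Groth.Agent.Helper24.RFSumSch.isZero_of_isZero_toAb X F hz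

end Zero

/-- for an affine morphism, a quasi-coherent module with vanishing direct image vanishes -/
theorem isZero_of_isZero_push (f : X ⟶ S) [IsAffineHom f] (M : X.Modules) (hM : qc X M)
    (hz : IsZero ((Scheme.Modules.pushforward f).obj M)) : IsZero M := by
  haveI : M.IsQuasicoherent := hM
  apply isZero_of_sections
  intro U
  -- index: affine opens `V` of `S` and functions `g` on `f⁻¹V` with `D(g) ≤ U`
  refine ⟨{p : Σ V : S.affineOpens, Γ(X, f ⁻¹ᵁ V.1) // X.basicOpen p.2 ≤ U},
    fun p => X.basicOpen p.1.2, fun p => homOfLE p.2, ?_, fun p => ?_⟩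
  · intro x hx
    obtain ⟨_, ⟨V, hV, rfl⟩, hxV, -⟩ := S.isBasis_affineOpens.exists_subset_of_mem_open
      (Set.mem_univ (f x)) isOpen_univ
    have hW : IsAffineOpen (f ⁻¹ᵁ V) := IsAffineHom.isAffine_preimage V hV
    obtain ⟨g, hg1, hg2⟩ := hW.exists_basicOpen_le (V := U) ⟨x, hx⟩ hxV
    exact ⟨X.basicOpen g, homOfLE hg1,
      Sieve.ofArrows_mk (fun p : {p : Σ V : S.affineOpens, Γ(X, f ⁻¹ᵁ V.1) // X.basicOpen p.2 ≤ U} =>
        X.basicOpen p.1.2) (fun p => homOfLE p.2) ⟨⟨⟨V, hV⟩, g⟩, hg1⟩, hg2⟩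
  · obtain ⟨⟨V, g⟩, hg⟩ := p
    have hW : IsAffineOpen (f ⁻¹ᵁ V.1) := IsAffineHom.isAffine_preimage V.1 V.2
    have h0 : Subsingleton Γ(M, f ⁻¹ᵁ V.1) := by
      have hz' : IsZero (((toAbF S).obj ((Scheme.Modules.pushforward f).obj M)).obj.obj (op V.1)) :=
        Functor.map_isZero ((sheafSections _ _).obj (op V.1)) (Functor.map_isZero (toAbF S) hz)
      exact AddCommGrpCat.subsingleton_of_isZero hz'
    exact subsingleton_basicOpen M hW h0 g

end Groth.Agent.Helper24.RFQc
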