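import Mathlib
import Groth.Prelude.Def_EssEt

namespace Groth.Agent.Helper24.EssEtFrac

universe u

open scoped nonZeroDivisors
open Function

section Artinian

variable (A : Type u) [CommRing A] [IsReduced A]

/-- In a reduced ring, every zero divisor lies in a minimal prime. -/
lemma mem_iUnion_minimalPrimes_of_notMem_nonZeroDivisors {x : A} (hx : x ∉ nonZeroDivisors A) :
    x ∈ ⋃ p ∈ minimalPrimes A, (p : Set A) := by
  have h := Ideal.iUnion_minimalPrimes (I := (⊥ : Ideal A))
  rw [minimalPrimes, h]
  rw [mem_nonZeroDivisors_iff_right] at hx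
  push Not at hx
  obtain ⟨y, hy, hy0⟩ := hx
  have hr : (⊥ : Ideal A).radical = ⊥ := Ideal.radical_bot_of_isReduced
  refine ⟨y, ?_, ?_⟩
  · rw [hr]; simpa using hy0
  · rw [hr, mul_comm]; simpa using hy

variable {A}

/-- A prime of a reduced ring with finitely many minimal primes that is disjoint from the
non-zero-divisors is a minimal prime. -/
lemma mem_minimalPrimes_of_disjoint (hmin : (minimalPrimes A).Finite) (P : Ideal A) [hP : P.IsPrime]
    (hd : Disjoint (nonZeroDivisors A : Set A) (P : Set A)) : P ∈ minimalPrimes A := by
  classical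
  have hsub : (P : Set A) ⊆ ⋃ p ∈ (hmin.toFinset : Set (Ideal A)), ((id p : Ideal A) : Set A) := by
    intro x hx
    have hx' : x ∉ nonZeroDivisors A := fun h => Set.disjoint_left.mp hd h hx
    have := mem_iUnion_minimalPrimes_of_notMem_nonZeroDivisors A hx'
    simpa using this
  obtain ⟨p, hp, hPp⟩ := (Ideal.subset_union_prime (f := id) (s := hmin.toFinset) ⊥ ⊥ (by
    intro i hi _ _
    exact (hmin.mem_toFinset.mp hi).1.1)).mp hsub
  have hp' : p ∈ minimalPrimes A := hmin.mem_toFinset.mp hp
  have : p = P := le_antisymm (hp'.2 ⟨hP, bot_le⟩ hPp) hPp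
  exact this ▸ hp'


/-- The total ring of fractions of a reduced ring with finitely many minimal primes is
Artinian. -/
theorem isArtinianRing_of_isFractionRing (hmin : (minimalPrimes A).Finite)
    (K : Type u) [CommRing K] [Algebra A K] [IsFractionRing A K] : IsArtinianRing K := by
  classical
  have hred : IsReduced K := isReduced_localizationPreserves (nonZeroDivisors A) K inferInstance
  have h1 : ∀ P : Ideal K, P.IsPrime → P.under A ∈ minimalPrimes A := by
    intro P hP
    obtain ⟨h1, h2⟩ := (IsLocalization.isPrime_iff_isPrime_disjoint (nonZeroDivisors A) K P).mp hP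
    exact mem_minimalPrimes_of_disjoint hmin _ h2
  have hmax : ∀ P : Ideal K, P.IsPrime → P.IsMaximal := by
    intro P hP
    obtain ⟨Q, hQ, hPQ⟩ := Ideal.exists_le_maximal P hP.ne_top
    have hQp : Q.IsPrime := hQ.isPrime
    have h2 : Q.under A ≤ P.under A :=
      (h1 Q hQp).2 ⟨Ideal.IsPrime.under A P, bot_le⟩ (Ideal.comap_mono hPQ)
    have : Q ≤ P := by
      rw [← IsLocalization.map_under (nonZeroDivisors A) K Q,
        ← IsLocalization.map_under (nonZeroDivisors A) K P]
      exact Ideal.map_mono h2
    exact (le_antisymm hPQ this) ▸ hQ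
  have : Finite (minimalPrimes A) := hmin.to_subtype
  have hfin : Finite (PrimeSpectrum K) := by
    refine Finite.of_injective
      (fun P : PrimeSpectrum K => (⟨P.asIdeal.under A, h1 _ P.2⟩ : minimalPrimes A)) ?_
    intro P Q h
    have h' : P.asIdeal.under A = Q.asIdeal.under A := congrArg Subtype.val h
    ext1
    rw [← IsLocalization.map_under (nonZeroDivisors A) K P.asIdeal,
      ← IsLocalization.map_under (nonZeroDivisors A) K Q.asIdeal, h']
  have hcop : Pairwise (IsCoprime on (PrimeSpectrum.asIdeal : PrimeSpectrum K → Ideal K)) := by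
    intro P Q hPQ
    have := hmax _ P.2
    have := hmax _ Q.2
    exact Ideal.isCoprime_of_isMaximal (fun h => hPQ (PrimeSpectrum.ext h))
  have hinf : ⨅ P : PrimeSpectrum K, P.asIdeal = ⊥ := by
    rw [← PrimeSpectrum.nilradical_eq_iInf, nilradical_eq_zero]; rfl
  have hart : ∀ P : PrimeSpectrum K, IsArtinianRing (K ⧸ P.asIdeal) := by
    intro P
    have := hmax _ P.2
    letI := Ideal.Quotient.field P.asIdeal
    infer_instance
  let e := Ideal.quotientInfRingEquivPiQuotient _ hcop
  have e2 : (K ⧸ ⨅ P : PrimeSpectrum K, P.asIdeal) ≃+* K :=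
    (Ideal.quotEquivOfEq hinf).trans (RingEquiv.quotientBot K)
  exact (e.symm.trans e2).isArtinianRing

end Artinian

section General

/-- `E` flat, formally unramified, essentially of finite type over a reduced ring `A` with finitely
many minimal primes: `E ⊗ K_A` is finite over `K_A`. -/
theorem finite_of_isLocalization {A : Type u} [CommRing A] [IsReduced A]
    (hmin : (minimalPrimes A).Finite)
    (E : Type u) [CommRing E] [Algebra A E] [Algebra.FormallyUnramified A E]
    [Algebra.EssFiniteType A E]
    (KA : Type u) [CommRing KA] [Algebra A KA] [IsFractionRing A KA]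
    (E' : Type u) [CommRing E'] [Algebra E E']
    [IsLocalization (Algebra.algebraMapSubmonoid E (nonZeroDivisors A)) E']
    [Algebra A E'] [IsScalarTower A E E'] [Algebra KA E'] [IsScalarTower A KA E'] :
    Module.Finite KA E' := by
  have hart : IsArtinianRing KA := isArtinianRing_of_isFractionRing hmin KA
  have : Algebra.FormallyUnramified E E' :=
    Algebra.FormallyUnramified.of_isLocalization (Algebra.algebraMapSubmonoid E (nonZeroDivisors A))
  have : Algebra.EssFiniteType E E' :=
    Algebra.EssFiniteType.of_isLocalization E' (Algebra.algebraMapSubmonoid E (nonZeroDivisors A))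
  have : Algebra.FormallyUnramified A E' := Algebra.FormallyUnramified.comp A E E'
  have : Algebra.EssFiniteType A E' := Algebra.EssFiniteType.comp A E E'
  have : Algebra.FormallyUnramified KA E' := Algebra.FormallyUnramified.of_restrictScalars A KA E'
  have : Algebra.EssFiniteType KA E' := Algebra.EssFiniteType.of_comp A KA E'
  exact Module.Finite.of_quasiFinite

/-- In the same situation, if `E` is moreover flat, `E ⊗ K_A` is the total ring of fractions of
`E`. -/
theorem isFractionRing_of_isLocalization {A : Type u} [CommRing A] [IsReduced A]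
    (hmin : (minimalPrimes A).Finite)
    (E : Type u) [CommRing E] [Algebra A E] [Module.Flat A E] [Algebra.FormallyUnramified A E]
    [Algebra.EssFiniteType A E]
    (KA : Type u) [CommRing KA] [Algebra A KA] [IsFractionRing A KA]
    (E' : Type u) [CommRing E'] [Algebra E E']
    [IsLocalization (Algebra.algebraMapSubmonoid E (nonZeroDivisors A)) E']
    [Algebra A E'] [IsScalarTower A E E'] [Algebra KA E'] [IsScalarTower A KA E'] :
    IsFractionRing E E' := by
  have hart : IsArtinianRing KA := isArtinianRing_of_isFractionRing hmin KA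
  have hfin : Module.Finite KA E' := finite_of_isLocalization hmin E KA E'
  have hartE : IsArtinianRing E' := IsArtinianRing.of_finite KA E'
  have hle : Algebra.algebraMapSubmonoid E (nonZeroDivisors A) ≤ nonZeroDivisors E := by
    rintro _ ⟨a, ha, rfl⟩
    have h := Module.Flat.isSMulRegular_of_nonZeroDivisors (M := E) ha
    rw [mem_nonZeroDivisors_iff_right]
    intro x hx
    apply h
    show a • x = a • 0
    rw [smul_zero, Algebra.smul_def, mul_comm]
    exact hx
  refine IsLocalization.of_le (M := Algebra.algebraMapSubmonoid E (nonZeroDivisors A)) _ hle ?_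
  intro r hr
  apply IsArtinianRing.isUnit_of_mem_nonZeroDivisors
  exact IsLocalization.map_nonZeroDivisors_le
    (Algebra.algebraMapSubmonoid E (nonZeroDivisors A)) E' ⟨r, hr, rfl⟩


/-- Common denominators: elements of a finite `K_A`-module `E'` are, up to a non-zero-divisor of
`A`, in the `A`-span of a fixed finite set. -/
theorem exists_finset_span {A : Type u} [CommRing A]
    (KA : Type u) [CommRing KA] [Algebra A KA] [IsFractionRing A KA]
    (E' : Type u) [CommRing E'] [Algebra A E'] [Algebra KA E'] [IsScalarTower A KA E']
    [Module.Finite KA E'] :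
    ∃ t : Finset E', ∀ x : E', ∃ a ∈ nonZeroDivisors A,
      algebraMap A E' a * x ∈ Submodule.span A (t : Set E') := by
  classical
  obtain ⟨t, ht⟩ := (Module.finite_def (R := KA) (M := E')).mp inferInstance
  refine ⟨t, fun x => ?_⟩
  have hx : x ∈ Submodule.span KA (t : Set E') := ht ▸ Submodule.mem_top
  obtain ⟨c, hc⟩ := Submodule.mem_span_finset'.mp hx
  obtain ⟨b, hb⟩ := IsLocalization.exist_integer_multiples (nonZeroDivisors A) Finset.univ c
  refine ⟨b.1, b.2, ?_⟩
  rw [← hc, Finset.mul_sum]
  refine Submodule.sum_mem _ fun i _ => ?_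
  obtain ⟨a, ha⟩ := hb i (Finset.mem_univ i)
  have : algebraMap A E' b.1 * c i • (i : E') = a • (i : E') := by
    rw [← Algebra.smul_def, ← smul_assoc, ← ha, algebraMap_smul]
  rw [this]
  exact Submodule.smul_mem _ _ (Submodule.subset_span i.2)

end General

section EssEt

theorem props_of_isEssentiallyEtale (A E : Type u) [CommRing A] [IsLocalRing A] [CommRing E]
    [Algebra A E] (hE : EGA4loc.IsEssentiallyEtale A E) :
    Module.Flat A E ∧ Algebra.FormallyUnramified A E ∧ Algebra.EssFiniteType A E := by
  obtain ⟨C, _, _, q, _, hC, hq, ⟨e⟩⟩ := hE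
  have h1 : Module.Flat A (Localization.AtPrime q) := inferInstance
  have h2 : Algebra.FormallyUnramified A (Localization.AtPrime q) := inferInstance
  have h3 : Algebra.EssFiniteType A (Localization.AtPrime q) := inferInstance
  exact ⟨Module.Flat.of_linearEquiv e.toLinearEquiv, Algebra.FormallyUnramified.of_equiv e.symm,
    (Algebra.EssFiniteType.iff_of_algEquiv e.symm).mp h3⟩

/-- `K_E = E ⊗_A K_A`. -/
theorem isLocalization_fractionRing {A : Type u} [CommRing A] [IsReduced A]
    (hmin : (minimalPrimes A).Finite)
    (E : Type u) [CommRing E] [Algebra A E] [Module.Flat A E] [Algebra.FormallyUnramified A E]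
    [Algebra.EssFiniteType A E] :
    IsLocalization (Algebra.algebraMapSubmonoid E (nonZeroDivisors A)) (FractionRing E) := by
  have h : IsFractionRing E (Localization (Algebra.algebraMapSubmonoid E (nonZeroDivisors A))) :=
    isFractionRing_of_isLocalization hmin E (FractionRing A) _
  let e : Localization (Algebra.algebraMapSubmonoid E (nonZeroDivisors A)) ≃ₐ[E] FractionRing E :=
    IsLocalization.algEquiv (nonZeroDivisors E) _ _
  exact IsLocalization.isLocalization_of_algEquiv _ e

/-- `K_E` is finite over `K_A`, for the `K_A`-algebra structure on `K_E` coming from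
`K_E = E ⊗_A K_A`. -/
theorem finite_fractionRing {A : Type u} [CommRing A] [IsReduced A]
    (hmin : (minimalPrimes A).Finite)
    (E : Type u) [CommRing E] [Algebra A E] [Module.Flat A E] [Algebra.FormallyUnramified A E]
    [Algebra.EssFiniteType A E] :
    haveI := isLocalization_fractionRing hmin E
    letI : Algebra (FractionRing A) (FractionRing E) := localizationAlgebra (nonZeroDivisors A) E
    Module.Finite (FractionRing A) (FractionRing E) := by
  haveI := isLocalization_fractionRing hmin E
  letI : Algebra (FractionRing A) (FractionRing E) := localizationAlgebra (nonZeroDivisors A) E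
  haveI : IsScalarTower A (FractionRing A) (FractionRing E) :=
    isScalarTower_localizationAlgebra (nonZeroDivisors A) E
  exact finite_of_isLocalization hmin E (FractionRing A) (FractionRing E)

end EssEt
end Groth.Agent.Helper24.EssEtFrac
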