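import Groth.Prelude.Def_GalDesc
import Mathlib.FieldTheory.Galois.Basic
import Mathlib.LinearAlgebra.TensorProduct.Tower
import Mathlib.RingTheory.Flat.FaithfullyFlat.Algebra
import Mathlib.LinearAlgebra.LinearIndependent.Lemmas
import Mathlib.LinearAlgebra.Dual.Lemmas
import Mathlib.RingTheory.TensorProduct.Free
import Mathlib.RingTheory.Trace.Basic

set_option autoImplicit false
set_option linter.unusedSectionVars false
set_option linter.unusedVariables false
universe u v w x y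
open scoped TensorProduct

namespace Groth.Agent.Helper24
namespace GalDescent

section Dedekind
variable {k : Type u} {K : Type v} [Field k] [Field K] [Algebra k K] [FiniteDimensional k K]

/-- Dedekind: if `Σ_σ v_σ σ(y) = 0` for all `y` then `v = 0`. -/
theorem eq_zero_of_forall_sum_mul_apply (v : (K ≃ₐ[k] K) → K)
    (h : ∀ y : K, ∑ σ : K ≃ₐ[k] K, v σ * σ y = 0) : v = 0 := by
  have hli := (linearIndependent_algHom_toLinearMap k K K).comp _
    (algEquivEquivAlgHom k K).injective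
  rw [Fintype.linearIndependent_iff] at hli
  funext σ
  apply hli v
  ext y
  simpa using h y

/-- There is a finite family `c_i, y_i` in `K` with `Σ_i c_i σ(y_i) = δ_{σ,1}`. -/
theorem exists_dual_family :
    ∃ (n : ℕ) (c y : Fin n → K), (∑ i, c i * y i = 1) ∧ ∀ σ : K ≃ₐ[k] K, σ ≠ 1 →
      ∑ i, c i * σ (y i) = 0 := by
  classical
  have hli : LinearIndependent K (fun σ : K ≃ₐ[k] K => (σ : K → K)) := by
    rw [Fintype.linearIndependent_iff]
    intro g hg σ
    have := eq_zero_of_forall_sum_mul_apply (k := k) g (fun y => by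
      have := congrFun hg y
      simpa [Finset.sum_apply] using this)
    rw [this]; rfl
  have hspan := span_flip_eq_top_iff_linearIndependent.mpr hli
  have hmem : (Pi.single 1 1 : (K ≃ₐ[k] K) → K) ∈
      Submodule.span K (Set.range (flip fun σ : K ≃ₐ[k] K => (σ : K → K))) := by
    rw [hspan]; exact Submodule.mem_top
  obtain ⟨n, c, g, hg⟩ := Submodule.mem_span_set'.mp hmem
  choose y hy using fun i => (g i).2
  have key : ∀ σ : K ≃ₐ[k] K, ∑ i, c i * σ (y i) = if σ = 1 then 1 else 0 := by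
    intro σ
    have := congrFun hg σ
    simp only [Finset.sum_apply, Pi.smul_apply, smul_eq_mul, Pi.single_apply] at this
    rw [← this]
    refine Finset.sum_congr rfl fun i _ => ?_
    rw [← hy i]
    rfl
  refine ⟨n, c, y, ?_, fun σ hσ => ?_⟩
  · simpa using key 1
  · simpa [hσ] using key σ

end Dedekind

section Twisted

variable {k : Type u} {K : Type v} [Field k] [Field K] [Algebra k K]
variable {M : Type w} [AddCommGroup M] [Module K M] [Module k M] [IsScalarTower k K M]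
  [DistribMulAction (K ≃ₐ[k] K) M] [SMulDistribClass (K ≃ₐ[k] K) K M]

theorem cocycle_one (a : GpH1.OneCocycle (K ≃ₐ[k] K) (M ≃ₗ[K] M)) : a 1 = 1 := by
  have h := a.2 1 1
  rw [one_mul, one_smul] at h
  exact (mul_eq_left (a := a 1)).mp h.symm

/-- The twisted action `x ↦ a_σ(σ x)` as an additive map. -/
def tw (a : GpH1.OneCocycle (K ≃ₐ[k] K) (M ≃ₗ[K] M)) (σ : K ≃ₐ[k] K) : M →+ M where
  toFun x := a σ (σ • x)
  map_zero' := by rw [smul_zero, map_zero]
  map_add' x y := by rw [smul_add, map_add]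

theorem tw_apply (a : GpH1.OneCocycle (K ≃ₐ[k] K) (M ≃ₗ[K] M)) (σ : K ≃ₐ[k] K) (x : M) :
    tw a σ x = a σ (σ • x) := rfl

theorem tw_one (a : GpH1.OneCocycle (K ≃ₐ[k] K) (M ≃ₗ[K] M)) (x : M) : tw a 1 x = x := by
  rw [tw_apply, cocycle_one, one_smul]; rfl

theorem tw_mul (a : GpH1.OneCocycle (K ≃ₐ[k] K) (M ≃ₗ[K] M)) (σ τ : K ≃ₐ[k] K) (x : M) :
    tw a (σ * τ) x = tw a σ (tw a τ x) := by
  rw [tw_apply, tw_apply, tw_apply, a.2 σ τ, LinearEquiv.mul_apply, GalDesc.conj_smul_apply,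
    mul_smul, inv_smul_smul]

theorem tw_smul (a : GpH1.OneCocycle (K ≃ₐ[k] K) (M ≃ₗ[K] M)) (σ : K ≃ₐ[k] K) (c : K) (x : M) :
    tw a σ (c • x) = σ c • tw a σ x := by
  rw [tw_apply, tw_apply, smul_distrib_smul σ c x, map_smul, AlgEquiv.smul_def]

theorem tw_of_mem (a : GpH1.OneCocycle (K ≃ₐ[k] K) (M ≃ₗ[K] M)) {x : M}
    (hx : x ∈ GalDesc.fixedSub a) (σ : K ≃ₐ[k] K) : tw a σ x = x := hx σ

variable [FiniteDimensional k K]

/-- The trace `Σ_σ a_σ(σ x)` of the twisted action. -/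
noncomputable def T (a : GpH1.OneCocycle (K ≃ₐ[k] K) (M ≃ₗ[K] M)) : M →+ M :=
  ∑ σ : K ≃ₐ[k] K, tw a σ

theorem T_apply (a : GpH1.OneCocycle (K ≃ₐ[k] K) (M ≃ₗ[K] M)) (x : M) :
    T a x = ∑ σ : K ≃ₐ[k] K, tw a σ x := by
  simp [T]

theorem T_mem (a : GpH1.OneCocycle (K ≃ₐ[k] K) (M ≃ₗ[K] M)) (x : M) :
    T a x ∈ GalDesc.fixedSub a := by
  intro τ
  change tw a τ (T a x) = T a x
  rw [T_apply, map_sum]
  simp_rw [← tw_mul]
  exact Fintype.sum_bijective (fun σ => τ * σ) (Group.mulLeft_bijective τ) _ _ (fun _ => rfl)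

theorem T_smul (a : GpH1.OneCocycle (K ≃ₐ[k] K) (M ≃ₗ[K] M)) (z : K) (x : M) :
    T a (z • x) = ∑ σ : K ≃ₐ[k] K, σ z • tw a σ x := by
  rw [T_apply]
  simp_rw [tw_smul]

theorem T_smul_of_mem (a : GpH1.OneCocycle (K ≃ₐ[k] K) (M ≃ₗ[K] M)) (z : K) {x : M}
    (hx : x ∈ GalDesc.fixedSub a) :
    T a (z • x) = (∑ σ : K ≃ₐ[k] K, σ z) • x := by
  rw [T_smul, Finset.sum_smul]
  simp_rw [tw_of_mem a hx]

/-- Key identity: `m = Σ_i c_i • T(y_i • m)` for a dual family. -/
theorem eq_sum_smul_T (a : GpH1.OneCocycle (K ≃ₐ[k] K) (M ≃ₗ[K] M)) {n : ℕ} (c y : Fin n → K)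
    (h1 : ∑ i, c i * y i = 1)
    (h2 : ∀ σ : K ≃ₐ[k] K, σ ≠ 1 → ∑ i, c i * σ (y i) = 0) (m : M) :
    m = ∑ i, c i • T a (y i • m) := by
  classical
  simp_rw [T_smul, Finset.smul_sum, smul_smul]
  rw [Finset.sum_comm]
  simp_rw [← Finset.sum_smul]
  rw [Finset.sum_eq_single (1 : K ≃ₐ[k] K)]
  · simp only [AlgEquiv.one_apply]
    rw [h1, one_smul, tw_one]
  · intro σ _ hσ
    rw [h2 σ hσ, zero_smul]
  · intro h; exact absurd (Finset.mem_univ _) h

/-- The natural map `K ⊗[k] M^{tw} → M`. -/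
noncomputable def μ (a : GpH1.OneCocycle (K ≃ₐ[k] K) (M ≃ₗ[K] M)) :
    K ⊗[k] (GalDesc.fixedSub a) →ₗ[K] M :=
  (GalDesc.fixedSub a).subtype.liftBaseChange K

theorem μ_tmul (a : GpH1.OneCocycle (K ≃ₐ[k] K) (M ≃ₗ[K] M)) (c : K)
    (x : GalDesc.fixedSub a) : μ a (c ⊗ₜ[k] x) = c • (x : M) := rfl

/-- The trace as a map into the fixed submodule. -/
noncomputable def TF (a : GpH1.OneCocycle (K ≃ₐ[k] K) (M ≃ₗ[K] M)) :
    M →+ GalDesc.fixedSub a where
  toFun m := ⟨T a m, T_mem a m⟩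
  map_zero' := Subtype.ext (map_zero _)
  map_add' x y := Subtype.ext (map_add _ _ _)

theorem TF_coe (a : GpH1.OneCocycle (K ≃ₐ[k] K) (M ≃ₗ[K] M)) (m : M) :
    ((TF a m : GalDesc.fixedSub a) : M) = T a m := rfl

variable [IsGalois k K]

theorem TF_smul_of_mem (a : GpH1.OneCocycle (K ≃ₐ[k] K) (M ≃ₗ[K] M)) (z : K)
    (x : GalDesc.fixedSub a) :
    TF a (z • (x : M)) = Algebra.trace k K z • x := by
  apply Subtype.ext
  rw [TF_coe, T_smul_of_mem a z x.2, ← trace_eq_sum_automorphisms, Submodule.coe_smul,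
    algebraMap_smul]

/-- The candidate inverse of `μ` attached to a dual family. -/
noncomputable def ν (a : GpH1.OneCocycle (K ≃ₐ[k] K) (M ≃ₗ[K] M)) {n : ℕ} (c y : Fin n → K) :
    M →+ K ⊗[k] (GalDesc.fixedSub a) :=
  ∑ i, ((TensorProduct.mk k K (GalDesc.fixedSub a) (c i)).toAddMonoidHom).comp
    ((TF a).comp (DistribSMul.toAddMonoidHom M (y i)))

theorem ν_apply (a : GpH1.OneCocycle (K ≃ₐ[k] K) (M ≃ₗ[K] M)) {n : ℕ} (c y : Fin n → K) (m : M) :
    ν a c y m = ∑ i, c i ⊗ₜ[k] TF a (y i • m) := by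
  simp [ν]

theorem μ_ν (a : GpH1.OneCocycle (K ≃ₐ[k] K) (M ≃ₗ[K] M)) {n : ℕ} (c y : Fin n → K)
    (h1 : ∑ i, c i * y i = 1)
    (h2 : ∀ σ : K ≃ₐ[k] K, σ ≠ 1 → ∑ i, c i * σ (y i) = 0) (m : M) :
    μ a (ν a c y m) = m := by
  rw [ν_apply, map_sum]
  simp_rw [μ_tmul, TF_coe]
  exact (eq_sum_smul_T a c y h1 h2 m).symm

theorem ν_μ (a : GpH1.OneCocycle (K ≃ₐ[k] K) (M ≃ₗ[K] M)) {n : ℕ} (c y : Fin n → K)
    (h1 : ∑ i, c i * y i = 1)
    (h2 : ∀ σ : K ≃ₐ[k] K, σ ≠ 1 → ∑ i, c i * σ (y i) = 0)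
    (z : K ⊗[k] (GalDesc.fixedSub a)) :
    ν a c y (μ a z) = z := by
  classical
  induction z using TensorProduct.induction_on with
  | zero => simp
  | add z z' hz hz' => rw [map_add, map_add, hz, hz']
  | tmul d x =>
    rw [μ_tmul, ν_apply]
    simp_rw [smul_smul, TF_smul_of_mem, TensorProduct.tmul_smul, TensorProduct.smul_tmul']
    rw [← TensorProduct.sum_tmul]
    congr 1
    simp_rw [Algebra.smul_def, trace_eq_sum_automorphisms, map_mul, Finset.sum_mul]
    rw [Finset.sum_comm]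
    have : ∀ σ : K ≃ₐ[k] K, ∑ i, σ (y i) * σ d * c i = (∑ i, c i * σ (y i)) * σ d := by
      intro σ
      rw [Finset.sum_mul]
      exact Finset.sum_congr rfl fun i _ => by ring
    simp_rw [this]
    rw [Finset.sum_eq_single (1 : K ≃ₐ[k] K)]
    · simp only [AlgEquiv.one_apply]
      rw [h1, one_mul]
    · intro σ _ hσ
      rw [h2 σ hσ, zero_mul]
    · intro h; exact absurd (Finset.mem_univ _) h

/-- **Galois descent**: `K ⊗[k] M^{tw} ≃ M`. -/
noncomputable def descentEquiv (a : GpH1.OneCocycle (K ≃ₐ[k] K) (M ≃ₗ[K] M)) :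
    K ⊗[k] (GalDesc.fixedSub a) ≃ₗ[K] M :=
  LinearEquiv.ofBijective (μ a) (by
    obtain ⟨n, c, y, h1, h2⟩ := exists_dual_family (k := k) (K := K)
    exact ⟨Function.LeftInverse.injective (ν_μ a c y h1 h2),
      Function.RightInverse.surjective (μ_ν a c y h1 h2)⟩)

theorem descentEquiv_tmul (a : GpH1.OneCocycle (K ≃ₐ[k] K) (M ≃ₗ[K] M)) (c : K)
    (x : GalDesc.fixedSub a) : descentEquiv a (c ⊗ₜ[k] x) = c • (x : M) := rfl

end Twisted

section Trivial

variable {k : Type u} {K : Type v} [Field k] [Field K] [Algebra k K] [FiniteDimensional k K]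
  [IsGalois k K]
variable {W : Type w} [AddCommGroup W] [Module k W] {W' : Type x} [AddCommGroup W'] [Module k W']

theorem smul_one_tmul (σ : K ≃ₐ[k] K) (w : W) : σ • ((1 : K) ⊗ₜ[k] w) = (1 : K) ⊗ₜ[k] w := by
  rw [TensorProduct.smul_tmul', smul_one]

theorem one_tmul_injective : Function.Injective (fun w : W => (1 : K) ⊗ₜ[k] w) :=
  Module.FaithfullyFlat.tensorProduct_mk_injective (A := k) (B := K) W

variable (k K W) in
/-- The trivial cocycle on `K ⊗[k] W`. -/
def triv : GpH1.OneCocycle (K ≃ₐ[k] K) (K ⊗[k] W ≃ₗ[K] K ⊗[k] W) := GpH1.OneCocycle.trivial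

theorem mem_fixedSub_triv (x : K ⊗[k] W) :
    x ∈ GalDesc.fixedSub (triv k K W) ↔ ∀ σ : K ≃ₐ[k] K, σ • x = x := Iff.rfl

variable (k K W) in
/-- The inclusion `W → (K ⊗ W)^Γ`. -/
noncomputable def jFix : W →ₗ[k] GalDesc.fixedSub (triv k K W) where
  toFun w := ⟨(1 : K) ⊗ₜ[k] w, (mem_fixedSub_triv _).mpr fun σ => smul_one_tmul σ w⟩
  map_add' w w' := Subtype.ext (TensorProduct.tmul_add _ _ _)
  map_smul' r w := Subtype.ext (TensorProduct.tmul_smul _ _ _)

theorem jFix_coe (w : W) : ((jFix k K W w : GalDesc.fixedSub (triv k K W)) : K ⊗[k] W) =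
    (1 : K) ⊗ₜ[k] w := rfl

theorem jFix_bijective : Function.Bijective (jFix k K W) := by
  refine (Module.FaithfullyFlat.lTensor_bijective_iff_bijective k K (N := W)
    (N' := GalDesc.fixedSub (triv k K W)) (jFix k K W)).mp ?_
  have hcomp : ∀ z : K ⊗[k] W, descentEquiv (triv k K W) ((jFix k K W).lTensor K z) = z := by
    intro z
    induction z using TensorProduct.induction_on with
    | zero => simp
    | add z z' hz hz' => rw [map_add, map_add, hz, hz']
    | tmul c w =>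
      rw [LinearMap.lTensor_tmul, descentEquiv_tmul, jFix_coe, TensorProduct.smul_tmul',
        smul_eq_mul, mul_one]
  have : ((jFix k K W).lTensor K : K ⊗[k] W → _) = (descentEquiv (triv k K W)).symm := by
    funext z
    rw [LinearEquiv.eq_symm_apply]
    exact hcomp z
  rw [this]
  exact (descentEquiv (triv k K W)).symm.bijective

/-- The Galois-fixed vectors of `K ⊗[k] W` are exactly the `1 ⊗ w`. -/
theorem exists_one_tmul_eq_of_fixed (x : K ⊗[k] W) (hx : ∀ σ : K ≃ₐ[k] K, σ • x = x) :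
    ∃ w : W, (1 : K) ⊗ₜ[k] w = x := by
  obtain ⟨w, hw⟩ := (jFix_bijective (k := k) (K := K) (W := W)).2 ⟨x, (mem_fixedSub_triv x).mpr hx⟩
  exact ⟨w, congrArg Subtype.val hw⟩

/-- A Galois-equivariant `K`-linear isomorphism `K ⊗ W ≃ K ⊗ W'` descends to `k`. -/
theorem exists_equiv_of_equivariant (h : K ⊗[k] W ≃ₗ[K] K ⊗[k] W')
    (hσ : ∀ (σ : K ≃ₐ[k] K) (z : K ⊗[k] W), h (σ • z) = σ • h z) :
    ∃ e : W ≃ₗ[k] W', ∀ w : W, h ((1 : K) ⊗ₜ[k] w) = (1 : K) ⊗ₜ[k] e w := by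
  have hσ' : ∀ (σ : K ≃ₐ[k] K) (z : K ⊗[k] W'), h.symm (σ • z) = σ • h.symm z := by
    intro σ z
    apply h.injective
    rw [hσ, h.apply_symm_apply, h.apply_symm_apply]
  have ex : ∀ w : W, ∃ w' : W', (1 : K) ⊗ₜ[k] w' = h ((1 : K) ⊗ₜ[k] w) := fun w =>
    exists_one_tmul_eq_of_fixed _ fun σ => by rw [← hσ, smul_one_tmul]
  have ex' : ∀ w' : W', ∃ w : W, (1 : K) ⊗ₜ[k] w = h.symm ((1 : K) ⊗ₜ[k] w') := fun w' =>
    exists_one_tmul_eq_of_fixed _ fun σ => by rw [← hσ', smul_one_tmul]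
  choose e he using ex
  have hinj' := one_tmul_injective (k := k) (K := K) (W := W')
  have hinj := one_tmul_injective (k := k) (K := K) (W := W)
  let eL : W →ₗ[k] W' :=
    { toFun := e
      map_add' := fun w₁ w₂ => hinj' (by
        show (1 : K) ⊗ₜ[k] e (w₁ + w₂) = (1 : K) ⊗ₜ[k] (e w₁ + e w₂)
        rw [he, TensorProduct.tmul_add, TensorProduct.tmul_add, map_add, he, he])
      map_smul' := fun r w => hinj' (by
        show (1 : K) ⊗ₜ[k] e (r • w) = (1 : K) ⊗ₜ[k] ((RingHom.id k) r • e w)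
        rw [he, RingHom.id_apply, TensorProduct.tmul_smul, TensorProduct.tmul_smul,
          ← algebraMap_smul K r ((1 : K) ⊗ₜ[k] w), map_smul, algebraMap_smul, he]) }
  have hbij : Function.Bijective eL := by
    constructor
    · intro w₁ w₂ h12
      apply hinj
      apply h.injective
      show h ((1 : K) ⊗ₜ[k] w₁) = h ((1 : K) ⊗ₜ[k] w₂)
      rw [← he, ← he]
      exact congrArg (fun t => (1 : K) ⊗ₜ[k] t) h12
    · intro w'
      obtain ⟨w, hw⟩ := ex' w'
      refine ⟨w, hinj' ?_⟩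
      show (1 : K) ⊗ₜ[k] e w = (1 : K) ⊗ₜ[k] w'
      rw [he, hw, h.apply_symm_apply]
  exact ⟨LinearEquiv.ofBijective eL hbij, fun w => (he w).symm⟩

end Trivial

section TwistedForm

variable {k : Type u} {K : Type v} [Field k] [Field K] [Algebra k K] [FiniteDimensional k K]
  [IsGalois k K]
variable {M : Type w} [AddCommGroup M] [Module K M] [Module k M] [IsScalarTower k K M]
  [DistribMulAction (K ≃ₐ[k] K) M] [SMulDistribClass (K ≃ₐ[k] K) K M]
variable (a : GpH1.OneCocycle (K ≃ₐ[k] K) (M ≃ₗ[K] M))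
variable {W : Type x} [AddCommGroup W] [Module k W] (ι : W →ₗ[k] M) (hι : Function.Injective ι)
  (hW : LinearMap.range ι = GalDesc.fixedSub a)

/-- `W ≃ M^{tw}` from an injective map with image the twisted fixed vectors. -/
noncomputable def equivFixed : W ≃ₗ[k] GalDesc.fixedSub a :=
  (LinearEquiv.ofInjective ι hι).trans (LinearEquiv.ofEq _ _ hW)

theorem equivFixed_coe (w : W) : ((equivFixed a ι hι hW w : GalDesc.fixedSub a) : M) = ι w := rfl

include hW in
theorem ι_mem (w : W) : ι w ∈ GalDesc.fixedSub a := hW ▸ LinearMap.mem_range_self ι w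

/-- The inverse trivialisation `K ⊗ W ≃ M`, `c ⊗ w ↦ c • ι w`. -/
noncomputable def twistSymm : K ⊗[k] W ≃ₗ[K] M :=
  (LinearEquiv.baseChange k K W _ (equivFixed a ι hι hW)).trans (descentEquiv a)

theorem twistSymm_tmul (c : K) (w : W) : twistSymm a ι hι hW (c ⊗ₜ[k] w) = c • ι w := by
  simp [twistSymm, descentEquiv_tmul, equivFixed_coe]

theorem twistSymm_smul (σ : K ≃ₐ[k] K) (z : K ⊗[k] W) :
    twistSymm a ι hι hW (σ • z) = a σ (σ • twistSymm a ι hι hW z) := by
  induction z using TensorProduct.induction_on with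
  | zero => simp
  | add z z' hz hz' => rw [smul_add, map_add, hz, hz', map_add, smul_add, map_add]
  | tmul c w =>
    rw [TensorProduct.smul_tmul', twistSymm_tmul, twistSymm_tmul, smul_distrib_smul σ c (ι w),
      map_smul, ι_mem a ι hW w σ]

theorem cocycle_twistSymm_symm :
    GalDesc.cocycle k (twistSymm a ι hι hW).symm = a := by
  apply GpH1.OneCocycle.ext
  intro σ
  apply LinearEquiv.ext
  intro x
  rw [GalDesc.cocycle_apply, LinearEquiv.symm_symm, twistSymm_smul, LinearEquiv.apply_symm_apply,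
    smul_inv_smul]

end TwistedForm

section BaseChangeEquivariant

variable {k : Type u} {K : Type v} [Field k] [Field K] [Algebra k K]
variable {V : Type w} [AddCommGroup V] [Module k V] {V' : Type x} [AddCommGroup V'] [Module k V']

theorem baseChange_smul (φ : V →ₗ[k] V') (σ : K ≃ₐ[k] K) (z : K ⊗[k] V) :
    φ.baseChange K (σ • z) = σ • φ.baseChange K z := by
  induction z using TensorProduct.induction_on with
  | zero => simp
  | add z z' hz hz' => rw [smul_add, map_add, hz, hz', map_add, smul_add]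
  | tmul c v =>
    rw [TensorProduct.smul_tmul', LinearMap.baseChange_tmul, LinearMap.baseChange_tmul,
      TensorProduct.smul_tmul']

end BaseChangeEquivariant

end GalDescent
end Groth.Agent.Helper24
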