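import Mathlib
import Groth.Agent.Lib.Helper29.SHomC

/-!
# Tensoring with an invertible module is an equivalence (helper24)

For modules `L`, `I` on a scheme with `ε : L ⊗ I ≅ O_X` the functors `- ⊗ I` and `- ⊗ L` are
mutually inverse equivalences of the category of modules.
-/

set_option autoImplicit false
set_option linter.unusedSectionVars false
set_option maxHeartbeats 400000
universe u
open CategoryTheory CategoryTheory.Limits AlgebraicGeometry Opposite TopologicalSpace TensorProduct
open Groth.Agent.Helper13.Tensor Groth.Agent.Helper13.TensorFunctor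
open Groth.Agent.Helper29.SHomC (hom_ext₃)

namespace Groth.Agent.Helper24.CartExt

variable {X : Scheme.{u}}

section Cancel

variable (L I : X.Modules) (ε : CohB1.tensorMod L I ≅ Coh.structureModule X)

/-- `(P ⊗ L) ⊗ I ≅ P` -/
noncomputable def cancelIso (P : X.Modules) :
    CohB1.tensorMod (CohB1.tensorMod P L) I ≅ P :=
  assoc P L I ≪≫ mapIso (Iso.refl P) ε ≪≫ rid P

lemma cancelIso_hom_app_tmul (P : X.Modules) {U : X.Opens} (p : Γ(P, U)) (l : Γ(L, U))
    (a : Γ(I, U)) :
    (cancelIso L I ε P).hom.app U (tmul _ I (tmul P L p l) a) =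
      (show Γ(X, U) from ε.hom.app U (tmul L I l a)) • p := by
  have h : (cancelIso L I ε P).hom = (assoc P L I).hom ≫ map (𝟙 P) ε.hom ≫ (rid P).hom := rfl
  rw [h, Scheme.Modules.Hom.comp_app, Scheme.Modules.Hom.comp_app, ConcreteCategory.comp_apply,
    ConcreteCategory.comp_apply, assoc_hom_app_tmul, map_app_tmul, rid_hom_app_tmul]
  rfl

lemma cancelIso_naturality {P P' : X.Modules} (f : P ⟶ P') :
    map (map f (𝟙 L)) (𝟙 I) ≫ (cancelIso L I ε P').hom = (cancelIso L I ε P).hom ≫ f := by
  apply hom_ext₃
  intro U p l a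
  rw [Scheme.Modules.Hom.comp_app, Scheme.Modules.Hom.comp_app, ConcreteCategory.comp_apply,
    ConcreteCategory.comp_apply, map_app_tmul, map_app_tmul,
    cancelIso_hom_app_tmul, cancelIso_hom_app_tmul]
  exact (Scheme.Modules.Hom.app_smul f _ p).symm

/-- `(- ⊗ L) ⊗ I ≅ id` -/
noncomputable def cancelNatIso : tensorRight L ⋙ tensorRight I ≅ 𝟭 X.Modules :=
  NatIso.ofComponents (fun P => cancelIso L I ε P) (fun {P P'} f => cancelIso_naturality L I ε f)

/-- tensoring with `I` is an equivalence with inverse tensoring with `L` -/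
noncomputable def tensorEquiv : X.Modules ≌ X.Modules :=
  CategoryTheory.Equivalence.mk (tensorRight I) (tensorRight L) (cancelNatIso I L (braid I L ≪≫ ε)).symm
    (cancelNatIso L I ε)

include ε in
lemma isEquivalence_tensorRight : (tensorRight I).IsEquivalence :=
  (tensorEquiv L I ε).isEquivalence_functor

end Cancel

end Groth.Agent.Helper24.CartExt
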