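import Mathlib
import Groth.Agent.Lib.Helper24.LinLES

/-!
# Two more dimension counts from the long exact cohomology sequence (helper24)
-/

set_option autoImplicit false
set_option linter.unusedSectionVars false
set_option linter.style.haveILetI false
set_option linter.unusedVariables false
universe u
open CategoryTheory CategoryTheory.Limits AlgebraicGeometry Opposite TopologicalSpace
open Groth.Agent.Helper13.PnFin Groth.Agent.Helper13.ToAbExact Abelian

namespace Groth.Agent.Helper24.LinLES

/-- if `H^1(S.X₁) = 0` then `h⁰(S.X₃) + h⁰(S.X₁) = h⁰(S.X₂)`. -/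
theorem finrank_H0_of_H1 (k : Type u) [Field k] {X : Scheme.{u}}
    [X.Over (Spec (CommRingCat.of k))]
    (S : ShortComplex X.Modules) (hS : S.ShortExact)
    [Module.Finite k (Coh.HH X S.X₂ 0)]
    (h1 : Subsingleton (Coh.HH X S.X₁ 1)) :
    Module.finrank k (Coh.HH X S.X₃ 0) + Module.finrank k (Coh.HH X S.X₁ 0) =
      Module.finrank k (Coh.HH X S.X₂ 0) := by
  have hf0 := hstar_f_injective_zero k S hS
  have e1 := LinearMap.finrank_range_add_finrank_ker (hstar k S.g 0)
  rw [← range_f_eq_ker_g k S hS 0, LinearMap.finrank_range_of_inj hf0] at e1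
  have hsurj : LinearMap.range (hstar k S.g 0) = ⊤ := by
    rw [range_g_eq_ker_δ k S hS 0 1 rfl]
    ext y
    simp only [LinearMap.mem_ker, Submodule.mem_top, iff_true]
    exact Subsingleton.elim _ _
  rw [hsurj, finrank_top] at e1
  omega

/-- if `H^p(S.X₂) = 0` and `H^q(S.X₃) = 0`, `q = p + 1`, then
`h^p(S.X₃) + h^q(S.X₂) = h^q(S.X₁)`. -/
theorem finrank_flank (k : Type u) [Field k] {X : Scheme.{u}}
    [X.Over (Spec (CommRingCat.of k))]
    (S : ShortComplex X.Modules) (hS : S.ShortExact) (p q : ℕ) (hpq : p + 1 = q)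
    [Module.Finite k (Coh.HH X S.X₁ q)]
    (h2 : Subsingleton (Coh.HH X S.X₂ p)) (h3 : Subsingleton (Coh.HH X S.X₃ q)) :
    Module.finrank k (Coh.HH X S.X₃ p) + Module.finrank k (Coh.HH X S.X₂ q) =
      Module.finrank k (Coh.HH X S.X₁ q) := by
  have e3 := LinearMap.finrank_range_add_finrank_ker (hstar k S.f q)
  rw [← range_δ_eq_ker_f k S hS p q hpq] at e3
  have hinj : Function.Injective (hdelta k S hS p q hpq) := by
    rw [← LinearMap.ker_eq_bot, ← range_g_eq_ker_δ k S hS p q hpq, eq_bot_iff]
    rintro _ ⟨y, rfl⟩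
    rw [Subsingleton.elim y 0, map_zero]
    exact Submodule.zero_mem _
  rw [LinearMap.finrank_range_of_inj hinj] at e3
  have hsurj : LinearMap.range (hstar k S.f q) = ⊤ := by
    rw [range_f_eq_ker_g k S hS q]
    ext y
    simp only [LinearMap.mem_ker, Submodule.mem_top, iff_true]
    exact Subsingleton.elim _ _
  rw [hsurj, finrank_top] at e3
  omega

end Groth.Agent.Helper24.LinLES
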