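import Mathlib
import Groth.Agent.Lib.Helper24.LinLES
import Groth.Agent.Lib.Helper24.PtIdeal0
import Groth.Agent.Lib.Helper24.PnMumford2
import Groth.Agent.Lib.Helper24.KoszMap1
import Groth.Agent.Lib.Helper26.PnEuler
import Groth.Agent.Lib.Helper26.ProjDim
import Groth.Agent.Lib.Helper12.RelProjIntegral
import Groth.Agent.S0038

/-!
# Cohomology of a "hypersurface" (finite subscheme) of the projective line (helper24)
-/

set_option autoImplicit false
set_option linter.unusedSectionVars false
set_option linter.style.haveILetI false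
set_option linter.unusedVariables false
universe u
open CategoryTheory CategoryTheory.Limits AlgebraicGeometry Opposite TopologicalSpace
open Groth.Agent.Helper13.TwistSES Groth.Agent.Helper13.ToAbExact Groth.Agent.Helper13.PnFin

namespace Groth.Agent.Helper24.P1Hyp

section Top

/-- a proper closed subset of an irreducible space of dimension at most one has dimension at
most zero. -/
theorem topologicalKrullDim_le_zero_of_closed_ne_univ {T : Type*} [TopologicalSpace T]
    [IrreducibleSpace T] (hT : topologicalKrullDim T ≤ 1) (Z : Set T) (hZ : IsClosed Z)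
    (hne : Z ≠ Set.univ) : topologicalKrullDim Z ≤ 0 := by
  unfold topologicalKrullDim at hT ⊢
  rw [Order.krullDim_nonpos_iff_forall_isMin]
  intro c c' hle
  have hind : Topology.IsInducing (Subtype.val : Z → T) := Topology.IsInducing.subtypeVal
  have hmono : TopologicalSpace.IrreducibleCloseds.map (Subtype.val : Z → T) hind.continuous c' ≤
      TopologicalSpace.IrreducibleCloseds.map (Subtype.val : Z → T) hind.continuous c :=
    TopologicalSpace.IrreducibleCloseds.map_mono hind.continuous hle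
  have hsub : ((TopologicalSpace.IrreducibleCloseds.map (Subtype.val : Z → T) hind.continuous c :
      TopologicalSpace.IrreducibleCloseds T) : Set T) ⊆ Z := by
    show closure (Subtype.val '' (c : Set Z)) ⊆ Z
    refine closure_minimal ?_ hZ
    rintro _ ⟨z, _, rfl⟩
    exact z.2
  rcases (Order.krullDim_le_one_iff.1 hT)
    (TopologicalSpace.IrreducibleCloseds.map (Subtype.val : Z → T) hind.continuous c) with
    hmin | hmax
  · have h1 := hmin hmono
    have h2 := le_antisymm h1 hmono
    have h3 : c = c' :=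
      TopologicalSpace.IrreducibleCloseds.map_injective_of_isInducing hind h2
    exact h3.le
  · exfalso
    let top : TopologicalSpace.IrreducibleCloseds T :=
      ⟨Set.univ, IrreducibleSpace.isIrreducible_univ T, isClosed_univ⟩
    have h0 : TopologicalSpace.IrreducibleCloseds.map (Subtype.val : Z → T) hind.continuous c ≤
        top := fun x _ => Set.mem_univ x
    have h1 := hmax h0
    apply hne
    refine Set.eq_univ_of_univ_subset (fun x hx => hsub (h1 ?_))
    exact Set.mem_univ x

end Top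

section Pn

variable (n : ℕ) (F : Type u) [Field F]

/-- projective space over a field is integral. -/
theorem isIntegral_projSpace : IsIntegral (CohB1.ProjSpace n F) := by
  refine Groth.Agent.Helper12.RelProjIntegral.isIntegral_proj (CohB1.polyGrading n F) ?_
  intro h
  have h1 : (MvPolynomial.X 0 : MvPolynomial (Fin (n + 1)) F) ∈
      (HomogeneousIdeal.irrelevant (CohB1.polyGrading n F)).toIdeal := by
    show (MvPolynomial.X 0 : MvPolynomial (Fin (n + 1)) F) ∈
      HomogeneousIdeal.irrelevant (CohB1.polyGrading n F)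
    rw [HomogeneousIdeal.mem_irrelevant_iff]
    have : (MvPolynomial.X 0 : MvPolynomial (Fin (n + 1)) F) ∈ CohB1.polyGrading n F 1 :=
      Groth.Agent.Lib.Helper26.ProjChart.X_mem n F 0
    rw [GradedRing.proj_apply,
      DirectSum.decompose_of_mem_ne (CohB1.polyGrading n F) this (by norm_num)]
  rw [h] at h1
  exact MvPolynomial.X_ne_zero 0 ((Ideal.mem_bot).1 h1)

end Pn

section Ideal

variable {X : Scheme.{u}}

/-- the ideal module of the zero ideal is zero. -/
theorem isZero_idealMod_bot : IsZero (ClSub.idealMod (⊥ : X.IdealSheafData)) := by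
  have h0 : ClSub.idealModι (⊥ : X.IdealSheafData) = 0 := by
    apply Groth.Agent.Helper24.KoszMap.hom_ext_affine
    intro U s
    have h1 : (ClSub.toSubscheme (⊥ : X.IdealSheafData)).app U.1
        ((ClSub.idealModι (⊥ : X.IdealSheafData)).app U.1 s) = 0 := by
      have := congrArg (fun φ => φ.app U.1 s)
        (kernel.condition (ClSub.toSubscheme (⊥ : X.IdealSheafData)))
      exact this
    have hmem : ((ClSub.idealModι (⊥ : X.IdealSheafData)).app U.1 s : Γ(X, U.1)) ∈
        (⊥ : X.IdealSheafData).ideal U := by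
      rw [← Scheme.IdealSheafData.ker_subschemeι_app]
      exact h1
    have hbot : ((ClSub.idealModι (⊥ : X.IdealSheafData)).app U.1 s : Γ(X, U.1)) = 0 := by
      have hm2 : ((ClSub.idealModι (⊥ : X.IdealSheafData)).app U.1 s : Γ(X, U.1)) ∈
          (⊥ : Ideal Γ(X, U.1)) := by simpa using hmem
      exact (Ideal.mem_bot (R := Γ(X, U.1))).1 hm2
    exact hbot
  haveI : Mono (ClSub.idealModι (⊥ : X.IdealSheafData)) :=
    inferInstanceAs (Mono (kernel.ι (ClSub.toSubscheme (⊥ : X.IdealSheafData))))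
  exact IsZero.of_mono_eq_zero _ h0

/-- `H^0` of a zero module vanishes. -/
theorem subsingleton_HH_of_isZero (A : Type u) [CommRing A] [X.Over (Spec (CommRingCat.of A))]
    (M : X.Modules) (hM : IsZero M) (p : ℕ) : Subsingleton (Coh.HH X M p) := by
  refine subsingleton_of_forall_eq 0 fun x => ?_
  have h1 : x = hstar A (𝟙 M) p x := by rw [hstar_id]; rfl
  rw [h1, hM.eq_of_src (𝟙 M) 0, hstar_zero]
  rfl

end Ideal

section P1

variable (F : Type u) [Field F]

open Groth.Agent.Helper26.PnReg Groth.Agent.Helper26.PnTwist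

/-- no twisting sheaf on the projective line is zero. -/
theorem not_isZero_twist (d : ℤ) : ¬ IsZero (Twist.twistProjSpace 1 F d) := by
  intro hZ
  obtain ⟨e⟩ := twist_tensor_iso 1 F d (-d)
  have hT : IsZero (CohB1.tensorMod (Twist.twistProjSpace 1 F d) (Twist.twistProjSpace 1 F (-d))) := by
    rw [IsZero.iff_id_eq_zero, ← Groth.Agent.Helper13.Tensor.map_id,
      hZ.eq_of_src (𝟙 (Twist.twistProjSpace 1 F d)) 0,
      Groth.Agent.Helper13.TwistSES.map_zero_left]
  have h0 : IsZero (Twist.twistProjSpace 1 F (d + -d)) := hT.of_iso e.symm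
  have hd : d + -d = ((0 : ℕ) : ℤ) := by simp
  rw [hd] at h0
  haveI := subsingleton_HH_of_isZero F _ h0 0
  have h1 := Groth.Agent.Helper26.PnCoh.finrank_H0 F 1 0
  rw [Module.finrank_zero_of_subsingleton] at h1
  simp at h1

/-- `h^0(P^1, O(m)) = (m + 1)^+`. -/
theorem h0_twist (m : ℤ) :
    Module.finrank F (Coh.HH (CohB1.ProjSpace 1 F) (Twist.twistProjSpace 1 F m) 0) =
      (m + 1).toNat := by
  by_cases hm : 0 ≤ m
  · obtain ⟨m', rfl⟩ := Int.eq_ofNat_of_zero_le hm
    rw [Groth.Agent.Helper26.PnCoh.finrank_H0 F 1 m', Nat.choose_one_right]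
    omega
  · rw [Groth.Agent.Helper26.PnCoh.finrank_H_zero F 1 m 0 (by omega) (by omega)]
    omega

/-- `h^1(P^1, O(m)) = (-m - 1)^+`. -/
theorem h1_twist (m : ℤ) :
    Module.finrank F (Coh.HH (CohB1.ProjSpace 1 F) (Twist.twistProjSpace 1 F m) 1) =
      (-m - 1).toNat := by
  by_cases hm : m ≤ -2
  · obtain ⟨j, rfl⟩ : ∃ j : ℕ, m = -(((1 : ℕ) : ℤ) + 1 + (j : ℤ)) :=
      ⟨(-m - 2).toNat, by
        have := Int.toNat_of_nonneg (show 0 ≤ -m - 2 by omega)
        push_cast
        omega⟩
    rw [Groth.Agent.Helper26.PnCoh.finrank_Htop F 1 j, Nat.choose_one_right]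
    push_cast
    omega
  · rw [Groth.Agent.Helper26.PnCoh.finrank_H_zero F 1 m 1 (by omega) (by omega)]
    omega

/-- the twisting sheaves are coherent. -/
theorem isCoh_twist (d : ℤ) : Coh.IsCoh (Twist.twistProjSpace 1 F d) := by
  have hL := isInvertible_twist 1 F d
  exact ⟨Groth.Agent.Helper13.Inv.isQuasicoherent_of_isInvertible _ hL,
    Groth.Agent.Helper13.GlobGen.isFiniteType_of_isInvertible _ hL⟩

variable (I : (CohB1.ProjSpace 1 F).IdealSheafData) (k : ℕ)
  (hI : Nonempty (ClSub.idealMod I ≅ Twist.twistProjSpace 1 F (-(k : ℤ))))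

include hI in
/-- the support of `I` is not everything. -/
theorem support_ne_univ : (I.support : Set (CohB1.ProjSpace 1 F)) ≠ Set.univ := by
  intro h
  haveI := isIntegral_projSpace 1 F
  have h1 : I.support = ⊤ := by
    apply TopologicalSpace.Closeds.ext
    rw [h]
    rfl
  have h2 : I = ⊥ := Scheme.IdealSheafData.support_eq_top_iff.1 h1
  obtain ⟨e⟩ := hI
  rw [h2] at e
  exact not_isZero_twist F _ (isZero_idealMod_bot.of_iso e.symm)

include hI in
/-- the twists of `O/I` have support of dimension at most zero. -/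
theorem supportDim_le_zero (N : (CohB1.ProjSpace 1 F).Modules) :
    topologicalKrullDim (CohB1.support (CohB1.tensorMod (ClSub.quotMod I) N)) ≤ 0 := by
  haveI := isIntegral_projSpace 1 F
  have hdim : topologicalKrullDim (CohB1.ProjSpace 1 F) ≤ 1 := by
    rw [Groth.Agent.Lib.Helper26.ProjChart.main_dim 1 F]
    rfl
  have hZ := topologicalKrullDim_le_zero_of_closed_ne_univ hdim
    (I.support : Set (CohB1.ProjSpace 1 F)) I.support.isClosed (support_ne_univ F I k hI)
  have hsub := Groth.Agent.Helper24.PtIdeal.support_quot_tensor_subset I N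
  exact le_trans (Topology.IsEmbedding.inclusion hsub).isInducing.topologicalKrullDim_le hZ

include hI in
theorem main19435 (hk : 1 ≤ k) (n : ℤ) :
    (Module.Finite F (Coh.HH (CohB1.ProjSpace 1 F)
        (CohB1.tensorMod (ClSub.quotMod I) (Twist.twistProjSpace 1 F n)) 0) ∧
      Module.finrank F (Coh.HH (CohB1.ProjSpace 1 F)
        (CohB1.tensorMod (ClSub.quotMod I) (Twist.twistProjSpace 1 F n)) 0) =
        (Nat.choose (n + 1).toNat 1 - Nat.choose (n - (k : ℤ) + 1).toNat 1) +
        (Nat.choose ((k : ℤ) - 2 - n + 1).toNat 1 -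
          Nat.choose ((k : ℤ) - 2 - n - (k : ℤ) + 1).toNat 1)) ∧
    (∀ p : ℕ, 1 ≤ p →
      Subsingleton (Coh.HH (CohB1.ProjSpace 1 F)
        (CohB1.tensorMod (ClSub.quotMod I) (Twist.twistProjSpace 1 F n)) p)) := by
  haveI := isNoetherian_projSpace F 1
  have hLn := isInvertible_twist 1 F n
  -- coherence of the quotient
  have hG : Coh.IsCoh (CohB1.tensorMod (ClSub.quotMod I) (Twist.twistProjSpace 1 F n)) :=
    Groth.Agent.Helper24.PtIdeal.isCoh_tensor_invertible _ _
      (Groth.Agent.Helper24.PtIdeal.isCoh_quotMod I) hLn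
  -- vanishing of higher cohomology
  have hvan : ∀ p : ℕ, 1 ≤ p → Subsingleton (Coh.HH (CohB1.ProjSpace 1 F)
      (CohB1.tensorMod (ClSub.quotMod I) (Twist.twistProjSpace 1 F n)) p) := fun p hp =>
    HH_subsingleton_of_supportDim_le_zero _ hG (supportDim_le_zero F I k hI _) p hp
  have hfinG : Module.Finite F (Coh.HH (CohB1.ProjSpace 1 F)
      (CohB1.tensorMod (ClSub.quotMod I) (Twist.twistProjSpace 1 F n)) 0) :=
    Groth.Agent.S0038.result 1 F _ hG 0
  refine ⟨⟨hfinG, ?_⟩, hvan⟩
  -- the twisted short exact sequence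
  have hT := tensorSC_shortExact (Groth.Agent.Helper24.PtIdeal.idealSC I)
    (Groth.Agent.Helper24.PtIdeal.idealSC_shortExact I) (Twist.twistProjSpace 1 F n) hLn
  obtain ⟨e⟩ := hI
  obtain ⟨t⟩ := twist_tensor_iso 1 F (-(k : ℤ)) n
  let e₁ : (tensorSC (Groth.Agent.Helper24.PtIdeal.idealSC I) (Twist.twistProjSpace 1 F n)).X₁ ≅
      Twist.twistProjSpace 1 F (-(k : ℤ) + n) :=
    Groth.Agent.Helper13.Tensor.mapIso e (Iso.refl _) ≪≫ t
  let e₂ : (tensorSC (Groth.Agent.Helper24.PtIdeal.idealSC I) (Twist.twistProjSpace 1 F n)).X₂ ≅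
      Twist.twistProjSpace 1 F n :=
    Groth.Agent.Helper13.Tensor.lid _
  haveI : Module.Finite F (Coh.HH (CohB1.ProjSpace 1 F)
      (tensorSC (Groth.Agent.Helper24.PtIdeal.idealSC I) (Twist.twistProjSpace 1 F n)).X₂ 0) :=
    finite_of_iso F e₂.symm 0 (Groth.Agent.S0038.result 1 F _ (isCoh_twist F n) 0)
  haveI : Module.Finite F (Coh.HH (CohB1.ProjSpace 1 F)
      (tensorSC (Groth.Agent.Helper24.PtIdeal.idealSC I) (Twist.twistProjSpace 1 F n)).X₃ 0) :=
    hfinG
  haveI : Module.Finite F (Coh.HH (CohB1.ProjSpace 1 F)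
      (tensorSC (Groth.Agent.Helper24.PtIdeal.idealSC I) (Twist.twistProjSpace 1 F n)).X₁ 1) :=
    finite_of_iso F e₁.symm 1 (Groth.Agent.S0038.result 1 F _ (isCoh_twist F _) 1)
  have hform := Groth.Agent.Helper24.LinLES.finrank_formula F
    (tensorSC (Groth.Agent.Helper24.PtIdeal.idealSC I) (Twist.twistProjSpace 1 F n)) hT
    (hvan 1 le_rfl)
  have r10 := (Groth.Agent.Helper24.PnMumford.hEquiv F e₁ 0).finrank_eq
  have r11 := (Groth.Agent.Helper24.PnMumford.hEquiv F e₁ 1).finrank_eq
  have r20 := (Groth.Agent.Helper24.PnMumford.hEquiv F e₂ 0).finrank_eq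
  have r21 := (Groth.Agent.Helper24.PnMumford.hEquiv F e₂ 1).finrank_eq
  rw [r10, r11, r20, r21, h0_twist, h1_twist, h0_twist, h1_twist] at hform
  have hX₃ : Module.finrank F (Coh.HH (CohB1.ProjSpace 1 F)
      (tensorSC (Groth.Agent.Helper24.PtIdeal.idealSC I) (Twist.twistProjSpace 1 F n)).X₃ 0) =
      Module.finrank F (Coh.HH (CohB1.ProjSpace 1 F)
        (CohB1.tensorMod (ClSub.quotMod I) (Twist.twistProjSpace 1 F n)) 0) := rfl
  rw [hX₃] at hform
  simp only [Nat.choose_one_right]
  omega

end P1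

end Groth.Agent.Helper24.P1Hyp
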