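import Mathlib
import Groth.Agent.Lib.Helper13.K0Tensor
import Groth.Agent.Lib.Helper13.TensorFunctor
import Groth.Agent.Lib.Helper24.P1Hyp
import Groth.Agent.S1524

/-!
# Additivity of the degree on short exact sequences of finite locally free modules (helper24)
-/

set_option autoImplicit false
set_option linter.unusedSectionVars false
set_option linter.style.haveILetI false
set_option linter.unusedVariables false
universe u
open CategoryTheory CategoryTheory.Limits AlgebraicGeometry Opposite TopologicalSpace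
open Groth.Agent.Helper13.QCoh Groth.Agent.Helper13.FinType Groth.Agent.Helper13.LocFree
open Groth.Agent.Helper13.StalkBasis Groth.Agent.Helper13.TensorFinLocFree

namespace Groth.Agent.Helper24.DegAdd

/-- ranks add on a short exact sequence of free modules over a nontrivial commutative ring. -/
theorem rank_add_of_exact {R : Type*} [CommRing R] [Nontrivial R] {M₁ M₂ M₃ : Type*}
    [AddCommGroup M₁] [AddCommGroup M₂] [AddCommGroup M₃] [Module R M₁] [Module R M₂]
    [Module R M₃] {n₁ n₂ n₃ : ℕ} (b₁ : Module.Basis (Fin n₁) R M₁)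
    (b₂ : Module.Basis (Fin n₂) R M₂) (b₃ : Module.Basis (Fin n₃) R M₃)
    (f : M₁ →ₗ[R] M₂) (g : M₂ →ₗ[R] M₃) (hf : Function.Injective f)
    (hg : Function.Surjective g) (hex : Function.Exact f g) : n₂ = n₁ + n₃ := by
  haveI : Module.Free R M₁ := Module.Free.of_basis b₁
  haveI : Module.Free R M₃ := Module.Free.of_basis b₃
  haveI : Module.Finite R M₁ := Module.Finite.of_basis b₁
  haveI : Module.Finite R M₃ := Module.Finite.of_basis b₃
  obtain ⟨l, hl⟩ := Module.projective_lifting_property g LinearMap.id hg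
  have h2 : Module.finrank R M₂ = Module.finrank R (M₁ × M₃) :=
    (hex.splitSurjectiveEquiv hf ⟨l, hl⟩).1.finrank_eq
  rw [Module.finrank_prod, Module.finrank_eq_card_basis b₁, Module.finrank_eq_card_basis b₂,
    Module.finrank_eq_card_basis b₃] at h2
  simpa using h2

variable {X : Scheme.{u}}

/-- a finite locally free module of constant rank is coherent. -/
theorem isCoh_of_rank (E : X.Modules) (e : ℕ) (hE : FlatMod.IsFinLocFreeOfRank e E) :
    Coh.IsCoh E := by
  haveI : E.IsQuasicoherent :=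
    Groth.Agent.Helper13.ResFinLocFree.isQuasicoherent_of_isFinLocFree E
      (Groth.Agent.Helper13.K0Tensor.isFinLocFree_of_rank E e hE)
  haveI : SheafOfModules.IsFinitePresentation (R := X.ringCatSheaf) E :=
    isFinitePresentation_of_isFinLocFree E
      (Groth.Agent.Helper13.K0Tensor.isFinLocFree_of_rank E e hE)
  haveI : SheafOfModules.IsFiniteType (R := X.ringCatSheaf) E := inferInstance
  exact ⟨inferInstance, inferInstance⟩

/-- ranks add on a short exact sequence of finite locally free modules (at any point). -/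
theorem rank_additive (S : ShortComplex X.Modules) (hS : S.ShortExact) (n₁ n₂ n₃ : ℕ)
    (h₁ : FlatMod.IsFinLocFreeOfRank n₁ S.X₁) (h₂ : FlatMod.IsFinLocFreeOfRank n₂ S.X₂)
    (h₃ : FlatMod.IsFinLocFreeOfRank n₃ S.X₃) (x : X) : n₂ = n₁ + n₃ := by
  haveI := hS.mono_f
  haveI := hS.epi_g
  obtain ⟨V₁, s₁, hx₁, hb₁⟩ :=
    Groth.Agent.Helper13.K0Tensor.exists_isBasisAt_of_rank S.X₁ n₁ h₁ x
  obtain ⟨V₂, s₂, hx₂, hb₂⟩ :=
    Groth.Agent.Helper13.K0Tensor.exists_isBasisAt_of_rank S.X₂ n₂ h₂ x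
  obtain ⟨V₃, s₃, hx₃, hb₃⟩ :=
    Groth.Agent.Helper13.K0Tensor.exists_isBasisAt_of_rank S.X₃ n₃ h₃ x
  have hinj : Function.Injective (stalkLinearMap S.f x) :=
    (mono_iff_stalk_injective S.f).1 inferInstance x
  have hsurj : Function.Surjective (stalkLinearMap S.g x) :=
    Groth.Agent.Helper13.FinType.stalkMap_surjective_of_epi S.g x
  have hex : Function.Exact (stalkLinearMap S.f x) (stalkLinearMap S.g x) := by
    intro m
    constructor
    · intro hm
      obtain ⟨m₁, hm₁⟩ := stalk_exact_of_exact_of_mono S hS.exact x m hm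
      exact ⟨m₁, hm₁⟩
    · rintro ⟨m₁, rfl⟩
      change stalkMap S.g x (stalkMap S.f x m₁) = 0
      rw [← Groth.Agent.Helper18.BasisCrit.stalkMap_comp, S.zero]
      exact Groth.Agent.Helper18.BasisCrit.stalkMap_zero x m₁
  exact rank_add_of_exact (basisOf S.X₁ s₁ x hx₁ (hb₁ x hx₁)) (basisOf S.X₂ s₂ x hx₂ (hb₂ x hx₂))
    (basisOf S.X₃ s₃ x hx₃ (hb₃ x hx₃)) _ _ hinj hsurj hex

/-- on the empty scheme all Euler characteristics vanish. -/
theorem euler_eq_zero_of_isEmpty (k : Type u) [Field k] (X : Scheme.{u})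
    [X.Over (Spec (CommRingCat.of k))] (hX : ¬ Nonempty X) (F : X.Modules) :
    Curv2.euler k X F = 0 := by
  have hZ : IsZero F := by
    rw [IsZero.iff_id_eq_zero]
    apply Groth.Agent.Helper13.FinType.hom_ext_stalk
    intro x
    exact (hX ⟨x⟩).elim
  unfold Curv2.euler
  apply finsum_eq_zero_of_forall_eq_zero
  intro i
  haveI := Groth.Agent.Helper24.P1Hyp.subsingleton_HH_of_isZero k F hZ i
  rw [Module.finrank_zero_of_subsingleton]
  simp

theorem main7643 (k : Type u) [Field k] (X : Scheme.{u}) [X.Over (Spec (CommRingCat.of k))]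
    [IsProper (X ↘ (Spec (CommRingCat.of k)))]
    (S : ShortComplex X.Modules) (hS : S.ShortExact)
    (n₁ n₂ n₃ : ℕ) (h₁ : FlatMod.IsFinLocFreeOfRank n₁ S.X₁)
    (h₂ : FlatMod.IsFinLocFreeOfRank n₂ S.X₂) (h₃ : FlatMod.IsFinLocFreeOfRank n₃ S.X₃) :
    Curv2.deg k X S.X₂ n₂ = Curv2.deg k X S.X₁ n₁ + Curv2.deg k X S.X₃ n₃ := by
  unfold Curv2.deg
  by_cases hX : Nonempty X
  · obtain ⟨x⟩ := hX
    have hn := rank_additive S hS n₁ n₂ n₃ h₁ h₂ h₃ x
    rw [Groth.Agent.S1524.result k X S hS (isCoh_of_rank _ _ h₁) (isCoh_of_rank _ _ h₂)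
      (isCoh_of_rank _ _ h₃), hn]
    push_cast
    ring
  · simp [euler_eq_zero_of_isEmpty k X hX]

end Groth.Agent.Helper24.DegAdd
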