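import Mathlib
import Groth.Agent.Lib.Helper24.DegAdd
import Groth.Agent.Lib.Helper28.ZeroDimGG
import Groth.Agent.Lib.Helper26.HomGlob
import Groth.Agent.S0002
import Groth.Agent.S9514

/-!
# Degrees along a generically bijective monomorphism on an integral proper curve (helper24)
-/

set_option autoImplicit false
set_option linter.unusedSectionVars false
set_option linter.style.haveILetI false
set_option linter.unusedVariables false
universe u
open CategoryTheory CategoryTheory.Limits AlgebraicGeometry Opposite TopologicalSpace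
open Groth.Agent.Helper13.QCoh Groth.Agent.Helper13.FinType

namespace Groth.Agent.Helper24.DegMono

variable (k : Type u) [Field k] (X : Scheme.{u}) [X.Over (Spec (CommRingCat.of k))]
  [IsProper (X ↘ Spec (CommRingCat.of k))]

include k in
/-- a coherent module with zero-dimensional support and no global sections is zero. -/
theorem isZero_of_dim_zero_of_h0 (Q : X.Modules) (hQ : Coh.IsCoh Q)
    (hsupp : topologicalKrullDim (CohB1.support Q) ≤ 0)
    (h0 : Subsingleton (Coh.HH X Q 0)) : IsZero Q := by
  haveI := hQ.1
  haveI := hQ.2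
  have hgg := Groth.Agent.Helper28.ZeroDimGG.isGloballyGenerated_of_dim_zero k X Q hsupp
  rw [Groth.Agent.Helper13.GlobGen.isGloballyGenerated_iff] at hgg
  haveI hΓ : Subsingleton Γ(Q, ⊤) :=
    (Groth.Agent.Helper26.HomGlob.h0 Q).symm.injective.subsingleton
  rw [IsZero.iff_id_eq_zero]
  apply Groth.Agent.Helper13.FinType.hom_ext_stalk
  intro y m
  have hy := hgg y
  unfold Groth.Agent.Helper13.GlobGen.GGAt at hy
  have hm : m ∈ (⊤ : Submodule (X.presheaf.stalk y) (Q.presheaf.stalk y)) := Submodule.mem_top
  rw [← hy] at hm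
  have hle : Submodule.span (X.presheaf.stalk y)
      (Set.range fun t : Γ(Q, ⊤) => Q.presheaf.germ ⊤ y trivial t) ≤ ⊥ := by
    rw [Submodule.span_le]
    rintro _ ⟨t, rfl⟩
    have h1 : Q.presheaf.germ ⊤ y trivial t = 0 := by rw [Subsingleton.elim t 0, map_zero]
    exact (Submodule.mem_bot _).2 h1
  have hm0 : m = 0 := (Submodule.mem_bot _).1 (hle hm)
  rw [hm0, map_zero, map_zero]

/-- the Euler characteristic of a coherent module with zero-dimensional support is `h⁰`. -/
theorem euler_eq_h0_of_dim_zero (Q : X.Modules) (hQ : Coh.IsCoh Q)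
    (hsupp : topologicalKrullDim (CohB1.support Q) ≤ 0) :
    Curv2.euler k X Q = (Module.finrank k (Coh.HH X Q 0) : ℤ) := by
  haveI := Groth.Agent.Helper24.PtIdeal.isNoetherian_of_proper k X
  unfold Curv2.euler
  rw [finsum_eq_single _ 0]
  · simp
  · intro i hi
    haveI := Groth.Agent.Helper26.PnReg.HH_subsingleton_of_supportDim_le_zero Q hQ hsupp i
      (Nat.pos_of_ne_zero hi)
    rw [Module.finrank_zero_of_subsingleton]
    simp

theorem main15028 [IsIntegral X] (hdim : topologicalKrullDim X = 1) (E F : X.Modules)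
    (hEc : Coh.IsCoh E) (hFc : Coh.IsCoh F) (n : ℕ) (f : E ⟶ F) [Mono f]
    (hgen : Subsingleton ((cokernel f).presheaf.stalk (genericPoint X))) :
    Curv2.deg k X E n ≤ Curv2.deg k X F n ∧ (Curv2.deg k X E n = Curv2.deg k X F n ↔ IsIso f) := by
  haveI := Groth.Agent.Helper24.PtIdeal.isNoetherian_of_proper k X
  have hQ : Coh.IsCoh (cokernel f) := (Groth.Agent.S9514.result X hEc hFc f).2
  haveI := hQ.1
  haveI := hQ.2
  -- the short exact sequence
  have hS : (ShortComplex.mk f (cokernel.π f) (cokernel.condition f)).ShortExact :=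
    ShortComplex.ShortExact.mk' (ShortComplex.exact_cokernel f) (show Mono f from inferInstance)
      (show Epi (cokernel.π f) from inferInstance)
  have hadd := Groth.Agent.S1524.result k X _ hS hEc hFc hQ
  -- the support of the cokernel
  have hcl : IsClosed (CohB1.support (cokernel f)) :=
    Groth.Agent.Helper28.SuppProper.isClosed_support (cokernel f)
  have hne : CohB1.support (cokernel f) ≠ Set.univ := by
    intro h
    have hη : genericPoint X ∈ CohB1.support (cokernel f) := by rw [h]; exact Set.mem_univ _
    exact hη hgen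
  have hsupp : topologicalKrullDim (CohB1.support (cokernel f)) ≤ 0 :=
    Groth.Agent.Helper24.P1Hyp.topologicalKrullDim_le_zero_of_closed_ne_univ hdim.le _ hcl hne
  have heul := euler_eq_h0_of_dim_zero k X (cokernel f) hQ hsupp
  have hadd' : Curv2.euler k X F = Curv2.euler k X E +
      (Module.finrank k (Coh.HH X (cokernel f) 0) : ℤ) := by
    rw [← heul]
    exact hadd
  haveI : Module.Finite k (Coh.HH X (cokernel f) 0) := Groth.Agent.S0002.result k X _ hQ 0
  unfold Curv2.deg
  refine ⟨by rw [hadd']; linarith [Int.natCast_nonneg (Module.finrank k (Coh.HH X (cokernel f) 0))],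
    ⟨fun heq => ?_, fun hiso => ?_⟩⟩
  · have h0 : Module.finrank k (Coh.HH X (cokernel f) 0) = 0 := by
      rw [hadd'] at heq
      have : (Module.finrank k (Coh.HH X (cokernel f) 0) : ℤ) = 0 := by linarith
      exact_mod_cast this
    have hsub : Subsingleton (Coh.HH X (cokernel f) 0) := (Module.finrank_zero_iff (R := k)).1 h0
    have hZ : IsZero (cokernel f) := isZero_of_dim_zero_of_h0 k X _ hQ hsupp hsub
    haveI : Epi f := Abelian.epi_of_cokernel_π_eq_zero f (hZ.eq_of_tgt _ _)
    exact isIso_of_mono_of_epi f
  · haveI := hiso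
    have hZ : IsZero (cokernel f) := isZero_cokernel_of_epi f
    haveI := Groth.Agent.Helper24.P1Hyp.subsingleton_HH_of_isZero k _ hZ 0
    rw [hadd', Module.finrank_zero_of_subsingleton]
    simp

end Groth.Agent.Helper24.DegMono
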