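import Mathlib
import Groth.Agent.Lib.Helper24.PnMumford2
import Groth.Agent.Lib.Helper13.PushEdgeSch
import Groth.Agent.Lib.Helper13.ProjFormulaLF
import Groth.Agent.Lib.Helper13.QCohPush
import Groth.Agent.Lib.Helper13.PushFinite
import Groth.Agent.Lib.Helper13.PullbackLocal
import Groth.Agent.Lib.Helper13.TensorQCoh
import Groth.Agent.Lib.Helper5.CI4
import Groth.Agent.S0028
import Groth.Prelude.Def_Pic13

/-!
# Mumford's lemma on a closed subscheme of `P^n_k`, by transfer to `P^n_k` (helper24)
-/

set_option autoImplicit false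
set_option linter.unusedSectionVars false
set_option linter.style.haveILetI false
set_option linter.unusedVariables false
universe u
open CategoryTheory CategoryTheory.Limits AlgebraicGeometry Opposite TopologicalSpace

namespace Groth.Agent.Helper24.PnMumford

/-- invertible modules are finite locally free (as in helper13's `PushInv` and helper29's
`ExtSplit`; restated to keep the import closure small). -/
lemma isFinLocFree_of_isInvertible' {X : Scheme.{u}} (L : X.Modules)
    (hL : PicF.IsInvertible L) : FlatMod.IsFinLocFree L := fun x => by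
  obtain ⟨U, hxU, ⟨e⟩⟩ := hL x
  exact ⟨U, 1, hxU, ⟨e ≪≫
    (coproductUniqueIso (fun _ : Fin 1 => Coh.structureModule (U : Scheme.{u}))).symm⟩⟩

section PushLin

variable {X Y : Scheme.{u}} (f : X ⟶ Y)

/-- multiplication by a global function on a direct image (sheaf-level version of helper14's
`CohFormal.pushforward_smulModΓ`). -/
lemma smulAb_push (N : X.Modules) (r : Coh.Γtop Y) :
    (CohTop.push f.base).map (Coh.smulAb N (f.appTop.hom r)) =
      Coh.smulAb ((Scheme.Modules.pushforward f).obj N) r := by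
  ext V m
  obtain ⟨V⟩ := V
  let r' : Γ(Y, ⊤) := r
  change (X.presheaf.map (homOfLE (le_top : f ⁻¹ᵁ V ≤ ⊤)).op (f.appTop r') : Γ(X, f ⁻¹ᵁ V)) •
      (show Γ(N, f ⁻¹ᵁ V) from m) =
    (f.app V (Y.presheaf.map (homOfLE (le_top : V ≤ ⊤)).op r') : Γ(X, f ⁻¹ᵁ V)) •
      (show Γ(N, f ⁻¹ᵁ V) from m)
  congr 1
  have := congr($(f.naturality (homOfLE (le_top : V ≤ ⊤)).op) r')
  exact this.symm

variable {A : Type u} [CommRing A] [X.Over (Spec (CommRingCat.of A))]
  [Y.Over (Spec (CommRingCat.of A))]
  (hf : f ≫ (Y ↘ Spec (CommRingCat.of A)) = X ↘ Spec (CommRingCat.of A))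

include hf in
lemma toGlobal_eq (a : A) :
    Coh.toGlobal (X ↘ Spec (CommRingCat.of A)) a =
      f.appTop.hom (Coh.toGlobal (Y ↘ Spec (CommRingCat.of A)) a) := by
  unfold Coh.toGlobal
  rw [← hf]
  rfl

open Groth.Agent.Helper13.PushEdge Groth.Agent.Helper13.PushEdgeSch in
include hf in
/-- the edge map `H^p(Y, f_* G) → H^p(X, G)` is `A`-linear. -/
theorem pushEdge_smul (G : X.Modules) (p : ℕ) (a : A)
    (x : Coh.HH Y ((Scheme.Modules.pushforward f).obj G) p) :
    CohPull.pushEdge f G p (a • x) = a • CohPull.pushEdge f G p x := by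
  have h1 : Coh.smulAb ((Scheme.Modules.pushforward f).obj G)
      (Coh.toGlobal (Y ↘ Spec (CommRingCat.of A)) a) =
      (CohTop.push f.base).map (Coh.smulAb G (Coh.toGlobal (X ↘ Spec (CommRingCat.of A)) a)) := by
    rw [toGlobal_eq f hf a]
    exact (smulAb_push f G _).symm
  calc CohPull.pushEdge f G p (a • x)
      = edgeAb f.base (Coh.toAb G) p (Sheaf.H.map (Coh.smulAb
          ((Scheme.Modules.pushforward f).obj G)
          (Coh.toGlobal (Y ↘ Spec (CommRingCat.of A)) a)) p x) := pushEdge_eq f G p _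
    _ = edgeAb f.base (Coh.toAb G) p (Sheaf.H.map ((CohTop.push f.base).map
          (Coh.smulAb G (Coh.toGlobal (X ↘ Spec (CommRingCat.of A)) a))) p x) := by
        rw [h1]
        rfl
    _ = Sheaf.H.map (Coh.smulAb G (Coh.toGlobal (X ↘ Spec (CommRingCat.of A)) a)) p
          (edgeAb f.base (Coh.toAb G) p x) :=
        edgeAb_natural f.base (A := Coh.toAb G) (B := Coh.toAb G)
          (Coh.smulAb G (Coh.toGlobal (X ↘ Spec (CommRingCat.of A)) a)) p x
    _ = a • CohPull.pushEdge f G p x := by
      rw [pushEdge_eq]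
      rfl

/-- for an affine morphism over `Spec A` and a quasi-coherent module, the edge map is an
`A`-linear equivalence. -/
noncomputable def pushLinEquiv [IsAffineHom f] (G : X.Modules) [G.IsQuasicoherent] (p : ℕ) :
    Coh.HH Y ((Scheme.Modules.pushforward f).obj G) p ≃ₗ[A] Coh.HH X G p :=
  LinearEquiv.ofBijective
    { toFun := CohPull.pushEdge f G p
      map_add' := fun x y => map_add _ x y
      map_smul' := fun a x => pushEdge_smul f hf G p a x }
    (Groth.Agent.Helper13.PushEdgeSch.pushEdge_bijective f G p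
      (fun q => Groth.Agent.S0028.result f G (q + 1) (Nat.succ_pos q)))

end PushLin

section Closed

variable (k : Type u) [Field k] (n : ℕ) {X : Scheme.{u}} [X.Over (Spec (CommRingCat.of k))]
  (i : X ⟶ CohB1.ProjSpace n k) [IsClosedImmersion i]
  (hi : i ≫ CohB1.ProjSpace.toSpec n k = X ↘ Spec (CommRingCat.of k))

open Groth.Agent.Helper13 Groth.Agent.Helper13.Tensor Groth.Agent.Helper26.PnReg

theorem isQuasicoherent_twistOn (M : X.Modules) [M.IsQuasicoherent] (d : ℤ) :
    (Pic13.twistOn k i M d).IsQuasicoherent := by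
  haveI : (Twist.twistProjSpace n k d).IsQuasicoherent :=
    Groth.Agent.Helper13.Inv.isQuasicoherent_of_isInvertible _
      (Groth.Agent.Helper26.PnTwist.isInvertible_twist n k d)
  unfold Pic13.twistOn
  infer_instance

/-- `H^p(P^n, i_* M ⊗ O(d)) ≃ H^p(X, M(d))`, `k`-linearly. -/
noncomputable def transfer (M : X.Modules) [M.IsQuasicoherent] (d : ℤ) (p : ℕ) :
    Coh.HH (CohB1.ProjSpace n k) (CohB1.tensorMod ((Scheme.Modules.pushforward i).obj M)
      (Twist.twistProjSpace n k d)) p ≃ₗ[k] Coh.HH X (Pic13.twistOn k i M d) p :=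
  haveI := isQuasicoherent_twistOn k n i M d
  (hEquiv k ((Groth.Agent.Helper13.ProjFormulaLF.νIso i (Twist.twistProjSpace n k d)
    (isFinLocFree_of_isInvertible' _
      (Groth.Agent.Helper26.PnTwist.isInvertible_twist n k d))).app M) p).trans
    (pushLinEquiv i hi (Pic13.twistOn k i M d) p)

include hi in
theorem main12112 (F G : X.Modules) (hF : Coh.IsCoh F) (hG : Coh.IsCoh G)
    (f : Pic13.twistOn k i F (-1) ⟶ F) (g : F ⟶ G) (hfg : f ≫ g = 0)
    (hS : (ShortComplex.mk f g hfg).ShortExact) (m : ℤ) (hGm : Pic13.IsMRegular k i G m) :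
    (∀ (q : ℕ) (n' : ℤ), 2 ≤ q → m - q ≤ n' →
      Subsingleton (Coh.HH X (Pic13.twistOn k i F n') q)) ∧
    (∀ n' : ℤ, m - 1 ≤ n' →
      Module.finrank k (Coh.HH X (Pic13.twistOn k i F n') 1) ≤
        Module.finrank k (Coh.HH X (Pic13.twistOn k i F (n' - 1)) 1)) ∧
    (∀ n' : ℤ, (m - 1) + (Module.finrank k (Coh.HH X (Pic13.twistOn k i F (m - 1)) 1) : ℤ) ≤ n' →
      Subsingleton (Coh.HH X (Pic13.twistOn k i F n') 1)) ∧
    Pic13.IsMRegular k i F
      (m + Module.finrank k (Coh.HH X (Pic13.twistOn k i F (m - 1)) 1)) := by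
  haveI := hF.1
  haveI := hG.1
  -- exactness of the direct image
  haveI : PreservesLimitsOfSize.{0, 0} (Scheme.Modules.pushforward i) :=
    (Scheme.Modules.pullbackPushforwardAdjunction i).rightAdjoint_preservesLimits
  haveI : PreservesFiniteLimits (Scheme.Modules.pushforward i) :=
    PreservesLimitsOfSize.preservesFiniteLimits _
  haveI : PreservesFiniteColimits (Scheme.Modules.pushforward i) :=
    Groth.Agent.Helper5.CI.preservesFiniteColimits_pushforward i
  have hS' : ((ShortComplex.mk f g hfg).map (Scheme.Modules.pushforward i)).ShortExact :=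
    hS.map_of_exact (Scheme.Modules.pushforward i)
  -- coherence of the direct image
  have hcohF : Coh.IsCoh ((Scheme.Modules.pushforward i).obj F) := by
    haveI := hF.2
    exact ⟨Groth.Agent.Helper13.QCohPush.isQuasicoherent_pushforward i F,
      (Groth.Agent.Helper13.PushFinite.isFiniteType_pushforward_iff i F).1 inferInstance⟩
  -- the projection formula
  let ν : CohB1.tensorMod ((Scheme.Modules.pushforward i).obj F)
      (Twist.twistProjSpace n k (-1)) ≅
      (Scheme.Modules.pushforward i).obj (Pic13.twistOn k i F (-1)) :=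
    (Groth.Agent.Helper13.ProjFormulaLF.νIso i (Twist.twistProjSpace n k (-1))
      (isFinLocFree_of_isInvertible' _
        (Groth.Agent.Helper26.PnTwist.isInvertible_twist n k (-1)))).app F
  let ι' : CohB1.tensorMod ((Scheme.Modules.pushforward i).obj F)
      (Twist.twistProjSpace n k (-1)) ⟶ (Scheme.Modules.pushforward i).obj F :=
    ν.hom ≫ (Scheme.Modules.pushforward i).map f
  haveI hmf : Mono ((Scheme.Modules.pushforward i).map f) := hS'.mono_f
  haveI : Mono ι' :=
    @mono_comp _ _ _ _ _ ν.hom _ ((Scheme.Modules.pushforward i).map f) hmf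
  -- the cokernel
  let κ : cokernel ι' ≅ (Scheme.Modules.pushforward i).obj G :=
    cokernelEpiComp ν.hom ((Scheme.Modules.pushforward i).map f) ≪≫
      IsColimit.coconePointUniqueUpToIso
        (cokernelIsCokernel ((Scheme.Modules.pushforward i).map f)) hS'.gIsCokernel
  have hreg : Curv2.IsMRegular k n (cokernel ι') m := by
    intro q hq1 hqn
    refine Groth.Agent.Helper9.AffStrat.HH_subsingleton_of_iso
      (Tensor.mapIso κ (Iso.refl (Twist.twistProjSpace n k (m - q)))) q ?_
    haveI := hGm q hq1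
    exact (transfer k n i hi G (m - q) q).injective.subsingleton
  obtain ⟨r1, r2, r3, r4⟩ :=
    main11296 k n ((Scheme.Modules.pushforward i).obj F) hcohF ι' m hreg
  have hrk : ∀ d : ℤ, h1 k n ((Scheme.Modules.pushforward i).obj F) d =
      Module.finrank k (Coh.HH X (Pic13.twistOn k i F d) 1) :=
    fun d => LinearEquiv.finrank_eq (transfer k n i hi F d 1)
  have hsub : ∀ (d : ℤ) (p : ℕ),
      Subsingleton (Coh.HH (CohB1.ProjSpace n k)
        (CohB1.tensorMod ((Scheme.Modules.pushforward i).obj F)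
          (Twist.twistProjSpace n k d)) p) →
      Subsingleton (Coh.HH X (Pic13.twistOn k i F d) p) := by
    intro d p h
    haveI := h
    exact (transfer k n i hi F d p).symm.injective.subsingleton
  have c1 : ∀ (q : ℕ) (n' : ℤ), 2 ≤ q → m - q ≤ n' →
      Subsingleton (Coh.HH X (Pic13.twistOn k i F n') q) :=
    fun q n' hq hn' => hsub n' q (r1 q n' hq hn')
  have c2 : ∀ n' : ℤ, m - 1 ≤ n' →
      Module.finrank k (Coh.HH X (Pic13.twistOn k i F n') 1) ≤
        Module.finrank k (Coh.HH X (Pic13.twistOn k i F (n' - 1)) 1) := by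
    intro n' hn'
    have h := r2 n' hn'
    rw [hrk n', hrk (n' - 1)] at h
    exact h
  have c3 : ∀ n' : ℤ,
      (m - 1) + (Module.finrank k (Coh.HH X (Pic13.twistOn k i F (m - 1)) 1) : ℤ) ≤ n' →
      Subsingleton (Coh.HH X (Pic13.twistOn k i F n') 1) := by
    intro n' hn'
    refine hsub n' 1 (r3 n' ?_)
    rw [hrk (m - 1)]
    exact hn'
  refine ⟨c1, c2, c3, ?_⟩
  intro q hq1
  have hnn : (0 : ℤ) ≤ (Module.finrank k (Coh.HH X (Pic13.twistOn k i F (m - 1)) 1) : ℤ) :=
    Int.natCast_nonneg _
  rcases Nat.lt_or_ge q 2 with h | h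
  · obtain rfl : q = 1 := by omega
    exact c3 _ (by push_cast; omega)
  · exact c1 q _ h (by omega)

end Closed

end Groth.Agent.Helper24.PnMumford
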