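import Mathlib
import Groth.Agent.Lib.Helper24.PtIdeal0
import Groth.Agent.Lib.Helper24.LinLES
import Groth.Agent.Lib.Helper24.PnMumford3
import Groth.Agent.Lib.Helper26.HomGlob
import Groth.Agent.Lib.Helper13.PbInv
import Groth.Agent.Lib.Helper13.ProjFormulaLF
import Groth.Agent.Lib.Helper13.InvGen
import Groth.Agent.Lib.Helper13.TensorUnit
import Groth.Agent.Lib.Helper13.CohRoof
import Groth.Agent.S0002

/-!
# Twisting an invertible module by a closed point: `h⁰(L) ≤ h⁰(L(x)) ≤ h⁰(L) + [κ(x) : k]` (helper24)
-/

set_option autoImplicit false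
set_option linter.unusedSectionVars false
set_option linter.style.haveILetI false
set_option linter.unusedVariables false
universe u
open CategoryTheory CategoryTheory.Limits AlgebraicGeometry Opposite TopologicalSpace
open Groth.Agent.Helper13.TwistSES Groth.Agent.Helper13.PnFin

namespace Groth.Agent.Helper24.PtSky

section Triv

/-- on a scheme with at most one point, an invertible module is trivial. -/
theorem nonempty_iso_structureModule_of_subsingleton (Z : Scheme.{u}) [Subsingleton Z] (z : Z)
    (N : Z.Modules) (hN : PicF.IsInvertible N) : Nonempty (Coh.structureModule Z ≅ N) := by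
  obtain ⟨U, hzU, s, hs⟩ := (Groth.Agent.Helper13.Inv.isInvertible_iff_exists_isGen N).1 hN z
  have hU : U = ⊤ := by
    apply TopologicalSpace.Opens.ext
    ext y
    constructor
    · intro _
      trivial
    · intro _
      rw [Subsingleton.elim y z]
      exact hzU
  subst hU
  haveI := Groth.Agent.Helper13.Inv.isIso_homOfSec N s (fun y => hs y trivial)
  exact ⟨asIso (Groth.Agent.Helper13.LocFree.homOfSec N s)⟩

variable {X : Scheme.{u}}

/-- if the closed subscheme cut out by `I` has a single point, then `O/I ⊗ L ≅ O/I` for `L`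
invertible. -/
theorem nonempty_quot_tensor_iso (I : X.IdealSheafData) [Subsingleton I.subscheme]
    (z : I.subscheme) (L : X.Modules) (hL : PicF.IsInvertible L) :
    Nonempty (CohB1.tensorMod (ClSub.quotMod I) L ≅ ClSub.quotMod I) := by
  obtain ⟨e⟩ := nonempty_iso_structureModule_of_subsingleton I.subscheme z
    ((Scheme.Modules.pullback I.subschemeι).obj L)
    (Groth.Agent.Helper13.PbInv.isInvertible_pullback I.subschemeι L hL)
  exact ⟨(Groth.Agent.Helper13.ProjFormulaLF.νIso I.subschemeι L
      (Groth.Agent.Helper24.PnMumford.isFinLocFree_of_isInvertible' L hL)).app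
        (Coh.structureModule I.subscheme) ≪≫
    (Scheme.Modules.pushforward I.subschemeι).mapIso
      (Groth.Agent.Helper13.Tensor.lid _ ≪≫ e.symm)⟩

end Triv

section Sec

variable {X Z : Scheme.{u}} (i : Z ⟶ X)

/-- degree-zero cohomology classes of `i_* O_Z`, as global functions on `Z`. -/
noncomputable def sec
    (y : Coh.HH X ((Scheme.Modules.pushforward i).obj (Coh.structureModule Z)) 0) : Γ(Z, ⊤) :=
  show Γ(Z, i ⁻¹ᵁ ⊤) from
    (Groth.Agent.Helper26.HomGlob.h0 ((Scheme.Modules.pushforward i).obj (Coh.structureModule Z)) y)

lemma sec_add (y z : Coh.HH X ((Scheme.Modules.pushforward i).obj (Coh.structureModule Z)) 0) :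
    sec i (y + z) = sec i y + sec i z := by
  unfold sec
  rw [map_add]
  rfl

lemma sec_smul (c : Coh.Γtop X)
    (y : Coh.HH X ((Scheme.Modules.pushforward i).obj (Coh.structureModule Z)) 0) :
    sec i (c • y) = i.appTop (Groth.Agent.Helper26.HomGlob.toΓ c) * sec i y := by
  unfold sec
  rw [Groth.Agent.Helper26.HomGlob.h0_smul]
  rfl

lemma sec_bijective : Function.Bijective (sec i) :=
  (Groth.Agent.Helper26.HomGlob.h0
    ((Scheme.Modules.pushforward i).obj (Coh.structureModule Z))).bijective

end Sec

section Pt

variable {X : Scheme.{u}} (x : X)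

/-- global functions evaluate at `x` through `Spec κ(x) ⟶ X`. -/
lemma fromSpecResidueField_appTop_ΓSpecIso :
    (X.fromSpecResidueField x).appTop ≫ (Scheme.ΓSpecIso (X.residueField x)).hom =
      X.Γevaluation x := by
  unfold Scheme.fromSpecResidueField
  rw [Scheme.Hom.comp_appTop, Category.assoc, Scheme.ΓSpecIso_naturality,
    Scheme.fromSpecStalk_appTop]
  simp
  rfl

/-- the scheme-theoretic image of `Spec κ(x)` has a single point. -/
theorem subsingleton_image (hx : IsClosed ({x} : Set X)) :
    Subsingleton ((X.fromSpecResidueField x).ker.subscheme) := by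
  haveI : IsClosedImmersion (X.fromSpecResidueField x) :=
    isClosed_singleton_iff_isClosedImmersion.1 hx
  haveI : Subsingleton (Spec (X.residueField x)) :=
    inferInstanceAs (Subsingleton (PrimeSpectrum (X.residueField x)))
  exact ((X.fromSpecResidueField x).toImage.homeomorph).symm.injective.subsingleton

/-- the ring of functions on the image of `Spec κ(x)` is `κ(x)`. -/
noncomputable def psi [IsClosedImmersion (X.fromSpecResidueField x)] :
    Γ((X.fromSpecResidueField x).ker.subscheme, ⊤) ≃+* X.residueField x :=
  haveI : IsIso (X.fromSpecResidueField x).toImage.appTop :=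
    inferInstanceAs (IsIso ((X.fromSpecResidueField x).toImage.app ⊤))
  (asIso (X.fromSpecResidueField x).toImage.appTop ≪≫
    Scheme.ΓSpecIso (X.residueField x)).commRingCatIsoToRingEquiv

lemma psi_apply [IsClosedImmersion (X.fromSpecResidueField x)]
    (s : Γ((X.fromSpecResidueField x).ker.subscheme, ⊤)) :
    psi x s = (Scheme.ΓSpecIso (X.residueField x)).hom
      ((X.fromSpecResidueField x).toImage.appTop s) := rfl

lemma psi_appTop [IsClosedImmersion (X.fromSpecResidueField x)] (c : Γ(X, ⊤)) :
    psi x ((X.fromSpecResidueField x).ker.subschemeι.appTop c) = X.Γevaluation x c := by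
  have h3 : (X.fromSpecResidueField x).ker.subschemeι.appTop ≫
      (X.fromSpecResidueField x).toImage.appTop = (X.fromSpecResidueField x).appTop :=
    (Scheme.Hom.comp_appTop _ _).symm.trans
      (congrArg Scheme.Hom.appTop (Scheme.Hom.toImage_imageι (X.fromSpecResidueField x)))
  have e1 := fromSpecResidueField_appTop_ΓSpecIso x
  rw [← h3] at e1
  have e2 := congr($e1 c)
  rw [psi_apply]
  exact e2

end Pt

section SK

variable (k : Type u) [Field k] (C : Scheme.{u}) [C.Over (Spec (CommRingCat.of k))] (x : C)

attribute [local instance] Curv2.resAlgebra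

/-- `H⁰` of the skyscraper at a closed point is the residue field, `k`-linearly. -/
noncomputable def skEquiv [IsClosedImmersion (C.fromSpecResidueField x)] :
    Coh.HH C (ClSub.quotMod (C.fromSpecResidueField x).ker) 0 ≃ₗ[k] C.residueField x :=
  LinearEquiv.ofBijective
    { toFun := fun y => psi x (sec (C.fromSpecResidueField x).ker.subschemeι y)
      map_add' := fun y z => by rw [sec_add, map_add]
      map_smul' := fun a y => by
        rw [RingHom.id_apply, Algebra.smul_def]
        have h5 : sec (C.fromSpecResidueField x).ker.subschemeι (a • y) =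
            (C.fromSpecResidueField x).ker.subschemeι.appTop
              (Groth.Agent.Helper26.HomGlob.toΓ
                (Coh.toGlobal (C ↘ Spec (CommRingCat.of k)) a)) *
              sec (C.fromSpecResidueField x).ker.subschemeι y :=
          sec_smul (C.fromSpecResidueField x).ker.subschemeι
            (Coh.toGlobal (C ↘ Spec (CommRingCat.of k)) a) y
        rw [h5, map_mul, psi_appTop]
        rfl }
    ((psi x).bijective.comp (sec_bijective (C.fromSpecResidueField x).ker.subschemeι))

/-- `h⁰` of the skyscraper at a closed point is the degree of the residue field. -/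
theorem finrank_H0_quotMod (hx : IsClosed ({x} : Set C)) :
    Module.finrank k (Coh.HH C (ClSub.quotMod (C.fromSpecResidueField x).ker) 0) =
      Module.finrank k (C.residueField x) := by
  haveI : IsClosedImmersion (C.fromSpecResidueField x) :=
    isClosed_singleton_iff_isClosedImmersion.1 hx
  exact (skEquiv k C x).finrank_eq

variable [IsProper (C ↘ (Spec (CommRingCat.of k)))]

theorem main7837 (hx : IsClosed ({x} : Set C))
    (L L' : C.Modules) (hL : PicF.IsInvertible L) (hL' : PicF.IsInvertible L')
    (hLL' : Nonempty (L ≅ CohB1.tensorMod L' (ClSub.idealMod (C.fromSpecResidueField x).ker))) :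
    Module.finrank k (Coh.HH C L 0) ≤ Module.finrank k (Coh.HH C L' 0) ∧
      Module.finrank k (Coh.HH C L' 0) ≤
        Module.finrank k (Coh.HH C L 0) + Module.finrank k (C.residueField x) := by
  obtain ⟨eL⟩ := hLL'
  haveI : IsClosedImmersion (C.fromSpecResidueField x) :=
    isClosed_singleton_iff_isClosedImmersion.1 hx
  haveI hsub : Subsingleton ((C.fromSpecResidueField x).ker.subscheme) := subsingleton_image x hx
  have z0 : Spec (C.residueField x) := (default : PrimeSpectrum (C.residueField x))
  obtain ⟨eQ⟩ := nonempty_quot_tensor_iso (C.fromSpecResidueField x).ker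
    ((C.fromSpecResidueField x).toImage z0) L' hL'
  have hS : (tensorSC (PtIdeal.idealSC (C.fromSpecResidueField x).ker) L').ShortExact :=
    tensorSC_shortExact _ (PtIdeal.idealSC_shortExact _) L' hL'
  have hc2 : Coh.IsCoh (CohB1.tensorMod (Coh.structureModule C) L') :=
    PtIdeal.isCoh_tensor_invertible _ _
      (Groth.Agent.Helper13.CohRoof.isCoh_structureModule C) hL'
  have hc3 : Coh.IsCoh (CohB1.tensorMod (ClSub.quotMod (C.fromSpecResidueField x).ker) L') :=
    PtIdeal.isCoh_tensor_invertible _ _ (PtIdeal.isCoh_quotMod _) hL'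
  haveI f2 : Module.Finite k (Coh.HH C
      (tensorSC (PtIdeal.idealSC (C.fromSpecResidueField x).ker) L').X₂ 0) :=
    Groth.Agent.S0002.result k C _ hc2 0
  haveI f3 : Module.Finite k (Coh.HH C
      (tensorSC (PtIdeal.idealSC (C.fromSpecResidueField x).ker) L').X₃ 0) :=
    Groth.Agent.S0002.result k C _ hc3 0
  have r1 : Module.finrank k (Coh.HH C
      (tensorSC (PtIdeal.idealSC (C.fromSpecResidueField x).ker) L').X₁ 0) =
      Module.finrank k (Coh.HH C L 0) :=
    (PnMumford.hEquiv k (Groth.Agent.Helper13.Tensor.braid _ _ ≪≫ eL.symm) 0).finrank_eq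
  have r2 : Module.finrank k (Coh.HH C
      (tensorSC (PtIdeal.idealSC (C.fromSpecResidueField x).ker) L').X₂ 0) =
      Module.finrank k (Coh.HH C L' 0) :=
    (PnMumford.hEquiv k (Groth.Agent.Helper13.Tensor.lid L') 0).finrank_eq
  have r3 : Module.finrank k (Coh.HH C
      (tensorSC (PtIdeal.idealSC (C.fromSpecResidueField x).ker) L').X₃ 0) =
      Module.finrank k (C.residueField x) :=
    ((PnMumford.hEquiv k eQ 0).finrank_eq).trans (finrank_H0_quotMod k C x hx)
  have hinj := LinLES.hstar_f_injective_zero k
    (tensorSC (PtIdeal.idealSC (C.fromSpecResidueField x).ker) L') hS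
  have hle := LinearMap.finrank_le_finrank_of_injective hinj
  have e := LinearMap.finrank_range_add_finrank_ker
    (hstar k (tensorSC (PtIdeal.idealSC (C.fromSpecResidueField x).ker) L').g 0)
  rw [← LinLES.range_f_eq_ker_g k _ hS 0, LinearMap.finrank_range_of_inj hinj] at e
  have hr : Module.finrank k (LinearMap.range
      (hstar k (tensorSC (PtIdeal.idealSC (C.fromSpecResidueField x).ker) L').g 0)) ≤
      Module.finrank k (Coh.HH C
        (tensorSC (PtIdeal.idealSC (C.fromSpecResidueField x).ker) L').X₃ 0) :=
    Submodule.finrank_le _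
  constructor <;> omega

/-- over an algebraically closed field the residue field of a closed point of a proper scheme
has degree one. -/
theorem finrank_residueField_eq_one [IsAlgClosed k] (hx : IsClosed ({x} : Set C)) :
    Module.finrank k (C.residueField x) = 1 := by
  haveI : IsClosedImmersion (C.fromSpecResidueField x) :=
    isClosed_singleton_iff_isClosedImmersion.1 hx
  haveI : Module.Finite k (Coh.HH C (ClSub.quotMod (C.fromSpecResidueField x).ker) 0) :=
    Groth.Agent.S0002.result k C _ (PtIdeal.isCoh_quotMod _) 0
  haveI : Module.Finite k (C.residueField x) := Module.Finite.equiv (skEquiv k C x)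
  have hbij : Function.Bijective (algebraMap k (C.residueField x)) :=
    IsAlgClosed.algebraMap_bijective_of_isIntegral
  exact ((LinearEquiv.ofBijective (Algebra.linearMap k (C.residueField x)) hbij).finrank_eq).symm.trans
    (Module.finrank_self k)

end SK

section Ker

variable {X : Scheme.{u}}

/-- the kernel of `Spec κ(x) ⟶ X` is the vanishing ideal of the closed point `x`. -/
theorem ker_eq_vanishingIdeal (x : X) (hx : IsClosed ({x} : Set X)) :
    (X.fromSpecResidueField x).ker =
      Scheme.IdealSheafData.vanishingIdeal (⟨{x}, hx⟩ : TopologicalSpace.Closeds X) := by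
  have h1 := Scheme.IdealSheafData.map_vanishingIdeal (X.fromSpecResidueField x) ⊤
  rw [Scheme.IdealSheafData.vanishingIdeal_top, Scheme.nilradical_eq_bot,
    Scheme.IdealSheafData.map_bot] at h1
  rw [h1]
  congr 1
  apply TopologicalSpace.Closeds.ext
  rw [TopologicalSpace.Closeds.coe_closure, TopologicalSpace.Closeds.coe_top, Set.image_univ,
    Scheme.range_fromSpecResidueField, hx.closure_eq]
  rfl

end Ker

end Groth.Agent.Helper24.PtSky
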