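import Mathlib
import Groth.Agent.Lib.Helper24.PtSky
import Groth.Agent.Lib.Helper24.PtIdeal2
import Groth.Agent.Lib.Helper24.DegMono
import Groth.Agent.Lib.Helper13.WeakAss
import Groth.Agent.Lib.Helper13.EpiGen
import Groth.Agent.S1524
import Groth.Prelude.Def_TorSh

/-!
# The ideal sheaf of a closed point on a curve: torsion-free of rank one and degree `-1` (helper24)
-/

set_option autoImplicit false
set_option linter.unusedSectionVars false
set_option linter.style.haveILetI false
set_option linter.unusedVariables false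
universe u
open CategoryTheory CategoryTheory.Limits AlgebraicGeometry Opposite TopologicalSpace
open Groth.Agent.Helper13.QCoh Groth.Agent.Helper13.FinType

namespace Groth.Agent.Helper24.PtDeg

section Stalks

variable {X : Scheme.{u}}

/-- an ideal module is torsion-free: its stalks embed into the local rings. -/
theorem isTorsionFree_idealMod (I : X.IdealSheafData) :
    TorSh.IsTorsionFree (ClSub.idealMod I) := by
  intro x
  haveI : Mono (ClSub.idealModι I) := inferInstanceAs (Mono (kernel.ι (ClSub.toSubscheme I)))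
  have hinj : Function.Injective (stalkMap (ClSub.idealModι I) x) :=
    (mono_iff_stalk_injective (ClSub.idealModι I)).1 inferInstance x
  exact Function.Injective.moduleIsTorsionFree
    (fun m => Groth.Agent.Helper13.WeakAss.unitStalkEquiv x (stalkMap (ClSub.idealModι I) x m))
    ((Groth.Agent.Helper13.WeakAss.unitStalkEquiv x).injective.comp hinj)
    (fun r m => by rw [stalkMap_smul, map_smul])

/-- away from the support of `I`, the stalk of the ideal module is free of rank one. -/
theorem finrank_stalk_idealMod (I : X.IdealSheafData) (η : X) (hη : η ∉ (I.support : Set X)) :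
    Module.finrank (X.presheaf.stalk η) ((ClSub.idealMod I).presheaf.stalk η) = 1 := by
  haveI : Mono (ClSub.idealModι I) := inferInstanceAs (Mono (kernel.ι (ClSub.toSubscheme I)))
  have hinj : Function.Injective (stalkMap (ClSub.idealModι I) η) :=
    (mono_iff_stalk_injective (ClSub.idealModι I)).1 inferInstance η
  haveI hsub : Subsingleton ((ClSub.quotMod I).presheaf.stalk η) := by
    by_contra h
    exact hη (PtIdeal.support_quotMod_subset I h)
  have hsurj : Function.Surjective (stalkMap (ClSub.idealModι I) η) := by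
    intro m
    haveI : Mono (PtIdeal.idealSC I).f := inferInstanceAs (Mono (ClSub.idealModι I))
    exact stalk_exact_of_exact_of_mono (PtIdeal.idealSC I) (PtIdeal.idealSC_shortExact I).exact η m
      (@Subsingleton.elim _ hsub _ _)
  have e : (ClSub.idealMod I).presheaf.stalk η ≃ₗ[X.presheaf.stalk η] X.presheaf.stalk η :=
    (LinearEquiv.ofBijective (Groth.Agent.Helper13.FinType.stalkLinearMap (ClSub.idealModι I) η)
      ⟨hinj, hsurj⟩).trans (Groth.Agent.Helper13.WeakAss.unitStalkEquiv η)
  rw [e.finrank_eq]
  exact Module.finrank_self _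

end Stalks

section Deg

variable (k : Type u) [Field k] (X : Scheme.{u}) [X.Over (Spec (CommRingCat.of k))]
  [IsProper (X ↘ (Spec (CommRingCat.of k)))]

attribute [local instance] Curv2.resAlgebra

/-- `h⁰(O/m_P) = 1` over an algebraically closed field. -/
theorem finrank_H0_quot_point [IsAlgClosed k] (P : X) (hP : IsClosed ({P} : Set X)) :
    Module.finrank k (Coh.HH X (ClSub.quotMod (Scheme.IdealSheafData.vanishingIdeal
      (⟨{P}, hP⟩ : TopologicalSpace.Closeds X))) 0) = 1 := by
  have e := PtSky.finrank_H0_quotMod k X P hP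
  rw [PtSky.ker_eq_vanishingIdeal P hP] at e
  rw [e]
  exact PtSky.finrank_residueField_eq_one k X P hP

/-- the ideal sheaf of a closed point has degree `-1`. -/
theorem deg_idealMod_point [IsAlgClosed k] (P : X) (hP : IsClosed ({P} : Set X)) :
    Curv2.deg k X (ClSub.idealMod (Scheme.IdealSheafData.vanishingIdeal
      (⟨{P}, hP⟩ : TopologicalSpace.Closeds X))) 1 = -1 := by
  haveI := PtIdeal.isNoetherian_of_proper k X
  have hS := PtIdeal.idealSC_shortExact (Scheme.IdealSheafData.vanishingIdeal
      (⟨{P}, hP⟩ : TopologicalSpace.Closeds X))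
  have hadd : Curv2.euler k X (Coh.structureModule X) =
      Curv2.euler k X (ClSub.idealMod (Scheme.IdealSheafData.vanishingIdeal
        (⟨{P}, hP⟩ : TopologicalSpace.Closeds X))) +
      Curv2.euler k X (ClSub.quotMod (Scheme.IdealSheafData.vanishingIdeal
        (⟨{P}, hP⟩ : TopologicalSpace.Closeds X))) :=
    Groth.Agent.S1524.result k X (PtIdeal.idealSC _) hS (PtIdeal.isCoh_idealMod _)
      (Groth.Agent.Helper13.CohRoof.isCoh_structureModule X) (PtIdeal.isCoh_quotMod _)
  have hsupp : CohB1.support (ClSub.quotMod (Scheme.IdealSheafData.vanishingIdeal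
      (⟨{P}, hP⟩ : TopologicalSpace.Closeds X))) ⊆ {P} := by
    refine (PtIdeal.support_quotMod_subset _).trans ?_
    rw [Scheme.IdealSheafData.coe_support_vanishingIdeal]
    exact subset_rfl
  have hdim : topologicalKrullDim (CohB1.support (ClSub.quotMod
      (Scheme.IdealSheafData.vanishingIdeal (⟨{P}, hP⟩ : TopologicalSpace.Closeds X)))) ≤ 0 := by
    haveI : Subsingleton (CohB1.support (ClSub.quotMod
        (Scheme.IdealSheafData.vanishingIdeal (⟨{P}, hP⟩ : TopologicalSpace.Closeds X)))) := by
      refine ⟨fun a b => Subtype.ext ?_⟩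
      rw [Set.mem_singleton_iff.1 (hsupp a.2), Set.mem_singleton_iff.1 (hsupp b.2)]
    exact PtIdeal.topologicalKrullDim_le_zero_of_subsingleton _
  have hQ := DegMono.euler_eq_h0_of_dim_zero k X _ (PtIdeal.isCoh_quotMod
    (Scheme.IdealSheafData.vanishingIdeal (⟨{P}, hP⟩ : TopologicalSpace.Closeds X))) hdim
  rw [finrank_H0_quot_point k X P hP] at hQ
  rw [hQ] at hadd
  unfold Curv2.deg
  rw [hadd]
  push_cast
  ring

theorem main15922 [IsAlgClosed k]
    (hequi : ∀ Z ∈ irreducibleComponents (X : Type u), topologicalKrullDim Z = 1)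
    (P : X) (hP : IsClosed ({P} : Set X)) :
    TorSh.IsTorsionFree (ClSub.idealMod (Scheme.IdealSheafData.vanishingIdeal ⟨{P}, hP⟩)) ∧
    (∀ η : X, closure ({η} : Set X) ∈ irreducibleComponents (X : Type u) →
      Module.finrank (X.presheaf.stalk η) ((ClSub.idealMod
        (Scheme.IdealSheafData.vanishingIdeal ⟨{P}, hP⟩)).presheaf.stalk η) = 1) ∧
    Curv2.deg k X (ClSub.idealMod (Scheme.IdealSheafData.vanishingIdeal ⟨{P}, hP⟩)) 1 = -1 := by
  refine ⟨isTorsionFree_idealMod _, ?_, deg_idealMod_point k X P hP⟩
  intro η hη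
  apply finrank_stalk_idealMod
  rw [Scheme.IdealSheafData.coe_support_vanishingIdeal]
  intro hmem
  have heq : η = P := Set.mem_singleton_iff.1 hmem
  have hcomp : ({P} : Set X) ∈ irreducibleComponents (X : Type u) := by
    have h := hη
    rw [heq, hP.closure_eq] at h
    exact h
  have h1 := hequi _ hcomp
  haveI : Subsingleton (({P} : Set X) : Type u) := by
    refine ⟨fun a b => Subtype.ext ?_⟩
    rw [Set.mem_singleton_iff.1 a.2, Set.mem_singleton_iff.1 b.2]
  have h2 := PtIdeal.topologicalKrullDim_le_zero_of_subsingleton (({P} : Set X) : Type u)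
  rw [h1] at h2
  exact lt_irrefl _ (lt_of_lt_of_le zero_lt_one h2)

end Deg

end Groth.Agent.Helper24.PtDeg
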