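import Mathlib
import Groth.Agent.Lib.Helper10.ExtAdj

/-!
# `Ext` groups are retracts along a pair of exact functors `P`, `Σ` with `P ⋙ Σ ≅ 𝟭`
-/

set_option autoImplicit false

open CategoryTheory CategoryTheory.Limits CategoryTheory.Abelian

namespace Groth.Agent.Helper24.ExtRetract

open Groth.Agent.Helper10.ExtAdj

universe w w' u u' v v'

variable {𝒜 : Type u} [Category.{v} 𝒜] [Abelian 𝒜] {ℬ : Type u'} [Category.{v'} ℬ] [Abelian ℬ]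
  [HasExt.{w} 𝒜] [HasExt.{w'} ℬ] [EnoughInjectives 𝒜]
  (P : 𝒜 ⥤ ℬ) (Q : ℬ ⥤ 𝒜) [P.Additive] [Q.Additive]
  [PreservesFiniteLimits P] [PreservesFiniteColimits P]
  [PreservesFiniteLimits Q] [PreservesFiniteColimits Q]
  (τ : P ⋙ Q ≅ 𝟭 𝒜)

/-- the inclusion -/
noncomputable def incl {Z : 𝒜} {Z' : ℬ} (a : P.obj Z ≅ Z') (G : 𝒜) (n : ℕ) :
    Ext.{w} Z G n →+ Ext.{w'} Z' (P.obj G) n :=
  ((Ext.mk₀ a.inv).precomp (P.obj G) (zero_add n)).comp (P.mapExtAddHom Z G n)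

/-- the retraction -/
noncomputable def retr {Z : 𝒜} {Z' : ℬ} (a : P.obj Z ≅ Z') (G : 𝒜) (n : ℕ) :
    Ext.{w'} Z' (P.obj G) n →+ Ext.{w} Z G n :=
  ((Ext.mk₀ (τ.inv.app Z ≫ Q.map a.hom)).precomp G (zero_add n)).comp
    (((Ext.mk₀ (τ.hom.app G)).postcomp (Q.obj Z') (add_zero n)).comp
      (Q.mapExtAddHom Z' (P.obj G) n))

include τ in
theorem retr_incl {Z : 𝒜} {Z' : ℬ} (a : P.obj Z ≅ Z') (G : 𝒜) (n : ℕ) (e : Ext.{w} Z G n) :
    retr P Q τ a G n (incl P a G n e) = e := by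
  have hnat := ExtMap.naturality ((ExtMap.ofFunctor P).comp (ExtMap.ofFunctor Q))
    (ExtMap.id (C := 𝒜)) τ.hom n e
  -- hnat : mk₀ (τ.hom Z) ≫ e = (Q (P e)) ≫ mk₀ (τ.hom G)
  change (Ext.mk₀ (τ.inv.app Z ≫ Q.map a.hom)).comp
    ((((Ext.mk₀ a.inv).comp (e.mapExactFunctor P) (zero_add n)).mapExactFunctor Q).comp
      (Ext.mk₀ (τ.hom.app G)) (add_zero n)) (zero_add n) = e
  rw [Ext.mapExactFunctor_comp, Ext.mapExactFunctor_mk₀]
  have h2 : ((e.mapExactFunctor P).mapExactFunctor Q).comp (Ext.mk₀ (τ.hom.app G)) (add_zero n)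
      = (Ext.mk₀ (τ.hom.app Z)).comp e (zero_add n) := hnat.symm
  rw [Ext.comp_assoc _ _ _ (zero_add n) (add_zero n) (by omega), h2,
    ← Ext.comp_assoc _ _ _ (zero_add 0) (zero_add n) (by omega),
    ← Ext.comp_assoc _ _ _ (zero_add 0) (zero_add n) (by omega), Ext.mk₀_comp_mk₀, Ext.mk₀_comp_mk₀]
  have h3 : ((τ.inv.app Z ≫ Q.map a.hom) ≫ Q.map a.inv) ≫ τ.hom.app Z = 𝟙 Z := by
    rw [Category.assoc, Category.assoc, ← Q.map_comp_assoc, a.hom_inv_id, Q.map_id,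
      Category.id_comp]
    exact τ.inv_hom_id_app Z
  rw [h3]
  exact Ext.mk₀_id_comp e

end Groth.Agent.Helper24.ExtRetract
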