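import Mathlib
import Groth.Prelude.Def_W4c1gvcharpAbut
import Groth.Agent.Lib.Helper13.SpSeqLib

/-!
# A vanishing lemma for morphisms of abutments of spectral sequences (helper24)
-/

set_option autoImplicit false
universe v u
open CategoryTheory CategoryTheory.Limits

namespace Groth.Agent.Helper24.AbutZero

open Groth.Agent.Helper13.SpSeqL

variable {C : Type u} [Category.{v} C] [Abelian C] {r₀ : ℤ}

/-- the homology map of a morphism of complexes whose component at `i` vanishes is zero -/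
lemma homologyMap_eq_zero_of_f_eq_zero {κ : Type*} {c : ComplexShape κ}
    {K L : HomologicalComplex C c} (φ : K ⟶ L) (i : κ) (h : φ.f i = 0) :
    HomologicalComplex.homologyMap φ i = 0 := by
  have h1 : HomologicalComplex.cyclesMap φ i = 0 := by
    rw [← cancel_mono (L.iCycles i), HomologicalComplex.cyclesMap_i, h, comp_zero, zero_comp]
  rw [← cancel_epi (K.homologyπ i), HomologicalComplex.homologyπ_naturality, h1, zero_comp,
    comp_zero]

/-- vanishing of a morphism of spectral sequences at a position propagates to later pages -/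
lemma hom_f_eq_zero_of_le {E E' : CohomologicalSpectralSequence C r₀} (φ : E ⟶ E') (pq : ℤ × ℤ)
    (r : ℤ) (hr : r₀ ≤ r) (h : (φ.hom r hr).f pq = 0) (k : ℤ) (hk : r ≤ k) :
    (φ.hom k (hr.trans hk)).f pq = 0 := by
  induction k, hk using Int.leInduction with
  | base => exact h
  | succ k hk ih =>
    have hc := φ.comm k (k + 1) pq rfl (hr.trans hk)
    rw [homologyMap_eq_zero_of_f_eq_zero _ _ ih, zero_comp] at hc
    have : (E.iso k (k + 1) pq rfl (hr.trans hk)).hom ≫ (φ.hom (k + 1) (by omega)).f pq = 0 :=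
      hc.symm
    rwa [← cancel_epi (E.iso k (k + 1) pq rfl (hr.trans hk)).hom, comp_zero]

section Fil

variable {X : C} (F : ℤ → Subobject X) (hF : Antitone F)

include hF in
/-- if the graded pieces vanish below `a₀` and some step is everything, then `F a₀ = ⊤` -/
lemma fil_eq_top (a₀ : ℤ) (hz : ∀ p, p < a₀ → IsZero (SpSeq.grPiece F hF p))
    (htop : ∃ a : ℤ, F a = ⊤) : F a₀ = ⊤ := by
  obtain ⟨a, ha⟩ := htop
  rcases le_total a₀ a with h | h
  · exact top_le_iff.mp (ha ▸ hF h)
  · have : ∀ k : ℤ, a ≤ k → k ≤ a₀ → F k = ⊤ := by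
      intro k hk
      induction k, hk using Int.leInduction with
      | base => intro _; exact ha
      | succ k hk ih =>
        intro hk'
        rw [← fil_eq_of_isZero_gr F hF k (hz k (by omega))]
        exact ih (by omega)
    exact this a₀ h le_rfl

include hF in
/-- if the graded pieces vanish above `a₀` and some step is zero, then `F (a₀ + 1) = ⊥` -/
lemma fil_eq_bot (a₀ : ℤ) (hz : ∀ p, a₀ < p → IsZero (SpSeq.grPiece F hF p))
    (hbot : ∃ b : ℤ, F b = ⊥) : F (a₀ + 1) = ⊥ := by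
  obtain ⟨b, hb⟩ := hbot
  rcases le_total b (a₀ + 1) with h | h
  · exact le_bot_iff.mp (hb ▸ hF h)
  · have : ∀ k : ℤ, a₀ + 1 ≤ k → F k = F (a₀ + 1) := by
      intro k hk
      induction k, hk using Int.leInduction with
      | base => rfl
      | succ k hk ih => rw [← fil_eq_of_isZero_gr F hF k (hz k (by omega)), ih]
    rw [← this b h, hb]

end Fil

lemma arrow_eq_zero_of_eq_bot {X : C} (S : Subobject X) (h : S = ⊥) : S.arrow = 0 := by
  subst h
  exact Subobject.bot_arrow

/-- vanishing of a page term forces the vanishing of the corresponding graded piece -/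
lemma isZero_gr_of_isZero' (E : CohomologicalSpectralSequence C r₀) (r : ℤ) (hr : r₀ ≤ r)
    (pq : ℤ × ℤ) (h : IsZero ((E.page r hr).X pq)) {H : ℤ → C} (a : SpSeq.Abutment E H) (n : ℤ)
    (hn : pq.1 + pq.2 = n) : IsZero (SpSeq.grPiece (a.fil n) (a.anti n) pq.1) := by
  subst hn
  exact isZero_gr_of_isZero E r hr pq h a

/-- a filtered map vanishes if its source is `F^{a₀}`, the target has `F^{a₀+1} = 0` and the map
induced on `gr^{a₀}` vanishes -/
lemma filLift_hom_eq_zero {K L : SpSeq.FilObj C} (g : SpSeqMor.FilLift K L) (a₀ : ℤ)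
    (hK : K.fil a₀ = ⊤) (hL : L.fil (a₀ + 1) = ⊥) (hg : g.gr a₀ = 0) : g.hom = 0 := by
  have h0 : cokernel.π (K.stepLE (Int.le_add_one (le_refl a₀))) ≫ g.gr a₀ =
      g.lift a₀ ≫ cokernel.π (L.stepLE (Int.le_add_one (le_refl a₀))) :=
    cokernel.π_desc _ _ _
  have h1 : g.lift a₀ ≫ cokernel.π (L.stepLE (Int.le_add_one (le_refl a₀))) = 0 := by
    rw [← h0, hg]
    exact comp_zero
  have hzero : L.stepLE (Int.le_add_one (le_refl a₀)) = 0 := by
    rw [← cancel_mono (L.fil a₀).arrow, Subobject.ofLE_arrow, zero_comp]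
    exact arrow_eq_zero_of_eq_bot _ hL
  have hmono : Mono (cokernel.π (L.stepLE (Int.le_add_one (le_refl a₀)))) := by
    rw [hzero]
    infer_instance
  have h2 : g.lift a₀ = 0 := by
    rw [← cancel_mono (cokernel.π (L.stepLE (Int.le_add_one (le_refl a₀)))), h1, zero_comp]
  have h3 : (K.fil a₀).arrow ≫ g.hom = 0 := by
    rw [← g.lift_arrow, h2, zero_comp]
  haveI : IsIso (K.fil a₀).arrow := (Subobject.isIso_arrow_iff_eq_top _).mpr hK
  rwa [← cancel_epi (K.fil a₀).arrow, comp_zero]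

/-- vanishing of `φ` at a position on some page forces the vanishing of the map induced on the
corresponding graded pieces of the abutments -/
lemma gr_eq_zero {E E' : CohomologicalSpectralSequence C r₀} (φ : E ⟶ E') {H H' : ℤ → C}
    (a : SpSeq.Abutment E H) (a' : SpSeq.Abutment E' H') (f : SpSeqMor.AbutHom φ a a')
    (pq : ℤ × ℤ) (r : ℤ) (hr : r₀ ≤ r) (h : (φ.hom r hr).f pq = 0) (n : ℤ)
    (hn : pq.1 + pq.2 = n) : (f.fil n).gr pq.1 = 0 := by
  subst hn
  obtain ⟨k, hk⟩ := Int.le.dest (show a.rk pq ≤ max (max (a.rk pq) (a'.rk pq)) r from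
    le_trans (le_max_left _ _) (le_max_left _ _))
  obtain ⟨k', hk'⟩ := Int.le.dest (show a'.rk pq ≤ max (max (a.rk pq) (a'.rk pq)) r from
    le_trans (le_max_right _ _) (le_max_left _ _))
  have hkk : a.rk pq + k = a'.rk pq + k' := hk.trans hk'.symm
  have hc := f.comm pq k k' hkk
  have hz : (φ.hom (a'.rk pq + k') (SpSeqMor.page_le (a'.stat pq).1 k')).f pq = 0 :=
    hom_f_eq_zero_of_le φ pq r hr h _ (by rw [hk']; exact le_max_right _ _)
  rw [hz, zero_comp, comp_zero, comp_zero] at hc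
  exact (cancel_epi (a.β pq).hom).1 (hc.trans comp_zero.symm)

theorem main14355 (E E' : E₂CohomologicalSpectralSequence C) (φ : E ⟶ E') (H H' : ℤ → C)
    (a : SpSeq.Abutment E H) (a' : SpSeq.Abutment E' H')
    (ha : ∀ n : ℤ, a.IsFinite n) (ha' : ∀ n : ℤ, a'.IsFinite n)
    (f : SpSeqMor.AbutHom φ a a') (l a₀ : ℤ)
    (hE : ∀ i : ℤ, i < a₀ → IsZero ((E.page 2 le_rfl).X (i, l - i)))
    (hE' : ∀ i : ℤ, a₀ < i → IsZero ((E'.page 2 le_rfl).X (i, l - i)))
    (hφ : (φ.hom 2 le_rfl).f (a₀, l - a₀) = 0) :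
    f.hom l = 0 := by
  -- the filtration on `H l`
  have hK : (a.filObj l).fil a₀ = ⊤ := by
    apply fil_eq_top (a.fil l) (a.anti l) a₀ _ (ha l).1
    intro p hp
    exact isZero_gr_of_isZero' E 2 le_rfl (p, l - p) (hE p hp) a l (by simp)
  have hL : (a'.filObj l).fil (a₀ + 1) = ⊥ := by
    apply fil_eq_bot (a'.fil l) (a'.anti l) a₀ _ (ha' l).2
    intro p hp
    exact isZero_gr_of_isZero' E' 2 le_rfl (p, l - p) (hE' p hp) a' l (by simp)
  -- the map on `gr^{a₀}`
  have hg : (f.fil l).gr a₀ = 0 :=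
    gr_eq_zero φ a a' f (a₀, l - a₀) 2 le_rfl hφ l (by simp)
  exact filLift_hom_eq_zero (f.fil l) a₀ hK hL hg

end Groth.Agent.Helper24.AbutZero
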