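import Mathlib

/-!
# Contractibility of acyclic bounded-below complexes of projectives; quotient complexes

* `homotopyIdZero K hK : Homotopy (𝟙 K) 0` for an acyclic `ChainComplex C ℕ` of projectives.
* `Qc f`, `πc f`: the degreewise quotient complex of a chain map of complexes of modules, and the
  projection; `shortExact`, `acyclic` (if `f` is a degreewise injective quasi-isomorphism).
-/

set_option autoImplicit false
universe v u
open CategoryTheory CategoryTheory.Limits ZeroObject

namespace Groth.Agent.Helper24.AcyclicContract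

section abelian
variable {C : Type*} [Category C] [Abelian C]

/-- an acyclic complex of projectives as a projective resolution of zero -/
noncomputable def resZero (K : ChainComplex C ℕ) (hK : K.Acyclic) [∀ n, Projective (K.X n)] :
    ProjectiveResolution (0 : C) where
  complex := K
  π := 0
  quasiIso := by
    rw [quasiIso_iff]
    intro i
    rw [quasiIsoAt_iff_exactAt _ i (hK i)]
    apply HomologicalComplex.ExactAt.of_isZero
    have h0 : IsZero ((ChainComplex.single₀ C).obj (0 : C)) :=
      (ChainComplex.single₀ C).map_isZero (isZero_zero C)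
    exact (HomologicalComplex.eval C (ComplexShape.down ℕ) i).map_isZero h0

/-- an acyclic bounded below complex of projectives is contractible -/
noncomputable def homotopyIdZero (K : ChainComplex C ℕ) (hK : K.Acyclic)
    [∀ n, Projective (K.X n)] : Homotopy (𝟙 K) 0 :=
  ProjectiveResolution.liftHomotopyZero (P := resZero K hK) (Q := resZero K hK) (𝟙 K) (by
    show 𝟙 K ≫ (0 : K ⟶ _) = 0
    exact Limits.comp_zero)

lemma id_eq_nullHomotopicMap {K : ChainComplex C ℕ} (h : Homotopy (𝟙 K) 0) :
    Homotopy.nullHomotopicMap h.hom = 𝟙 K := by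
  ext i
  have := h.comm i
  simp only [HomologicalComplex.zero_f, add_zero] at this
  rw [this]
  simp [Homotopy.nullHomotopicMap]

/-- A short exact sequence of chain complexes with acyclic, degreewise projective cokernel:
the mono admits a retraction which is a chain map. -/
theorem exists_retraction (S : ShortComplex (ChainComplex C ℕ)) (hS : S.ShortExact)
    [∀ n, Projective (S.X₃.X n)] (hac : S.X₃.Acyclic) :
    ∃ g : S.X₂ ⟶ S.X₁, S.f ≫ g = 𝟙 _ := by
  have := hS.epi_g
  have := hS.mono_f
  let h := homotopyIdZero S.X₃ hac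
  let σ : ∀ n, S.X₃.X n ⟶ S.X₂.X n := fun n => Projective.factorThru (𝟙 _) (S.g.f n)
  have hσ : ∀ n, σ n ≫ S.g.f n = 𝟙 _ := fun n => Projective.factorThru_comp _ _
  let T : ∀ i j, S.X₂.X i ⟶ S.X₂.X j := fun i j => S.g.f i ≫ h.hom i j ≫ σ j
  let e : S.X₂ ⟶ S.X₂ := 𝟙 _ - Homotopy.nullHomotopicMap T
  have he : e ≫ S.g = 0 := by
    have e1 : Homotopy.nullHomotopicMap T ≫ S.g = S.g := by
      rw [Homotopy.nullHomotopicMap_comp]
      have : (fun i j => T i j ≫ S.g.f j) = fun i j => S.g.f i ≫ h.hom i j := by
        funext i j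
        simp only [T, Category.assoc, hσ, Category.comp_id]
      rw [this, ← Homotopy.comp_nullHomotopicMap, id_eq_nullHomotopicMap, Category.comp_id]
    rw [Preadditive.sub_comp, Category.id_comp, e1, sub_self]
  obtain ⟨g, hg⟩ := hS.exact.lift' e he
  refine ⟨g, ?_⟩
  rw [← cancel_mono S.f, Category.assoc, hg, Category.id_comp, Preadditive.comp_sub,
    Category.comp_id, Homotopy.comp_nullHomotopicMap]
  have : (fun i j => S.f.f i ≫ T i j) = fun i j => 0 := by
    funext i j
    simp only [T]
    rw [← Category.assoc, ← HomologicalComplex.comp_f, S.zero]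
    simp
  rw [this]
  have h0 : Homotopy.nullHomotopicMap (fun i j => (0 : S.X₁.X i ⟶ S.X₂.X j)) = 0 := by
    ext i
    simp [Homotopy.nullHomotopicMap, fromNext, toPrev]
  rw [h0, sub_zero]

/-- A short exact sequence of chain complexes with acyclic, degreewise projective cokernel:
the epi admits a section which is a chain map. -/
theorem exists_section (S : ShortComplex (ChainComplex C ℕ)) (hS : S.ShortExact)
    [∀ n, Projective (S.X₃.X n)] (hac : S.X₃.Acyclic) :
    ∃ s : S.X₃ ⟶ S.X₂, s ≫ S.g = 𝟙 _ := by
  have := hS.epi_g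
  let h := homotopyIdZero S.X₃ hac
  let σ : ∀ n, S.X₃.X n ⟶ S.X₂.X n := fun n => Projective.factorThru (𝟙 _) (S.g.f n)
  have hσ : ∀ n, σ n ≫ S.g.f n = 𝟙 _ := fun n => Projective.factorThru_comp _ _
  refine ⟨Homotopy.nullHomotopicMap (fun i j => h.hom i j ≫ σ j), ?_⟩
  rw [Homotopy.nullHomotopicMap_comp]
  have : (fun i j => (h.hom i j ≫ σ j) ≫ S.g.f j) = h.hom := by
    funext i j
    simp only [Category.assoc, hσ, Category.comp_id]
  rw [this, id_eq_nullHomotopicMap]

end abelian

section modules
variable {R : Type u} [Ring R] {A' A : ChainComplex (ModuleCat.{v} R) ℕ} (f : A' ⟶ A)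

lemma range_le_comap (i j : ℕ) :
    LinearMap.range (f.f i).hom ≤ (LinearMap.range (f.f j).hom).comap (A.d i j).hom := by
  rintro _ ⟨x, rfl⟩
  refine ⟨(A'.d i j).hom x, ?_⟩
  have h := congrArg (fun φ => φ.hom x) (f.comm i j)
  simpa only [ModuleCat.hom_comp, LinearMap.comp_apply] using h.symm

/-- the quotient complex -/
noncomputable def Qc : ChainComplex (ModuleCat.{v} R) ℕ where
  X q := ModuleCat.of R (A.X q ⧸ LinearMap.range (f.f q).hom)
  d i j := ModuleCat.ofHom ((LinearMap.range (f.f i).hom).mapQ (LinearMap.range (f.f j).hom)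
    (A.d i j).hom (range_le_comap f i j))
  shape i j h := by
    ext x
    simp [A.shape i j h]
  d_comp_d' i j k _ _ := by
    ext x
    have h : (A.d i j ≫ A.d j k).hom x = 0 := by rw [A.d_comp_d]; simp
    simp only [ModuleCat.hom_comp, LinearMap.comp_apply] at h
    simp [h]

/-- the projection chain map -/
noncomputable def πc : A ⟶ Qc f where
  f q := ModuleCat.ofHom (LinearMap.range (f.f q).hom).mkQ
  comm' i j _ := by
    ext x
    rfl

lemma πc_surjective (q : ℕ) : Function.Surjective ((πc f).f q).hom :=
  Submodule.mkQ_surjective _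

lemma πc_apply_eq_zero_iff (q : ℕ) (x : A.X q) :
    ((πc f).f q).hom x = 0 ↔ x ∈ LinearMap.range (f.f q).hom :=
  Submodule.Quotient.mk_eq_zero _

@[reassoc]
lemma f_πc : f ≫ πc f = 0 := by
  ext q x
  show (LinearMap.range (f.f q).hom).mkQ ((f.f q).hom x) = 0
  simp

lemma shortExact (hf : ∀ q, Function.Injective (f.f q).hom) :
    (ShortComplex.mk f (πc f) (f_πc f)).ShortExact := by
  apply HomologicalComplex.shortExact_of_degreewise_shortExact
  intro i
  apply ModuleCat.shortComplex_shortExact
  · intro x
    constructor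
    · intro h
      exact (Submodule.Quotient.mk_eq_zero _).mp h
    · rintro ⟨y, rfl⟩
      exact (Submodule.Quotient.mk_eq_zero _).mpr ⟨y, rfl⟩
  · exact hf i
  · exact Submodule.mkQ_surjective _

lemma acyclic (hf : ∀ q, Function.Injective (f.f q).hom) [QuasiIso f] : (Qc f).Acyclic :=
  (shortExact f hf).acyclic_X₃ inferInstance

/-- descend a chain map killing `f` to the quotient complex -/
noncomputable def descQc {B : ChainComplex (ModuleCat.{v} R) ℕ} (g : A ⟶ B) (hg : f ≫ g = 0) :
    Qc f ⟶ B where
  f q := ModuleCat.ofHom ((LinearMap.range (f.f q).hom).liftQ (g.f q).hom (by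
    rintro _ ⟨x, rfl⟩
    have := congrArg (fun φ => (φ.f q).hom x) hg
    simpa using this))
  comm' i j _ := by
    ext x
    obtain ⟨y, rfl⟩ := πc_surjective f i x
    have h := congrArg (fun φ => φ.hom y) (g.comm i j)
    simp only [ModuleCat.hom_comp, LinearMap.comp_apply] at h
    exact h

@[reassoc (attr := simp)]
lemma πc_descQc {B : ChainComplex (ModuleCat.{v} R) ℕ} (g : A ⟶ B) (hg : f ≫ g = 0) :
    πc f ≫ descQc f g hg = g := by
  ext q x
  rfl

/-- the ℤ-module structure on the terms of `Qc f` is free if the quotients are (stated with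
the instance found by unification in `ℤ`-contexts). -/
lemma free_Qc_int {A' A : ChainComplex (ModuleCat.{v} ℤ) ℕ} (f : A' ⟶ A) (q : ℕ)
    (hq : Module.Free ℤ ((A.X q) ⧸ LinearMap.range (f.f q).hom)) :
    Module.Free ℤ ((Qc f).X q) := by
  show @Module.Free ℤ (A.X q ⧸ LinearMap.range (f.f q).hom) _ _ (Submodule.Quotient.module _)
  have e : Submodule.Quotient.module (LinearMap.range (f.f q).hom) =
    AddCommGroup.toIntModule (A.X q ⧸ LinearMap.range (f.f q).hom) := Subsingleton.elim _ _
  rw [e]
  exact hq

end modules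

end Groth.Agent.Helper24.AcyclicContract
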