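import Mathlib
import Groth.Agent.Lib.Helper24.RelExt9

/-!
# Computing `Ext` from a resolution by acyclic objects: an axiomatic version (helper24)
-/

set_option autoImplicit false
set_option linter.style.haveILetI false
universe v v' u u'
open CategoryTheory CategoryTheory.Limits

namespace Groth.Agent.Helper24.AffExt

open Groth.Agent.Helper24.RelExt

variable (A : Type u) [Category.{v} A] [Abelian A] (B : Type u') [Category.{v'} B] [Abelian B]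

/-- a contravariant left exact "`Hom(-, N)`-like" family `T`, together with "higher Ext" objects
`E p` (standing for `Ext^{p+1}(-, N)`) obtained from `T` by dimension shifting along short exact
sequences with acyclic middle term -/
structure ExtFam where
  /-- `Hom(-, N)` -/
  T : A → B
  /-- contravariance -/
  t : ∀ {M' M : A} (_ : M' ⟶ M), T M ⟶ T M'
  t_comp : ∀ {M'' M' M : A} (u' : M'' ⟶ M') (u : M' ⟶ M), t (u' ≫ u) = t u ≫ t u'
  t_zero : ∀ (M' M : A), t (0 : M' ⟶ M) = 0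
  mono : ∀ {M' M : A} (u : M' ⟶ M), Epi u → Mono (t u)
  exact : ∀ (S : ShortComplex A), S.Exact → Epi S.g → ∀ (w : t S.g ≫ t S.f = 0),
    (ShortComplex.mk _ _ w).Exact
  /-- `Ext^{p+1}(-, N)` -/
  E : ℕ → A → B
  /-- the acyclic objects -/
  P : A → Prop
  one : ∀ (S : ShortComplex A), S.ShortExact → P S.X₂ → Nonempty (E 0 S.X₃ ≅ cokernel (t S.f))
  shift : ∀ (S : ShortComplex A), S.ShortExact → P S.X₂ → ∀ p : ℕ,
    Nonempty (E (p + 1) S.X₃ ≅ E p S.X₁)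

variable {A B}

namespace ExtFam

variable (𝒯 : ExtFam A B)

lemma w {M'' M' M : A} (u' : M'' ⟶ M') (u : M' ⟶ M) (h : u' ≫ u = 0) :
    𝒯.t u ≫ 𝒯.t u' = 0 := by
  rw [← 𝒯.t_comp, h, 𝒯.t_zero]

/-- `0 ⟶ T F ⟶ T L₀ ⟶ T L₁` is exact: kernel form -/
noncomputable def isKernel {F : A} (R : ResData F) :
    IsLimit (KernelFork.ofι (𝒯.t R.π) (𝒯.w (R.dx 0) R.π R.hπ)) := by
  have h1 := 𝒯.exact (ShortComplex.mk (R.dx 0) R.π R.hπ) R.hex0 R.epi (𝒯.w (R.dx 0) R.π R.hπ)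
  haveI : Mono (ShortComplex.mk _ _ (𝒯.w (R.dx 0) R.π R.hπ)).f := 𝒯.mono R.π R.epi
  exact h1.fIsKernel

theorem homology_succ : ∀ (m : ℕ) {F : A} (R : ResData F), (∀ j, 𝒯.P (R.Lx j)) →
    Nonempty ((ShortComplex.mk (𝒯.t (R.dx m)) (𝒯.t (R.dx (m + 1)))
      (𝒯.w _ _ (R.hd m))).homology ≅ 𝒯.E m F) := by
  intro m
  induction m with
  | zero =>
    intro F R acyc
    obtain ⟨e1⟩ := 𝒯.one R.ses R.ses_shortExact (acyc 0)
    have hf : 𝒯.t (R.dx 0) = 𝒯.t (kernel.ι R.π) ≫ 𝒯.t R.shift.π := by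
      rw [← 𝒯.t_comp, R.shift_π_ι]
      rfl
    obtain ⟨e2⟩ := nonempty_homology_iso_cokernel
      (ShortComplex.mk (𝒯.t (R.dx 0)) (𝒯.t (R.dx (0 + 1))) (𝒯.w _ _ (R.hd 0)))
      (𝒯.t R.shift.π) (𝒯.t (kernel.ι R.π)) (𝒯.t (R.dx (0 + 1))) (𝟙 _)
      hf
      (Category.comp_id _).symm
      (𝒯.w (R.dx (0 + 1)) R.shift.π R.shift.hπ)
      (𝒯.isKernel R.shift)
    exact ⟨e2 ≪≫ e1.symm⟩
  | succ m ih =>
    intro F R acyc
    obtain ⟨e1⟩ := 𝒯.shift R.ses R.ses_shortExact (acyc 0) m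
    obtain ⟨e2⟩ := ih R.shift (fun j => acyc (j + 1))
    exact ⟨e2 ≪≫ e1.symm⟩

theorem homology_zero {F : A} (R : ResData F) :
    Nonempty ((ShortComplex.mk (0 : 𝒯.T (R.Lx 0) ⟶ 𝒯.T (R.Lx 0))
      (𝒯.t (R.dx 0)) zero_comp).homology ≅ 𝒯.T F) := by
  obtain ⟨e2⟩ := nonempty_homology_iso_kernel
    (ShortComplex.mk (0 : 𝒯.T (R.Lx 0) ⟶ 𝒯.T (R.Lx 0))
      (𝒯.t (R.dx 0)) zero_comp)
    (𝒯.t R.π) (𝒯.t (R.dx 0)) (𝟙 _) rfl (Category.comp_id _).symm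
    (𝒯.w (R.dx 0) R.π R.hπ) (𝒯.isKernel R)
  exact ⟨e2⟩

end ExtFam

end Groth.Agent.Helper24.AffExt
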