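import Mathlib
import Groth.Agent.Lib.Helper24.AffExt1

/-!
# `Ext` of modules from a projective resolution, `R`-linearly (helper24)
-/

set_option autoImplicit false
set_option linter.style.haveILetI false
universe u
open CategoryTheory CategoryTheory.Limits CategoryTheory.Abelian

namespace Groth.Agent.Helper24.AffExt

open Groth.Agent.Helper24.RelExt

variable (R : Type u) [CommRing R] (N : ModuleCat.{u} R)

/-- `Hom_R(M, N)` as an `R`-module -/
noncomputable abbrev HomM (M : ModuleCat.{u} R) : ModuleCat.{u} R := ModuleCat.of R (M ⟶ N)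

/-- precomposition -/
noncomputable def preM {M' M : ModuleCat.{u} R} (u : M' ⟶ M) : HomM R N M ⟶ HomM R N M' :=
  ModuleCat.ofHom (Linear.leftComp R N u)

lemma preM_apply {M' M : ModuleCat.{u} R} (u : M' ⟶ M) (f : M ⟶ N) :
    (preM R N u).hom f = u ≫ f := rfl

/-- `Ext^{p}_R(M, N)` as an `R`-module -/
noncomputable abbrev ExtM (p : ℕ) (M : ModuleCat.{u} R) : ModuleCat.{u} R :=
  ModuleCat.of R (Ext M N p)

variable {R N}

lemma preM_comp {M'' M' M : ModuleCat.{u} R} (u' : M'' ⟶ M') (u : M' ⟶ M) :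
    preM R N (u' ≫ u) = preM R N u ≫ preM R N u' := by
  apply ModuleCat.hom_ext
  apply LinearMap.ext
  intro f
  show (u' ≫ u) ≫ f = u' ≫ (u ≫ f)
  rw [Category.assoc]

lemma preM_zero (M' M : ModuleCat.{u} R) : preM R N (0 : M' ⟶ M) = 0 := by
  apply ModuleCat.hom_ext
  apply LinearMap.ext
  intro f
  show (0 : M' ⟶ M) ≫ f = 0
  rw [zero_comp]

lemma preM_mono {M' M : ModuleCat.{u} R} (u : M' ⟶ M) (hu : Epi u) : Mono (preM R N u) := by
  rw [ModuleCat.mono_iff_injective]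
  intro f g h
  have h' : u ≫ f = u ≫ g := h
  exact (cancel_epi u).1 h'

lemma preM_exact (S : ShortComplex (ModuleCat.{u} R)) (hS : S.Exact) (hg : Epi S.g)
    (w : preM R N S.g ≫ preM R N S.f = 0) : (ShortComplex.mk _ _ w).Exact := by
  rw [ShortComplex.moduleCat_exact_iff]
  intro x₂ hx₂
  have hx : S.f ≫ x₂ = 0 := hx₂
  exact ⟨hS.desc x₂ hx, hS.g_desc x₂ hx⟩

section One

variable (N) (S : ShortComplex (ModuleCat.{u} R)) (hS : S.ShortExact)

/-- the connecting map `Hom(X₁, N) ⟶ Ext¹(X₃, N)` -/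
noncomputable def δ₀ : HomM R N S.X₁ ⟶ ExtM R N 1 S.X₃ :=
  ModuleCat.ofHom ((Ext.precompOfLinear hS.extClass R N (show 1 + 0 = 1 from rfl)) ∘ₗ
    (Ext.linearEquiv₀ (R := R) (X := S.X₁) (Y := N)).symm.toLinearMap)

lemma δ₀_apply (f : S.X₁ ⟶ N) :
    (δ₀ N S hS).hom f = hS.extClass.comp (Ext.mk₀ f) (show 1 + 0 = 1 from rfl) := rfl

lemma δ₀_surjective [Projective S.X₂] : Function.Surjective (δ₀ N S hS).hom := by
  intro x₃
  have h0 : (Ext.mk₀ S.g).comp x₃ (zero_add 1) = 0 := Ext.eq_zero_of_projective _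
  obtain ⟨x₁, hx₁⟩ := Ext.contravariant_sequence_exact₃ hS N x₃ h0 (show 1 + 0 = 1 from rfl)
  refine ⟨Ext.linearEquiv₀ (R := R) x₁, ?_⟩
  rw [δ₀_apply, Ext.mk₀_linearEquiv₀_apply, hx₁]

lemma preM_δ₀ : preM R N S.f ≫ δ₀ N S hS = 0 := by
  apply ModuleCat.hom_ext
  apply LinearMap.ext
  intro g
  show hS.extClass.comp (Ext.mk₀ (S.f ≫ g)) (show 1 + 0 = 1 from rfl) = 0
  rw [← Ext.mk₀_comp_mk₀]
  exact hS.extClass_comp_assoc (Ext.mk₀ g)

lemma exact_preM_δ₀ : (ShortComplex.mk _ _ (preM_δ₀ N S hS)).Exact := by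
  rw [ShortComplex.moduleCat_exact_iff]
  intro f hf
  have hf' : hS.extClass.comp (Ext.mk₀ f) (show 1 + 0 = 1 from rfl) = 0 := hf
  obtain ⟨x₂, hx₂⟩ := Ext.contravariant_sequence_exact₁ hS N (Ext.mk₀ f) rfl hf'
  refine ⟨Ext.linearEquiv₀ (R := R) x₂, ?_⟩
  show S.f ≫ Ext.linearEquiv₀ (R := R) x₂ = f
  apply (Ext.addEquiv₀ (X := S.X₁) (Y := N)).symm.injective
  show Ext.mk₀ (S.f ≫ Ext.linearEquiv₀ (R := R) x₂) = Ext.mk₀ f
  rw [← Ext.mk₀_comp_mk₀, Ext.mk₀_linearEquiv₀_apply, hx₂]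

include hS in
/-- `Ext¹(X₃, N)` is the cokernel of `Hom(X₂, N) ⟶ Hom(X₁, N)` when `X₂` is projective -/
theorem nonempty_one_iso [Projective S.X₂] :
    Nonempty (ExtM R N 1 S.X₃ ≅ cokernel (preM R N S.f)) := by
  have hex := exact_preM_δ₀ N S hS
  haveI : Epi (ShortComplex.mk _ _ (preM_δ₀ N S hS)).g :=
    (ModuleCat.epi_iff_surjective _).2 (δ₀_surjective N S hS)
  exact ⟨IsColimit.coconePointUniqueUpToIso hex.gIsCokernel (colimit.isColimit _)⟩

include hS in
/-- dimension shifting: `Ext^{p+2}(X₃, N) ≅ Ext^{p+1}(X₁, N)` when `X₂` is projective -/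
theorem nonempty_shift_iso' [Projective S.X₂] (p : ℕ) :
    Nonempty (ExtM R N (p + 1 + 1) S.X₃ ≅ ExtM R N (p + 1) S.X₁) := by
  have h : 1 + (p + 1) = p + 1 + 1 := by omega
  let δ : Ext S.X₁ N (p + 1) →ₗ[R] Ext S.X₃ N (p + 1 + 1) :=
    Ext.precompOfLinear hS.extClass R N h
  have hδ : ∀ x, δ x = hS.extClass.comp x h := fun _ => rfl
  have hinj : Function.Injective δ := by
    rw [← LinearMap.ker_eq_bot, LinearMap.ker_eq_bot']
    intro x₁ hx₁
    rw [hδ] at hx₁
    obtain ⟨x₂, hx₂⟩ := Ext.contravariant_sequence_exact₁ hS N x₁ h hx₁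
    rw [← hx₂, Ext.eq_zero_of_projective x₂, Ext.comp_zero]
  have hsurj : Function.Surjective δ := by
    intro x₃
    have h0 : (Ext.mk₀ S.g).comp x₃ (zero_add (p + 1 + 1)) = 0 := Ext.eq_zero_of_projective _
    obtain ⟨x₁, hx₁⟩ := Ext.contravariant_sequence_exact₃ hS N x₃ h0 h
    exact ⟨x₁, hx₁⟩
  exact ⟨(LinearEquiv.toModuleIso (X₁ := ExtM R N (p + 1) S.X₁) (X₂ := ExtM R N (p + 1 + 1) S.X₃)
    (LinearEquiv.ofBijective δ ⟨hinj, hsurj⟩)).symm⟩

end One

variable (R N) in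
/-- the family `Hom_R(-, N)`, `Ext^{p+1}_R(-, N)` with the projective modules as acyclic objects -/
noncomputable def extFam : ExtFam (ModuleCat.{u} R) (ModuleCat.{u} R) where
  T := HomM R N
  t u := preM R N u
  t_comp u' u := preM_comp u' u
  t_zero M' M := preM_zero M' M
  mono u hu := preM_mono u hu
  exact S hS hg w := preM_exact S hS hg w
  E p := ExtM R N (p + 1)
  P M := Projective M
  one S hS hP := by
    haveI : Projective S.X₂ := hP
    exact nonempty_one_iso N S hS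
  shift S hS hP p := by
    haveI : Projective S.X₂ := hP
    exact nonempty_shift_iso' N S hS p

/-- **`Ext` from a projective resolution, positive degrees** -/
theorem nonempty_homology_iso_ext_succ {M : ModuleCat.{u} R} (Res : ResData M)
    (hP : ∀ j, Projective (Res.Lx j)) (m : ℕ) :
    Nonempty ((ShortComplex.mk (preM R N (Res.dx m)) (preM R N (Res.dx (m + 1)))
      ((extFam R N).w _ _ (Res.hd m))).homology ≅ ExtM R N (m + 1) M) :=
  (extFam R N).homology_succ m Res hP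

/-- **`Ext` from a projective resolution, degree zero** -/
theorem nonempty_homology_iso_ext_zero {M : ModuleCat.{u} R} (Res : ResData M) :
    Nonempty ((ShortComplex.mk (0 : HomM R N (Res.Lx 0) ⟶ HomM R N (Res.Lx 0))
      (preM R N (Res.dx 0)) zero_comp).homology ≅ ExtM R N 0 M) := by
  obtain ⟨e⟩ := (extFam R N).homology_zero Res
  exact ⟨e ≪≫ (LinearEquiv.toModuleIso (X₁ := ExtM R N 0 M) (X₂ := HomM R N M)
    (Ext.linearEquiv₀ (R := R) (X := M) (Y := N))).symm⟩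

end Groth.Agent.Helper24.AffExt
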