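import Mathlib
import Groth.Agent.Lib.Helper29.SHomA
import Groth.Agent.Lib.Helper24.RelExt11

/-!
# Contravariance of the concrete sheaf Hom, on sections (helper24)
-/

set_option autoImplicit false
set_option maxHeartbeats 400000
set_option linter.style.haveILetI false
universe u
open CategoryTheory CategoryTheory.Limits AlgebraicGeometry Opposite TopologicalSpace
open RefHull Groth.Agent.Lead.HomSh Groth.Agent.Helper13.HomShAff
open Groth.Agent.Helper13.Tensor Groth.Agent.Helper13.TensorFunctor Groth.Agent.Helper13.TensorHom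
open Groth.Agent.Helper29.SHomA

namespace Groth.Agent.Helper24.AffExt

variable {X : Scheme.{u}}

/-- `- ⊗ D' ⟶ - ⊗ D` for `g : D' ⟶ D` -/
noncomputable def tensorRightMap {D' D : X.Modules} (g : D' ⟶ D) :
    tensorRight D' ⟶ tensorRight D where
  app B := Groth.Agent.Helper13.Tensor.map (𝟙 B) g
  naturality B B' f := by
    show Groth.Agent.Helper13.Tensor.map f (𝟙 D') ≫ Groth.Agent.Helper13.Tensor.map (𝟙 B') g =
      Groth.Agent.Helper13.Tensor.map (𝟙 B) g ≫ Groth.Agent.Helper13.Tensor.map f (𝟙 D)
    rw [← Groth.Agent.Helper13.Tensor.map_comp, ← Groth.Agent.Helper13.Tensor.map_comp,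
      Category.comp_id, Category.id_comp, Category.comp_id, Category.id_comp]

/-- precomposition `𝓗om(D, -) ⟶ 𝓗om(D', -)` for `g : D' ⟶ D` -/
noncomputable def pre {D' D : X.Modules} (g : D' ⟶ D) : homFun D ⟶ homFun D' :=
  conjugateEquiv (adj D) (adj D') (tensorRightMap g)

lemma pre_app {D' D : X.Modules} (g : D' ⟶ D) (Q : X.Modules) :
    (pre g).app Q = curry (Groth.Agent.Helper13.Tensor.map (𝟙 (homSh D Q)) g ≫ ev D Q) := by
  unfold pre
  rw [conjugateEquiv_apply_app, ← Functor.map_comp, ← Adjunction.homEquiv_unit]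
  have h1 : (tensorRightMap g).app ((homFun D).obj Q) ≫ (adj D).counit.app Q =
      Groth.Agent.Helper13.Tensor.map (𝟙 (homSh D Q)) g ≫ ev D Q := by
    rw [adj_counit_app]
    rfl
  rw [h1]
  exact adj_homEquiv D' _ _ _

/-- the effect of precomposition on sections -/
lemma evalSec_pre {D' D : X.Modules} (g : D' ⟶ D) (Q : X.Modules) {U : X.Opens}
    (h : Γ(homSh D Q, U)) (m : Γ(D', U)) :
    evalSec (((pre g).app Q).app U h) m = evalSec h (g.app U m) := by
  rw [pre_app]
  have h1 := uncurry_app_tmul
    (curry (Groth.Agent.Helper13.Tensor.map (𝟙 (homSh D Q)) g ≫ ev D Q)) h m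
  refine h1.symm.trans ?_
  rw [uncurry_curry, Scheme.Modules.Hom.comp_app, ConcreteCategory.comp_apply,
    map_app_tmul, ev_app_tmul]
  rfl

open Groth.Agent.Helper24.RelExt

attribute [local instance] hasSheafHom'

lemma modSite_tensorBi_obj_map (B : X.Modules) {D' D : X.Modules} (g : D' ⟶ D) :
    ((ModSite.tensorBi X.sheaf).obj (B : ModSite.Mod X.sheaf)).map
      (show (D' : ModSite.Mod X.sheaf) ⟶ D from g) =
      Groth.Agent.Helper13.Tensor.map (𝟙 B) g := by
  unfold Groth.Agent.Helper13.Tensor.map Groth.Agent.Helper13.Tensor.preMap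
  erw [MonoidalCategory.id_tensorHom]
  rfl

lemma tensorRightIso_inv_app (D B : X.Modules) :
    (tensorRightIso D).inv.app B = 𝟙 (CohB1.tensorMod B D) := rfl

/-- the transported counit of the chosen sheaf-Hom adjunction -/
lemma map_sheafHomIso_counit (D Q : X.Modules) :
    (tensorRight D).map ((sheafHomIso D).hom.app Q) ≫ (adj D).counit.app Q =
      (ModSite.sheafHomAdj (O := X.sheaf) D).counit.app Q := by
  have h1 := Adjunction.rightAdjointUniq_hom_app_counit
    ((ModSite.sheafHomAdj (O := X.sheaf) D).ofNatIsoLeft (tensorRightIso D)) (adj D) Q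
  refine h1.trans ?_
  rw [Adjunction.ofNatIsoLeft_counit, NatTrans.comp_app, Functor.whiskerLeft_app,
    tensorRightIso_inv_app]
  exact Category.id_comp ((ModSite.sheafHomAdj (O := X.sheaf) D).counit.app Q)

/-- the mate equation for the chosen sheaf Hom -/
lemma map_SHapp_counit {D' D : X.Modules} (g : D' ⟶ D) (Q : X.Modules) :
    (tensorRight D').map (SHapp g Q) ≫ (ModSite.sheafHomAdj (O := X.sheaf) D').counit.app Q =
      (tensorRightMap g).app ((SH D).obj Q) ≫
        (ModSite.sheafHomAdj (O := X.sheaf) D).counit.app Q := by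
  have h := conjugateEquiv_counit (ModSite.sheafHomAdj (O := X.sheaf) D)
    (ModSite.sheafHomAdj (O := X.sheaf) D')
    ((ModSite.tensorBi X.sheaf).flip.map (show (D' : ModSite.Mod X.sheaf) ⟶ D from g)) Q
  have e1 : ((ModSite.tensorBi X.sheaf).flip.obj (D' : ModSite.Mod X.sheaf)).map
      (SHapp g Q) = (tensorRight D').map (SHapp g Q) :=
    modSite_tensorBi_map_app D' (SHapp g Q)
  have e2 : ((ModSite.tensorBi X.sheaf).flip.map
      (show (D' : ModSite.Mod X.sheaf) ⟶ D from g)).app ((SH D).obj Q) =
      (tensorRightMap g).app ((SH D).obj Q) :=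
    modSite_tensorBi_obj_map ((SH D).obj Q) g
  rw [← e1, ← e2]
  exact h

/-- the chosen sheaf Hom and the concrete one have the same contravariant functoriality -/
theorem SHapp_sheafHomIso {D' D : X.Modules} (g : D' ⟶ D) (Q : X.Modules) :
    SHapp g Q ≫ (sheafHomIso D').hom.app Q = (sheafHomIso D).hom.app Q ≫ (pre g).app Q := by
  apply ((adj D').homEquiv _ _).symm.injective
  rw [Adjunction.homEquiv_counit, Adjunction.homEquiv_counit]
  have hL : (tensorRight D').map (SHapp g Q ≫ (sheafHomIso D').hom.app Q) ≫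
      (adj D').counit.app Q = (tensorRightMap g).app ((SH D).obj Q) ≫
        (ModSite.sheafHomAdj (O := X.sheaf) D).counit.app Q := by
    have h0 : (tensorRight D').map (SHapp g Q ≫ (sheafHomIso D').hom.app Q) =
        (tensorRight D').map (SHapp g Q) ≫ (tensorRight D').map ((sheafHomIso D').hom.app Q) :=
      (tensorRight D').map_comp _ _
    rw [h0, Category.assoc]
    refine (congrArg (fun t => (tensorRight D').map (SHapp g Q) ≫ t)
      (map_sheafHomIso_counit D' Q)).trans ?_
    exact map_SHapp_counit g Q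
  have hR : (tensorRight D').map ((sheafHomIso D).hom.app Q ≫ (pre g).app Q) ≫
      (adj D').counit.app Q = (tensorRightMap g).app ((SH D).obj Q) ≫
        (ModSite.sheafHomAdj (O := X.sheaf) D).counit.app Q := by
    have h0 : (tensorRight D').map ((sheafHomIso D).hom.app Q ≫ (pre g).app Q) =
        (tensorRight D').map ((sheafHomIso D).hom.app Q) ≫ (tensorRight D').map ((pre g).app Q) :=
      (tensorRight D').map_comp _ _
    have h2 : (tensorRight D').map ((pre g).app Q) ≫ (adj D').counit.app Q =
        (tensorRightMap g).app ((homFun D).obj Q) ≫ (adj D).counit.app Q :=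
      conjugateEquiv_counit (adj D) (adj D') (tensorRightMap g) Q
    have h3 : (tensorRight D').map ((sheafHomIso D).hom.app Q) ≫
        (tensorRightMap g).app ((homFun D).obj Q) =
        (tensorRightMap g).app ((SH D).obj Q) ≫ (tensorRight D).map ((sheafHomIso D).hom.app Q) :=
      (tensorRightMap g).naturality ((sheafHomIso D).hom.app Q)
    rw [h0, Category.assoc, h2, ← Category.assoc, h3]
    refine (Category.assoc _ _ _).trans ?_
    exact congrArg (fun t => (tensorRightMap g).app ((SH D).obj Q) ≫ t)
      (map_sheafHomIso_counit D Q)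
  exact hL.trans hR.symm

end Groth.Agent.Helper24.AffExt
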