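import Mathlib
import Groth.Agent.Lib.Helper24.CohExt2

/-!
# Coherence of the Ext sheaves of coherent modules on a Noetherian scheme, II (helper24)
-/

set_option autoImplicit false
set_option maxHeartbeats 400000
set_option linter.style.haveILetI false
universe u
open CategoryTheory CategoryTheory.Limits AlgebraicGeometry Opposite TopologicalSpace

namespace Groth.Agent.Helper24.CohExt

open Groth.Agent.Helper24.RelExt
open Groth.Agent.Helper13.QCoh Groth.Agent.Helper13.FinType Groth.Agent.Helper13.LocFree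

variable {Y : Scheme.{u}}

attribute [local instance] hasSheafHom'

/-- `ℋom(L, G)` is coherent for coherent `L`, `G` on a locally Noetherian scheme -/
theorem isCoh_SH [IsLocallyNoetherian Y] (L G : Y.Modules) (hL : Coh.IsCoh L)
    (hG : Coh.IsCoh G) : Coh.IsCoh ((SH L).obj G) :=
  isCoh_of_iso ((Groth.Agent.Helper29.SHomA.sheafHomIso L).app G).symm
    (Groth.Agent.Lead.HomSh.isCoh_homSh hL hG)

/-- the Ext sheaves of coherent modules on an affine locally Noetherian scheme are coherent -/
theorem isCoh_rightDerived_SH_of_isAffine [IsAffine Y] [IsLocallyNoetherian Y]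
    (F G : Y.Modules) (hF : Coh.IsCoh F) (hG : Coh.IsCoh G) (i : ℕ) :
    Coh.IsCoh (((SH F).rightDerived i).obj G) := by
  obtain ⟨R, hR⟩ := exists_resData_free F hF
  have hsq : ∀ j, SHapp (R.dx j) G ≫ SHapp (R.dx (j + 1)) G = 0 := by
    intro j
    rw [← SHapp_comp, R.hd j, SHapp_zero]
  let C : CochainComplex Y.Modules ℕ :=
    CochainComplex.of (fun j => (SH (R.Lx j)).obj G) (fun j => SHapp (R.dx j) G) hsq
  have hCX : ∀ j, Coh.IsCoh (C.X j) := fun j =>
    isCoh_SH (R.Lx j) G (isCoh_of_isFinLocFree _ (hR j)) hG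
  obtain ⟨e⟩ := ContraFam.main (𝒯 := famSH Y) R G
    (fun j p => isZero_rightDerived_SH_of_isFinLocFree (R.Lx j) (hR j) p G) C
    (fun j => Iso.refl _)
    (fun j => by
      show C.d j (j + 1) ≫ 𝟙 _ = 𝟙 _ ≫ SHapp (R.dx j) G
      rw [Category.comp_id, Category.id_comp]
      exact CochainComplex.of_d (fun j => (SH (R.Lx j)).obj G) (fun j => SHapp (R.dx j) G) j) i
  exact isCoh_of_iso e (isCoh_homology (C.sc i) (hCX _) (hCX _) (hCX _))

/-- **Coherence of the Ext sheaves** of coherent modules on a locally Noetherian scheme -/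
theorem main10943 (X : Scheme.{u}) [IsLocallyNoetherian X] (F G : X.Modules)
    (hF : Coh.IsCoh F) (hG : Coh.IsCoh G)
    [ModSite.HasSheafHom (O := X.sheaf) F] [HasInjectiveResolutions (ModSite.Mod X.sheaf)]
    (i : ℕ) : Coh.IsCoh ((ModSite.extSh (O := X.sheaf) F i).obj G) := by
  apply isCoh_of_local
  intro x
  obtain ⟨_, ⟨V₀, hV, rfl⟩, hxV, -⟩ :=
    X.isBasis_affineOpens.exists_subset_of_mem_open (Set.mem_univ x) isOpen_univ
  let V : X.Opens := V₀
  refine ⟨V, hxV, ?_⟩
  haveI : IsAffine (↑V : Scheme.{u}) := hV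
  haveI : IsLocallyNoetherian (↑V : Scheme.{u}) := isLocallyNoetherian_of_isOpenImmersion V.ι
  haveI : HasInjectiveResolutions (ModSite.Mod (↑V : Scheme.{u}).sheaf) :=
    inferInstanceAs (HasInjectiveResolutions (↑V : Scheme.{u}).Modules)
  obtain ⟨e⟩ := Groth.Agent.Helper24.ResHom.main11328 V F G i
  exact isCoh_of_iso e.symm
    (isCoh_rightDerived_SH_of_isAffine (F.restrict V.ι) (G.restrict V.ι)
      (isCoh_restrict F hF V) (isCoh_restrict G hG V) i)

end Groth.Agent.Helper24.CohExt
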