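import Mathlib
import Groth.Agent.Lib.Helper24.AffExt3
import Groth.Agent.Lib.Helper24.AffExt2
import Groth.Agent.Lib.Helper24.CohExt3
import Groth.Agent.Lib.Helper13.AffSurj

/-!
# Sections over an affine scheme, as modules over a ring isomorphic to the global functions
(helper24)
-/

set_option autoImplicit false
set_option maxHeartbeats 400000
set_option linter.style.haveILetI false
universe u
open CategoryTheory CategoryTheory.Limits AlgebraicGeometry Opposite TopologicalSpace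

namespace Groth.Agent.Helper24.AffExt

variable {Y : Scheme.{u}} {R : Type u} [CommRing R] (ρ : R ≃+* Γ(Y, ⊤))

/-- the ring map `R ⟶ Γ(Y, ⊤)` -/
def ringMap : R →+* ↑(Y.ringCatSheaf.obj.obj (op ⊤)) := ρ.toRingHom

/-- global sections, as modules over `R ≃+* Γ(Y, ⊤)` -/
noncomputable def ΓR : Y.Modules ⥤ ModuleCat.{u} R :=
  SheafOfModules.evaluation Y.ringCatSheaf (op ⊤) ⋙ ModuleCat.restrictScalars (ringMap ρ)

instance : (ΓR ρ).Additive where
  map_add {M N f g} := by
    apply ModuleCat.hom_ext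
    apply LinearMap.ext
    intro x
    show (f + g).app ⊤ x = f.app ⊤ x + g.app ⊤ x
    rw [Scheme.Modules.Hom.add_app]
    rfl

lemma ΓR_map_apply {M N : Y.Modules} (φ : M ⟶ N) (x : Γ(M, ⊤)) :
    ((ΓR ρ).map φ).hom x = φ.app ⊤ x := rfl

/-- the `R`-action on global sections -/
lemma ΓR_smul (M : Y.Modules) (r : R) (x : Γ(M, ⊤)) :
    (r • (show ↑((ΓR ρ).obj M) from x) : ↑((ΓR ρ).obj M)) = (ρ r • x : Γ(M, ⊤)) := rfl

open Groth.Agent.Helper13.QCoh Groth.Agent.Helper13.QCohLocal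

lemma ΓR_mono {M N : Y.Modules} (φ : M ⟶ N) [Mono φ] : Mono ((ΓR ρ).map φ) := by
  rw [ModuleCat.mono_iff_injective]
  exact (mono_iff_app_injective φ).1 inferInstance ⊤

variable [IsAffine Y]

lemma ΓR_epi {M N : Y.Modules} [M.IsQuasicoherent] [N.IsQuasicoherent] (φ : M ⟶ N) [Epi φ] :
    Epi ((ΓR ρ).map φ) := by
  rw [ModuleCat.epi_iff_surjective]
  exact Groth.Agent.Helper13.AffSurj.surjective_app_of_epi φ (isAffineOpen_top Y)

/-- global sections are exact on quasi-coherent modules over an affine scheme -/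
theorem ΓR_exact (S : ShortComplex Y.Modules) (hS : S.Exact) [S.X₁.IsQuasicoherent]
    [S.X₂.IsQuasicoherent] [S.X₃.IsQuasicoherent] : (S.map (ΓR ρ)).Exact := by
  rw [ShortComplex.moduleCat_exact_iff]
  intro x₂ hx₂
  haveI : (kernel S.g).IsQuasicoherent := isQuasicoherent_kernel S.g
  have h1 : (ShortComplex.mk (kernel.ι S.g) S.g (kernel.condition _)).Exact :=
    ShortComplex.exact_of_f_is_kernel _ (kernelIsKernel S.g)
  obtain ⟨k, hk⟩ := app_exact_of_exact_of_mono _ h1 ⊤ x₂ hx₂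
  haveI : Epi (kernel.lift S.g S.f S.zero) := S.exact_iff_epi_kernel_lift.1 hS
  obtain ⟨x₁, hx₁⟩ := Groth.Agent.Helper13.AffSurj.surjective_app_of_epi
    (kernel.lift S.g S.f S.zero) (isAffineOpen_top Y) k
  refine ⟨x₁, ?_⟩
  have h2 : S.f = kernel.lift S.g S.f S.zero ≫ kernel.ι S.g := (kernel.lift_ι _ _ _).symm
  show S.f.app ⊤ x₁ = x₂
  rw [h2, Scheme.Modules.Hom.comp_app, ConcreteCategory.comp_apply, hx₁]
  exact hk

open Groth.Agent.Helper24.RelExt in
/-- global sections commute with the homology of complexes of quasi-coherent modules over an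
affine scheme -/
theorem nonempty_ΓR_homology_iso (S : ShortComplex Y.Modules) [S.X₁.IsQuasicoherent]
    [S.X₂.IsQuasicoherent] [S.X₃.IsQuasicoherent] :
    Nonempty ((S.map (ΓR ρ)).homology ≅ (ΓR ρ).obj S.homology) := by
  haveI : (kernel S.g).IsQuasicoherent := isQuasicoherent_kernel S.g
  haveI : S.cycles.IsQuasicoherent := isQuasicoherent_of_iso S.cyclesIsoKernel.symm
  let eH : S.homology ≅ cokernel S.toCycles :=
    IsColimit.coconePointUniqueUpToIso S.homologyIsCokernel (colimit.isColimit _)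
  haveI : (cokernel S.toCycles).IsQuasicoherent := isQuasicoherent_cokernel S.toCycles
  haveI : S.homology.IsQuasicoherent := isQuasicoherent_of_iso eH.symm
  have E1 : (ShortComplex.mk S.iCycles S.g S.iCycles_g).Exact :=
    ShortComplex.exact_of_f_is_kernel _ S.cyclesIsKernel
  have E2 : (ShortComplex.mk S.toCycles S.homologyπ S.toCycles_comp_homologyπ).Exact :=
    ShortComplex.exact_of_g_is_cokernel _ S.homologyIsCokernel
  have E1' := ΓR_exact ρ _ E1
  have E2' := ΓR_exact ρ _ E2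
  haveI : Mono ((ShortComplex.mk S.iCycles S.g S.iCycles_g).map (ΓR ρ)).f :=
    ΓR_mono ρ S.iCycles
  haveI : Epi ((ShortComplex.mk S.toCycles S.homologyπ S.toCycles_comp_homologyπ).map (ΓR ρ)).g :=
    ΓR_epi ρ S.homologyπ
  have hac : (ΓR ρ).map S.iCycles ≫ (ΓR ρ).map S.g = 0 := by
    rw [← Functor.map_comp, S.iCycles_g, Functor.map_zero]
  have hf : (ΓR ρ).map S.f = (ΓR ρ).map S.toCycles ≫ (ΓR ρ).map S.iCycles :=
    (congrArg (ΓR ρ).map S.toCycles_i).symm.trans ((ΓR ρ).map_comp _ _)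
  obtain ⟨e1⟩ := nonempty_homology_iso_cokernel (S.map (ΓR ρ)) (K := (ΓR ρ).obj S.cycles)
    (M := (S.map (ΓR ρ)).X₃) ((ΓR ρ).map S.iCycles)
    ((ΓR ρ).map S.toCycles) (S.map (ΓR ρ)).g (𝟙 (S.map (ΓR ρ)).X₃)
    hf (Category.comp_id _).symm hac E1'.fIsKernel
  let e2 : cokernel ((ΓR ρ).map S.toCycles) ≅ (ΓR ρ).obj S.homology :=
    IsColimit.coconePointUniqueUpToIso (colimit.isColimit _) E2'.gIsCokernel
  exact ⟨e1 ≪≫ e2⟩

end Groth.Agent.Helper24.AffExt
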