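import Mathlib
import Groth.Agent.Lib.Helper24.AffExt4

/-!
# Global sections of the sheaf Hom over an affine scheme, functorially (helper24)
-/

set_option autoImplicit false
set_option maxHeartbeats 400000
set_option linter.style.haveILetI false
universe u
open CategoryTheory CategoryTheory.Limits AlgebraicGeometry Opposite TopologicalSpace
open RefHull Groth.Agent.Lead.HomSh Groth.Agent.Helper13.HomShAff
open Groth.Agent.Helper29.SHomA

namespace Groth.Agent.Helper24.AffExt

open Groth.Agent.Helper24.RelExt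

variable {Y : Scheme.{u}} {R : Type u} [CommRing R] (ρ : R ≃+* Γ(Y, ⊤))

variable (L G : Y.Modules)

/-- evaluation of a global section of the sheaf Hom, as an `R`-linear map -/
noncomputable def evHom (h : Γ(homSh L G, ⊤)) : (ΓR ρ).obj L ⟶ (ΓR ρ).obj G :=
  ModuleCat.ofHom (X := ↑((ΓR ρ).obj L)) (Y := ↑((ΓR ρ).obj G))
    { toFun := fun x => evLin (F := L) (G := G) ⊤ h x
      map_add' := fun x y => (evLin (F := L) (G := G) ⊤ h).map_add x y
      map_smul' := fun r x => (evLin (F := L) (G := G) ⊤ h).map_smul (ρ r) x }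

lemma evHom_apply (h : Γ(homSh L G, ⊤)) (x : Γ(L, ⊤)) :
    (evHom ρ L G h).hom x = evalSec h x := rfl

/-- evaluation of global sections of the sheaf Hom, `R`-linearly -/
noncomputable def evHomLin :
    ↑((ΓR ρ).obj (homSh L G)) →ₗ[R] ((ΓR ρ).obj L ⟶ (ΓR ρ).obj G) where
  toFun h := evHom ρ L G h
  map_add' h h' := by
    apply ModuleCat.hom_ext
    apply LinearMap.ext
    intro x
    exact evalSec_add_left h h' x
  map_smul' r h := by
    apply ModuleCat.hom_ext
    apply LinearMap.ext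
    intro x
    exact evalSec_smul_left h (ρ r) x

lemma evHomLin_apply (h : Γ(homSh L G, ⊤)) : evHomLin ρ L G h = evHom ρ L G h := rfl

variable [IsAffine Y]

theorem evHomLin_bijective [L.IsQuasicoherent] : Function.Bijective (evHomLin ρ L G) := by
  have hT : IsAffineOpen (⊤ : Y.Opens) := isAffineOpen_top Y
  constructor
  · intro h h' hh
    apply evLin_injective (F := L) (G := G) hT
    ext m
    have h3 : evHom ρ L G h = evHom ρ L G h' := hh
    have h2 : (evHom ρ L G h).hom m = (evHom ρ L G h').hom m := by rw [h3]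
    exact h2
  · intro φ
    let ψ : Γ(L, ⊤) →ₗ[Γ(Y, ⊤)] Γ(G, ⊤) :=
      { toFun := fun x => φ.hom x
        map_add' := fun x y => φ.hom.map_add x y
        map_smul' := fun a x => by
          have h1 : a = ρ (ρ.symm a) := (ρ.apply_symm_apply a).symm
          rw [h1]
          exact φ.hom.map_smul (ρ.symm a) x }
    obtain ⟨h, hh⟩ := evLin_surjective (F := L) (G := G) hT ψ
    refine ⟨h, ?_⟩
    apply ModuleCat.hom_ext
    apply LinearMap.ext
    intro x
    exact congrArg (fun f : Γ(L, ⊤) →ₗ[Γ(Y, ⊤)] Γ(G, ⊤) => f x) hh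

/-- global sections of the sheaf Hom are the `R`-linear maps between the global sections -/
noncomputable def θ [L.IsQuasicoherent] :
    (ΓR ρ).obj (homSh L G) ≅ HomM R ((ΓR ρ).obj G) ((ΓR ρ).obj L) :=
  LinearEquiv.toModuleIso (X₁ := (ΓR ρ).obj (homSh L G))
    (X₂ := HomM R ((ΓR ρ).obj G) ((ΓR ρ).obj L))
    (LinearEquiv.ofBijective (evHomLin ρ L G) (evHomLin_bijective ρ L G))

lemma θ_hom_apply [L.IsQuasicoherent] (h : Γ(homSh L G, ⊤)) :
    (θ ρ L G).hom.hom h = evHom ρ L G h := rfl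

/-- naturality of `θ` in the first variable -/
theorem θ_natural {L' L : Y.Modules} [L'.IsQuasicoherent] [L.IsQuasicoherent] (u : L' ⟶ L)
    (G : Y.Modules) :
    (ΓR ρ).map ((pre u).app G) ≫ (θ ρ L' G).hom =
      (θ ρ L G).hom ≫ preM R ((ΓR ρ).obj G) ((ΓR ρ).map u) := by
  apply ModuleCat.hom_ext
  apply LinearMap.ext
  intro h
  show evHom ρ L' G (((pre u).app G).app ⊤ h) = (ΓR ρ).map u ≫ evHom ρ L G h
  apply ModuleCat.hom_ext
  apply LinearMap.ext
  intro m
  exact evalSec_pre u G h m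

attribute [local instance] hasSheafHom'

/-- global sections of the chosen sheaf Hom are the `R`-linear maps between the global sections -/
noncomputable def Θ [L.IsQuasicoherent] :
    (ΓR ρ).obj ((SH L).obj G) ≅ HomM R ((ΓR ρ).obj G) ((ΓR ρ).obj L) :=
  (ΓR ρ).mapIso ((sheafHomIso L).app G) ≪≫ θ ρ L G

/-- naturality of `Θ` in the first variable -/
theorem Θ_natural {L' L : Y.Modules} [L'.IsQuasicoherent] [L.IsQuasicoherent] (u : L' ⟶ L)
    (G : Y.Modules) :
    (ΓR ρ).map (SHapp u G) ≫ (Θ ρ L' G).hom =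
      (Θ ρ L G).hom ≫ preM R ((ΓR ρ).obj G) ((ΓR ρ).map u) := by
  have h1 : (ΓR ρ).map (SHapp u G) ≫ (ΓR ρ).map ((sheafHomIso L').hom.app G) =
      (ΓR ρ).map ((sheafHomIso L).hom.app G) ≫ (ΓR ρ).map ((pre u).app G) := by
    rw [← Functor.map_comp, ← Functor.map_comp, SHapp_sheafHomIso]
    rfl
  show (ΓR ρ).map (SHapp u G) ≫ ((ΓR ρ).map ((sheafHomIso L').hom.app G) ≫ (θ ρ L' G).hom) =
    ((ΓR ρ).map ((sheafHomIso L).hom.app G) ≫ (θ ρ L G).hom) ≫ _
  rw [← Category.assoc, h1]
  refine (Category.assoc _ _ _).trans ?_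
  refine Eq.trans ?_ (Category.assoc _ _ _).symm
  exact congrArg (fun t => (ΓR ρ).map ((sheafHomIso L).hom.app G) ≫ t) (θ_natural ρ u G)

end Groth.Agent.Helper24.AffExt
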