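import Mathlib
import Groth.Agent.Lib.Helper24.AffExt5

/-!
# Sections of the Ext sheaves over an affine scheme (helper24)
-/

set_option autoImplicit false
set_option maxHeartbeats 400000
set_option linter.style.haveILetI false
universe u
open CategoryTheory CategoryTheory.Limits AlgebraicGeometry Opposite TopologicalSpace

namespace Groth.Agent.Helper24.AffExt

open Groth.Agent.Helper24.RelExt Groth.Agent.Helper24.CohExt
open Groth.Agent.Helper13.QCoh Groth.Agent.Helper13.FinType Groth.Agent.Helper13.LocFree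

variable {Y : Scheme.{u}} {R : Type u} [CommRing R] (ρ : R ≃+* Γ(Y, ⊤))

/-- `Γ(O_Y) ≅ R` as `R`-modules -/
noncomputable def unitEquiv : R ≃ₗ[R] ↑((ΓR ρ).obj (Coh.structureModule Y)) where
  toFun r := (show Γ(Coh.structureModule Y, ⊤) from ρ r)
  invFun x := ρ.symm (show Γ(Y, ⊤) from x)
  map_add' a b := ρ.map_add a b
  map_smul' r a := ρ.map_mul r a
  left_inv a := ρ.symm_apply_apply a
  right_inv x := ρ.apply_symm_apply _

lemma projective_ΓR_unit : Projective ((ΓR ρ).obj (Coh.structureModule Y)) := by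
  have h1 : Module.Projective R ↑((ΓR ρ).obj (Coh.structureModule Y)) :=
    Module.Projective.of_equiv (unitEquiv ρ)
  exact ((ΓR ρ).obj (Coh.structureModule Y)).projective_of_categoryTheory_projective

/-- a coproduct of projective objects is projective (any index universe) -/
lemma projective_sigma {C : Type*} [Category C] {ι : Type*} (g : ι → C) [HasCoproduct g]
    (h : ∀ b, Projective (g b)) : Projective (∐ g) where
  factors f e _ := ⟨Sigma.desc fun b => Projective.factorThru (Sigma.ι g b ≫ f) e, by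
    apply Sigma.hom_ext
    intro b
    simp⟩

lemma projective_ΓR_freeMod (n : ℕ) : Projective ((ΓR ρ).obj (FlatMod.freeMod Y n)) := by
  haveI : PreservesColimitsOfShape (Discrete (Fin n)) (ΓR ρ) :=
    PreservesFiniteCoproducts.preserves n
  let e := PreservesCoproduct.iso (ΓR ρ) (fun _ : Fin n => Coh.structureModule Y)
  exact Projective.of_iso e.symm (projective_sigma _ (fun _ => projective_ΓR_unit ρ))

variable [IsAffine Y]

/-- the class of resolution objects: finite locally free with projective global sections -/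
def IsFreeLike (L : Y.Modules) : Prop :=
  FlatMod.IsFinLocFree L ∧ Projective ((ΓR ρ).obj L)

/-- coherent modules on an affine scheme are quotients of finite free modules -/
theorem exists_epi_freeLike (M : Y.Modules) (hM : Coh.IsCoh M) :
    ∃ (L : Y.Modules) (π : L ⟶ M), IsFreeLike ρ L ∧ Epi π := by
  haveI := hM.1
  haveI := hM.2
  haveI : Module.Finite Γ(Y, ⊤) Γ(M, ⊤) :=
    finite_sections_of_isFiniteType M (isAffineOpen_top Y)
  obtain ⟨n, s, hs⟩ := Module.Finite.exists_fin (R := Γ(Y, ⊤)) (M := Γ(M, ⊤))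
  refine ⟨FlatMod.freeMod Y n, descSec M s,
    ⟨isFinLocFree_freeMod n, projective_ΓR_freeMod ρ n⟩, ?_⟩
  rw [Groth.Agent.Helper13.StalkBasis.epi_descSec_iff]
  intro y
  exact Groth.Agent.Helper13.StalkBasis.comb_surjective_of_span M s y trivial
    (genOn_of_span_eq_top M (isAffineOpen_top Y) s hs y trivial)

/-- coherent modules on an affine locally Noetherian scheme have resolutions by finite free
modules -/
theorem exists_resData_freeLike [IsLocallyNoetherian Y] (F : Y.Modules)
    (hF : Coh.IsCoh F) : ∃ Res : ResData F, ∀ j, IsFreeLike ρ (Res.Lx j) :=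
  exists_resData (P := Coh.IsCoh) (Q := IsFreeLike ρ) (fun L h => isCoh_of_isFinLocFree L h.1)
    (exists_epi_freeLike ρ) (fun f hM hN => isCoh_kernel hM hN f) F hF

/-- the image under global sections of a resolution by quasi-coherent modules -/
noncomputable def resΓ {F : Y.Modules} (Res : ResData F) [F.IsQuasicoherent]
    (hq : ∀ j, (Res.Lx j).IsQuasicoherent) : ResData ((ΓR ρ).obj F) where
  Lx j := (ΓR ρ).obj (Res.Lx j)
  dx j := (ΓR ρ).map (Res.dx j)
  π := (ΓR ρ).map Res.π
  epi := by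
    haveI := hq 0
    haveI := Res.epi
    exact ΓR_epi ρ Res.π
  hπ := by rw [← Functor.map_comp, Res.hπ, Functor.map_zero]
  hex0 := by
    haveI := hq 0
    haveI := hq 1
    exact ΓR_exact ρ (ShortComplex.mk (Res.dx 0) Res.π Res.hπ) Res.hex0
  hd j := by rw [← Functor.map_comp, Res.hd, Functor.map_zero]
  hex j := by
    haveI := hq j
    haveI := hq (j + 1)
    haveI := hq (j + 1 + 1)
    exact ΓR_exact ρ (ShortComplex.mk (Res.dx (j + 1)) (Res.dx j) (Res.hd j)) (Res.hex j)

attribute [local instance] hasSheafHom'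

/-- `ℋom(L, G)` is quasi-coherent for `L` finite locally free and `G` quasi-coherent -/
theorem isQuasicoherent_SH (L G : Y.Modules) (hL : FlatMod.IsFinLocFree L) [G.IsQuasicoherent] :
    ((SH L).obj G).IsQuasicoherent := by
  haveI : L.IsQuasicoherent :=
    Groth.Agent.Helper13.ResFinLocFree.isQuasicoherent_of_isFinLocFree L hL
  haveI : SheafOfModules.IsFinitePresentation (R := Y.ringCatSheaf) L :=
    isFinitePresentation_of_isFinLocFree L hL
  haveI : ((Groth.Agent.Helper29.SHomA.homFun L).obj G).IsQuasicoherent :=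
    (Groth.Agent.Lead.HomSh.isQuasicoherent_homSh : (RefHull.homSh L G).IsQuasicoherent)
  exact Groth.Agent.Helper13.QCohLocal.isQuasicoherent_of_iso
    ((Groth.Agent.Helper29.SHomA.sheafHomIso L).app G).symm

/-- **sections of the Ext sheaves over an affine scheme**: for `F` coherent and `G`
quasi-coherent on an affine locally Noetherian scheme, `Γ(ℰxt^i(F, G)) ≅ Ext^i_R(Γ F, Γ G)` -/
theorem main_affine [IsLocallyNoetherian Y] (F G : Y.Modules) (hF : Coh.IsCoh F)
    [G.IsQuasicoherent] (i : ℕ) :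
    Nonempty ((ΓR ρ).obj (((SH F).rightDerived i).obj G) ≅
      ExtM R ((ΓR ρ).obj G) i ((ΓR ρ).obj F)) := by
  obtain ⟨Res, hRes⟩ := exists_resData_freeLike ρ F hF
  haveI hq : ∀ j, (Res.Lx j).IsQuasicoherent :=
    fun j => (isCoh_of_isFinLocFree _ (hRes j).1).1
  haveI := hF.1
  haveI hqS : ∀ j, ((SH (Res.Lx j)).obj G).IsQuasicoherent :=
    fun j => isQuasicoherent_SH (Res.Lx j) G (hRes j).1
  have acyc : ∀ j p, IsZero (((SH (Res.Lx j)).rightDerived (p + 1)).obj G) :=
    fun j p => isZero_rightDerived_SH_of_isFinLocFree (Res.Lx j) (hRes j).1 p G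
  have hP : ∀ j, Projective ((resΓ ρ Res hq).Lx j) := fun j => (hRes j).2
  cases i with
  | zero =>
    obtain ⟨e0⟩ := (famSH Y).homology_zero G Res
    obtain ⟨e1⟩ := nonempty_ΓR_homology_iso ρ
      (ShortComplex.mk (0 : (SH (Res.Lx 0)).obj G ⟶ (SH (Res.Lx 0)).obj G)
        (SHapp (Res.dx 0) G) zero_comp)
    let φ : (ShortComplex.mk (0 : (SH (Res.Lx 0)).obj G ⟶ (SH (Res.Lx 0)).obj G)
        (SHapp (Res.dx 0) G) zero_comp).map (ΓR ρ) ≅
        ShortComplex.mk (0 : HomM R ((ΓR ρ).obj G) ((resΓ ρ Res hq).Lx 0) ⟶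
          HomM R ((ΓR ρ).obj G) ((resΓ ρ Res hq).Lx 0))
          (preM R ((ΓR ρ).obj G) ((resΓ ρ Res hq).dx 0)) zero_comp :=
      ShortComplex.isoMk (Θ ρ (Res.Lx 0) G) (Θ ρ (Res.Lx 0) G) (Θ ρ (Res.Lx 1) G)
        (by
          show _ ≫ 0 = (ΓR ρ).map 0 ≫ _
          rw [Functor.map_zero, zero_comp, comp_zero])
        (Θ_natural ρ (Res.dx 0) G).symm
    obtain ⟨e2⟩ := nonempty_homology_iso_ext_zero (N := (ΓR ρ).obj G) (resΓ ρ Res hq)
    exact ⟨(ΓR ρ).mapIso e0.symm ≪≫ e1.symm ≪≫ ShortComplex.homologyMapIso φ ≪≫ e2⟩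
  | succ m =>
    obtain ⟨e0⟩ := (famSH Y).homology_succ G m Res acyc
    obtain ⟨e1⟩ := nonempty_ΓR_homology_iso ρ
      (ShortComplex.mk (SHapp (Res.dx m) G) (SHapp (Res.dx (m + 1)) G)
        ((famSH Y).w _ _ (Res.hd m) G))
    let φ : (ShortComplex.mk (SHapp (Res.dx m) G) (SHapp (Res.dx (m + 1)) G)
        ((famSH Y).w _ _ (Res.hd m) G)).map (ΓR ρ) ≅
        ShortComplex.mk (preM R ((ΓR ρ).obj G) ((resΓ ρ Res hq).dx m))
          (preM R ((ΓR ρ).obj G) ((resΓ ρ Res hq).dx (m + 1)))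
          ((extFam R ((ΓR ρ).obj G)).w _ _ ((resΓ ρ Res hq).hd m)) :=
      ShortComplex.isoMk (Θ ρ (Res.Lx m) G) (Θ ρ (Res.Lx (m + 1)) G)
        (Θ ρ (Res.Lx (m + 1 + 1)) G)
        (Θ_natural ρ (Res.dx m) G).symm (Θ_natural ρ (Res.dx (m + 1)) G).symm
    obtain ⟨e2⟩ := nonempty_homology_iso_ext_succ (N := (ΓR ρ).obj G) (resΓ ρ Res hq) hP m
    exact ⟨(ΓR ρ).mapIso e0.symm ≪≫ e1.symm ≪≫ ShortComplex.homologyMapIso φ ≪≫ e2⟩

end Groth.Agent.Helper24.AffExt
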