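import Mathlib
import Groth.Agent.Lib.Helper24.AffExt6

/-!
# Invariance of `Ext` under isomorphisms; quasi-coherence of the Ext sheaves (helper24)
-/

set_option autoImplicit false
set_option linter.style.haveILetI false
universe u
open CategoryTheory CategoryTheory.Limits CategoryTheory.Abelian AlgebraicGeometry Opposite

namespace Groth.Agent.Helper24.AffExt

open Groth.Agent.Helper24.RelExt Groth.Agent.Helper24.CohExt
open Groth.Agent.Helper13.QCoh Groth.Agent.Helper13.QCohLocal

section Alg

variable {R : Type u} [CommRing R]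

/-- `Ext` is invariant under isomorphisms in both variables, `R`-linearly -/
noncomputable def extLinEquiv {M M' N N' : ModuleCat.{u} R} (eM : M ≅ M') (eN : N ≅ N') (i : ℕ) :
    Ext M N i ≃ₗ[R] Ext M' N' i where
  toFun x := (Ext.mk₀ eM.inv).comp (x.comp (Ext.mk₀ eN.hom) (add_zero i)) (zero_add i)
  invFun y := (Ext.mk₀ eM.hom).comp (y.comp (Ext.mk₀ eN.inv) (add_zero i)) (zero_add i)
  map_add' x y := by simp
  map_smul' r x := by simp
  left_inv x := by
    simp only [Ext.comp_assoc_of_third_deg_zero, Ext.mk₀_comp_mk₀, Iso.hom_inv_id, Ext.comp_mk₀_id]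
    rw [← Ext.comp_assoc_of_second_deg_zero, Ext.mk₀_comp_mk₀, Iso.hom_inv_id, Ext.mk₀_id_comp]
  right_inv y := by
    simp only [Ext.comp_assoc_of_third_deg_zero, Ext.mk₀_comp_mk₀, Iso.inv_hom_id, Ext.comp_mk₀_id]
    rw [← Ext.comp_assoc_of_second_deg_zero, Ext.mk₀_comp_mk₀, Iso.inv_hom_id, Ext.mk₀_id_comp]

/-- `Ext` modules of isomorphic pairs are isomorphic -/
noncomputable def extIso {M M' N N' : ModuleCat.{u} R} (eM : M ≅ M') (eN : N ≅ N') (i : ℕ) :
    ExtM R N i M ≅ ExtM R N' i M' :=
  (extLinEquiv eM eN i).toModuleIso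

end Alg

section Geo

variable {Y : Scheme.{u}}

/-- homology of a complex of quasi-coherent modules is quasi-coherent -/
theorem isQuasicoherent_homology (S : ShortComplex Y.Modules) [S.X₁.IsQuasicoherent]
    [S.X₂.IsQuasicoherent] [S.X₃.IsQuasicoherent] : S.homology.IsQuasicoherent := by
  haveI : (kernel S.g).IsQuasicoherent := isQuasicoherent_kernel S.g
  haveI : S.cycles.IsQuasicoherent := isQuasicoherent_of_iso S.cyclesIsoKernel.symm
  let eH : S.homology ≅ cokernel S.toCycles :=
    IsColimit.coconePointUniqueUpToIso S.homologyIsCokernel (colimit.isColimit _)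
  haveI : (cokernel S.toCycles).IsQuasicoherent := isQuasicoherent_cokernel S.toCycles
  exact isQuasicoherent_of_iso eH.symm

attribute [local instance] hasSheafHom'

/-- the Ext sheaves `ℰxt^i(F, G)` are quasi-coherent for `F` coherent and `G` quasi-coherent on an
affine locally Noetherian scheme -/
theorem isQuasicoherent_rightDerived_SH [IsAffine Y] [IsLocallyNoetherian Y] (F G : Y.Modules)
    (hF : Coh.IsCoh F) [G.IsQuasicoherent] (i : ℕ) :
    (((SH F).rightDerived i).obj G).IsQuasicoherent := by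
  obtain ⟨Res, hRes⟩ := exists_resData_freeLike (RingEquiv.refl Γ(Y, ⊤)) F hF
  haveI hq : ∀ j, (Res.Lx j).IsQuasicoherent :=
    fun j => (isCoh_of_isFinLocFree _ (hRes j).1).1
  haveI := hF.1
  haveI hqS : ∀ j, ((SH (Res.Lx j)).obj G).IsQuasicoherent :=
    fun j => isQuasicoherent_SH (Res.Lx j) G (hRes j).1
  have acyc : ∀ j p, IsZero (((SH (Res.Lx j)).rightDerived (p + 1)).obj G) :=
    fun j p => isZero_rightDerived_SH_of_isFinLocFree (Res.Lx j) (hRes j).1 p G
  cases i with
  | zero =>
    obtain ⟨e0⟩ := (famSH Y).homology_zero G Res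
    have h := isQuasicoherent_homology
      (ShortComplex.mk (0 : (SH (Res.Lx 0)).obj G ⟶ (SH (Res.Lx 0)).obj G)
        (SHapp (Res.dx 0) G) zero_comp)
    exact isQuasicoherent_of_iso (hM := h) e0
  | succ m =>
    obtain ⟨e0⟩ := (famSH Y).homology_succ G m Res acyc
    have h := isQuasicoherent_homology
      (ShortComplex.mk (SHapp (Res.dx m) G) (SHapp (Res.dx (m + 1)) G)
        ((famSH Y).w _ _ (Res.hd m) G))
    exact isQuasicoherent_of_iso (hM := h) e0

end Geo

end Groth.Agent.Helper24.AffExt
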