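import Mathlib
import Groth.Agent.Lib.Lead.HomSh4
import Groth.Agent.Lib.Helper13.HomShAff
import Groth.Agent.Lib.Helper29.SHomA
import Groth.Agent.Lib.Helper21.NAM1

/-!
# The sheaf Hom of `~`-modules on an affine scheme (helper24)
-/

set_option autoImplicit false
set_option maxHeartbeats 400000
set_option linter.style.haveILetI false
universe u
open CategoryTheory CategoryTheory.Limits AlgebraicGeometry Opposite TopologicalSpace
open RefHull Groth.Agent.Lead.HomSh Groth.Agent.Helper13.HomShAff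

namespace Groth.Agent.Helper24.TildeHom

variable {R : CommRingCat.{u}}

/-- every global function on `Spec R` comes from `R` -/
lemma smul_top_eq (H : (Spec R).Modules) (a : Γ(Spec R, ⊤)) (x : Γ(H, ⊤)) :
    a • x = ((Scheme.ΓSpecIso R).hom a : R) • x := by
  rw [Scheme.Modules.smul_Spec_def]
  have h1 : ((Spec R).presheaf.map (⊤ : (Spec R).Opens).leTop.op)
      ((Scheme.ΓSpecIso R).inv ((Scheme.ΓSpecIso R).hom a)) = a := by
    have : (⊤ : (Spec R).Opens).leTop = 𝟙 _ := Subsingleton.elim _ _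
    rw [this, op_id, (Spec R).presheaf.map_id]
    exact Iso.hom_inv_id_apply (C := CommRingCat) (Scheme.ΓSpecIso R) a
  rw [h1]

variable (F G : (Spec R).Modules)

/-- an `R`-linear map between global sections is linear over the global functions -/
noncomputable def upLin (φ : Γ(F, ⊤) →ₗ[R] Γ(G, ⊤)) :
    Γ(F, ⊤) →ₗ[Γ(Spec R, ⊤)] Γ(G, ⊤) where
  toFun := φ
  map_add' := φ.map_add
  map_smul' a x := by
    rw [smul_top_eq F a x, φ.map_smul, RingHom.id_apply, smul_top_eq G a (φ x)]

/-- evaluation of global sections of the sheaf Hom, as `R`-linear maps -/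
noncomputable def evR : Γ(homSh F G, ⊤) →ₗ[R] (Γ(F, ⊤) →ₗ[R] Γ(G, ⊤)) where
  toFun h := (evLin (F := F) (G := G) ⊤ h).restrictScalars R
  map_add' h h' := by
    ext m
    simp
  map_smul' r h := by
    ext m
    show evLin (F := F) (G := G) ⊤ (r • h) m = r • evLin (F := F) (G := G) ⊤ h m
    rw [Scheme.Modules.smul_Spec_def, map_smul, LinearMap.smul_apply,
      ← Scheme.Modules.smul_Spec_def]

lemma evR_apply (h : Γ(homSh F G, ⊤)) (m : Γ(F, ⊤)) :
    evR F G h m = evLin (F := F) (G := G) ⊤ h m := rfl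

theorem evR_bijective [F.IsQuasicoherent] : Function.Bijective (evR F G) := by
  have hT : IsAffineOpen (⊤ : (Spec R).Opens) := isAffineOpen_top (Spec R)
  constructor
  · intro h h' hh
    apply evLin_injective (F := F) (G := G) hT
    ext m
    exact congr($hh m)
  · intro φ
    obtain ⟨h, hh⟩ := evLin_surjective (F := F) (G := G) hT (upLin F G φ)
    refine ⟨h, ?_⟩
    ext m
    rw [evR_apply, hh]
    rfl

/-- global sections of the sheaf Hom on `Spec R` are the `R`-linear maps between the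
global sections -/
noncomputable def evREquiv [F.IsQuasicoherent] :
    Γ(homSh F G, ⊤) ≃ₗ[R] (Γ(F, ⊤) →ₗ[R] Γ(G, ⊤)) :=
  LinearEquiv.ofBijective (evR F G) (evR_bijective F G)

variable (M N : ModuleCat.{u} R)

/-- global sections of `M^~` -/
noncomputable def topEquiv : M ≃ₗ[R] Γ(tilde M, ⊤) :=
  (tilde.isoTop M).toLinearEquiv

/-- global sections of `ℋom(M^~, N^~)` are `Hom_R(M, N)` -/
noncomputable def secEquiv :
    Γ(homSh (tilde M) (tilde N), ⊤) ≃ₗ[R] (M →ₗ[R] N) :=
  (evREquiv (tilde M) (tilde N)).trans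
    (LinearEquiv.arrowCongr (topEquiv M).symm (topEquiv N).symm)

/-- `ℋom(M^~, N^~) ≅ Hom_R(M, N)^~` for a finitely presented module `M` -/
theorem nonempty_homSh_iso [Module.FinitePresentation R M] :
    Nonempty (homSh (tilde M) (tilde N) ≅ tilde (ModuleCat.of R (M →ₗ[R] N))) := by
  obtain ⟨P, hP⟩ := Groth.Agent.Helper13.FinPres.exists_isFinite_presentation_tilde M
  haveI : SheafOfModules.IsFinitePresentation (R := (Spec R).ringCatSheaf) (tilde M) :=
    Groth.Agent.Helper21.NAM.isFinitePresentation_of_presentation _ P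
  haveI : (homSh (tilde M) (tilde N)).IsQuasicoherent := isQuasicoherent_homSh
  let H := homSh (tilde M) (tilde N)
  have h := Scheme.Modules.isIso_fromTildeΓ_of_isQuasicoherent (R := R) H
  let e1 : tilde ((modulesSpecToSheaf.obj H).presheaf.obj (.op ⊤)) ≅ H :=
    @asIso _ _ _ _ (Scheme.Modules.fromTildeΓ (R := R) H) h
  let e2 : (modulesSpecToSheaf.obj H).presheaf.obj (.op ⊤) ≅ ModuleCat.of R (M →ₗ[R] N) :=
    LinearEquiv.toModuleIso (X₁ := (modulesSpecToSheaf.obj H).presheaf.obj (.op ⊤))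
      (X₂ := ModuleCat.of R (M →ₗ[R] N)) (secEquiv M N)
  exact ⟨e1.symm ≪≫ (tilde.functor R).mapIso e2⟩

/-- **the sheaf Hom of `~`-modules**: `ℋom(M^~, N^~) ≅ Hom_R(M, N)^~` for the chosen right
adjoint of `M^~ ⊗ -` -/
theorem main9503 [Module.FinitePresentation R M] [DCoh.HasSheafHom (tilde M)] :
    Nonempty ((DCoh.sheafHom (tilde M)).obj (tilde N) ≅
      tilde (ModuleCat.of R (M →ₗ[R] N))) := by
  obtain ⟨e⟩ := nonempty_homSh_iso M N
  exact ⟨(Groth.Agent.Helper29.SHomA.dSheafHomIso (tilde M)).app (tilde N) ≪≫ e⟩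

end Groth.Agent.Helper24.TildeHom
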