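import Mathlib
import Groth.Agent.Lib.Helper24.AffExt7
import Groth.Agent.Lib.Helper24.TildeHom

/-!
# Ext sheaves of `~`-modules on a Noetherian affine scheme (helper24)
-/

set_option autoImplicit false
set_option maxHeartbeats 400000
set_option linter.style.haveILetI false
universe u
open CategoryTheory CategoryTheory.Limits CategoryTheory.Abelian AlgebraicGeometry Opposite

namespace Groth.Agent.Helper24.AffExt

open Groth.Agent.Helper24.RelExt Groth.Agent.Helper24.CohExt

variable (R : CommRingCat.{u})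

/-- the ring isomorphism `R ≃+* Γ(Spec R, ⊤)` -/
noncomputable def ρSpec : ↑R ≃+* Γ(Spec R, ⊤) :=
  (Scheme.ΓSpecIso R).symm.commRingCatIsoToRingEquiv

lemma ρSpec_apply (r : R) : ρSpec R r = (Scheme.ΓSpecIso R).inv r := rfl

variable {R}

/-- `(ΓR ρSpec).obj E` is `Γ(E, ⊤)` with Mathlib's `R`-module structure -/
noncomputable def ΓRSpecEquiv (E : (Spec R).Modules) :
    ↑((ΓR (ρSpec R)).obj E) ≃ₗ[R] Γ(E, ⊤) where
  toFun x := x
  invFun x := x
  map_add' _ _ := rfl
  map_smul' r x := by
    show (ρSpec R r • (show Γ(E, ⊤) from x) : Γ(E, ⊤)) = r • (show Γ(E, ⊤) from x)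
    rw [Groth.Agent.Helper24.TildeHom.smul_top_eq, ρSpec_apply]
    congr 1
    exact Iso.inv_hom_id_apply (C := CommRingCat) (Scheme.ΓSpecIso R) r
  left_inv _ := rfl
  right_inv _ := rfl

/-- the same, as an isomorphism with the module of global sections used by `fromTildeΓ` -/
noncomputable def ΓRSpecIso (E : (Spec R).Modules) :
    (ΓR (ρSpec R)).obj E ≅ (modulesSpecToSheaf.obj E).presheaf.obj (.op ⊤) :=
  LinearEquiv.toModuleIso (X₂ := (modulesSpecToSheaf.obj E).presheaf.obj (.op ⊤))
    (ΓRSpecEquiv E)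

/-- global sections of `M^~` -/
noncomputable def ΓRTildeIso (M : ModuleCat.{u} R) : (ΓR (ρSpec R)).obj (tilde M) ≅ M :=
  ΓRSpecIso (tilde M) ≪≫ (tilde.isoTop M).symm

attribute [local instance] hasSheafHom'

/-- **the Ext sheaves of `~`-modules on a Noetherian affine scheme**:
`ℰxt^i(M^~, N^~) ≅ Ext^i_A(M, N)^~` for `M` finite -/
theorem main_spec (A : Type u) [CommRing A] [IsNoetherianRing A] (M N : Type u)
    [AddCommGroup M] [Module A M] [Module.Finite A M] [AddCommGroup N] [Module A N] (i : ℕ) :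
    Nonempty (((SH (tilde (R := CommRingCat.of A) (ModuleCat.of A M))).rightDerived i).obj
        (tilde (R := CommRingCat.of A) (ModuleCat.of A N)) ≅
      tilde (R := CommRingCat.of A)
        (ModuleCat.of A (Ext (ModuleCat.of A M) (ModuleCat.of A N) i))) := by
  let R := CommRingCat.of A
  let Mt : (Spec R).Modules := tilde (R := R) (ModuleCat.of A M)
  let Nt : (Spec R).Modules := tilde (R := R) (ModuleCat.of A N)
  haveI : Module.FinitePresentation A M := Module.finitePresentation_of_finite A M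
  have hM : Coh.IsCoh Mt := Groth.Agent.Helper21.NAM.isCoh_tilde A M
  haveI : IsNoetherianRing R := ‹IsNoetherianRing A›
  haveI : IsLocallyNoetherian (Spec R) := inferInstance
  let E : (Spec R).Modules := ((SH Mt).rightDerived i).obj Nt
  haveI : E.IsQuasicoherent := isQuasicoherent_rightDerived_SH Mt Nt hM i
  have h := Scheme.Modules.isIso_fromTildeΓ_of_isQuasicoherent (R := R) E
  let e1 : tilde ((modulesSpecToSheaf.obj E).presheaf.obj (.op ⊤)) ≅ E :=
    @asIso _ _ _ _ (Scheme.Modules.fromTildeΓ (R := R) E) h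
  obtain ⟨e2⟩ := main_affine (ρSpec R) Mt Nt hM i
  let e3 := extIso (ΓRTildeIso (R := R) (ModuleCat.of A M))
    (ΓRTildeIso (R := R) (ModuleCat.of A N)) i
  exact ⟨e1.symm ≪≫ (tilde.functor R).mapIso ((ΓRSpecIso E).symm ≪≫ e2 ≪≫ e3)⟩

end Groth.Agent.Helper24.AffExt
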