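import Mathlib
import Groth.Agent.Lib.Helper24.AffExt7
import Groth.Agent.Lib.Helper13.InvGen
import Groth.Agent.Lib.Helper24.ResHom4

/-!
# Sections of the Ext sheaves over an affine open (helper24)
-/

set_option autoImplicit false
set_option maxHeartbeats 400000
set_option linter.style.haveILetI false
universe u
open CategoryTheory CategoryTheory.Limits CategoryTheory.Abelian AlgebraicGeometry Opposite

namespace Groth.Agent.Helper24.AffExt

open Groth.Agent.Helper13.Inv

variable {X : Scheme.{u}} (U : X.Opens)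

/-- the ring isomorphism `Γ(X, U) ≃+* Γ(↑U, ⊤)` -/
noncomputable def ρOpen : Γ(X, U) ≃+* Γ((↑U : Scheme.{u}), ⊤) :=
  (X.presheaf.mapIso (eqToIso (Scheme.Opens.ι_image_top U)).op ≪≫
    U.ι.appIso ⊤).commRingCatIsoToRingEquiv

lemma ρOpen_apply (r : Γ(X, U)) :
    ρOpen U r = (U.ι.appIso ⊤).hom
      (X.presheaf.map (eqToHom (Scheme.Opens.ι_image_top U)).op r) := rfl

variable (E : X.Modules)

/-- transport of sections along an equality of opens -/
noncomputable def castSec {V W : X.Opens} (h : V = W) : Γ(E, W) →+ Γ(E, V) :=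
  (E.presheaf.map (eqToHom h).op).hom

lemma castSec_castSec {V W : X.Opens} (h : V = W) (x : Γ(E, W)) :
    castSec E h.symm (castSec E h x) = x := by
  subst h
  show (E.presheaf.map (𝟙 _)) ((E.presheaf.map (𝟙 _)) x) = x
  rw [E.presheaf.map_id]
  rfl

lemma castSec_smul {V W : X.Opens} (h : V = W) (r : Γ(X, W)) (x : Γ(E, W)) :
    castSec E h (r • x) = (X.presheaf.map (eqToHom h).op r) • castSec E h x :=
  Scheme.Modules.map_smul E (eqToHom h) r x

/-- sections of `E` over `U` are the global sections of `E|_U`, linearly over `Γ(X, U)` -/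
noncomputable def secEquivOpen :
    ↑(E.val.obj (op U)) ≃ₗ[Γ(X, U)] ↑((ΓR (ρOpen U)).obj (E.restrict U.ι)) where
  toFun x := toRes U.ι E (castSec E (Scheme.Opens.ι_image_top U) x)
  invFun y := castSec E (Scheme.Opens.ι_image_top U).symm (show Γ(E, U.ι ''ᵁ ⊤) from y)
  map_add' x y := by
    exact (castSec E (Scheme.Opens.ι_image_top U)).map_add x y
  map_smul' r x := by
    show toRes U.ι E (castSec E (Scheme.Opens.ι_image_top U) (r • (show Γ(E, U) from x))) =
      (ρOpen U r • toRes U.ι E (castSec E (Scheme.Opens.ι_image_top U) x) :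
        Γ(E.restrict U.ι, ⊤))
    rw [castSec_smul, toRes_smul, ρOpen_apply]
  left_inv x := castSec_castSec E (Scheme.Opens.ι_image_top U) x
  right_inv y := castSec_castSec E (Scheme.Opens.ι_image_top U).symm
    (show Γ(E, U.ι ''ᵁ ⊤) from y)

open Groth.Agent.Helper24.RelExt Groth.Agent.Helper24.CohExt

attribute [local instance] hasSheafHom'

/-- **sections of the Ext sheaves over an affine open** of a locally Noetherian scheme -/
theorem main_open (X : Scheme.{u}) [IsLocallyNoetherian X] (U : X.Opens) (hU : IsAffineOpen U)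
    (F G : X.Modules) (hF : Coh.IsCoh F) (hG : Coh.IsCoh G)
    [ModSite.HasSheafHom (O := X.sheaf) F] [HasInjectiveResolutions (ModSite.Mod X.sheaf)]
    (i : ℕ) :
    Nonempty (((ModSite.extSh (O := X.sheaf) F i).obj G).val.obj (op U) ≃ₗ[Γ(X, U)]
      Ext (ModuleCat.of Γ(X, U) (F.val.obj (op U))) (ModuleCat.of Γ(X, U) (G.val.obj (op U))) i) := by
  haveI : IsAffine (↑U : Scheme.{u}) := hU
  haveI : IsLocallyNoetherian (↑U : Scheme.{u}) := inferInstance
  haveI : HasInjectiveResolutions (ModSite.Mod (↑U : Scheme.{u}).sheaf) :=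
    inferInstanceAs (HasInjectiveResolutions (↑U : Scheme.{u}).Modules)
  obtain ⟨e⟩ := Groth.Agent.Helper24.ResHom.main11328 U F G i
  have hFU := isCoh_restrict F hF U
  have hGU := isCoh_restrict G hG U
  haveI := hGU.1
  obtain ⟨e2⟩ := main_affine (ρOpen U) (F.restrict U.ι) (G.restrict U.ι) hFU i
  let E : X.Modules := (ModSite.extSh (O := X.sheaf) F i).obj G
  let l1 := secEquivOpen U E
  let l2 := ((ΓR (ρOpen U)).mapIso e).toLinearEquiv
  let l3 := e2.toLinearEquiv
  let iF : (ΓR (ρOpen U)).obj (F.restrict U.ι) ≅ ModuleCat.of Γ(X, U) (F.val.obj (op U)) :=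
    (LinearEquiv.toModuleIso (X₂ := (ΓR (ρOpen U)).obj (F.restrict U.ι))
      (secEquivOpen U F)).symm
  let iG : (ΓR (ρOpen U)).obj (G.restrict U.ι) ≅ ModuleCat.of Γ(X, U) (G.val.obj (op U)) :=
    (LinearEquiv.toModuleIso (X₂ := (ΓR (ρOpen U)).obj (G.restrict U.ι))
      (secEquivOpen U G)).symm
  let l4 := extLinEquiv iF iG i
  exact ⟨l1 ≪≫ₗ l2 ≪≫ₗ l3 ≪≫ₗ l4⟩

end Groth.Agent.Helper24.AffExt
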