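import Mathlib

/-!
Formal lemmas on `Hom_K → Hom_D` and exact functors (helper24).
-/

set_option autoImplicit false
set_option linter.unusedSectionVars false
universe w₁ w₂ w₃ v₁ v₂ v₃ u₁ u₂ u₃
open CategoryTheory CategoryTheory.Limits

namespace Groth.Agent.Helper24.AffHom

open DerivedCategory

section Transport
variable {A : Type u₁} [Category.{v₁} A] [Abelian A] [HasDerivedCategory.{w₁} A]
  {B : Type u₂} [Category.{v₂} B] [Abelian B] [HasDerivedCategory.{w₂} B]
  (Φ : A ⥤ B) [Φ.Additive] [PreservesFiniteLimits Φ] [PreservesFiniteColimits Φ]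

lemma map_Qh_map {K L : HomotopyCategory A (ComplexShape.up ℤ)} (φ : K ⟶ L) :
    Φ.mapDerivedCategory.map (Qh.map φ) =
      Φ.mapDerivedCategoryFactorsh.hom.app K ≫
        Qh.map ((Φ.mapHomotopyCategory (ComplexShape.up ℤ)).map φ) ≫
          Φ.mapDerivedCategoryFactorsh.inv.app L := by
  have h := Φ.mapDerivedCategoryFactorsh.hom.naturality φ
  have h' : Φ.mapDerivedCategory.map (Qh.map φ) ≫ Φ.mapDerivedCategoryFactorsh.hom.app L =
      Φ.mapDerivedCategoryFactorsh.hom.app K ≫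
        Qh.map ((Φ.mapHomotopyCategory (ComplexShape.up ℤ)).map φ) := h
  calc Φ.mapDerivedCategory.map (Qh.map φ)
      = (Φ.mapDerivedCategory.map (Qh.map φ) ≫ Φ.mapDerivedCategoryFactorsh.hom.app L) ≫
          Φ.mapDerivedCategoryFactorsh.inv.app L := by
        rw [Category.assoc, Iso.hom_inv_id_app]
        exact (Category.comp_id _).symm
    _ = _ := by rw [h', Category.assoc]

lemma conj_bijective {𝒞 : Type*} [Category 𝒞] {X X' Y Y' : 𝒞} (α : X' ≅ X) (β : Y ≅ Y') :
    Function.Bijective (fun f : X ⟶ Y => α.hom ≫ f ≫ β.hom) := by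
  constructor
  · intro f g h
    have h' : α.hom ≫ f ≫ β.hom = α.hom ≫ g ≫ β.hom := h
    rwa [cancel_epi, cancel_mono] at h'
  · intro g
    refine ⟨α.inv ≫ g ≫ β.inv, ?_⟩
    simp

/-- transport of bijectivity of `Qh.map` along an exact functor which is bijective on the relevant
morphisms of the homotopy and derived categories -/
theorem qh_bijective_iff (K L : HomotopyCategory A (ComplexShape.up ℤ))
    (hK : Function.Bijective (fun φ : K ⟶ L => (Φ.mapHomotopyCategory (ComplexShape.up ℤ)).map φ))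
    (hD : Function.Bijective (fun ψ : Qh.obj K ⟶ Qh.obj L => Φ.mapDerivedCategory.map ψ)) :
    Function.Bijective (fun φ : K ⟶ L => Qh.map φ) ↔
      Function.Bijective (fun φ : (Φ.mapHomotopyCategory (ComplexShape.up ℤ)).obj K ⟶
        (Φ.mapHomotopyCategory (ComplexShape.up ℤ)).obj L => Qh.map φ) := by
  have hc := conj_bijective (Φ.mapDerivedCategoryFactorsh.app K) (Φ.mapDerivedCategoryFactorsh.app L).symm
  have key : (fun ψ : Qh.obj K ⟶ Qh.obj L => Φ.mapDerivedCategory.map ψ) ∘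
      (fun φ : K ⟶ L => Qh.map φ) =
      (fun f => (Φ.mapDerivedCategoryFactorsh.app K).hom ≫ f ≫
        (Φ.mapDerivedCategoryFactorsh.app L).symm.hom) ∘
      (fun φ : (Φ.mapHomotopyCategory (ComplexShape.up ℤ)).obj K ⟶
        (Φ.mapHomotopyCategory (ComplexShape.up ℤ)).obj L => Qh.map φ) ∘
      (fun φ : K ⟶ L => (Φ.mapHomotopyCategory (ComplexShape.up ℤ)).map φ) := by
    funext φ
    exact map_Qh_map Φ φ
  constructor
  · intro ha
    have h1 := hD.comp ha
    rw [key] at h1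
    have h2 := (Function.Bijective.of_comp_iff' hc _).1 h1
    exact (Function.Bijective.of_comp_iff _ hK).1 h2
  · intro hd
    have h1 : Function.Bijective ((fun ψ : Qh.obj K ⟶ Qh.obj L => Φ.mapDerivedCategory.map ψ) ∘
        (fun φ : K ⟶ L => Qh.map φ)) := by
      rw [key]
      exact hc.comp (hd.comp hK)
    exact (Function.Bijective.of_comp_iff' hD _).1 h1

omit [HasDerivedCategory.{w₂} B] in
/-- bijectivity of `Qh.map` is invariant under isomorphisms in the homotopy category -/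
theorem qh_bijective_of_iso {K K' L L' : HomotopyCategory A (ComplexShape.up ℤ)} (α : K ≅ K')
    (β : L ≅ L') (h : Function.Bijective (fun φ : K ⟶ L => Qh.map φ)) :
    Function.Bijective (fun φ : K' ⟶ L' => Qh.map φ) := by
  have h1 := conj_bijective α β.symm (X := K') (Y := L')
  have h2 := conj_bijective (Qh.mapIso α.symm) (Qh.mapIso β) (X := Qh.obj K) (Y := Qh.obj L)
  have key : (fun φ : K' ⟶ L' => Qh.map φ) =
      (fun f => (Qh.mapIso α.symm).hom ≫ f ≫ (Qh.mapIso β).hom) ∘ (fun φ : K ⟶ L => Qh.map φ) ∘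
        (fun f : K' ⟶ L' => α.hom ≫ f ≫ β.symm.hom) := by
    funext φ
    simp only [Function.comp_apply, Functor.mapIso_hom, Iso.symm_hom, Functor.map_comp,
      Category.assoc]
    rw [← Functor.map_comp_assoc, ← Functor.map_comp_assoc]
    simp
  rw [key]
  exact h2.comp (h.comp h1)

end Transport

section Equiv
variable {C₁ : Type u₁} [Category.{v₁} C₁] [Abelian C₁] [HasDerivedCategory.{w₁} C₁]
  {C₂ : Type u₂} [Category.{v₂} C₂] [Abelian C₂] [HasDerivedCategory.{w₂} C₂]
  {C₃ : Type u₃} [Category.{v₃} C₃] [Abelian C₃] [HasDerivedCategory.{w₃} C₃]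
  (F : C₁ ⥤ C₂) (G : C₂ ⥤ C₃) (H : C₁ ⥤ C₃) [F.Additive] [G.Additive] [H.Additive]
  [PreservesFiniteLimits F] [PreservesFiniteColimits F]
  [PreservesFiniteLimits G] [PreservesFiniteColimits G]
  [PreservesFiniteLimits H] [PreservesFiniteColimits H]

/-- the composite of the induced functors lifts the induced functor of the composite -/
noncomputable def liftingComp (e : F ⋙ G ≅ H) :
    Q ⋙ (F.mapDerivedCategory ⋙ G.mapDerivedCategory) ≅
      H.mapHomologicalComplex (ComplexShape.up ℤ) ⋙ Q :=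
  (Functor.associator _ _ _).symm ≪≫
    Functor.isoWhiskerRight F.mapDerivedCategoryFactors G.mapDerivedCategory ≪≫
    Functor.associator _ _ _ ≪≫
    Functor.isoWhiskerLeft (F.mapHomologicalComplex (ComplexShape.up ℤ))
      G.mapDerivedCategoryFactors ≪≫
    (Functor.associator _ _ _).symm ≪≫
    Functor.isoWhiskerRight (Functor.mapHomologicalComplexCompIso e (ComplexShape.up ℤ)) Q

/-- composition of exact functors and induced functors on derived categories -/
noncomputable def mapDComp (e : F ⋙ G ≅ H) :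
    H.mapDerivedCategory ≅ F.mapDerivedCategory ⋙ G.mapDerivedCategory :=
  letI : Localization.Lifting Q (HomologicalComplex.quasiIso C₁ (ComplexShape.up ℤ))
      (H.mapHomologicalComplex (ComplexShape.up ℤ) ⋙ Q)
      (F.mapDerivedCategory ⋙ G.mapDerivedCategory) := ⟨liftingComp F G H e⟩
  Localization.liftNatIso Q (HomologicalComplex.quasiIso C₁ (ComplexShape.up ℤ))
    (H.mapHomologicalComplex (ComplexShape.up ℤ) ⋙ Q)
    (H.mapHomologicalComplex (ComplexShape.up ℤ) ⋙ Q)
    H.mapDerivedCategory (F.mapDerivedCategory ⋙ G.mapDerivedCategory) (Iso.refl _)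

/-- the identity functor induces the identity -/
noncomputable def mapDId : (𝟭 C₁).mapDerivedCategory ≅ 𝟭 (DerivedCategory C₁) :=
  letI : Localization.Lifting Q (HomologicalComplex.quasiIso C₁ (ComplexShape.up ℤ))
      ((𝟭 C₁).mapHomologicalComplex (ComplexShape.up ℤ) ⋙ Q) (𝟭 (DerivedCategory C₁)) :=
    ⟨Functor.rightUnitor _ ≪≫ (Functor.leftUnitor _).symm ≪≫
      Functor.isoWhiskerRight (Functor.mapHomologicalComplexIdIso C₁ (ComplexShape.up ℤ)).symm Q⟩
  Localization.liftNatIso Q (HomologicalComplex.quasiIso C₁ (ComplexShape.up ℤ))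
    ((𝟭 C₁).mapHomologicalComplex (ComplexShape.up ℤ) ⋙ Q)
    ((𝟭 C₁).mapHomologicalComplex (ComplexShape.up ℤ) ⋙ Q)
    (𝟭 C₁).mapDerivedCategory (𝟭 (DerivedCategory C₁)) (Iso.refl _)

end Equiv

section Equiv2
variable {C₁ : Type u₁} [Category.{v₁} C₁] [Abelian C₁] [HasDerivedCategory.{w₁} C₁]
  {C₂ : Type u₂} [Category.{v₂} C₂] [Abelian C₂] [HasDerivedCategory.{w₂} C₂]
  (Φ : C₁ ⥤ C₂) (Ψ : C₂ ⥤ C₁) [Φ.Additive] [Ψ.Additive]
  [PreservesFiniteLimits Φ] [PreservesFiniteColimits Φ]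
  [PreservesFiniteLimits Ψ] [PreservesFiniteColimits Ψ]

/-- an exact equivalence induces an equivalence of derived categories -/
theorem isEquivalence_mapDerivedCategory (e₁ : Φ ⋙ Ψ ≅ 𝟭 C₁) (e₂ : Ψ ⋙ Φ ≅ 𝟭 C₂) :
    Φ.mapDerivedCategory.IsEquivalence := by
  let η : 𝟭 (DerivedCategory C₁) ≅ Φ.mapDerivedCategory ⋙ Ψ.mapDerivedCategory :=
    (mapDId (C₁ := C₁)).symm ≪≫ mapDComp Φ Ψ (𝟭 C₁) e₁
  let ε : Ψ.mapDerivedCategory ⋙ Φ.mapDerivedCategory ≅ 𝟭 (DerivedCategory C₂) :=
    (mapDComp Ψ Φ (𝟭 C₂) e₂).symm ≪≫ mapDId (C₁ := C₂)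
  exact (CategoryTheory.Equivalence.mk Φ.mapDerivedCategory Ψ.mapDerivedCategory η ε).isEquivalence_functor

end Equiv2

end Groth.Agent.Helper24.AffHom
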