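import Groth.Agent.Lib.Helper24.RlimTrunc

/-!
# Derived limits of truncation towers: criteria

* `limOneIsZero_of_surjective_ge`, `isIso_of_locally_bijective`, `rlim_lift₀`
* `isRlimVia_truncTower_of_homology`, `tower_conditions`, `bijective_sections_of_injective`
-/

set_option autoImplicit false
universe w v u
open CategoryTheory CategoryTheory.Limits Opposite Pretriangulated DerivedCategory

namespace Groth.Agent.Helper24.RlimTrunc

section LimOne

theorem limOneIsZero_of_surjective_ge : ∀ (N : ℕ) (A : ℕ → Type u) [∀ n, AddCommGroup (A n)]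
    (t : ∀ n, A (n + 1) →+ A n), (∀ n, N ≤ n → Function.Surjective (t n)) →
    CohCx.LimOneIsZero A t
  | 0, A, _, t, h => by
    intro b
    choose s hs using fun n => h n (Nat.zero_le n)
    let a : ∀ n, A n := fun n => Nat.rec (motive := fun n => A n) 0 (fun n an => s n (an - b n)) n
    refine ⟨a, ?_⟩
    funext n
    change a n - t n (s n (a n - b n)) = b n
    rw [hs]
    abel
  | N + 1, A, _, t, h => by
    intro b
    obtain ⟨a', ha'⟩ := limOneIsZero_of_surjective_ge N (fun n => A (n + 1)) (fun n => t (n + 1))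
      (fun n hn => h (n + 1) (by omega)) (fun n => b (n + 1))
    let a : ∀ n, A n := fun n => Nat.casesOn (motive := fun n => A n) n (b 0 + t 0 (a' 0)) a'
    refine ⟨a, ?_⟩
    funext n
    cases n with
    | zero =>
      change b 0 + t 0 (a' 0) - t 0 (a' 0) = b 0
      abel
    | succ n => exact congrFun ha' n

end LimOne

end Groth.Agent.Helper24.RlimTrunc

namespace Groth.Agent.Helper24.RlimTrunc

section ShIso

variable {C : Type u} [SmallCategory C] {J : GrothendieckTopology C}

theorem isIso_of_locally_bijective {F G : Sheaf J AddCommGrpCat.{u}} (φ : F ⟶ G)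
    (h : ∀ U : C, ∃ (ι : Type u) (Y : ι → C) (f : ∀ i, Y i ⟶ U), Sieve.ofArrows Y f ∈ J U ∧
      ∀ i, Function.Bijective (φ.hom.app (op (Y i)))) : IsIso φ := by
  have hm : Mono φ := by
    have : Mono φ.hom := by
      refine @NatTrans.mono_of_mono_app _ _ _ _ _ _ φ.hom (fun W => ?_)
      rw [AddCommGrpCat.mono_iff_injective, injective_iff_map_eq_zero]
      intro s hs
      obtain ⟨ι, Y, f, hcov, hbij⟩ := h W.unop
      have hsep : Presheaf.IsSeparated J F.obj := Sheaf.isSeparated F
      refine hsep W.unop (Sieve.ofArrows Y f) hcov s 0 ?_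
      rintro V g ⟨Z, k, g', ⟨i⟩, rfl⟩
      have h1 : (ConcreteCategory.hom (F.obj.map (f i).op)) s = 0 := by
        apply (hbij i).1
        have hn := ConcreteCategory.congr_hom (φ.hom.naturality (f i).op) s
        simp only [ConcreteCategory.comp_apply] at hn
        refine hn.trans ?_
        have hs' : (ConcreteCategory.hom (φ.hom.app (op (unop W)))) s = 0 := hs
        rw [hs', map_zero, map_zero]
      rw [op_comp, Functor.map_comp, ConcreteCategory.comp_apply, ConcreteCategory.comp_apply, h1,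
        map_zero, map_zero, map_zero]
    exact Sheaf.Hom.mono_of_presheaf_mono _ _ φ
  have he : Epi φ := by
    rw [← Sheaf.isLocallySurjective_iff_epi' AddCommGrpCat.{u} φ]
    refine ⟨fun {U} s => ?_⟩
    obtain ⟨ι, Y, f, hcov, hbij⟩ := h U
    refine J.superset_covering ?_ hcov
    rintro V g ⟨Z, k, g', ⟨i⟩, rfl⟩
    obtain ⟨x, hx⟩ := (hbij i).2 ((G.obj.map (f i).op).hom s)
    refine ⟨(ConcreteCategory.hom (F.obj.map k.op)) x, ?_⟩
    have hn := ConcreteCategory.congr_hom (φ.hom.naturality k.op) x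
    simp only [ConcreteCategory.comp_apply] at hn
    refine hn.trans ?_
    rw [hx, op_comp, Functor.map_comp, ConcreteCategory.comp_apply]
  exact isIso_of_mono_of_epi φ

end ShIso

end Groth.Agent.Helper24.RlimTrunc

namespace Groth.Agent.Helper24.RlimTrunc

open Groth.Agent.Helper24.RlimSeq

section Lift

variable {T : Type*} [Category T] [Preadditive T] [HasZeroObject T] [HasShift T ℤ]
    [∀ n : ℤ, (shiftFunctor T n).Additive] [Pretriangulated T]
    {K : ℕ → T} {t : ∀ n, K (n + 1) ⟶ K n} [HasProduct K] {L : T} {a : ∀ n, L ⟶ K n}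

theorem rlim_lift₀ (hL : CohCx.IsRlimVia K t L a) (X : T) (x : ∀ n, X ⟶ K n)
    (hx : ∀ n, x (n + 1) ≫ t n = x n) : ∃ y : X ⟶ L, ∀ n, y ≫ a n = x n := by
  obtain ⟨c, hc⟩ := hL
  obtain ⟨y, hy⟩ := Triangle.coyoneda_exact₂ _ hc (Pi.lift x) (by
    apply Pi.hom_ext
    intro n
    change (Pi.lift x ≫ Pi.lift fun n => Pi.π K n - Pi.π K (n + 1) ≫ t n) ≫ Pi.π K n = 0 ≫ _
    rw [Category.assoc, Pi.lift_π, Preadditive.comp_sub, Pi.lift_π, ← Category.assoc, Pi.lift_π,
      hx, sub_self, zero_comp])
  refine ⟨y, fun n => ?_⟩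
  have hy' : Pi.lift x = y ≫ Pi.lift a := hy
  have := congrArg (fun φ => φ ≫ Pi.π K n) hy'
  simp only [Pi.lift_π, Category.assoc] at this
  exact this.symm

end Lift

section Tower

universe w'

variable {A : Type (u + 1)} [Category.{u} A] [Abelian A] [HasDerivedCategory.{w} A]
  [HasExt.{w'} A]

open DerivedCategory.TStructure

omit [HasExt.{w'} A] in
/-- general reduction: `E` is the derived limit of its truncation tower as soon as the comparison
map to any derived limit induces isomorphisms on cohomology objects -/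
theorem isRlimVia_truncTower_of_homology (E : DerivedCategory A) [HasProduct (CohCx.truncTower E)]
    (hkey : ∀ (L : DerivedCategory A) (a' : ∀ n, L ⟶ CohCx.truncTower E n),
      CohCx.IsRlimVia (CohCx.truncTower E) (CohCx.truncTowerMap E) L a' →
      ∀ ψ : E ⟶ L, (∀ n, ψ ≫ a' n = CohCx.toTruncTower E n) →
      ∀ m : ℤ, IsIso ((homologyFunctor A m).map ψ)) :
    CohCx.IsRlimVia (CohCx.truncTower E) (CohCx.truncTowerMap E) E (CohCx.toTruncTower E) := by
  obtain ⟨L, a', hL⟩ := exists_isRlimVia (CohCx.truncTower E) (CohCx.truncTowerMap E)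
  have hcomp : ∀ n, CohCx.toTruncTower E (n + 1) ≫ CohCx.truncTowerMap E n =
      CohCx.toTruncTower E n := fun n => t.π_natTransTruncGEOfLE_app _ _ _ E
  obtain ⟨ψ, hψ⟩ := rlim_lift₀ hL E (CohCx.toTruncTower E) hcomp
  have : IsIso ψ := (DerivedCategory.isIso_iff A ψ).2 (hkey L a' hL ψ hψ)
  exact isRlimVia_of_iso hL ψ _ hψ

/-- the two conditions of the injectivity criterion, from vanishing of `Ext` groups -/
theorem tower_conditions (E : DerivedCategory A) (Z : A) (p : ℤ → ℤ)
    (hv : ∀ (m' : ℤ) (k : ℕ), p m' < k →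
      Subsingleton (Abelian.Ext.{w'} Z ((homologyFunctor A (m' - k)).obj E) k))
    (m : ℤ) (nV : ℕ) (h0 : -m ≤ nV) (h1 : p (m - 1) < nV + m) (h2 : p m < nV + m + 1)
    (h3 : p (m + 1) < nV + m + 2) :
    CohCx.LimOneIsZero
      (fun n => (singleFunctor A 0).obj Z ⟶ (CohCx.truncTower E n)⟦m - 1⟧)
      (fun n => Preadditive.rightComp _ ((CohCx.truncTowerMap E n)⟦m - 1⟧')) ∧
    ∀ k : ℕ, Function.Injective
      (Preadditive.rightComp ((singleFunctor A 0).obj Z)
        ((CohCx.transition (CohCx.truncTower E) (CohCx.truncTowerMap E) nV k)⟦m⟧')) := by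
  have hbij : ∀ (n : ℕ), nV ≤ n → ∀ (j : ℤ), (j = m - 1 ∨ j = m) →
      Function.Bijective (fun f : (singleFunctor A 0).obj Z ⟶ (CohCx.truncTower E (n + 1))⟦j⟧ =>
        f ≫ (CohCx.truncTowerMap E n)⟦j⟧') := by
    intro n hn j hj
    have hk : 0 ≤ j + n + 1 := by rcases hj with rfl | rfl <;> omega
    obtain ⟨k, hk'⟩ := Int.eq_ofNat_of_zero_le hk
    have e1 : j - (k : ℤ) = -((n + 1 : ℕ) : ℤ) := by push_cast; omega
    have e2 : (j + 1) - ((k + 1 : ℕ) : ℤ) = -((n + 1 : ℕ) : ℤ) := by push_cast; omega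
    have v0 := hv j k (by rcases hj with rfl | rfl <;> omega)
    have v1 := hv (j + 1) (k + 1) (by
      rcases hj with rfl | rfl
      · have : m - 1 + 1 = m := by ring
        rw [this]; push_cast; omega
      · push_cast; omega)
    rw [e1] at v0
    rw [e2] at v1
    exact bijective_postcomp_tower E (-((n + 1 : ℕ) : ℤ)) (-(n : ℤ)) (by push_cast; omega) Z k j
      (by push_cast; omega) v0 v1
  constructor
  · refine limOneIsZero_of_surjective_ge nV _ _ (fun n hn => ?_)
    exact (hbij n hn (m - 1) (Or.inl rfl)).2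
  · intro k
    induction k with
    | zero =>
      intro f g hfg
      change f ≫ (𝟙 _)⟦m⟧' = g ≫ (𝟙 _)⟦m⟧' at hfg
      rwa [CategoryTheory.Functor.map_id, Category.comp_id, Category.comp_id] at hfg
    | succ k ih =>
      intro f g hfg
      change f ≫ (CohCx.truncTowerMap E (nV + k) ≫
        CohCx.transition (CohCx.truncTower E) (CohCx.truncTowerMap E) nV k)⟦m⟧' =
        g ≫ (CohCx.truncTowerMap E (nV + k) ≫
        CohCx.transition (CohCx.truncTower E) (CohCx.truncTowerMap E) nV k)⟦m⟧' at hfg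
      rw [Functor.map_comp, ← Category.assoc, ← Category.assoc] at hfg
      exact (hbij (nV + k) (by omega) m (Or.inr rfl)).1 (ih hfg)

end Tower

end Groth.Agent.Helper24.RlimTrunc

namespace Groth.Agent.Helper24.RlimTrunc

section Site

variable {C : Type u} [SmallCategory C] {J : GrothendieckTopology C}
  [HasDerivedCategory.{u} (Sheaf J AddCommGrpCat.{u})]

open DerivedCategory.TStructure

/-- sections of `H^m(E) ⟶ H^m(L)` are bijective once `H^m(L) ⟶ H^m(τ_{≥ -n} E)` is injective on
sections for some `n ≥ -m` -/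
theorem bijective_sections_of_injective (E L : DerivedCategory (Sheaf J AddCommGrpCat.{u}))
    (ψ : E ⟶ L) (n : ℕ) (a : L ⟶ CohCx.truncTower E n) (hψ : ψ ≫ a = CohCx.toTruncTower E n)
    (m : ℤ) (hn : -(n : ℤ) ≤ m) (V : C)
    (hinj : Function.Injective (((homologyFunctor _ m).map a).hom.app (op V))) :
    Function.Bijective (((homologyFunctor _ m).map ψ).hom.app (op V)) := by
  have hiso : IsIso ((homologyFunctor (Sheaf J AddCommGrpCat.{u}) m).map (CohCx.toTruncTower E n)) :=
    isIso_homologyMap_truncGEπ E (-(n : ℤ)) m hn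
  have hiso2 : IsIso (((homologyFunctor (Sheaf J AddCommGrpCat.{u}) m).map
      (CohCx.toTruncTower E n)).hom.app (op V)) := by
    have : IsIso ((sheafToPresheaf J AddCommGrpCat.{u}).map
      ((homologyFunctor (Sheaf J AddCommGrpCat.{u}) m).map (CohCx.toTruncTower E n))) :=
      Functor.map_isIso _ _
    exact NatIso.isIso_app_of_isIso ((sheafToPresheaf J AddCommGrpCat.{u}).map
      ((homologyFunctor (Sheaf J AddCommGrpCat.{u}) m).map (CohCx.toTruncTower E n))) (op V)
  have hbij := (ConcreteCategory.isIso_iff_bijective _).1 hiso2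
  have hcomp : ∀ x, ((homologyFunctor _ m).map a).hom.app (op V)
      (((homologyFunctor _ m).map ψ).hom.app (op V) x) =
      ((homologyFunctor _ m).map (CohCx.toTruncTower E n)).hom.app (op V) x := by
    intro x
    rw [← hψ, Functor.map_comp]
    rfl
  constructor
  · intro x y hxy
    apply hbij.1
    rw [← hcomp, ← hcomp, hxy]
  · intro y
    obtain ⟨x, hx⟩ := hbij.2 (((homologyFunctor _ m).map a).hom.app (op V) y)
    refine ⟨x, hinj ?_⟩
    rw [hcomp, hx]

end Site

end Groth.Agent.Helper24.RlimTrunc
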