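import Groth.Agent.Lib.Helper24.HDMod2
import Groth.Agent.Lib.Helper24.RlimTrunc2

/-!
# Derived limits of truncation towers for `O`-modules on a ringed site
-/
open CategoryTheory Limits Opposite
universe w u
set_option linter.unusedSectionVars false
set_option autoImplicit false
namespace Groth.Agent.Helper24.RlimTrunc

open Groth.Agent.Helper24.FrMod Groth.Agent.Helper17.MT Groth.Agent.Helper24.HDSheaf
  Groth.Agent.Helper24.RlimSeq Groth.Agent.Helper24.HDMod Groth.Agent.Helper24.GSS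
  Groth.Agent.Helper24.CechH Groth.Agent.Helper24.ModGroth Abelian

variable {C : Type u} [SmallCategory C] {J : GrothendieckTopology C}

/-- every covering sieve contains a covering family whose members lie in a covering class -/
theorem exists_cover_in (B : Set C)
    (hB : ∀ U : C, ∃ (ι : Type u) (Y : ι → C) (f : ∀ i, Y i ⟶ U),
      Sieve.ofArrows Y f ∈ J U ∧ ∀ i, Y i ∈ B)
    (V : C) (T : Sieve V) (hT : T ∈ J V) :
    ∃ (ι : Type u) (Y : ι → C) (f : ∀ i, Y i ⟶ V), (∀ i, T.arrows (f i)) ∧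
      Sieve.ofArrows Y f ∈ J V ∧ ∀ i, Y i ∈ B := by
  choose ιU YU fU hcovU hBU using hB
  refine ⟨Σ (W : C), Σ (_ : {g : W ⟶ V // T g}), ιU W, fun x => YU x.1 x.2.2,
    fun x => fU x.1 x.2.2 ≫ x.2.1.1, fun x => T.downward_closed x.2.1.2 _, ?_,
    fun x => hBU x.1 x.2.2⟩
  refine J.transitive hT _ (fun W g hg => ?_)
  refine J.superset_covering ?_ (hcovU W)
  rintro W' k ⟨Z, k', g', ⟨i⟩, rfl⟩
  change Sieve.ofArrows _ _ ((k' ≫ fU W i) ≫ g)
  rw [Category.assoc]
  exact (Sieve.ofArrows _ _).downward_closed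
    (Sieve.ofArrows_mk (fun x : Σ (W : C), Σ (_ : {g : W ⟶ V // T g}), ιU W => YU x.1 x.2.2)
      (fun x => fU x.1 x.2.2 ≫ x.2.1.1) ⟨W, ⟨g, hg⟩, i⟩) k'

variable (O : Sheaf J CommRingCat.{u})

/-- `Ext_O(O[V], F) ≅ H^p(V, F_ab)` -/
theorem nonempty_ext_ZM_iso (V : C) (F : ModSite.Mod O) (p : ℕ) :
    Nonempty (AddCommGrpCat.of (Ext (ZM O V) F p) ≅
      AddCommGrpCat.of (Ext (CohCx.freeSheaf J V) (ModSite.toAb F) p)) := by
  have hZ : TF (CohCx.freeSheaf J V) := tf_free (yoneda.obj V)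
  obtain ⟨e2⟩ := nonempty_iso_rightDerived_obj (extDelta ((Fr O).obj (CohCx.freeSheaf J V)))
    (extDelta_effaceable _) (SZ (O := O) (CohCx.freeSheaf J V))
    (extZeroAdjIso (frAdj O) (CohCx.freeSheaf J V)) p F
  obtain ⟨e3⟩ := nonempty_SZ_rightDerived_iso (O := O) (CohCx.freeSheaf J V) hZ F p
  exact ⟨e2 ≪≫ e3.symm⟩

theorem subsingleton_ext_ZM (V : C) (F : ModSite.Mod O) (p : ℕ)
    (h : Subsingleton (ModSite.HU O F p V)) : Subsingleton (Ext (ZM O V) F p) := by
  obtain ⟨e⟩ := nonempty_ext_ZM_iso O V F p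
  have h' : Subsingleton (Ext (CohCx.freeSheaf J V) (ModSite.toAb F) p) := h
  exact e.addCommGroupIsoToAddEquiv.toEquiv.subsingleton

variable [HasDerivedCategory.{w} (ModSite.Mod O)]

open DerivedCategory DerivedCategory.TStructure

theorem bijective_sections_of_injectiveM (E L : DerivedCategory (ModSite.Mod O))
    (ψ : E ⟶ L) (n : ℕ) (a : L ⟶ CohCx.truncTower E n) (hψ : ψ ≫ a = CohCx.toTruncTower E n)
    (m : ℤ) (hn : -(n : ℤ) ≤ m) (V : C)
    (hinj : Function.Injective (((toAbF O).map ((homologyFunctor _ m).map a)).hom.app (op V))) :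
    Function.Bijective (((toAbF O).map ((homologyFunctor _ m).map ψ)).hom.app (op V)) := by
  have hiso : IsIso ((homologyFunctor (ModSite.Mod O) m).map (CohCx.toTruncTower E n)) :=
    isIso_homologyMap_truncGEπ E (-(n : ℤ)) m hn
  have hiso2 : IsIso (((toAbF O).map ((homologyFunctor (ModSite.Mod O) m).map
      (CohCx.toTruncTower E n))).hom.app (op V)) := by
    have : IsIso ((sheafToPresheaf J AddCommGrpCat.{u}).map ((toAbF O).map
      ((homologyFunctor (ModSite.Mod O) m).map (CohCx.toTruncTower E n)))) :=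
      Functor.map_isIso _ _
    exact NatIso.isIso_app_of_isIso ((sheafToPresheaf J AddCommGrpCat.{u}).map ((toAbF O).map
      ((homologyFunctor (ModSite.Mod O) m).map (CohCx.toTruncTower E n)))) (op V)
  have hbij := (ConcreteCategory.isIso_iff_bijective _).1 hiso2
  have hcomp : ∀ x, ((toAbF O).map ((homologyFunctor _ m).map a)).hom.app (op V)
      (((toAbF O).map ((homologyFunctor _ m).map ψ)).hom.app (op V) x) =
      ((toAbF O).map ((homologyFunctor _ m).map (CohCx.toTruncTower E n))).hom.app (op V) x := by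
    intro x
    rw [← hψ, Functor.map_comp, Functor.map_comp]
    rfl
  constructor
  · intro x y hxy
    apply hbij.1
    rw [← hcomp, ← hcomp, hxy]
  · intro y
    obtain ⟨x, hx⟩ := hbij.2 (((toAbF O).map ((homologyFunctor _ m).map a)).hom.app (op V) y)
    refine ⟨x, hinj ?_⟩
    rw [hcomp, hx]

/-- the common form of the truncation-tower criteria on a ringed site -/
theorem isRlimVia_truncTower_mod (E : DerivedCategory (ModSite.Mod O))
    [HasProduct (CohCx.truncTower E)]
    (hloc : ∀ U : C, ∃ (ι : Type u) (Y : ι → C) (f : ∀ i, Y i ⟶ U), Sieve.ofArrows Y f ∈ J U ∧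
      ∀ i, ∃ p : ℤ → ℤ, ∀ T ∈ J (Y i), ∃ (ι' : Type u) (Y' : ι' → C) (f' : ∀ i', Y' i' ⟶ Y i),
        (∀ i', T.arrows (f' i')) ∧ Sieve.ofArrows Y' f' ∈ J (Y i) ∧
        ∀ (i' : ι') (m : ℤ) (k : ℕ), p m < k →
          Subsingleton (ModSite.HU O ((homologyFunctor (ModSite.Mod O) (m - k)).obj E) k (Y' i'))) :
    CohCx.IsRlimVia (CohCx.truncTower E) (CohCx.truncTowerMap E) E (CohCx.toTruncTower E) := by
  refine isRlimVia_truncTower_of_homology E (fun L a' hL ψ hψ m => ?_)
  have hiso : IsIso ((toAbF O).map ((homologyFunctor (ModSite.Mod O) m).map ψ)) := by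
    apply isIso_of_locally_bijective
    intro U
    obtain ⟨ι, Y, f, hcov, hY⟩ := hloc U
    refine ⟨ι, Y, f, hcov, fun i => ?_⟩
    obtain ⟨p, hp⟩ := hY i
    obtain ⟨nV, h0, h1, h2, h3⟩ : ∃ nV : ℕ, -m ≤ nV ∧ p (m - 1) < nV + m ∧ p m < nV + m + 1 ∧
        p (m + 1) < nV + m + 2 := by
      refine ⟨(|m| + |p (m - 1)| + |p m| + |p (m + 1)| + 1).toNat, ?_⟩
      have e0 := abs_nonneg m
      have e1 := abs_nonneg (p (m - 1))
      have e2 := abs_nonneg (p m)
      have e3 := abs_nonneg (p (m + 1))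
      have f0 := neg_abs_le m
      have f0' := le_abs_self m
      have f1 := le_abs_self (p (m - 1))
      have f2 := le_abs_self (p m)
      have f3 := le_abs_self (p (m + 1))
      rw [Int.toNat_of_nonneg (by omega)]
      refine ⟨?_, ?_, ?_, ?_⟩ <;> omega
    apply bijective_sections_of_injectiveM O E L ψ nV (a' nV) (hψ nV) m (by omega) (Y i)
    refine injective_sections_rlimM O (CohCx.truncTower E) (CohCx.truncTowerMap E) L a' hL (Y i) m nV
      (fun T hT => ?_)
    obtain ⟨ι', Y', f', hf', hcov', hv⟩ := hp T hT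
    refine ⟨ι', Y', f', hf', hcov', fun i' => ?_⟩
    exact tower_conditions E (ZM O (Y' i')) p
      (fun m' k hk => subsingleton_ext_ZM O (Y' i') _ k (hv i' m' k hk)) m nV h0 h1 h2 h3
  exact isIso_of_reflects_iso _ (toAbF O)

end Groth.Agent.Helper24.RlimTrunc
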