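import Groth.Prelude.Def_SiteCmp
import Groth.Agent.Lib.Helper24.RlimTruncMod

/-!
# The comparison morphism of ringed sites `ε : (C, J, O) → (C, J', O)` on modules

`ε_*` is fully faithful (so the counit `ε^* ε_* → id` is invertible), and `ε_*` carries an epimorphism
whose kernel has no `H¹` on a `J'`-covering class of objects to an epimorphism.
-/

set_option autoImplicit false
open CategoryTheory CategoryTheory.Limits Opposite
universe u

namespace Groth.Agent.Helper24.EpsMod

open Groth.Agent.Helper24.FrMod Groth.Agent.Helper24.HDMod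

variable {C : Type u} [SmallCategory C] {J J' : GrothendieckTopology C} (h : J' ≤ J)
  (O : Sheaf J CommRingCat.{u})

/-- preimage of a morphism under `ε_*` -/
noncomputable def pre (M N : ModSite.Mod O)
    (β : (SiteCmp.eps h O).push.obj M ⟶ (SiteCmp.eps h O).push.obj N) : M ⟶ N := by
  refine ⟨PresheafOfModules.homMk (M₁ := M.val) (M₂ := N.val)
    ((PresheafOfModules.toPresheaf _).map β.val) ?_⟩
  intro X r m
  have := (β.val.app X).hom.map_smul r m
  exact this

lemma push_map_pre (M N : ModSite.Mod O)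
    (β : (SiteCmp.eps h O).push.obj M ⟶ (SiteCmp.eps h O).push.obj N) :
    (SiteCmp.eps h O).push.map (pre h O M N β) = β := by
  apply SheafOfModules.hom_ext
  apply PresheafOfModules.hom_ext
  intro X
  ext m
  rfl

instance full_push : (SiteCmp.eps h O).push.Full where
  map_surjective {M N} β := ⟨pre h O M N β, push_map_pre h O M N β⟩

instance faithful_push : (SiteCmp.eps h O).push.Faithful where
  map_injective {M N} α α' hαα' := by
    apply SheafOfModules.hom_ext
    apply PresheafOfModules.hom_ext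
    intro X
    ext m
    have := congrArg (fun β => (β.val.app X).hom m) hαα'
    exact this

instance isIso_counit : IsIso (SiteCmp.eps h O).adj.counit :=
  Adjunction.counit_isIso_of_R_fully_faithful _

/-- lifting a morphism out of a free module along an epimorphism whose kernel has no `Ext¹` -/
lemma exists_lift_of_ext_one {M N : ModSite.Mod O} (p : M ⟶ N) [Epi p] (W : C)
    (hv : Subsingleton (Abelian.Ext (ZM O W) (kernel p) 1)) (b : ZM O W ⟶ N) :
    ∃ a : ZM O W ⟶ M, a ≫ p = b := by
  have hS := Groth.Agent.Helper24.ExtVanish.kerSES_shortExact p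
  haveI : Subsingleton (Abelian.Ext (ZM O W) (Groth.Agent.Helper24.ExtVanish.kerSES p).X₁ 1) := hv
  obtain ⟨x₂, hx₂⟩ := Abelian.Ext.covariant_sequence_exact₃ (ZM O W) hS (Abelian.Ext.mk₀ b)
    (n₁ := 1) rfl (Subsingleton.elim _ _)
  obtain ⟨a, rfl⟩ := (Abelian.Ext.mk₀_bijective _ _).2 x₂
  refine ⟨a, ?_⟩
  apply (Abelian.Ext.mk₀_bijective _ _).1
  rw [Abelian.Ext.mk₀_comp_mk₀] at hx₂
  exact hx₂

/-- `ε_*` of an epimorphism whose kernel has no `H¹` on a `J'`-covering class is an epimorphism -/
theorem epi_push_map {M N : ModSite.Mod O} (p : M ⟶ N) [Epi p] (B : Set C)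
    (hB : ∀ U : C, ∃ (ι : Type u) (Yi : ι → C) (g : ∀ i, Yi i ⟶ U),
      Sieve.ofArrows Yi g ∈ J' U ∧ ∀ i, Yi i ∈ B)
    (hv : ∀ W ∈ B, Subsingleton (Abelian.Ext (ZM O W) (kernel p) 1)) :
    Epi ((SiteCmp.eps h O).push.map p) := by
  have he : Epi ((toAbF (SiteCmp.epsRing h O)).map ((SiteCmp.eps h O).push.map p)) := by
    rw [← Sheaf.isLocallySurjective_iff_epi' AddCommGrpCat.{u}]
    refine ⟨fun {U} s => ?_⟩
    obtain ⟨ι, Yi, g, hcov, hY⟩ := hB U
    refine J'.superset_covering ?_ hcov
    rintro V k ⟨Z, k', g', ⟨i⟩, rfl⟩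
    -- the section over `Yi i`
    let s' : ((toAbF O).obj N).obj.obj (op (Yi i)) := (((toAbF O).obj N).obj.map (g i).op).hom s
    obtain ⟨a, ha⟩ := exists_lift_of_ext_one O p (Yi i) (hv _ (hY i)) (ofSectM O (Yi i) N s')
    have h1 : (((toAbF O).map p).hom.app (op (Yi i))).hom (evalM O (Yi i) M a) = s' := by
      rw [← evalM_comp, ha, evalM_ofSectM]
    refine ⟨(((toAbF O).obj M).obj.map k'.op).hom (evalM O (Yi i) M a), ?_⟩
    have hn := ConcreteCategory.congr_hom (((toAbF O).map p).hom.naturality k'.op)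
      (evalM O (Yi i) M a)
    simp only [ConcreteCategory.comp_apply] at hn
    refine hn.trans ?_
    erw [h1]
    change (((toAbF O).obj N).obj.map k'.op).hom ((((toAbF O).obj N).obj.map (g i).op).hom s) = _
    rw [op_comp, Functor.map_comp]
    rfl
  exact Functor.epi_of_epi_map (toAbF (SiteCmp.epsRing h O)) he

end Groth.Agent.Helper24.EpsMod
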