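import Mathlib
import Groth.Prelude.Def_CohCx
import Groth.Prelude.Def_FreeSh

/-!
# The comparison `H^q(U, K) → H^q(K)(U)` for objects of the derived category of abelian sheaves

`cSec K q U : CohCx.HDU K q U →+ (CohCx.HD K q).obj.obj (op U)`, natural in `U` (`cSec_res`) and in `K`
(`cSec_postcomp`), locally surjective (`cSec_locally_surj`) and locally injective (`cSec_locally_inj`).
-/
open CategoryTheory Limits Opposite
universe w v u
namespace Groth.Agent.Helper24.HDSheaf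

section General

variable {𝒜 : Type u} [Category.{v} 𝒜] [Abelian 𝒜]

open DerivedCategory HomologicalComplex CochainComplex.HomComplex

/-- the single complex in degree `0` -/
noncomputable abbrev sg (X : 𝒜) : CochainComplex 𝒜 ℤ :=
  (HomologicalComplex.single 𝒜 (ComplexShape.up ℤ) 0).obj X

/-- functoriality of `sg` -/
noncomputable abbrev sgMap {X' X : 𝒜} (a : X' ⟶ X) : sg X' ⟶ sg X :=
  (HomologicalComplex.single 𝒜 (ComplexShape.up ℤ) 0).map a

/-- the chain map out of a single complex given by a cycle (`singleFunctor` form) -/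
noncomputable def ζ' {X : 𝒜} {K : CochainComplex 𝒜 ℤ} (z : X ⟶ K.X 0) (hz : z ≫ K.d 0 1 = 0) :
    (CochainComplex.singleFunctor 𝒜 0).obj X ⟶ K :=
  Cocycle.homOf (Cocycle.fromSingleMk z (zero_add 0) 1 (zero_add 1) hz)

lemma ζ'_f {X : 𝒜} {K : CochainComplex 𝒜 ℤ} (z : X ⟶ K.X 0) (hz : z ≫ K.d 0 1 = 0) :
    (ζ' z hz).f 0 = (singleObjXSelf (ComplexShape.up ℤ) 0 X).hom ≫ z := by
  simp [ζ']
  try rfl

lemma eq_ζ' {X : 𝒜} {K : CochainComplex 𝒜 ℤ} (g : (CochainComplex.singleFunctor 𝒜 0).obj X ⟶ K) :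
    ∃ (z : X ⟶ K.X 0) (hz : z ≫ K.d 0 1 = 0), g = ζ' z hz := by
  obtain ⟨f, hf, h⟩ := Cocycle.fromSingleMk_surjective (Cocycle.ofHom g) 0 (zero_add 0) 1 (zero_add 1)
  refine ⟨f, hf, ?_⟩
  unfold ζ'
  rw [h, Cocycle.homOf_ofHom_eq_self]

/-- the chain map out of a single complex given by a cycle -/
noncomputable def ζ {X : 𝒜} {K : CochainComplex 𝒜 ℤ} (z : X ⟶ K.X 0) (hz : z ≫ K.d 0 1 = 0) :
    sg X ⟶ K := ζ' z hz

lemma ζ_f {X : 𝒜} {K : CochainComplex 𝒜 ℤ} (z : X ⟶ K.X 0) (hz : z ≫ K.d 0 1 = 0) :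
    (ζ z hz).f 0 = (singleObjXSelf (ComplexShape.up ℤ) 0 X).hom ≫ z := ζ'_f z hz

lemma eq_ζ {X : 𝒜} {K : CochainComplex 𝒜 ℤ} (g : sg X ⟶ K) :
    ∃ (z : X ⟶ K.X 0) (hz : z ≫ K.d 0 1 = 0), g = ζ z hz := eq_ζ' g

lemma ζ_precomp {X' X : 𝒜} {K : CochainComplex 𝒜 ℤ} (a : X' ⟶ X) (z : X ⟶ K.X 0)
    (hz : z ≫ K.d 0 1 = 0) :
    sgMap a ≫ ζ z hz = ζ (a ≫ z) (by rw [Category.assoc, hz, comp_zero]) := by
  apply from_single_hom_ext
  rw [comp_f, ζ_f, ζ_f, single_map_f_self, Category.assoc, Category.assoc, Iso.inv_hom_id_assoc]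

variable [HasDerivedCategory.{w} 𝒜]

lemma Q_map_ζ'_eq_zero {X : 𝒜} {K : CochainComplex 𝒜 ℤ} (h : X ⟶ K.X (-1)) :
    Q.map (ζ' (h ≫ K.d (-1) 0) (by simp)) = 0 := by
  have ho : Homotopy (ζ' (h ≫ K.d (-1) 0) (by simp)) 0 := by
    refine (CochainComplex.HomComplex.Cochain.equivHomotopy _ _).symm
      ⟨Cochain.fromSingleMk h (by simp), ?_⟩
    rw [Cochain.ofHom_zero, add_zero, Cochain.δ_fromSingleMk _ _ _ 0 (zero_add 0)]
    unfold ζ'
    simp
  have h1 := HomotopyCategory.eq_of_homotopy _ _ ho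
  have h2 := quotientCompQhIso_hom_naturality (ζ' (h ≫ K.d (-1) 0) (by simp))
  rw [h1, Functor.map_zero, Functor.map_zero, zero_comp] at h2
  have h3 : (quotientCompQhIso 𝒜).hom.app _ ≫ Q.map (ζ' (h ≫ K.d (-1) 0) (by simp)) = 0 := h2.symm
  exact (cancel_epi ((quotientCompQhIso 𝒜).hom.app _)).1 (by rw [h3, comp_zero])

/-- a cycle which is a boundary gives the zero map in the derived category -/
lemma Q_map_ζ_eq_zero {X : 𝒜} {K : CochainComplex 𝒜 ℤ} (h : X ⟶ K.X (-1)) :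
    Q.map (ζ (h ≫ K.d (-1) 0) (by simp)) = 0 := Q_map_ζ'_eq_zero h

/-- `H⁰` of the image of a complex in the derived category -/
noncomputable def hFFinv (K : CochainComplex 𝒜 ℤ) :
    K.homology 0 ⟶ (DerivedCategory.homologyFunctor 𝒜 0).obj (Q.obj K) :=
  (homologyFunctorFactors 𝒜 0).inv.app K

instance (K : CochainComplex 𝒜 ℤ) : IsIso (hFFinv K) :=
  Iso.isIso_hom ((homologyFunctorFactors 𝒜 0).symm.app K)

lemma hFFinv_naturality {K L : CochainComplex 𝒜 ℤ} (f : K ⟶ L) :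
    hFFinv K ≫ (DerivedCategory.homologyFunctor 𝒜 0).map (Q.map f) = homologyMap f 0 ≫ hFFinv L :=
  ((homologyFunctorFactors 𝒜 0).inv.naturality f).symm

/-- `X ≅ H⁰(X[0])` -/
noncomputable def sInv (X : 𝒜) : X ⟶ (sg X).homology 0 :=
  (singleObjHomologySelfIso (ComplexShape.up ℤ) 0 X).inv

instance (X : 𝒜) : IsIso (sInv X) := by unfold sInv; infer_instance

omit [HasDerivedCategory.{w} 𝒜] in
lemma sInv_naturality {X' X : 𝒜} (a : X' ⟶ X) :
    sInv X' ≫ homologyMap (sgMap a) 0 = a ≫ sInv X :=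
  singleObjHomologySelfIso_inv_naturality (ComplexShape.up ℤ) 0 a

omit [HasDerivedCategory.{w} 𝒜] in
lemma sInv_ζ {X : 𝒜} {K : CochainComplex 𝒜 ℤ} (z : X ⟶ K.X 0) (hz : z ≫ K.d 0 1 = 0) :
    sInv X ≫ homologyMap (ζ z hz) 0 = K.liftCycles z 1 (by simp) hz ≫ K.homologyπ 0 := by
  unfold sInv
  rw [← singleObjCyclesSelfIso_inv_homologyπ, Category.assoc, homologyπ_naturality,
    ← Category.assoc]
  congr 1
  rw [← cancel_mono (K.iCycles 0), Category.assoc, cyclesMap_i, liftCycles_i,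
    singleObjCyclesSelfIso_inv_iCycles_assoc, ζ_f, Iso.inv_hom_id_assoc]

/-- from maps in the derived category out of a single complex to maps to `H⁰` -/
noncomputable def κ (X : 𝒜) (M : DerivedCategory 𝒜) (φ : Q.obj (sg X) ⟶ M) :
    X ⟶ (DerivedCategory.homologyFunctor 𝒜 0).obj M :=
  sInv X ≫ hFFinv (sg X) ≫ (DerivedCategory.homologyFunctor 𝒜 0).map φ

lemma κ_postcomp {X : 𝒜} {M M' : DerivedCategory 𝒜} (φ : Q.obj (sg X) ⟶ M) (f : M ⟶ M') :
    κ X M' (φ ≫ f) = κ X M φ ≫ (DerivedCategory.homologyFunctor 𝒜 0).map f := by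
  unfold κ
  rw [Functor.map_comp, Category.assoc, Category.assoc]

lemma κ_add {X : 𝒜} {M : DerivedCategory 𝒜} (φ φ' : Q.obj (sg X) ⟶ M) :
    κ X M (φ + φ') = κ X M φ + κ X M φ' := by
  unfold κ
  rw [Functor.map_add, Preadditive.comp_add, Preadditive.comp_add]

lemma κ_precomp {X' X : 𝒜} {M : DerivedCategory 𝒜} (a : X' ⟶ X) (φ : Q.obj (sg X) ⟶ M) :
    κ X' M (Q.map (sgMap a) ≫ φ) = a ≫ κ X M φ := by
  unfold κ
  rw [Functor.map_comp, ← Category.assoc (hFFinv _), hFFinv_naturality, Category.assoc,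
    ← Category.assoc, sInv_naturality, Category.assoc]

lemma κ_ζ {X : 𝒜} {K : CochainComplex 𝒜 ℤ} (z : X ⟶ K.X 0) (hz : z ≫ K.d 0 1 = 0) :
    κ X (Q.obj K) (Q.map (ζ z hz)) =
      K.liftCycles z 1 (by simp) hz ≫ K.homologyπ 0 ≫ hFFinv K := by
  unfold κ
  rw [hFFinv_naturality, ← Category.assoc, sInv_ζ, Category.assoc]

omit [HasDerivedCategory.{w} 𝒜] in
/-- a cycle whose homology class vanishes is a boundary after refinement -/
lemma exists_boundary {X : 𝒜} {K : CochainComplex 𝒜 ℤ} (z : X ⟶ K.X 0) (hz : z ≫ K.d 0 1 = 0)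
    (h : K.liftCycles z 1 (by simp) hz ≫ K.homologyπ 0 = 0) :
    ∃ (A' : 𝒜) (p : A' ⟶ X) (_ : Epi p) (y : A' ⟶ K.X (-1)), p ≫ z = y ≫ K.d (-1) 0 := by
  have hex : (ShortComplex.mk (K.toCycles (-1) 0) (K.homologyπ 0)
      (K.toCycles_comp_homologyπ (-1) 0)).Exact :=
    ShortComplex.exact_of_g_is_cokernel _ (K.homologyIsCokernel (-1) 0 (by simp))
  obtain ⟨A', p, hp, y, hy⟩ := hex.exact_up_to_refinements (K.liftCycles z 1 (by simp) hz) h
  refine ⟨A', p, hp, y, ?_⟩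
  have := congrArg (fun m => m ≫ K.iCycles 0) hy
  simpa using this

end General

section Site

variable {C : Type u} [SmallCategory C] {J : GrothendieckTopology C}

lemma evalGen_comp (U : C) {F G : Sheaf J AddCommGrpCat.{u}} (a : CohCx.freeSheaf J U ⟶ F) (p : F ⟶ G) :
    CohFree.evalGen J U G (a ≫ p) = (p.hom.app (op U)).hom (CohFree.evalGen J U F a) := rfl

/-- local lifting of morphisms out of free sheaves along epimorphisms -/
lemma exists_lift_locally {A' B : Sheaf J AddCommGrpCat.{u}} (p : A' ⟶ B) [Epi p] (U : C)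
    (b : CohCx.freeSheaf J U ⟶ B) :
    ∃ S ∈ J U, ∀ {V : C} (g : V ⟶ U), S g →
      ∃ a : CohCx.freeSheaf J V ⟶ A', a ≫ p = CohCx.freeSheafMap J g ≫ b := by
  have : Sheaf.IsLocallySurjective p :=
    (Sheaf.isLocallySurjective_iff_epi' AddCommGrpCat.{u} p).2 inferInstance
  refine ⟨_, Presheaf.imageSieve_mem J p.hom (CohFree.evalGen J U B b), ?_⟩
  rintro V g ⟨t, ht⟩
  refine ⟨CohFree.ofSect J V A' t, ?_⟩
  apply (CohFree.homEquivSect J V B).injective
  rw [CohFree.homEquivSect_apply, CohFree.homEquivSect_apply, evalGen_comp, CohFree.evalGen_ofSect,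
    CohFree.evalGen_freeSheafMap_comp]
  exact ht

variable [HasDerivedCategory.{w} (Sheaf J AddCommGrpCat.{u})]

open DerivedCategory HomologicalComplex

/-- `κ` is locally surjective -/
theorem locally_surj (M : DerivedCategory (Sheaf J AddCommGrpCat.{u})) (U : C)
    (s : CohCx.freeSheaf J U ⟶ (DerivedCategory.homologyFunctor _ 0).obj M) :
    ∃ S ∈ J U, ∀ {V : C} (g : V ⟶ U), S g →
      ∃ φ : Q.obj (sg (CohCx.freeSheaf J V)) ⟶ M,
        κ (CohCx.freeSheaf J V) M φ = CohCx.freeSheafMap J g ≫ s := by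
  let K := Q.objPreimage M
  let e : Q.obj K ≅ M := Q.objObjPreimageIso M
  let p : K.cycles 0 ⟶ (DerivedCategory.homologyFunctor _ 0).obj M :=
    K.homologyπ 0 ≫ hFFinv K ≫ (DerivedCategory.homologyFunctor _ 0).map e.hom
  have : Epi p := by
    have : Epi (hFFinv K ≫ (DerivedCategory.homologyFunctor _ 0).map e.hom) := inferInstance
    exact epi_comp _ _
  obtain ⟨S, hS, h⟩ := exists_lift_locally p U s
  refine ⟨S, hS, fun {V} g hg => ?_⟩
  obtain ⟨a, ha⟩ := h g hg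
  have hz : (a ≫ K.iCycles 0) ≫ K.d 0 1 = 0 := by rw [Category.assoc, iCycles_d, comp_zero]
  refine ⟨Q.map (ζ (a ≫ K.iCycles 0) hz) ≫ e.hom, ?_⟩
  rw [κ_postcomp, κ_ζ, ← ha]
  have : K.liftCycles (a ≫ K.iCycles 0) 1 (by simp) hz = a := by
    rw [← cancel_mono (K.iCycles 0), liftCycles_i]
  rw [this]
  simp only [p, Category.assoc]

/-- `κ` is locally injective -/
theorem locally_inj (M : DerivedCategory (Sheaf J AddCommGrpCat.{u})) (U : C)
    (φ : Q.obj (sg (CohCx.freeSheaf J U)) ⟶ M) (hφ : κ (CohCx.freeSheaf J U) M φ = 0) :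
    ∃ S ∈ J U, ∀ {V : C} (g : V ⟶ U), S g → Q.map (sgMap (CohCx.freeSheafMap J g)) ≫ φ = 0 := by
  let K := Q.objPreimage M
  let e : Q.obj K ≅ M := Q.objObjPreimageIso M
  obtain ⟨Y', g₁, s₁, hs₁, hfac⟩ := left_fac (φ ≫ e.inv)
  obtain ⟨z, hz, rfl⟩ := eq_ζ g₁
  let θ : Q.obj Y' ⟶ M := inv (Q.map s₁) ≫ e.hom
  have hθ : IsIso θ := inferInstance
  have hφ' : φ = Q.map (ζ z hz) ≫ θ := by
    have h0 := congrArg (fun m => m ≫ e.hom) hfac
    simp only [Category.assoc, Iso.inv_hom_id, Category.comp_id] at h0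
    exact h0
  rw [hφ', κ_postcomp, κ_ζ] at hφ
  have h1 : Y'.liftCycles z 1 (by simp) hz ≫ Y'.homologyπ 0 = 0 := by
    have : IsIso (hFFinv Y' ≫ (DerivedCategory.homologyFunctor _ 0).map θ) := inferInstance
    rw [← cancel_mono (hFFinv Y' ≫ (DerivedCategory.homologyFunctor _ 0).map θ), zero_comp]
    simpa only [Category.assoc] using hφ
  obtain ⟨A', p, hp, y, hy⟩ := exists_boundary z hz h1
  obtain ⟨S, hS, h⟩ := exists_lift_locally p U (𝟙 _)
  refine ⟨S, hS, fun {V} g hg => ?_⟩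
  obtain ⟨a, ha⟩ := h g hg
  rw [Category.comp_id] at ha
  rw [hφ', ← Category.assoc, ← Functor.map_comp, ζ_precomp]
  have : CohCx.freeSheafMap J g ≫ z = (a ≫ y) ≫ Y'.d (-1) 0 := by
    rw [← ha, Category.assoc, hy, Category.assoc]
  have h2 : Q.map (ζ (CohCx.freeSheafMap J g ≫ z) (by rw [Category.assoc, hz, comp_zero])) = 0 := by
    have h3 := Q_map_ζ_eq_zero (K := Y') (a ≫ y)
    convert h3 using 3
  rw [h2, zero_comp]

/-- `H⁰(K⟦q⟧) ≅ H^q(K)` -/
noncomputable def shI (q : ℤ) :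
    shiftFunctor (DerivedCategory (Sheaf J AddCommGrpCat.{u})) q ⋙
      DerivedCategory.homologyFunctor (Sheaf J AddCommGrpCat.{u}) 0 ≅
    DerivedCategory.homologyFunctor (Sheaf J AddCommGrpCat.{u}) q :=
  (DerivedCategory.homologyFunctor (Sheaf J AddCommGrpCat.{u}) 0).shiftIso q 0 q (by simp)

/-- explicit type change -/
def toQ {K : DerivedCategory (Sheaf J AddCommGrpCat.{u})} {q : ℤ} {U : C} (φ : CohCx.HDU K q U) :
    Q.obj (sg (CohCx.freeSheaf J U)) ⟶ (shiftFunctor _ q).obj K := φ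

/-- explicit type change -/
def ofQ {K : DerivedCategory (Sheaf J AddCommGrpCat.{u})} {q : ℤ} {U : C}
    (φ : Q.obj (sg (CohCx.freeSheaf J U)) ⟶ (shiftFunctor _ q).obj K) : CohCx.HDU K q U := φ

lemma toQ_ofQ {K : DerivedCategory (Sheaf J AddCommGrpCat.{u})} {q : ℤ} {U : C}
    (φ : Q.obj (sg (CohCx.freeSheaf J U)) ⟶ (shiftFunctor _ q).obj K) :
    toQ (ofQ φ : CohCx.HDU K q U) = φ := rfl

lemma toQ_add {K : DerivedCategory (Sheaf J AddCommGrpCat.{u})} {q : ℤ} {U : C}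
    (φ ψ : CohCx.HDU K q U) : toQ (φ + ψ) = toQ φ + toQ ψ := rfl

lemma toQ_zero {K : DerivedCategory (Sheaf J AddCommGrpCat.{u})} {q : ℤ} {U : C} :
    toQ (0 : CohCx.HDU K q U) = 0 := rfl

lemma toQ_res {K : DerivedCategory (Sheaf J AddCommGrpCat.{u})} {q : ℤ} {U V : C} (g : V ⟶ U)
    (φ : CohCx.HDU K q U) :
    toQ (CohCx.HDUres K q g φ) = Q.map (sgMap (CohCx.freeSheafMap J g)) ≫ toQ φ := rfl

lemma toQ_postcomp {K K' : DerivedCategory (Sheaf J AddCommGrpCat.{u})} (f : K ⟶ K') {q : ℤ} {U : C}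
    (φ : CohCx.HDU K q U) :
    toQ (φ ≫ (shiftFunctor _ q).map f : CohCx.HDU K' q U) = toQ φ ≫ (shiftFunctor _ q).map f := rfl

lemma κ_zero (X : Sheaf J AddCommGrpCat.{u}) (M : DerivedCategory (Sheaf J AddCommGrpCat.{u})) :
    κ X M 0 = 0 := by
  have := κ_add (X := X) (M := M) 0 0
  rw [add_zero] at this
  exact left_eq_add.mp this

/-- the comparison map `H^q(U, K) → H^q(K)(U)` as a morphism of sheaves out of `ℤ[U]` -/
noncomputable def cMor (K : DerivedCategory (Sheaf J AddCommGrpCat.{u})) (q : ℤ) (U : C)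
    (φ : CohCx.HDU K q U) : CohCx.freeSheaf J U ⟶ CohCx.HD K q :=
  κ (CohCx.freeSheaf J U) ((shiftFunctor _ q).obj K) (toQ φ) ≫ (shI q).hom.app K

/-- the comparison map `H^q(U, K) → H^q(K)(U)` -/
noncomputable def cSec (K : DerivedCategory (Sheaf J AddCommGrpCat.{u})) (q : ℤ) (U : C) :
    CohCx.HDU K q U →+ (CohCx.HD K q).obj.obj (op U) where
  toFun φ := CohFree.evalGen J U _ (cMor K q U φ)
  map_zero' := by
    unfold cMor
    rw [toQ_zero, κ_zero, zero_comp, map_zero]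
  map_add' φ ψ := by
    unfold cMor
    rw [toQ_add, κ_add, Preadditive.add_comp, map_add]

lemma cSec_apply (K : DerivedCategory (Sheaf J AddCommGrpCat.{u})) (q : ℤ) (U : C)
    (φ : CohCx.HDU K q U) : cSec K q U φ = CohFree.evalGen J U _ (cMor K q U φ) := rfl

lemma cMor_res (K : DerivedCategory (Sheaf J AddCommGrpCat.{u})) (q : ℤ) {U V : C} (g : V ⟶ U)
    (φ : CohCx.HDU K q U) :
    cMor K q V (CohCx.HDUres K q g φ) = CohCx.freeSheafMap J g ≫ cMor K q U φ := by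
  unfold cMor
  rw [toQ_res, κ_precomp, Category.assoc]

lemma cSec_res (K : DerivedCategory (Sheaf J AddCommGrpCat.{u})) (q : ℤ) {U V : C} (g : V ⟶ U)
    (φ : CohCx.HDU K q U) :
    cSec K q V (CohCx.HDUres K q g φ) = ((CohCx.HD K q).obj.map g.op).hom (cSec K q U φ) := by
  rw [cSec_apply, cSec_apply, cMor_res, CohFree.evalGen_freeSheafMap_comp]

lemma cMor_postcomp {K K' : DerivedCategory (Sheaf J AddCommGrpCat.{u})} (f : K ⟶ K') (q : ℤ) (U : C)
    (φ : CohCx.HDU K q U) :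
    cMor K' q U (φ ≫ (shiftFunctor _ q).map f) =
      cMor K q U φ ≫ (DerivedCategory.homologyFunctor _ q).map f := by
  unfold cMor
  rw [toQ_postcomp, κ_postcomp, Category.assoc, Category.assoc]
  congr 1
  exact (shI q).hom.naturality f

lemma cSec_postcomp {K K' : DerivedCategory (Sheaf J AddCommGrpCat.{u})} (f : K ⟶ K') (q : ℤ) (U : C)
    (φ : CohCx.HDU K q U) :
    cSec K' q U (φ ≫ (shiftFunctor _ q).map f) =
      (((DerivedCategory.homologyFunctor _ q).map f).hom.app (op U)).hom (cSec K q U φ) := by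
  rw [cSec_apply, cSec_apply, cMor_postcomp, evalGen_comp]

/-- local surjectivity of the comparison map -/
theorem cSec_locally_surj (K : DerivedCategory (Sheaf J AddCommGrpCat.{u})) (q : ℤ) (U : C)
    (s : (CohCx.HD K q).obj.obj (op U)) :
    ∃ S ∈ J U, ∀ {V : C} (g : V ⟶ U), S g →
      ∃ φ : CohCx.HDU K q V, cSec K q V φ = ((CohCx.HD K q).obj.map g.op).hom s := by
  obtain ⟨S, hS, h⟩ := locally_surj ((shiftFunctor _ q).obj K) U
    (CohFree.ofSect J U _ s ≫ (shI q).inv.app K)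
  refine ⟨S, hS, fun {V} g hg => ?_⟩
  obtain ⟨φ, hφ⟩ := h g hg
  refine ⟨ofQ φ, ?_⟩
  rw [cSec_apply]
  unfold cMor
  rw [toQ_ofQ, hφ, Category.assoc, Category.assoc, Iso.inv_hom_id_app, Category.comp_id,
    CohFree.evalGen_freeSheafMap_comp, CohFree.evalGen_ofSect]

/-- local injectivity of the comparison map -/
theorem cSec_locally_inj (K : DerivedCategory (Sheaf J AddCommGrpCat.{u})) (q : ℤ) (U : C)
    (φ : CohCx.HDU K q U) (hφ : cSec K q U φ = 0) :
    ∃ S ∈ J U, ∀ {V : C} (g : V ⟶ U), S g → CohCx.HDUres K q g φ = 0 := by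
  have h1 : cMor K q U φ = 0 := by
    apply (CohFree.homEquivSect J U _).injective
    rw [CohFree.homEquivSect_apply, map_zero]
    exact hφ
  have h2 : κ (CohCx.freeSheaf J U) ((shiftFunctor _ q).obj K) (toQ φ) = 0 := by
    unfold cMor at h1
    rw [← cancel_mono ((shI q).hom.app K), h1, zero_comp]
  exact locally_inj ((shiftFunctor _ q).obj K) U (toQ φ) h2

end Site

end Groth.Agent.Helper24.HDSheaf
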