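import Groth.Prelude.Def_CohCx
import Mathlib.CategoryTheory.Triangulated.HomologicalFunctor
import Mathlib.CategoryTheory.Triangulated.Yoneda

set_option autoImplicit false
universe v' u'
open CategoryTheory CategoryTheory.Limits Opposite

namespace Groth.Agent.Helper24.RlimSeq

variable {T : Type u'} [Category.{v'} T] [Preadditive T] [HasZeroObject T] [HasShift T ℤ]
    [∀ n : ℤ, (shiftFunctor T n).Additive] [Pretriangulated T]
    (K : ℕ → T) (t : ∀ n, K (n + 1) ⟶ K n) [HasProduct K] (L : T) (a : ∀ n, L ⟶ K n)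

/-- maps into a shifted product are determined by their components -/
theorem shift_pi_hom_ext {X : T} (m : ℤ) (f g : X ⟶ (∏ᶜ K)⟦m⟧)
    (h : ∀ n, f ≫ (Pi.π K n)⟦m⟧' = g ≫ (Pi.π K n)⟦m⟧') : f = g := by
  have hl : IsLimit ((shiftFunctor T m).mapCone (limit.cone (Discrete.functor K))) :=
    isLimitOfPreserves _ (limit.isLimit _)
  refine hl.hom_ext ?_
  rintro ⟨n⟩
  exact h n

theorem shift_pi_lift {X : T} (m : ℤ) (x : ∀ n, X ⟶ (K n)⟦m⟧) :
    ∃ f : X ⟶ (∏ᶜ K)⟦m⟧, ∀ n, f ≫ (Pi.π K n)⟦m⟧' = x n := by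
  have hl : IsLimit ((shiftFunctor T m).mapCone (limit.cone (Discrete.functor K))) :=
    isLimitOfPreserves _ (limit.isLimit _)
  let c : Cone (Discrete.functor K ⋙ shiftFunctor T m) :=
    { pt := X
      π := Discrete.natTrans (fun ⟨n⟩ => x n) }
  refine ⟨hl.lift c, fun n => ?_⟩
  exact hl.fac c ⟨n⟩

variable {K t L a}

theorem rlim_lift (hL : CohCx.IsRlimVia K t L a) (X : T) (m : ℤ) (x : ∀ n, X ⟶ (K n)⟦m⟧)
    (hx : ∀ n, x (n + 1) ≫ (t n)⟦m⟧' = x n) :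
    ∃ y : X ⟶ L⟦m⟧, ∀ n, y ≫ (a n)⟦m⟧' = x n := by
  obtain ⟨c, hc⟩ := hL
  obtain ⟨f, hf⟩ := shift_pi_lift K m x
  let F := preadditiveCoyoneda.obj (op X)
  have hex := F.homologySequence_exact₂ _ hc m
  rw [ShortComplex.ab_exact_iff] at hex
  obtain ⟨y, hy⟩ := hex f (by
    change f ≫ (Pi.lift fun n => Pi.π K n - Pi.π K (n + 1) ≫ t n)⟦m⟧' = 0
    apply shift_pi_hom_ext K m
    intro n
    rw [Category.assoc, ← Functor.map_comp, Pi.lift_π, zero_comp, Functor.map_sub,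
      Functor.map_comp, Preadditive.comp_sub, ← Category.assoc, hf, hf, hx, sub_self])
  refine ⟨y, fun n => ?_⟩
  have hy' : y ≫ (Pi.lift a)⟦m⟧' = f := hy
  calc y ≫ (a n)⟦m⟧' = y ≫ ((Pi.lift a) ≫ Pi.π K n)⟦m⟧' := by rw [Pi.lift_π]
    _ = (y ≫ (Pi.lift a)⟦m⟧') ≫ (Pi.π K n)⟦m⟧' := by rw [Functor.map_comp, Category.assoc]
    _ = x n := by rw [hy', hf]

theorem rlim_unique (hL : CohCx.IsRlimVia K t L a) (X : T) (m : ℤ)
    (h : CohCx.LimOneIsZero (fun n => X ⟶ (K n)⟦m - 1⟧)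
      (fun n => Preadditive.rightComp _ ((t n)⟦m - 1⟧')))
    (y : X ⟶ L⟦m⟧) (hy : ∀ n, y ≫ (a n)⟦m⟧' = 0) : y = 0 := by
  obtain ⟨c, hc⟩ := hL
  let F := preadditiveCoyoneda.obj (op X)
  have hex := F.homologySequence_exact₁ _ hc (m - 1) m (by omega)
  rw [ShortComplex.ab_exact_iff] at hex
  obtain ⟨g, hg⟩ := hex y (by
    change y ≫ (Pi.lift a)⟦m⟧' = 0
    apply shift_pi_hom_ext K m
    intro n
    rw [Category.assoc, ← Functor.map_comp, Pi.lift_π, zero_comp, hy])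
  change X ⟶ (∏ᶜ K)⟦m - 1⟧ at g
  obtain ⟨hh, hhh⟩ := h (fun n => g ≫ (Pi.π K n)⟦m - 1⟧')
  obtain ⟨f, hf⟩ := shift_pi_lift K (m - 1) hh
  have hfg : f ≫ (Pi.lift fun n => Pi.π K n - Pi.π K (n + 1) ≫ t n)⟦m - 1⟧' = g := by
    apply shift_pi_hom_ext K (m - 1)
    intro n
    rw [Category.assoc, ← Functor.map_comp, Pi.lift_π, Functor.map_sub,
      Functor.map_comp, Preadditive.comp_sub, ← Category.assoc, hf, hf]
    exact congrFun hhh n
  have h0 := F.comp_homologySequenceδ _ hc (m - 1) m (by omega)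
  have h1 := congrArg (fun φ => φ.hom f) h0
  rw [← hg]
  have : g = ((F.shift (m - 1)).map
      (Pretriangulated.Triangle.mk (Pi.lift a) (Pi.lift fun n => Pi.π K n - Pi.π K (n + 1) ≫ t n) c).mor₂).hom f := hfg.symm
  rw [this]
  exact h1

end Groth.Agent.Helper24.RlimSeq
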