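import Mathlib
import Groth.Prelude.Def_DCoh2
import Groth.Agent.Lib.Helper24.AffHom1
import Groth.Agent.Lib.Helper29.QcD
import Groth.Agent.Lib.Helper14.TildeExact

/-!
`Hom_K → Hom_D` on `Spec R` for complexes of quasi-coherent modules with K-projective sections
(helper24).
-/

set_option autoImplicit false
set_option linter.unusedSectionVars false
universe u
open CategoryTheory CategoryTheory.Limits AlgebraicGeometry DerivedCategory

attribute [local instance] HasDerivedCategory.standard

namespace Groth.Agent.Helper24.AffHom

open Groth.Agent.Helper29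

variable (R : CommRingCat.{u})

instance : PreservesFiniteLimits (tilde.functor R) := Groth.Agent.Helper14.tilde_preservesFiniteLimits

/-- the tilde functor on complexes -/
noncomputable abbrev tC : CochainComplex (ModuleCat.{u} R) ℤ ⥤ CochainComplex (QcD.X R).Modules ℤ :=
  (QcD.F R).mapHomologicalComplex (ComplexShape.up ℤ)

/-- global sections on complexes -/
noncomputable abbrev gC : CochainComplex (QcD.X R).Modules ℤ ⥤ CochainComplex (ModuleCat.{u} R) ℤ :=
  (QcD.G R).mapHomologicalComplex (ComplexShape.up ℤ)

theorem qh_bijective_tilde (P M : CochainComplex (ModuleCat.{u} R) ℤ) [P.IsKProjective] :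
    Function.Bijective (fun φ : (HomotopyCategory.quotient _ (ComplexShape.up ℤ)).obj ((tC R).obj P) ⟶
        (HomotopyCategory.quotient _ (ComplexShape.up ℤ)).obj ((tC R).obj M) => Qh.map φ) := by
  haveI := QcD.full R
  haveI := QcD.faithful R
  refine (qh_bijective_iff (QcD.F R) ((HomotopyCategory.quotient _ (ComplexShape.up ℤ)).obj P)
    ((HomotopyCategory.quotient _ (ComplexShape.up ℤ)).obj M) ?_ ?_).1 ?_
  · exact (Functor.FullyFaithful.ofFullyFaithful
      ((QcD.F R).mapHomotopyCategory (ComplexShape.up ℤ))).map_bijective _ _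
  · exact (Functor.FullyFaithful.ofFullyFaithful (QcD.F R).mapDerivedCategory).map_bijective _ _
  · exact CochainComplex.IsKProjective.Qh_map_bijective P _

lemma isIso_counit_app (M : (QcD.X R).Modules) (hM : M.IsQuasicoherent) :
    IsIso ((QcD.adj R).counit.app M) := by
  haveI := hM
  exact inferInstanceAs (IsIso M.fromTildeΓ)

/-- the counit on a complex with quasi-coherent terms -/
noncomputable def counitIso (E : CochainComplex (QcD.X R).Modules ℤ)
    (hE : ∀ i, (E.X i).IsQuasicoherent) : (tC R).obj ((gC R).obj E) ≅ E :=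
  HomologicalComplex.Hom.isoOfComponents
    (fun i => @asIso _ _ _ _ ((QcD.adj R).counit.app (E.X i)) (isIso_counit_app R (E.X i) (hE i)))
    (fun i j _ => by
      exact ((QcD.adj R).counit.naturality (E.d i j)).symm)

theorem qh_bijective_spec (E F : CochainComplex (QcD.X R).Modules ℤ)
    (hE : ∀ i, (E.X i).IsQuasicoherent) (hF : ∀ i, (F.X i).IsQuasicoherent)
    [((gC R).obj E).IsKProjective] :
    Function.Bijective (fun φ : (HomotopyCategory.quotient _ (ComplexShape.up ℤ)).obj E ⟶
        (HomotopyCategory.quotient _ (ComplexShape.up ℤ)).obj F => Qh.map φ) :=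
  qh_bijective_of_iso
    ((HomotopyCategory.quotient _ (ComplexShape.up ℤ)).mapIso (counitIso R E hE))
    ((HomotopyCategory.quotient _ (ComplexShape.up ℤ)).mapIso (counitIso R F hF))
    (qh_bijective_tilde R ((gC R).obj E) ((gC R).obj F))

end Groth.Agent.Helper24.AffHom
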