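import Mathlib
import Groth.Prelude.Def_DCoh2
import Groth.Prelude.Def_FlatMod2
import Groth.Agent.Lib.Helper24.AffHom2
import Groth.Agent.Lib.Helper13.LocFree3
import Groth.Agent.Lib.Helper13.QCohPush
import Groth.Agent.Lib.Helper13.ExtQCoh
import Groth.Agent.Lib.Helper13.Retract

/-!
`Hom_K → Hom_D` on an affine scheme for bounded above complexes of finite locally free modules
(helper24).
-/

set_option autoImplicit false
set_option linter.unusedSectionVars false
universe u
open CategoryTheory CategoryTheory.Limits AlgebraicGeometry DerivedCategory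

attribute [local instance] HasDerivedCategory.standard

namespace Groth.Agent.Helper24.AffHom

open Groth.Agent.Helper29

section Iso
variable {X S : Scheme.{u}} (e : X ≅ S)

/-- pushforward along an isomorphism -/
noncomputable abbrev pushIso : X.Modules ⥤ S.Modules := Scheme.Modules.pushforward e.hom

noncomputable def pushIsoComp : pushIso e ⋙ pushIso e.symm ≅ 𝟭 X.Modules :=
  Scheme.Modules.pushforwardComp e.hom e.inv ≪≫
    Scheme.Modules.pushforwardCongr e.hom_inv_id ≪≫ Scheme.Modules.pushforwardId X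

noncomputable def pushIsoEquiv : X.Modules ≌ S.Modules :=
  CategoryTheory.Equivalence.mk (pushIso e) (pushIso e.symm) (pushIsoComp e).symm
    (pushIsoComp e.symm)

instance isEquivalence_pushIso : (pushIso e).IsEquivalence :=
  (pushIsoEquiv e).isEquivalence_functor

instance : PreservesFiniteLimits (pushIso e) := inferInstance
instance : PreservesFiniteColimits (pushIso e) := inferInstance

instance isEquivalence_pushIso_D : (pushIso e).mapDerivedCategory.IsEquivalence :=
  isEquivalence_mapDerivedCategory (pushIso e) (pushIso e.symm) (pushIsoComp e)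
    (pushIsoComp e.symm)

end Iso

section Affine
variable (X : Scheme.{u}) [IsAffine X]

/-- the ring of global functions -/
noncomputable abbrev RX : CommRingCat.{u} := Γ(X, ⊤)

/-- the canonical isomorphism with the spectrum -/
noncomputable def eX : X ≅ QcD.X (RX X) := X.isoSpec

/-- pushforward to the spectrum -/
noncomputable abbrev ΦX : X.Modules ⥤ (QcD.X (RX X)).Modules := pushIso (eX X)

variable {X}

lemma push_smul {X Y : Scheme.{u}} (f : X ⟶ Y) (M : X.Modules) (U : Y.Opens) (a : Γ(Y, U))
    (x : Γ((Scheme.Modules.pushforward f).obj M, U)) :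
    a • x = (f.app U a) • (show Γ(M, f ⁻¹ᵁ U) from x) := rfl

lemma smul_ΦX (M : X.Modules) (r : Γ(X, ⊤)) (y : Γ((ΦX X).obj M, ⊤)) :
    (r : RX X) • y = r • (show Γ(M, ⊤) from y) := by
  rw [Scheme.Modules.smul_Spec_def]
  have h1 : (Spec Γ(X, ⊤)).presheaf.map (⊤ : (Spec Γ(X, ⊤)).Opens).leTop.op = 𝟙 _ := by
    rw [Subsingleton.elim (⊤ : (Spec Γ(X, ⊤)).Opens).leTop (𝟙 _), op_id,
      CategoryTheory.Functor.map_id]
  rw [h1]
  refine (push_smul (eX X).hom M ⊤ _ y).trans ?_
  have h2 : (eX X).hom.app ⊤ = (Scheme.ΓSpecIso Γ(X, ⊤)).hom := Scheme.toSpecΓ_appTop X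
  have h3 : ((eX X).hom.app ⊤).hom ((Scheme.ΓSpecIso Γ(X, ⊤)).inv.hom r) = r := by
    rw [h2]
    exact congrArg (fun m => m.hom r) (Scheme.ΓSpecIso Γ(X, ⊤)).inv_hom_id
  exact congrArg (fun a : Γ(X, ⊤) => a • (show Γ(M, ⊤) from y)) h3

/-- sections of the pushforward to the spectrum, as a module over the ring of functions -/
noncomputable def sectionsEquiv (M : X.Modules) :
    Γ(M, ⊤) ≃ₗ[Γ(X, ⊤)] ((QcD.G (RX X)).obj ((ΦX X).obj M)) where
  toFun x := x
  invFun x := x
  left_inv _ := rfl
  right_inv _ := rfl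
  map_add' _ _ := rfl
  map_smul' r x := (smul_ΦX M r (show Γ((ΦX X).obj M, ⊤) from x)).symm

lemma isQuasicoherent_of_isFinLocFree {X : Scheme.{u}} (M : X.Modules)
    (hM : FlatMod.IsFinLocFree M) : M.IsQuasicoherent := by
  apply Groth.Agent.Helper13.Ext.isQuasicoherent_of_forall_exists_restrict
  intro x
  obtain ⟨U, n, hxU, ⟨e⟩⟩ := hM x
  exact ⟨U, hxU, Groth.Agent.Helper13.QCohLocal.isQuasicoherent_of_iso e.symm⟩

lemma projective_G_ΦX (M : X.Modules) (hM : FlatMod.IsFinLocFree M) :
    Projective ((QcD.G (RX X)).obj ((ΦX X).obj M)) := by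
  haveI : M.IsQuasicoherent := isQuasicoherent_of_isFinLocFree M hM
  obtain ⟨-, hp⟩ := Groth.Agent.Helper13.LocFree.projective_sections_of_isFinLocFree M hM
    (isAffineOpen_top X)
  haveI := hp
  have : Module.Projective Γ(X, ⊤) ((QcD.G (RX X)).obj ((ΦX X).obj M)) :=
    Module.Projective.of_equiv' (sectionsEquiv M)
  exact ModuleCat.projective_of_categoryTheory_projective _

theorem qh_bijective_affine (E F : CochainComplex X.Modules ℤ) (b : ℤ)
    (hEb : ∀ i : ℤ, b < i → IsZero (E.X i))
    (hE : ∀ i : ℤ, FlatMod.IsFinLocFree (E.X i)) (hF : ∀ i : ℤ, (F.X i).IsQuasicoherent) :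
    Function.Bijective (fun φ : (HomotopyCategory.quotient X.Modules (ComplexShape.up ℤ)).obj E ⟶
        (HomotopyCategory.quotient X.Modules (ComplexShape.up ℤ)).obj F => Qh.map φ) := by
  let ΦC := (ΦX X).mapHomologicalComplex (ComplexShape.up ℤ)
  have hK : ((gC (RX X)).obj (ΦC.obj E)).IsKProjective := by
    haveI : ((gC (RX X)).obj (ΦC.obj E)).IsStrictlyLE b := by
      rw [CochainComplex.isStrictlyLE_iff]
      intro i hi
      exact Functor.map_isZero (QcD.G (RX X)) (Functor.map_isZero (ΦX X) (hEb i hi))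
    haveI : ∀ n : ℤ, Projective (((gC (RX X)).obj (ΦC.obj E)).X n) := fun n =>
      projective_G_ΦX (E.X n) (hE n)
    exact CochainComplex.isKProjective_of_projective _ b
  have hqE : ∀ i, ((ΦC.obj E).X i).IsQuasicoherent := fun i => by
    haveI := isQuasicoherent_of_isFinLocFree (E.X i) (hE i)
    exact Groth.Agent.Helper13.QCohPush.isQuasicoherent_pushforward (eX X).hom (E.X i)
  have hqF : ∀ i, ((ΦC.obj F).X i).IsQuasicoherent := fun i => by
    haveI := hF i
    exact Groth.Agent.Helper13.QCohPush.isQuasicoherent_pushforward (eX X).hom (F.X i)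
  have hS := @qh_bijective_spec (RX X) (ΦC.obj E) (ΦC.obj F) hqE hqF hK
  refine (qh_bijective_iff (ΦX X) _ _ ?_ ?_).2 hS
  · exact (Functor.FullyFaithful.ofFullyFaithful
      ((ΦX X).mapHomotopyCategory (ComplexShape.up ℤ))).map_bijective _ _
  · exact (Functor.FullyFaithful.ofFullyFaithful (ΦX X).mapDerivedCategory).map_bijective _ _

end Affine

end Groth.Agent.Helper24.AffHom
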