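import Mathlib
import Groth.Prelude.Def_DCoh2
import Groth.Prelude.Def_FlatMod2
import Groth.Agent.Lib.Helper24.AffHom3

/-!
Consequences of `qh_bijective_affine`: null homotopies on affine schemes (helper24).
-/

set_option autoImplicit false
set_option linter.unusedSectionVars false
set_option linter.style.haveILetI false
universe u
open CategoryTheory CategoryTheory.Limits AlgebraicGeometry DerivedCategory
open ZeroObject

attribute [local instance] HasDerivedCategory.standard

namespace Groth.Agent.Helper24.AffHom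

variable {X : Scheme.{u}} [IsAffine X]

theorem homotopy_zero_of_comp_quasiIso (E F G : CochainComplex X.Modules ℤ) (b : ℤ)
    (hEb : ∀ i : ℤ, b < i → IsZero (E.X i))
    (hE : ∀ i : ℤ, FlatMod.IsFinLocFree (E.X i)) (hF : ∀ i : ℤ, (F.X i).IsQuasicoherent)
    (f : E ⟶ F) (g : F ⟶ G) [QuasiIso g] (hgf : Nonempty (Homotopy (f ≫ g) 0)) :
    Nonempty (Homotopy f 0) := by
  obtain ⟨h⟩ := hgf
  let q := HomotopyCategory.quotient X.Modules (ComplexShape.up ℤ)
  have h1 : q.map f ≫ q.map g = 0 := by
    rw [← q.map_comp]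
    exact (HomotopyCategory.eq_of_homotopy _ _ h).trans (q.map_zero _ _)
  have h2 : Qh.map (q.map f) ≫ Qh.map (q.map g) = 0 := by
    rw [← Qh.map_comp, h1, Qh.map_zero]
  haveI : IsIso (Qh.map (q.map g)) := by
    have : IsIso (Q.map g) := (isIso_Q_map_iff_quasiIso (φ := g)).2 inferInstance
    have hn := quotientCompQhIso_hom_naturality g
    have hiso : IsIso (Qh.map (q.map g) ≫ (quotientCompQhIso X.Modules).hom.app G) := by
      rw [hn]
      infer_instance
    exact IsIso.of_isIso_comp_right _ ((quotientCompQhIso X.Modules).hom.app G)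
  have h3 : Qh.map (q.map f) = 0 := by
    have := (cancel_mono (Qh.map (q.map g))).1 (h2.trans zero_comp.symm)
    exact this
  have h4 : q.map f = q.map 0 := by
    apply (qh_bijective_affine E F b hEb hE hF).1
    change Qh.map (q.map f) = Qh.map (q.map 0)
    rw [h3, q.map_zero, Qh.map_zero]
  exact ⟨HomotopyCategory.homotopyOfEq _ _ h4⟩

theorem acyclic_iff_homotopy_id_zero (E : CochainComplex X.Modules ℤ) (b : ℤ)
    (hEb : ∀ i : ℤ, b < i → IsZero (E.X i))
    (hE : ∀ i : ℤ, FlatMod.IsFinLocFree (E.X i)) :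
    E.Acyclic ↔ Nonempty (Homotopy (𝟙 E) 0) := by
  constructor
  · intro hA
    have hq : QuasiIso (0 : E ⟶ (0 : CochainComplex X.Modules ℤ)) := by
      rw [quasiIso_iff]
      intro i
      rw [quasiIsoAt_iff_exactAt _ _ (hA i)]
      exact HomologicalComplex.acyclic_of_isZero _ (isZero_zero _) i
    refine homotopy_zero_of_comp_quasiIso E E 0 b hEb hE
      (fun i => isQuasicoherent_of_isFinLocFree _ (hE i)) (𝟙 E) 0 ⟨Homotopy.ofEq (by simp)⟩
  · rintro ⟨h⟩ i
    rw [HomologicalComplex.exactAt_iff_isZero_homology]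
    rw [IsZero.iff_id_eq_zero]
    have := h.homologyMap_eq i
    rw [HomologicalComplex.homologyMap_id, HomologicalComplex.homologyMap_zero] at this
    exact this

end Groth.Agent.Helper24.AffHom
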