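import Groth.Agent.Lib.Helper13.ArtinBasis
import Mathlib.Algebra.BigOperators.Fin
import Mathlib.Data.Fintype.Pi
import Mathlib.RingTheory.Ideal.Maps
import Mathlib.Tactic

/-!
Artin's monomial basis of `R[t_1..t_n]` over `R[e_1..e_n]` (explicit form of helper13's
`exists_basis`), and the induced basis of `R[t]/(e_i - a_i)`.
-/

set_option autoImplicit false
universe u

namespace Groth.Agent.Helper24.ArtinMono

open Groth.Agent.Helper13.Artin

/-- the index type of the monomial basis -/
abbrev Idx (r : ℕ) : Type := (i : Fin r) → Fin (r - (i : ℕ))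

/-- the monomial attached to an exponent vector -/
noncomputable def mono (R : Type u) [CommRing R] (r : ℕ) (d : Idx r) : MvPolynomial (Fin r) R :=
  ∏ i : Fin r, MvPolynomial.X i ^ ((d i : ℕ))

/-- splitting off the first exponent -/
def idxEquiv (r : ℕ) : Idx (r + 1) ≃ Fin (r + 1) × Idx r where
  toFun d' := (Fin.cast (by simp) (d' 0), fun i => Fin.cast (by simp) (d' i.succ))
  invFun p := fun j => Fin.cases (motive := fun j : Fin (r + 1) => Fin (r + 1 - (j : ℕ)))
    (Fin.cast (by simp) p.1) (fun i => Fin.cast (by simp) (p.2 i)) j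
  left_inv d' := by
    funext j
    refine Fin.cases ?_ ?_ j
    · simp
    · intro i; simp
  right_inv p := by
    apply Prod.ext
    · simp
    · funext i; simp

theorem idxEquiv_fst_val (r : ℕ) (d' : Idx (r + 1)) :
    ((idxEquiv r d').1 : ℕ) = (d' 0 : ℕ) := rfl

theorem idxEquiv_snd_val (r : ℕ) (d' : Idx (r + 1)) (i : Fin r) :
    ((idxEquiv r d').2 i : ℕ) = (d' i.succ : ℕ) := rfl

theorem monoBasis (R : Type u) [CommRing R] (r : ℕ) : IsBasisVia (EE R r) (mono R r) := by
  induction r with
  | zero =>
    have hE : EE R 0 = RingHom.id _ := by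
      apply MvPolynomial.ringHom_ext
      · intro a
        simp [EE_apply]
      · intro i
        exact i.elim0
    rw [hE]
    have e : Idx 0 ≃ Fin 1 := Equiv.ofUnique _ _
    have := (isBasisVia_id_one (S := MvPolynomial (Fin 0) R)).reindex e
    convert this using 1
    funext d
    simp [mono]
  | succ r ih =>
    have h1 := (isBasisVia_psi R r).comp ih.polynomial
    have h2 := h1.map_equiv (fseR R r).symm
    have h3 : ((fseR R r).symm : Polynomial (MvPolynomial (Fin r) R) →+* MvPolynomial (Fin (r + 1)) R).comp
        ((Polynomial.mapRingHom (EE R r)).comp (psiR R r)) = EE R (r + 1) := by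
      rw [← fse_EE]
      apply RingHom.ext
      intro x
      simp only [RingHom.comp_apply, RingHom.coe_coe, RingEquiv.symm_apply_apply]
    rw [h3] at h2
    have h4 := h2.reindex (idxEquiv r)
    convert h4 using 1
    funext d'
    have e1 : MvPolynomial.finSuccEquiv R r (MvPolynomial.X 0 ^ ((d' 0 : ℕ))) =
        Polynomial.X ^ ((d' 0 : ℕ)) := by
      rw [map_pow, MvPolynomial.finSuccEquiv_X_zero]
    have e2 : MvPolynomial.finSuccEquiv R r (∏ i : Fin r, MvPolynomial.X i.succ ^ ((d' i.succ : ℕ))) =
        Polynomial.C (mono R r (idxEquiv r d').2) := by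
      rw [map_prod]
      unfold mono
      rw [map_prod]
      apply Finset.prod_congr rfl
      intro i _
      rw [map_pow, map_pow, MvPolynomial.finSuccEquiv_X_succ, idxEquiv_snd_val]
    have e3 : Polynomial.mapRingHom (EE R r) (Polynomial.X ^ ((d' 0 : ℕ))) =
        Polynomial.X ^ ((d' 0 : ℕ)) := by
      rw [Polynomial.coe_mapRingHom, Polynomial.map_pow, Polynomial.map_X]
    show mono R (r + 1) d' = _
    unfold mono
    rw [Fin.prod_univ_succ]
    symm
    rw [RingEquiv.symm_apply_eq, fseR_apply, map_mul, e1, e2, idxEquiv_fst_val, e3]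
    rfl

section Quot

variable (R : Type u) [CommRing R] (r : ℕ) (a : Fin r → R)

/-- `R[t]/(e_i - a_i)` is free over `R` on the monomials `t^d`. -/
theorem quot_bijective {ι : Type*} [Fintype ι] (b : ι → MvPolynomial (Fin r) R)
    (hb : IsBasisVia (EE R r) b) :
    Function.Bijective (fun c : ι → R =>
      Ideal.Quotient.mk (Ia R r a) (∑ k, MvPolynomial.C (c k) * b k)) := by
  classical
  have hL : ∀ c : ι → R, (∑ k, MvPolynomial.C (c k) * b k) =
      ∑ k, EE R r (MvPolynomial.C (c k)) * b k := by
    intro c
    apply Finset.sum_congr rfl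
    intro k _
    rw [EE_apply, MvPolynomial.aeval_C, MvPolynomial.algebraMap_eq]
  constructor
  · intro c c' hcc
    simp only at hcc
    rw [Ideal.Quotient.eq, ← Finset.sum_sub_distrib] at hcc
    have hc : (∑ k, MvPolynomial.C (c k - c' k) * b k) ∈ Ia R r a := by
      convert hcc using 1
      apply Finset.sum_congr rfl
      intro k _
      rw [map_sub, sub_mul]
    rw [hL] at hc
    obtain ⟨g, hg⟩ := (Ideal.mem_span_range_iff_exists_fun).1 hc
    choose q hq using fun i => hb.2 (g i)
    have key : (fun p : ι → MvPolynomial (Fin r) R => ∑ k, EE R r (p k) * b k)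
          (fun k => MvPolynomial.C (c k - c' k)) =
        (fun p : ι → MvPolynomial (Fin r) R => ∑ k, EE R r (p k) * b k)
          (fun k => ∑ i, q i k * (MvPolynomial.X i - MvPolynomial.C (a i))) := by
      simp only
      rw [← hg]
      simp only [← hq, map_sum, map_mul, map_sub, Finset.sum_mul]
      rw [Finset.sum_comm]
      apply Finset.sum_congr rfl
      intro k _
      apply Finset.sum_congr rfl
      intro i _
      simp only [EE_apply, MvPolynomial.aeval_X, MvPolynomial.aeval_C]
      simp only [MvPolynomial.algebraMap_eq]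
      ring
    have h1 := hb.1 key
    funext k
    have hk := congrFun h1 k
    have h2 := congrArg (MvPolynomial.eval a) hk
    have h3 : c k - c' k = 0 := by simpa using h2
    exact sub_eq_zero.mp h3
  · intro t
    obtain ⟨f, rfl⟩ := Ideal.Quotient.mk_surjective t
    obtain ⟨p, rfl⟩ := hb.2 f
    refine ⟨fun k => MvPolynomial.eval a (p k), ?_⟩
    simp only [map_sum, map_mul, mk_EE]

end Quot

end Groth.Agent.Helper24.ArtinMono
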