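import Groth.Prelude.Def_GrMap

/-!
# Criteria for injectivity / surjectivity of `AssocGr.map` (helper24)
-/

universe u v

open Polynomial

namespace Groth.Agent.Helper24.AssocGrLib

open AssocGr

variable {A : Type u} {B : Type v} [CommRing A] [CommRing B] {φ : A →+* B}
  {𝓕 : FiltBl.IdealFiltration A} {𝓖 : FiltBl.IdealFiltration B}

theorem map_injective_of (h : IsFiltHom φ 𝓕 𝓖)
    (hinj : ∀ n a, a ∈ 𝓕.F n → φ a ∈ 𝓖.F (n + 1) → a ∈ 𝓕.F (n + 1)) :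
    Function.Injective (AssocGr.map h) := by
  rw [injective_iff_map_eq_zero]
  intro x hx
  obtain ⟨f, rfl⟩ := mkG_surjective 𝓕 x
  rw [map_mkG, mkG_eq_zero_iff, mem_succIdeal_iff] at hx
  rw [mkG_eq_zero_iff, mem_succIdeal_iff]
  intro n
  have := hx n
  rw [coe_reesMap, Polynomial.coeff_map] at this
  exact hinj n _ (f.2 n) this

theorem inDeg_eq_of_sub_mem (n : ℕ) (a b : 𝓖.F n) (hab : (a : B) - b ∈ 𝓖.F (n + 1)) :
    inDeg 𝓖 n a = inDeg 𝓖 n b := by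
  rw [← sub_eq_zero, ← map_sub, inDeg_eq_zero_iff]
  exact hab

theorem map_surjective_of (h : IsFiltHom φ 𝓕 𝓖)
    (hsurj : ∀ n b, b ∈ 𝓖.F n → ∃ a ∈ 𝓕.F n, φ a - b ∈ 𝓖.F (n + 1)) :
    Function.Surjective (AssocGr.map h) := by
  intro y
  obtain ⟨g, rfl⟩ := mkG_surjective 𝓖 y
  rw [← sum_term 𝓖 g, map_sum]
  have hmem : ∀ n ∈ (g : B[X]).support, mkG 𝓖 (term 𝓖 g n) ∈ (AssocGr.map h).range := by
    intro n _
    rw [mkG_term]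
    obtain ⟨a, ha, hab⟩ := hsurj n _ (g.2 n)
    refine ⟨(inDeg 𝓕 n ⟨a, ha⟩ : GrRing 𝓕), ?_⟩
    rw [map_inDeg]
    exact congrArg Subtype.val (inDeg_eq_of_sub_mem n _ _ hab)
  exact (AssocGr.map h).range.sum_mem hmem

theorem of_map_injective (h : IsFiltHom φ 𝓕 𝓖) (hinj : Function.Injective (AssocGr.map h))
    (n : ℕ) (a : A) (ha : a ∈ 𝓕.F n) (hφ : φ a ∈ 𝓖.F (n + 1)) : a ∈ 𝓕.F (n + 1) := by
  have h1 : AssocGr.map h (inDeg 𝓕 n ⟨a, ha⟩ : GrRing 𝓕) = 0 := by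
    rw [map_inDeg]
    have : inDeg 𝓖 n ⟨φ a, h.apply_mem ha⟩ = 0 := (inDeg_eq_zero_iff 𝓖 n _).mpr hφ
    rw [this]; rfl
  have h2 := hinj (h1.trans (map_zero _).symm)
  exact (inDeg_eq_zero_iff 𝓕 n ⟨a, ha⟩).mp (Subtype.ext h2)

theorem of_map_surjective (h : IsFiltHom φ 𝓕 𝓖) (hs : Function.Surjective (AssocGr.map h))
    (n : ℕ) (b : B) (hb : b ∈ 𝓖.F n) : ∃ a ∈ 𝓕.F n, φ a - b ∈ 𝓖.F (n + 1) := by
  obtain ⟨x, hx⟩ := hs (inDeg 𝓖 n ⟨b, hb⟩ : GrRing 𝓖)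
  obtain ⟨f, rfl⟩ := mkG_surjective 𝓕 x
  rw [map_mkG, coe_inDeg, ← sub_eq_zero, ← map_sub, mkG_eq_zero_iff, mem_succIdeal_iff] at hx
  refine ⟨(f : A[X]).coeff n, f.2 n, ?_⟩
  have := hx n
  rw [Subalgebra.coe_sub, coe_reesMap, coe_coe_monom, Polynomial.coeff_sub, Polynomial.coeff_map,
    Polynomial.coeff_monomial, if_pos rfl] at this
  exact this

end Groth.Agent.Helper24.AssocGrLib
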