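import Groth.Prelude.Def_AssocGrMod
import Mathlib.RingTheory.AdicCompletion.Basic

/-!
# Lifting generators from the associated graded module (helper24)
-/

universe u

open Polynomial

namespace Groth.Agent.Helper24.AssocGrModLib

open AssocGr

theorem smodeq_iff {A : Type u} [CommRing A] (I : Ideal A) (n : ℕ) (x y : A) :
    x ≡ y [SMOD (I ^ n • ⊤ : Submodule A A)] ↔ x - y ∈ I ^ n := by
  rw [SModEq.sub_mem, smul_eq_mul, Ideal.mul_top]

/-- Precompleteness: a sequence with `s (k+1) - s k ∈ I^k` has a limit. -/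
theorem exists_limit {A : Type u} [CommRing A] (I : Ideal A) [IsPrecomplete I A]
    (s : ℕ → A) (hs : ∀ k, s (k + 1) - s k ∈ I ^ k) : ∃ L : A, ∀ k, s k - L ∈ I ^ k := by
  have hC : ∀ {m n}, m ≤ n → s m ≡ s n [SMOD (I ^ m • ⊤ : Submodule A A)] := by
    intro m n hmn
    rw [smodeq_iff]
    induction n, hmn using Nat.le_induction with
    | base => simp
    | succ n hmn ih =>
      have h1 : s m - s (n + 1) = (s m - s n) - (s (n + 1) - s n) := by ring
      rw [h1]
      exact (I ^ m).sub_mem ih (Ideal.pow_le_pow_right hmn (hs n))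
  obtain ⟨L, hL⟩ := IsPrecomplete.prec' (I := I) s hC
  exact ⟨L, fun k => (smodeq_iff I k _ _).mp (hL k)⟩

variable {A : Type u} [CommRing A] {I : Ideal A} {M : Type u} [AddCommGroup M] [Module A M]
  (F : I.Filtration M)

theorem coeff_sub (y y' : ReesM F) (n : ℕ) :
    ReesM.coeff F (y - y') n = ReesM.coeff F y n - ReesM.coeff F y' n := by
  rw [← ReesM.coeffHom_apply, map_sub]; rfl

theorem coeff_sum {ι : Type*} (s : Finset ι) (y : ι → ReesM F) (n : ℕ) :
    ReesM.coeff F (∑ i ∈ s, y i) n = ∑ i ∈ s, ReesM.coeff F (y i) n := by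
  rw [← ReesM.coeffHom_apply, map_sum]; rfl

theorem coeff_smul_monomM (f : ↥(FiltBl.IdealFiltration.adic I).rees) (d : ℕ) (x : F.N d) (n : ℕ) :
    ReesM.coeff F (f • monomM F d x) n =
      if d ≤ n then (f : A[X]).coeff (n - d) • (x : M) else 0 := by
  rw [ReesM.coeff_smul]
  simp only [ReesM.coeff_monomM, smul_ite, smul_zero]
  split_ifs with h
  · rw [Finset.sum_eq_single (n - d, d)]
    · rw [if_pos rfl]
    · rintro ⟨p, q⟩ hpq hne
      rw [Finset.mem_antidiagonal] at hpq
      simp only at hpq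
      have : ¬ d = q := by
        intro hq
        apply hne
        subst hq
        congr 1
        omega
      rw [if_neg this]
    · intro h'
      exact absurd (Finset.mem_antidiagonal.mpr (by simp; omega)) h'
  · refine Finset.sum_eq_zero fun p hp => ?_
    rw [Finset.mem_antidiagonal] at hp
    have : ¬ d = p.2 := by omega
    rw [if_neg this]

/-- If the class of `m ∈ N_n` lies in the `G`-span of the classes of the `x i ∈ N_{d i}`, then `m`
is approximated modulo `N_{n+1}` by a combination of the `x i` with coefficients in `I^(n - d i)`. -/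
theorem exists_approx {ι : Type*} [Fintype ι] (d : ι → ℕ) (x : (i : ι) → ↥(F.N (d i)))
    (n : ℕ) (m : M) (hm : m ∈ F.N n)
    (hmem : (inDegM F n ⟨m, hm⟩ : GrMod F) ∈
      Submodule.span (GrRing (FiltBl.IdealFiltration.adic I))
        (Set.range fun i => (inDegM F (d i) (x i) : GrMod F))) :
    ∃ a : ι → A, (∀ i, a i ∈ I ^ (n - d i)) ∧ (∀ i, n < d i → a i = 0) ∧
      m - ∑ i, a i • ((x i : ↥(F.N (d i))) : M) ∈ F.N (n + 1) := by
  classical
  obtain ⟨c, hc⟩ := (Submodule.mem_span_range_iff_exists_fun _).mp hmem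
  choose f hf using fun i => mkG_surjective (FiltBl.IdealFiltration.adic I) (c i)
  have h1 : mkGM F (monomM F n ⟨m, hm⟩ - ∑ i, f i • monomM F (d i) (x i)) = 0 := by
    rw [map_sub, map_sum, sub_eq_zero, ← coe_inDegM, ← hc]
    refine Finset.sum_congr rfl fun i _ => ?_
    rw [← hf i, coe_inDegM, mkG_smul_mkGM]
  rw [mkGM_eq_zero_iff, mem_succMod_iff] at h1
  have h2 := h1 n
  rw [coeff_sub, coeff_sum, ReesM.coeff_monomM, if_pos rfl] at h2
  refine ⟨fun i => if d i ≤ n then ((f i : ↥(FiltBl.IdealFiltration.adic I).rees) : A[X]).coeff (n - d i)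
    else 0, ?_, ?_, ?_⟩
  · intro i
    dsimp only
    split_ifs with h
    · exact (f i).2 (n - d i)
    · exact Ideal.zero_mem _
  · intro i hi
    dsimp only
    rw [if_neg (by omega)]
  · dsimp only
    have e : ∑ i, (if d i ≤ n then ((f i : ↥(FiltBl.IdealFiltration.adic I).rees) : A[X]).coeff (n - d i)
        else 0) • ((x i : ↥(F.N (d i))) : M) =
        ∑ i, ReesM.coeff F (f i • monomM F (d i) (x i)) n := by
      refine Finset.sum_congr rfl fun i _ => ?_
      rw [coeff_smul_monomM]
      split_ifs <;> simp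
    rw [e]
    exact h2

/-- Successive approximation: if every element of `P ∩ N_n` can be approximated modulo `N_{n+1}`
by combinations of the `x i ∈ P ∩ N_{d i}` with coefficients in `I^(n - d i)`, `A` is
`I`-adically precomplete and the filtration is separated, then `P ∩ N_0 ⊆ span (x i)`. -/
theorem mem_span_of_approx [IsPrecomplete I A] (hsep : ⨅ n, F.N n = ⊥)
    {ι : Type*} [Fintype ι] (d : ι → ℕ) (x : ι → M) (hx : ∀ i, x i ∈ F.N (d i))
    (P : Submodule A M) (hxP : ∀ i, x i ∈ P)
    (H : ∀ n m, m ∈ P → m ∈ F.N n → ∃ a : ι → A, (∀ i, a i ∈ I ^ (n - d i)) ∧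
      (∀ i, n < d i → a i = 0) ∧ m - ∑ i, a i • x i ∈ F.N (n + 1))
    (m : M) (hmP : m ∈ P) (hm0 : m ∈ F.N 0) : m ∈ Submodule.span A (Set.range x) := by
  classical
  choose! nxt hn1 hn2 hn3 using H
  let r : ℕ → M := fun n => Nat.rec m (fun n rn => rn - ∑ i, nxt n rn i • x i) n
  have hr0 : r 0 = m := rfl
  have hrs : ∀ n, r (n + 1) = r n - ∑ i, nxt n (r n) i • x i := fun n => rfl
  have hr : ∀ n, r n ∈ P ∧ r n ∈ F.N n := by
    intro n
    induction n with
    | zero => exact ⟨hmP, hm0⟩
    | succ n ih =>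
      rw [hrs]
      exact ⟨P.sub_mem ih.1 (P.sum_mem fun i _ => P.smul_mem _ (hxP i)), hn3 n (r n) ih.1 ih.2⟩
  let a : ℕ → ι → A := fun n => nxt n (r n)
  have ha1 : ∀ n i, a n i ∈ I ^ (n - d i) := fun n i => hn1 n (r n) (hr n).1 (hr n).2 i
  have hrsum : ∀ n, r n = m - ∑ i, (∑ j ∈ Finset.range n, a j i) • x i := by
    intro n
    induction n with
    | zero => simp [hr0]
    | succ n ih =>
      rw [hrs]
      change r n - ∑ i, a n i • x i = _
      rw [ih]
      simp only [Finset.sum_range_succ, add_smul, Finset.sum_add_distrib]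
      abel
  let D : ℕ := ∑ i, d i
  have hD : ∀ i, d i ≤ D := fun i => Finset.single_le_sum (fun _ _ => Nat.zero_le _) (Finset.mem_univ i)
  let t : ι → ℕ → A := fun i k => ∑ j ∈ Finset.range (k + D), a j i
  have ht : ∀ i k, t i (k + 1) - t i k ∈ I ^ k := by
    intro i k
    have : t i (k + 1) - t i k = a (k + D) i := by
      simp only [t]
      rw [show k + 1 + D = (k + D) + 1 by omega, Finset.sum_range_succ]
      ring
    rw [this]
    exact Ideal.pow_le_pow_right (by have := hD i; omega) (ha1 (k + D) i)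
  choose L hL using fun i => exists_limit I (t i) (ht i)
  have hfinal : m - ∑ i, L i • x i = 0 := by
    have hmem : m - ∑ i, L i • x i ∈ ⨅ n, F.N n := by
      rw [Submodule.mem_iInf]
      intro k
      have e : m - ∑ i, L i • x i = r (k + D) + ∑ i, (t i k - L i) • x i := by
        rw [hrsum]
        simp only [sub_smul, Finset.sum_sub_distrib, t]
        abel
      rw [e]
      refine (F.N k).add_mem (F.antitone (Nat.le_add_right k D) (hr (k + D)).2)
        ((F.N k).sum_mem fun i _ => ?_)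
      exact F.antitone (Nat.le_add_right k (d i))
        (F.pow_smul_le k (d i) (Submodule.smul_mem_smul (hL i k) (hx i)))
    rw [hsep] at hmem
    exact (Submodule.mem_bot A).mp hmem
  rw [sub_eq_zero] at hfinal
  rw [hfinal]
  exact Submodule.sum_mem _ fun i _ => Submodule.smul_mem _ _ (Submodule.subset_span ⟨i, rfl⟩)

/-- The homogeneous elements of `gr(M)` coming from a submodule `M'`. -/
def homogSet (M' : Submodule A M) : Set (GrMod F) :=
  {ξ | ∃ (n : ℕ) (z : F.N n), (z : M) ∈ M' ∧ ξ = (inDegM F n z : GrMod F)}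

/-- Every element of `gr(M)` is a sum of homogeneous elements. -/
theorem span_homogSet_top :
    Submodule.span (GrRing (FiltBl.IdealFiltration.adic I)) (homogSet F ⊤) = ⊤ := by
  rw [eq_top_iff]
  intro ξ _
  obtain ⟨y, rfl⟩ := mkGM_surjective F ξ
  rw [← sum_termM F y, map_sum]
  refine Submodule.sum_mem _ fun n _ => Submodule.subset_span ?_
  exact ⟨n, ⟨ReesM.coeff F y n, ReesM.coeff_mem F y n⟩, trivial, rfl⟩

/-- If the `G`-span of the classes of elements of `M'` is finitely generated then `M'` is finitely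
generated and closed. -/
theorem fg_and_closed [IsPrecomplete I A] (h0 : F.N 0 = ⊤) (hsep : ⨅ n, F.N n = ⊥)
    (M' : Submodule A M)
    (hW : (Submodule.span (GrRing (FiltBl.IdealFiltration.adic I)) (homogSet F M')).FG) :
    M'.FG ∧ ⨅ n, M' ⊔ F.N n = M' := by
  classical
  obtain ⟨T, hTsub, hTspan⟩ := (Submodule.fg_span_iff_fg_span_finset_subset _).mp hW
  choose n z hzM hzeq using fun ξ : T => hTsub ξ.2
  have hrange : (Set.range fun ξ : T => (inDegM F (n ξ) (z ξ) : GrMod F)) = (T : Set (GrMod F)) := by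
    ext η
    constructor
    · rintro ⟨ξ, rfl⟩
      dsimp only
      rw [← hzeq ξ]
      exact ξ.2
    · intro hη
      exact ⟨⟨η, hη⟩, (hzeq ⟨η, hη⟩).symm⟩
  set P : Submodule A M := ⨅ k, M' ⊔ F.N k with hP
  have hM'P : M' ≤ P := le_iInf fun k => le_sup_left
  have hPspan : P ≤ Submodule.span A (Set.range fun ξ : T => ((z ξ : ↥(F.N (n ξ))) : M)) := by
    intro m hm
    refine mem_span_of_approx F hsep n (fun ξ : T => ((z ξ : ↥(F.N (n ξ))) : M)) (fun ξ => (z ξ).2)
      P (fun ξ => hM'P (hzM ξ)) ?_ m hm (by rw [h0]; trivial)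
    intro k m' hm'P hm'k
    have h1 : m' ∈ M' ⊔ F.N (k + 1) := (Submodule.mem_iInf _).mp hm'P (k + 1)
    obtain ⟨m'', hm'', r, hr, rfl⟩ := Submodule.mem_sup.mp h1
    have hm''k : m'' ∈ F.N k := by
      have : m'' = (m'' + r) - r := by abel
      rw [this]
      exact (F.N k).sub_mem hm'k (F.antitone (Nat.le_succ k) hr)
    have hmem : (inDegM F k ⟨m'', hm''k⟩ : GrMod F) ∈
        Submodule.span (GrRing (FiltBl.IdealFiltration.adic I))
          (Set.range fun ξ : T => (inDegM F (n ξ) (z ξ) : GrMod F)) := by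
      rw [hrange, ← hTspan]
      exact Submodule.subset_span ⟨k, ⟨m'', hm''k⟩, hm'', rfl⟩
    obtain ⟨a, ha1, ha2, ha3⟩ := exists_approx F n z k m'' hm''k hmem
    refine ⟨a, ha1, ha2, ?_⟩
    have : m'' + r - ∑ i, a i • ((z i : ↥(F.N (n i))) : M) =
        (m'' - ∑ i, a i • ((z i : ↥(F.N (n i))) : M)) + r := by abel
    rw [this]
    exact (F.N (k + 1)).add_mem ha3 hr
  have hspanM' : Submodule.span A (Set.range fun ξ : T => ((z ξ : ↥(F.N (n ξ))) : M)) ≤ M' := by
    rw [Submodule.span_le]
    rintro _ ⟨ξ, rfl⟩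
    exact hzM ξ
  have hPM' : P = M' := le_antisymm (hPspan.trans hspanM') hM'P
  refine ⟨?_, hPM'⟩
  have : M' = Submodule.span A (Set.range fun ξ : T => ((z ξ : ↥(F.N (n ξ))) : M)) :=
    le_antisymm (hM'P.trans hPspan) hspanM'
  rw [this]
  exact Submodule.fg_span (Set.finite_range _)

end Groth.Agent.Helper24.AssocGrModLib
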