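import Mathlib
import Groth.Agent.Lib.Helper24.ExtVanish

/-!
# Hom into an acyclic object is exact on a resolution by acyclic-for-it objects
-/

universe w v u
set_option linter.unusedSectionVars false
set_option linter.style.haveILetI false
open CategoryTheory CategoryTheory.Limits

namespace Groth.Agent.Helper24.CechAcyc

open Abelian Groth.Agent.Helper24.ExtVanish

variable {A : Type u} [Category.{v} A] [Abelian A] [HasExt.{w} A]

/-- `F` has vanishing higher Ext out of every object in the class `T` -/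
def Acyc (T : A → Prop) (F : A) : Prop := ∀ X, T X → ∀ p : ℕ, Subsingleton (Ext X F (p + 1))

lemma acyc_X₃ (T : A → Prop) {S : ShortComplex A} (hS : S.ShortExact) [Injective S.X₂]
    (h : Acyc T S.X₁) : Acyc T S.X₃ := by
  intro X hX p
  refine ⟨fun a b => ?_⟩
  have key : ∀ x : Ext X S.X₃ (p + 1), x = 0 := by
    intro x
    have h0 : x.comp hS.extClass (rfl : p + 1 + 1 = p + 1 + 1) = 0 :=
      @Subsingleton.elim _ (h X hX (p + 1)) _ _
    obtain ⟨x₂, hx₂⟩ := Ext.covariant_sequence_exact₃ X hS x rfl h0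
    have : x₂ = 0 := @Subsingleton.elim _ (Ext.subsingleton_of_injective (X := X) (I := S.X₂) p) _ _
    rw [← hx₂, this, Ext.zero_comp]
  rw [key a, key b]

lemma lift_of_ext_one {S : ShortComplex A} (hS : S.ShortExact) (X : A)
    (h : Subsingleton (Ext X S.X₁ 1)) (ω : X ⟶ S.X₃) : ∃ ω' : X ⟶ S.X₂, ω' ≫ S.g = ω := by
  have h0 : (Ext.mk₀ ω).comp hS.extClass (zero_add 1) = 0 := Subsingleton.elim _ _
  obtain ⟨x₂, hx₂⟩ := Ext.covariant_sequence_exact₃ X hS (Ext.mk₀ ω) (zero_add 1) h0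
  obtain ⟨ω', rfl⟩ := (Ext.mk₀_bijective X S.X₂).2 x₂
  refine ⟨ω', ?_⟩
  rw [Ext.mk₀_comp_mk₀] at hx₂
  exact (Ext.mk₀_bijective X S.X₃).1 hx₂

/-- the generic dimension shifting step -/
lemma step {X₃ X₂ X₁ X₀ : A} (a : X₃ ⟶ X₂) (b : X₂ ⟶ X₁) (c : X₁ ⟶ X₀) (hab : a ≫ b = 0)
    (hbc : b ≫ c = 0) (hex : (ShortComplex.mk a b hab).Exact)
    {S : ShortComplex A} (hS : S.ShortExact) [Injective S.X₂]
    (φ : X₂ ⟶ S.X₁) (hφ : a ≫ φ = 0)
    (H1 : ∀ θ : X₁ ⟶ S.X₃, b ≫ θ = 0 → ∃ ω : X₀ ⟶ S.X₃, c ≫ ω = θ)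
    (H2 : Subsingleton (Ext X₀ S.X₁ 1)) :
    ∃ ψ : X₁ ⟶ S.X₁, b ≫ ψ = φ := by
  let χ : X₁ ⟶ S.X₂ := hex.descToInjective (φ ≫ S.f) (by
    change a ≫ φ ≫ S.f = 0
    rw [← Category.assoc, hφ, zero_comp])
  have hχ : b ≫ χ = φ ≫ S.f := hex.comp_descToInjective _ _
  obtain ⟨ω, hω⟩ := H1 (χ ≫ S.g) (by rw [← Category.assoc, hχ, Category.assoc, S.zero, comp_zero])
  obtain ⟨ω', hω'⟩ := lift_of_ext_one hS X₀ H2 ω
  have h0 : (χ - c ≫ ω') ≫ S.g = 0 := by
    rw [Preadditive.sub_comp, Category.assoc, hω', hω, sub_self]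
  haveI := hS.mono_f
  refine ⟨hS.exact.lift (χ - c ≫ ω') h0, ?_⟩
  rw [← cancel_mono S.f, Category.assoc, hS.exact.lift_f, Preadditive.comp_sub, hχ,
    ← Category.assoc, hbc, zero_comp, sub_zero]

variable [EnoughInjectives A]

/-- the main lemma: cocycles of `Hom(P, F)` in positive degree are coboundaries -/
theorem exists_cobound (P : ChainComplex A ℕ) (Z : A) (ε : P.X 0 ⟶ Z) (hε : P.d 1 0 ≫ ε = 0)
    (hε' : (ShortComplex.mk _ _ hε).Exact) (hepi : Epi ε)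
    (hP : ∀ n, (P.sc' (n + 1 + 1) (n + 1) n).Exact) (T : A → Prop) (hZ : T Z) (hT : ∀ n, T (P.X n)) :
    ∀ (q : ℕ) (F : A), Acyc T F → ∀ φ : P.X (q + 1) ⟶ F, P.d (q + 1 + 1) (q + 1) ≫ φ = 0 →
      ∃ ψ : P.X q ⟶ F, P.d (q + 1) q ≫ ψ = φ := by
  intro q
  induction q with
  | zero =>
    intro F hF φ hφ
    have hS := injSES_shortExact F
    haveI : Injective (injSES F).X₂ := inferInstanceAs (Injective (Injective.under F))
    refine step (P.d 2 1) (P.d 1 0) ε (P.d_comp_d _ _ _) hε (hP 0) hS φ hφ ?_ (hF Z hZ 0)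
    intro θ hθ
    haveI : Epi (ShortComplex.mk _ _ hε).g := hepi
    exact ⟨hε'.desc θ hθ, hε'.g_desc θ hθ⟩
  | succ q ih =>
    intro F hF φ hφ
    have hS := injSES_shortExact F
    haveI : Injective (injSES F).X₂ := inferInstanceAs (Injective (Injective.under F))
    refine step (P.d (q + 1 + 1 + 1) (q + 1 + 1)) (P.d (q + 1 + 1) (q + 1)) (P.d (q + 1) q)
      (P.d_comp_d _ _ _) (P.d_comp_d _ _ _) (hP (q + 1)) hS φ hφ ?_ (hF _ (hT q) 0)
    intro θ hθ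
    exact ih (injSES F).X₃ (acyc_X₃ T hS hF) θ hθ

end Groth.Agent.Helper24.CechAcyc
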