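import Mathlib
import Groth.Prelude.Def_CechEdge
import Groth.Agent.Lib.Helper24.CechEdgeLib
import Groth.Agent.S16020

universe u
set_option linter.unusedSectionVars false
open CategoryTheory CategoryTheory.Limits Opposite

namespace Groth.Agent.Helper24.CechRefine

open Groth.Agent.Helper24.CechEv Groth.Agent.Helper24.CechDelta Groth.Agent.Helper24.CechEff
  Groth.Agent.Helper24.CechH Groth.Agent.Helper24.CechEdgeLib

section General
variable {D : Type u} [Category.{u} D] [HasFiniteProducts D] {ι κ : Type u} (Y : ι → D) (Y' : κ → D)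
  (f : FormalCoproduct.mk ι Y ⟶ FormalCoproduct.mk κ Y')
  (Q : Dᵒᵖ ⥤ AddCommGrpCat.{u})

/-- the refinement map on Čech complexes -/
noncomputable def refineCx : cech Y' Q ⟶ cech Y Q :=
  (AlgebraicTopology.alternatingCofaceMapComplex AddCommGrpCat.{u}).map
    (((Functor.whiskeringLeft _ _ _).map (NatTrans.rightOp (FormalCoproduct.cechFunctor.map f))).app
      ((FormalCoproduct.evalOp.{u} D AddCommGrpCat.{u}).obj Q))

/-- push a tuple forward along a refinement -/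
def pushσ {n : ℕ} {T : D} (σ : Fin (n+1) → Sg Y T) : Fin (n+1) → Sg Y' T :=
  fun k => ⟨f.f (σ k).1, (σ k).2 ≫ f.φ (σ k).1⟩

lemma refineCx_f (n : ℕ) :
    (refineCx Y Y' f Q).f n = (Pi.lift fun a : Fin (n+1) → ι =>
      Pi.π (fun a' : Fin (n+1) → κ => Q.obj (op (∏ᶜ (Y' ∘ a')))) (f.f ∘ a) ≫
        Q.map (Limits.Pi.map (fun k => f.φ (a k)) : ∏ᶜ (Y ∘ a) ⟶ ∏ᶜ (Y' ∘ (f.f ∘ a))).op :
      (cech Y' Q).X n ⟶ (cech Y Q).X n) := rfl

lemma refine_ev {n : ℕ} (T : D) (σ : Fin (n+1) → Sg Y T) :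
    (refineCx Y Y' f Q).f n ≫ ev Y Q T σ = ev Y' Q T (pushσ Y Y' f σ) := by
  rw [refineCx_f]
  unfold ev
  erw [Pi.lift_π_assoc]
  refine (Category.assoc _ _ _).trans ?_
  have this : (Pi.lift (fun k => (σ k).2) : T ⟶ ∏ᶜ (Y ∘ fun k => (σ k).1)) ≫
      (Limits.Pi.map (fun k => f.φ (σ k).1) : ∏ᶜ (Y ∘ fun k => (σ k).1) ⟶ ∏ᶜ (Y' ∘ (f.f ∘ fun k => (σ k).1))) =
      (Pi.lift (fun k => (pushσ Y Y' f σ k).2) : T ⟶ ∏ᶜ (Y' ∘ fun k => (pushσ Y Y' f σ k).1)) := by
    apply Pi.hom_ext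
    intro k
    erw [Category.assoc, Limits.Pi.map_π, Pi.lift_π_assoc, Pi.lift_π]
    rfl
  have key : Q.map (Limits.Pi.map (fun k => f.φ (σ k).1) :
        ∏ᶜ (Y ∘ fun k => (σ k).1) ⟶ ∏ᶜ (Y' ∘ (f.f ∘ fun k => (σ k).1))).op ≫
      Q.map (Pi.lift (fun k => (σ k).2) : T ⟶ ∏ᶜ (Y ∘ fun k => (σ k).1)).op =
      Q.map (Pi.lift (fun k => (pushσ Y Y' f σ k).2) : T ⟶ ∏ᶜ (Y' ∘ fun k => (pushσ Y Y' f σ k).1)).op := by
    rw [← Q.map_comp, ← op_comp, this]
    rfl
  exact congrArg (CategoryStruct.comp (Pi.π (fun a' : Fin (n+1) → κ => Q.obj (op (∏ᶜ (Y' ∘ a'))))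
    (fun k => (pushσ Y Y' f σ k).1))) key

variable {Q} in
lemma refine_naturality {Q' : Dᵒᵖ ⥤ AddCommGrpCat.{u}} (φ : Q ⟶ Q') :
    (cechComplexFunctor Y').map φ ≫ refineCx Y Y' f Q' = refineCx Y Y' f Q ≫ (cechComplexFunctor Y).map φ := by
  apply HomologicalComplex.hom_ext
  intro n
  apply CechEv.hom_ext
  intro T σ
  rw [HomologicalComplex.comp_f, HomologicalComplex.comp_f, Category.assoc, Category.assoc, refine_ev,
    map_ev, map_ev, ← Category.assoc, refine_ev]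

end General


section OverR
variable {C : Type u} [SmallCategory C] [HasPullbacks C] (J : GrothendieckTopology C) {U : C}
  {ι κ : Type u} (Y : ι → Over U) (Y' : κ → Over U)
  (f : FormalCoproduct.mk ι Y ⟶ FormalCoproduct.mk κ Y')

lemma cechRefine_eq (P : Cᵒᵖ ⥤ AddCommGrpCat.{u}) :
    CohCx.cechRefine P f = refineCx Y Y' f (QP P) := rfl

lemma toCech₀_refine (P : Cᵒᵖ ⥤ AddCommGrpCat.{u}) :
    CechEdge.toCech₀ P Y' ≫ (refineCx Y Y' f (QP P)).f 0 = CechEdge.toCech₀ P Y := by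
  apply CechEv.hom_ext
  intro T σ
  rw [Category.assoc, refine_ev, toCech₀_ev, toCech₀_ev]

lemma toCycles_refine (P : Cᵒᵖ ⥤ AddCommGrpCat.{u}) :
    CechEdge.toCycles P Y' ≫ HomologicalComplex.cyclesMap (refineCx Y Y' f (QP P)) 0 =
      CechEdge.toCycles P Y := by
  rw [← cancel_mono ((CechEdge.cx P Y).iCycles 0), Category.assoc]
  have h1 : HomologicalComplex.cyclesMap (refineCx Y Y' f (QP P)) 0 ≫ (CechEdge.cx P Y).iCycles 0 =
      (CechEdge.cx P Y').iCycles 0 ≫ (refineCx Y Y' f (QP P)).f 0 :=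
    HomologicalComplex.cyclesMap_i (refineCx Y Y' f (QP P)) 0
  refine (congrArg (CechEdge.toCycles P Y' ≫ ·) h1).trans ?_
  refine (Category.assoc _ _ _).symm.trans ?_
  refine (congrArg (· ≫ (refineCx Y Y' f (QP P)).f 0) (CechEdge.toCycles_i P Y')).trans ?_
  refine (toCech₀_refine Y Y' f P).trans ?_
  exact (CechEdge.toCycles_i P Y).symm

lemma toCech_refine (P : Cᵒᵖ ⥤ AddCommGrpCat.{u}) (s : P.obj (op U)) :
    (HomologicalComplex.homologyMap (refineCx Y Y' f (QP P)) 0).hom (CechEdge.toCech Y' P s) =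
      CechEdge.toCech Y P s := by
  have h : (CechEdge.toCycles P Y' ≫ (CechEdge.cx P Y').homologyπ 0) ≫
      HomologicalComplex.homologyMap (refineCx Y Y' f (QP P)) 0 =
      CechEdge.toCycles P Y ≫ (CechEdge.cx P Y).homologyπ 0 := by
    rw [Category.assoc]
    erw [HomologicalComplex.homologyπ_naturality]
    rw [← Category.assoc, toCycles_refine]
  exact congrArg (fun m => m.hom s) h

lemma refine_cxFunctor {P Q : Cᵒᵖ ⥤ AddCommGrpCat.{u}} (φ : P ⟶ Q) :
    (CechEdge.cxFunctor Y').map φ ≫ refineCx Y Y' f (QP Q) =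
      refineCx Y Y' f (QP P) ≫ (CechEdge.cxFunctor Y).map φ :=
  refine_naturality Y Y' f (Functor.whiskerLeft (Over.forget U).op φ)

/-- refinement as a morphism of short complexes of complexes -/
noncomputable def refSC (S : ShortComplex (Cᵒᵖ ⥤ AddCommGrpCat.{u})) :
    S.map (CechEdge.cxFunctor Y') ⟶ S.map (CechEdge.cxFunctor Y) where
  τ₁ := refineCx Y Y' f (QP S.X₁)
  τ₂ := refineCx Y Y' f (QP S.X₂)
  τ₃ := refineCx Y Y' f (QP S.X₃)
  comm₁₂ := (refine_cxFunctor Y Y' f S.f).symm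
  comm₂₃ := (refine_cxFunctor Y Y' f S.g).symm

variable (e : ∀ (P : Cᵒᵖ ⥤ AddCommGrpCat.{u}) (p : ℕ),
      CohCx.cechH P Y p →+ CohSite.HU (CechEdge.shf J P) p U)

/-- the edge family for `Y'` induced by one for `Y` -/
noncomputable def edgeRefine (P : Cᵒᵖ ⥤ AddCommGrpCat.{u}) (p : ℕ) :
    CohCx.cechH P Y' p →+ CohSite.HU (CechEdge.shf J P) p U :=
  (e P p).comp (HomologicalComplex.homologyMap (refineCx Y Y' f (QP P)) p).hom

theorem isEdge_edgeRefine (he : CechEdge.IsEdge J Y e)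
    (hY' : Sieve.ofArrows (fun i => (Y' i).left) (fun i => (Y' i).hom) ∈ J U) :
    CechEdge.IsEdge J Y' (edgeRefine J Y Y' f e) where
  cover := hY'
  zero P s := by
    show e P 0 ((HomologicalComplex.homologyMap (refineCx Y Y' f (QP P)) 0).hom (CechEdge.toCech Y' P s)) = _
    rw [toCech_refine, he.zero]
  natural P Q φ p x := by
    show e Q p ((HomologicalComplex.homologyMap (refineCx Y Y' f (QP Q)) p).hom
      ((HomologicalComplex.homologyMap ((CechEdge.cxFunctor Y').map φ) p).hom x)) =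
      CechEdge.HUmap (CechEdge.shfMap J φ) p U
        (e P p ((HomologicalComplex.homologyMap (refineCx Y Y' f (QP P)) p).hom x))
    rw [← he.natural]
    congr 1
    have h := congrArg (fun m => HomologicalComplex.homologyMap m p) (refine_cxFunctor Y Y' f φ)
    simp only [HomologicalComplex.homologyMap_comp] at h
    exact congrArg (fun m => m.hom x) h
  delta S hS hC p x := by
    show e S.X₁ (p+1) ((HomologicalComplex.homologyMap (refineCx Y Y' f (QP S.X₁)) (p+1)).hom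
      ((hC.δ p (p+1) rfl).hom x)) = _
    have hnat := HomologicalComplex.HomologySequence.δ_naturality (refSC Y Y' f S) hC
      (shortExact_map Y S hS) p (p+1) rfl
    have h2 := congrArg (fun m => m.hom x) hnat
    refine (congrArg (e S.X₁ (p+1)) h2).trans ?_
    exact he.delta S hS (shortExact_map Y S hS) p _

theorem edge_refine (e' : ∀ (P : Cᵒᵖ ⥤ AddCommGrpCat.{u}) (p : ℕ),
      CohCx.cechH P Y' p →+ CohSite.HU (CechEdge.shf J P) p U)
    (he : CechEdge.IsEdge J Y e) (he' : CechEdge.IsEdge J Y' e')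
    (P : Cᵒᵖ ⥤ AddCommGrpCat.{u}) (p : ℕ) (x : CohCx.cechH P Y' p) :
    e P p ((HomologicalComplex.homologyMap (CohCx.cechRefine P f) p).hom x) = e' P p x := by
  have h := Groth.Agent.S16020.result J Y' (edgeRefine J Y Y' f e) e'
    (isEdge_edgeRefine J Y Y' f e he he'.cover) he'
  exact congrArg (fun (ee : ∀ (P : Cᵒᵖ ⥤ AddCommGrpCat.{u}) (p : ℕ),
      CohCx.cechH P Y' p →+ CohSite.HU (CechEdge.shf J P) p U) => ee P p x) h

end OverR

end Groth.Agent.Helper24.CechRefine
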