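import Groth.Prelude.Def_CohCx
import Mathlib.CategoryTheory.Sites.Adjunction
import Groth.Agent.Lib.Helper24.CechRes1

set_option autoImplicit false
universe u
open CategoryTheory

namespace Groth.Agent.Helper24.CechRes
open CategoryTheory.Limits Simplicial Opposite

lemma exact_of_evaluation' {K₀ : Type*} [Category K₀] {A : Type*} [Category A] [Abelian A]
    (S : ShortComplex (K₀ ⥤ A))
    (h : ∀ j : K₀, (S.map ((evaluation K₀ A).obj j)).Exact) : S.Exact := by
  rw [S.exact_iff_isZero_homology, Functor.isZero_iff]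
  intro j
  have hj := h j
  rw [ShortComplex.exact_iff_isZero_homology] at hj
  exact IsZero.of_iso hj (S.mapHomologyIso ((evaluation K₀ A).obj j)).symm

variable {C : Type u} [SmallCategory C] (J : GrothendieckTopology C)

/-- free abelian presheaf functor on sheaves of sets -/
noncomputable abbrev GG : Sheaf J (Type u) ⥤ (Cᵒᵖ ⥤ AddCommGrpCat.{u}) :=
  sheafToPresheaf J (Type u) ⋙ (Functor.whiskeringRight _ _ _).obj AddCommGrpCat.free.{u}

variable {J} {K' K : Sheaf J (Type u)} (f : K' ⟶ K)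

/-- the simplicial presheaf of free abelian groups on the Cech nerve -/
noncomputable abbrev XG : SimplicialObject (Cᵒᵖ ⥤ AddCommGrpCat.{u}) :=
  ((SimplicialObject.whiskering _ _).obj (GG J)).obj (Arrow.mk f).cechNerve

/-- the presheaf level complex -/
noncomputable abbrev LL : ChainComplex (Cᵒᵖ ⥤ AddCommGrpCat.{u}) ℕ :=
  (AlgebraicTopology.alternatingFaceMapComplex _).obj (XG f)

/-- the sheaf level complex -/
noncomputable abbrev KK : ChainComplex (Sheaf J AddCommGrpCat.{u}) ℕ :=
  (AlgebraicTopology.alternatingFaceMapComplex _).obj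
    (((SimplicialObject.Augmented.whiskering _ _).obj
      (Sheaf.composeAndSheafify J AddCommGrpCat.free.{u})).obj (Arrow.mk f).augmentedCechNerve).left

lemma KK_d (n : ℕ) : (KK f).d (n + 1) n = (presheafToSheaf J AddCommGrpCat.{u}).map ((LL f).d (n + 1) n) := by
  simp only [KK, LL, AlgebraicTopology.alternatingFaceMapComplex_obj_d,
    AlgebraicTopology.AlternatingFaceMapComplex.objD, Functor.map_sum, Functor.map_zsmul]
  rfl

lemma hom_sum_apply {M N : AddCommGrpCat.{u}} {ι : Type} (s : Finset ι) (g : ι → (M ⟶ N)) (x : M) :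
    (∑ i ∈ s, g i).hom x = ∑ i ∈ s, (g i).hom x := by
  classical
  induction s using Finset.induction_on with
  | empty => simp
  | insert a s ha ih => simp [Finset.sum_insert ha, ih]

lemma LL_d_app_apply (n : ℕ) (U : C) (z : FreeAbelianGroup (TT f U (n + 1))) :
    (((LL f).d (n + 1) n).app (op U)).hom z =
      ∑ i : Fin (n + 2), (-1 : ℤ) ^ (i : ℕ) • FreeAbelianGroup.map (dd f U n i) z := by
  simp only [LL, AlgebraicTopology.alternatingFaceMapComplex_obj_d,
    AlgebraicTopology.AlternatingFaceMapComplex.objD, NatTrans.app_sum, NatTrans.app_zsmul]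
  refine (hom_sum_apply (M := ((XG f).obj (op ⦋n + 1⦌)).obj (op U))
    (N := ((XG f).obj (op ⦋n⦌)).obj (op U)) Finset.univ
    (fun i : Fin (n + 2) => (-1 : ℤ) ^ (i : ℕ) • ((XG f).δ i).app (op U)) z).trans ?_
  rfl

lemma LL_exact_succ (n : ℕ) : ((LL f).sc' (n + 1 + 1) (n + 1) n).Exact := by
  apply exact_of_evaluation'
  rintro ⟨U⟩
  rw [ShortComplex.ab_exact_iff]
  intro z hz
  obtain ⟨w, hw⟩ := eval_exact_succ f U n z ((LL_d_app_apply f n U z).symm.trans hz)
  exact ⟨w, (LL_d_app_apply f (n + 1) U w).trans hw⟩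

lemma KK_exact_succ (n : ℕ) : ((KK f).sc' (n + 1 + 1) (n + 1) n).Exact := by
  have h := (LL_exact_succ f n).map (presheafToSheaf J AddCommGrpCat.{u})
  refine ShortComplex.exact_of_iso ?_ h
  exact ShortComplex.isoMk (Iso.refl _) (Iso.refl _) (Iso.refl _)
    (by erw [Category.id_comp, Category.comp_id]; exact KK_d f (n + 1))
    (by erw [Category.id_comp, Category.comp_id]; exact KK_d f n)

/-- the augmentation `X_0 ⟶ K` -/
noncomputable abbrev bb : (Arrow.mk f).cechNerve.obj (op ⦋0⦌) ⟶ K :=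
  (Arrow.mk f).augmentedCechNerve.hom.app (op ⦋0⦌)

lemma GG_δ_bb (i : Fin 2) :
    (GG J).map ((Arrow.mk f).cechNerve.δ i) ≫ (GG J).map (bb f) =
      (GG J).map ((Arrow.mk f).augmentedCechNerve.hom.app (op ⦋1⦌)) := by
  rw [← Functor.map_comp]
  congr 1
  exact δ_base (Arrow.mk f) 0 i

lemma LL_d_one : (LL f).d 1 0 =
    ∑ i : Fin 2, (-1 : ℤ) ^ (i : ℕ) • (GG J).map ((Arrow.mk f).cechNerve.δ i) := by
  simp only [LL, AlgebraicTopology.alternatingFaceMapComplex_obj_d,
    AlgebraicTopology.AlternatingFaceMapComplex.objD]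
  rfl

lemma LL_d_comp_bb : (LL f).d 1 0 ≫ (GG J).map (bb f) = 0 := by
  rw [LL_d_one]
  erw [Preadditive.sum_comp]
  rw [Fin.sum_univ_two]
  erw [Preadditive.zsmul_comp, Preadditive.zsmul_comp, GG_δ_bb f 0, GG_δ_bb f 1]
  simp only [Fin.val_zero, pow_zero, Fin.val_one, pow_one]
  erw [one_smul, neg_smul, one_smul]
  exact add_neg_cancel _

/-- the degree zero short complex at presheaf level -/
noncomputable abbrev S0 : ShortComplex (Cᵒᵖ ⥤ AddCommGrpCat.{u}) :=
  ShortComplex.mk _ _ (LL_d_comp_bb f)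

lemma S0_exact : (S0 f).Exact := by
  apply exact_of_evaluation'
  rintro ⟨U⟩
  rw [ShortComplex.ab_exact_iff]
  intro z hz
  obtain ⟨w, hw⟩ := eval_exact_zero f U z hz
  exact ⟨w, (LL_d_app_apply f 0 U w).trans hw⟩

lemma epi_bb [Epi f] : Epi (bb f) := by
  have h : WidePullback.lift (objs := fun _ : Fin 1 => K') (arrows := fun _ => f) f (fun _ => 𝟙 K')
      (fun _ => Category.id_comp _) ≫ bb f = f := WidePullback.lift_base _ _ _ _
  exact epi_of_epi_fac h

end Groth.Agent.Helper24.CechRes
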