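import Groth.Prelude.Def_CohCx
import Groth.Agent.Lib.Helper24.CechRes2

set_option autoImplicit false
universe u
open CategoryTheory

namespace Groth.Agent.Helper24.CechRes
open CategoryTheory.Limits Simplicial Opposite

variable {C : Type u} [SmallCategory C] {J : GrothendieckTopology C}
  {K' K : Sheaf J (Type u)} (f : K' ⟶ K) (F : Sheaf J AddCommGrpCat.{u})

/-- the cosimplicial group -/
noncomputable abbrev cosX : CosimplicialObject AddCommGrpCat.{u} :=
  (Arrow.mk f).cechNerve.rightOp ⋙ CohCx.HK0Functor J F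

lemma cechNerveCx_d (n : ℕ) :
    (CohCx.cechNerveCx F f).d n (n + 1) = ∑ i : Fin (n + 2), (-1 : ℤ) ^ (i : ℕ) •
      (cosX f F).δ i :=
  CochainComplex.of_d (fun n => (cosX f F).obj ⦋n⦌)
    (AlgebraicTopology.AlternatingCofaceMapComplex.objD (cosX f F)) n

lemma cechNerveCx_d_apply (n : ℕ) (φ : (KK f).X n ⟶ F) :
    ((CohCx.cechNerveCx F f).d n (n + 1)).hom φ = (KK f).d (n + 1) n ≫ φ := by
  rw [cechNerveCx_d]
  simp only [KK, AlgebraicTopology.alternatingFaceMapComplex_obj_d,
    AlgebraicTopology.AlternatingFaceMapComplex.objD, Preadditive.sum_comp, Preadditive.zsmul_comp]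
  refine (hom_sum_apply (M := (cosX f F).obj ⦋n⦌) (N := (cosX f F).obj ⦋n + 1⦌) Finset.univ
    (fun i : Fin (n + 2) => (-1 : ℤ) ^ (i : ℕ) • (cosX f F).δ i) φ).trans ?_
  rfl

/-- the degree zero short complex at sheaf level is exact with epi augmentation -/
lemma KK_zero_exact [Epi f] :
    ∃ (h : (KK f).d 1 0 ≫ (Sheaf.composeAndSheafify J AddCommGrpCat.free.{u}).map (bb f) = 0),
      (ShortComplex.mk _ _ h).Exact ∧
        Epi ((Sheaf.composeAndSheafify J AddCommGrpCat.free.{u}).map (bb f)) := by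
  have hepi : Epi ((Sheaf.composeAndSheafify J AddCommGrpCat.free.{u}).map (bb f)) := by
    have := epi_bb f
    infer_instance
  have h1 := (S0_exact f).map (presheafToSheaf J AddCommGrpCat.{u})
  have hz : (KK f).d 1 0 ≫ (Sheaf.composeAndSheafify J AddCommGrpCat.free.{u}).map (bb f) = 0 := by
    rw [KK_d f 0]
    exact ((S0 f).map (presheafToSheaf J AddCommGrpCat.{u})).zero
  refine ⟨hz, ?_, hepi⟩
  refine ShortComplex.exact_of_iso ?_ h1
  exact ShortComplex.isoMk (Iso.refl _) (Iso.refl _) (Iso.refl _)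
    ((Category.id_comp _).trans ((KK_d f 0).trans (Category.comp_id _).symm))
    ((Category.id_comp _).trans (Category.comp_id _).symm)

end Groth.Agent.Helper24.CechRes

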