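import Groth.Prelude.Def_CohCx
import Groth.Agent.Lib.Helper24.CechRes3
import Groth.Agent.Lib.Helper24.CechAcyc

set_option autoImplicit false
set_option linter.style.haveILetI false
universe u
open CategoryTheory

namespace Groth.Agent.Helper24.CechRes
open CategoryTheory.Limits Simplicial Opposite Abelian Groth.Agent.Helper24.ExtVanish
  Groth.Agent.Helper24.CechAcyc

variable {C : Type u} [SmallCategory C] {J : GrothendieckTopology C}

/-- free abelian sheaf functor -/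
noncomputable abbrev Phi : Sheaf J (Type u) ⥤ Sheaf J AddCommGrpCat.{u} :=
  Sheaf.composeAndSheafify J AddCommGrpCat.free.{u}

/-- underlying sheaf of sets -/
noncomputable abbrev UU : Sheaf J AddCommGrpCat.{u} ⥤ Sheaf J (Type u) :=
  sheafCompose J (forget AddCommGrpCat.{u})

/-- the free-forgetful adjunction on sheaves -/
noncomputable def adjPhi : Phi (J := J) ⊣ UU := Sheaf.adjunction J AddCommGrpCat.adj

lemma epi_pullback_fst {X Y Z : Sheaf J (Type u)} (a : X ⟶ Z) (p : Y ⟶ Z) [Epi p] :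
    Epi (pullback.fst a p) := by
  rw [← Sheaf.isLocallySurjective_iff_epi]
  haveI : Sheaf.IsLocallySurjective p := (Sheaf.isLocallySurjective_iff_epi p).2 inferInstance
  constructor
  intro U s
  refine J.superset_covering ?_ (Presheaf.imageSieve_mem J p.hom (a.hom.app (op U) s))
  rintro V g ⟨t, ht⟩
  let x : yS J V ⟶ X := (secEquiv J V X).symm (X.obj.map g.op s)
  let y : yS J V ⟶ Y := (secEquiv J V Y).symm t
  have hxy : x ≫ a = y ≫ p := by
    apply (secEquiv J V Z).injective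
    rw [secEquiv_comp, secEquiv_comp, Equiv.apply_symm_apply, Equiv.apply_symm_apply]
    rw [ht]
    exact (NatTrans.naturality_apply a.hom g.op s)
  refine ⟨secEquiv J V _ (pullback.lift x y hxy), ?_⟩
  rw [← secEquiv_comp, pullback.lift_fst, Equiv.apply_symm_apply]

/-- Cech acyclicity with respect to all epimorphisms of sheaves of sets, phrased on `KK f` -/
def CA (F : Sheaf J AddCommGrpCat.{u}) : Prop :=
  ∀ (K' K : Sheaf J (Type u)) (f : K' ⟶ K), Epi f → ∀ (q : ℕ) (φ : (KK f).X (q + 1) ⟶ F),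
    (KK f).d (q + 1 + 1) (q + 1) ≫ φ = 0 → ∃ ψ : (KK f).X q ⟶ F, (KK f).d (q + 1) q ≫ ψ = φ

lemma CA_lift {S : ShortComplex (Sheaf J AddCommGrpCat.{u})} (hS : S.ShortExact) (hF : CA S.X₁)
    (K : Sheaf J (Type u)) (ω : Phi.obj K ⟶ S.X₃) : ∃ ω' : Phi.obj K ⟶ S.X₂, ω' ≫ S.g = ω := by
  let ω₀ : K ⟶ UU.obj S.X₃ := adjPhi.homEquiv K S.X₃ ω
  haveI : Epi S.g := hS.epi_g
  haveI : Mono S.f := hS.mono_f
  haveI : Sheaf.IsLocallySurjective S.g :=
    (Sheaf.isLocallySurjective_iff_epi' AddCommGrpCat.{u} S.g).2 inferInstance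
  haveI : Epi (UU.map S.g) := inferInstance
  let f := pullback.fst ω₀ (UU.map S.g)
  let g := pullback.snd ω₀ (UU.map S.g)
  haveI : Epi f := epi_pullback_fst _ _
  obtain ⟨hz, hex, hepi⟩ := KK_zero_exact f
  let a₀ : Phi.obj (pullback ω₀ (UU.map S.g)) ⟶ S.X₂ := (adjPhi.homEquiv _ _).symm g
  have ha₀ : a₀ ≫ S.g = Phi.map f ≫ ω := by
    rw [← Adjunction.homEquiv_naturality_right_symm, ← pullback.condition,
      Adjunction.homEquiv_naturality_left_symm, Equiv.symm_apply_apply]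
  obtain ⟨a, ha_def⟩ : ∃ a : (KK f).X 0 ⟶ S.X₂,
      a = Phi.map (WidePullback.π (fun _ : Fin 1 => f) 0) ≫ a₀ := ⟨_, rfl⟩
  have ha : a ≫ S.g = Phi.map (bb f) ≫ ω := by
    rw [ha_def]
    erw [Category.assoc, ha₀, ← Category.assoc, ← Functor.map_comp]
    congr 2
    exact WidePullback.π_arrow _ _
  have hc : ((KK f).d 1 0 ≫ a) ≫ S.g = 0 := by
    rw [Category.assoc, ha]
    erw [← Category.assoc, hz, zero_comp]
  obtain ⟨c', hc'_def⟩ : ∃ c' : (KK f).X 1 ⟶ S.X₁, c' ≫ S.f = (KK f).d 1 0 ≫ a :=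
    ⟨hS.exact.lift _ hc, hS.exact.lift_f _ hc⟩
  have hc' : (KK f).d 2 1 ≫ c' = 0 := by
    rw [← cancel_mono S.f, Category.assoc, hc'_def, ← Category.assoc,
      HomologicalComplex.d_comp_d, zero_comp, zero_comp]
  obtain ⟨b, hb⟩ := hF _ _ f inferInstance 0 c' hc'
  have ha' : (KK f).d 1 0 ≫ (a - b ≫ S.f) = 0 := by
    rw [Preadditive.comp_sub, ← Category.assoc, hb, hc'_def, sub_self]
  haveI : Epi (ShortComplex.mk _ _ hz).g := hepi
  refine ⟨hex.desc (a - b ≫ S.f) ha', ?_⟩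
  have h1 : Phi.map (bb f) ≫ hex.desc (a - b ≫ S.f) ha' = a - b ≫ S.f := hex.g_desc _ ha'
  rw [← cancel_epi (Phi.map (bb f)), ← Category.assoc, h1]
  erw [Preadditive.sub_comp, Category.assoc, S.zero, comp_zero, sub_zero, ha]

lemma CA_ext_one (F : Sheaf J AddCommGrpCat.{u}) (hF : CA F) (K : Sheaf J (Type u)) :
    Subsingleton (Ext (Phi.obj K) F 1) := by
  have hS := injSES_shortExact F
  haveI : Injective (injSES F).X₂ := inferInstanceAs (Injective (Injective.under F))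
  have key : ∀ x : Ext (Phi.obj K) F 1, x = 0 := by
    intro x
    have h0 : x.comp (Ext.mk₀ (injSES F).f) (add_zero 1) = 0 :=
      @Subsingleton.elim _ (Ext.subsingleton_of_injective (X := Phi.obj K) (I := (injSES F).X₂) 0) _ _
    obtain ⟨x₃, hx₃⟩ := Ext.covariant_sequence_exact₁ (Phi.obj K) hS x h0 (n₀ := 0) rfl
    obtain ⟨ω, rfl⟩ := (Ext.mk₀_bijective _ _).2 x₃
    obtain ⟨ω', hω'⟩ := CA_lift hS hF K ω
    rw [← hx₃, ← hω', ← Ext.mk₀_comp_mk₀, Ext.comp_assoc_of_second_deg_zero,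
      hS.comp_extClass, Ext.comp_zero]
    rfl
  exact ⟨fun a b => by rw [key a, key b]⟩

lemma CA_X₃ {S : ShortComplex (Sheaf J AddCommGrpCat.{u})} (hS : S.ShortExact) [Injective S.X₂]
    (hF : CA S.X₁) : CA S.X₃ := by
  intro K' K f hf q θ hθ
  haveI := hf
  haveI : Mono S.f := hS.mono_f
  -- lift `θ` to `S.X₂`
  obtain ⟨θ', hθ'⟩ : ∃ θ' : (KK f).X (q + 1) ⟶ S.X₂, θ' ≫ S.g = θ :=
    lift_of_ext_one hS ((KK f).X (q + 1))
      (CA_ext_one S.X₁ hF ((Arrow.mk f).cechNerve.obj (op ⦋q + 1⦌))) θ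
  have h1 : ((KK f).d (q + 1 + 1) (q + 1) ≫ θ') ≫ S.g = 0 := by
    rw [Category.assoc, hθ', hθ]
  obtain ⟨γ, hγ⟩ : ∃ γ : (KK f).X (q + 1 + 1) ⟶ S.X₁,
      γ ≫ S.f = (KK f).d (q + 1 + 1) (q + 1) ≫ θ' :=
    ⟨hS.exact.lift _ h1, hS.exact.lift_f _ h1⟩
  have hγ' : (KK f).d (q + 1 + 1 + 1) (q + 1 + 1) ≫ γ = 0 := by
    rw [← cancel_mono S.f, Category.assoc, hγ, ← Category.assoc,
      HomologicalComplex.d_comp_d, zero_comp, zero_comp]
  obtain ⟨β, hβ⟩ := hF K' K f hf (q + 1) γ hγ'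
  have h2 : (KK f).d (q + 1 + 1) (q + 1) ≫ (θ' - β ≫ S.f) = 0 := by
    rw [Preadditive.comp_sub, ← Category.assoc, hβ, hγ, sub_self]
  obtain ⟨χ, hχ⟩ : ∃ χ : (KK f).X q ⟶ S.X₂, (KK f).d (q + 1) q ≫ χ = θ' - β ≫ S.f :=
    ⟨(KK_exact_succ f q).descToInjective (θ' - β ≫ S.f) h2,
      (KK_exact_succ f q).comp_descToInjective _ h2⟩
  refine ⟨χ ≫ S.g, ?_⟩
  rw [← Category.assoc, hχ, Preadditive.sub_comp, Category.assoc, S.zero, comp_zero, sub_zero, hθ']

theorem CA_ext_succ : ∀ (n : ℕ) (F : Sheaf J AddCommGrpCat.{u}), CA F → ∀ K : Sheaf J (Type u),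
    Subsingleton (Ext (Phi.obj K) F (n + 1)) := by
  intro n
  induction n with
  | zero => exact fun F hF K => CA_ext_one F hF K
  | succ n ih =>
    intro F hF K
    have hS := injSES_shortExact F
    haveI : Injective (injSES F).X₂ := inferInstanceAs (Injective (Injective.under F))
    have hQ : CA (injSES F).X₃ := CA_X₃ hS hF
    have key : ∀ x : Ext (Phi.obj K) F (n + 1 + 1), x = 0 := by
      intro x
      have h0 : x.comp (Ext.mk₀ (injSES F).f) (add_zero _) = 0 :=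
        @Subsingleton.elim _
          (Ext.subsingleton_of_injective (X := Phi.obj K) (I := (injSES F).X₂) (n + 1)) _ _
      obtain ⟨x₃, hx₃⟩ := Ext.covariant_sequence_exact₁ (Phi.obj K) hS x h0 (n₀ := n + 1) rfl
      have : x₃ = 0 := @Subsingleton.elim _ (ih _ hQ K) _ _
      rw [← hx₃, this, Ext.zero_comp]
      rfl
    exact ⟨fun a b => by rw [key a, key b]⟩

lemma CA_of_cech (F : Sheaf J AddCommGrpCat.{u})
    (h : ∀ (K' K : Sheaf J (Type u)) (f : K' ⟶ K), Epi f →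
      ∀ q : ℕ, IsZero ((CohCx.cechNerveCx F f).homology (q + 1))) : CA F := by
  intro K' K f hf q φ hφ
  have h1 := h K' K f hf q
  rw [← HomologicalComplex.exactAt_iff_isZero_homology,
    HomologicalComplex.exactAt_iff' _ q (q + 1) (q + 1 + 1) (by simp) (by simp),
    ShortComplex.ab_exact_iff] at h1
  obtain ⟨ψ, hψ⟩ := h1 φ ((cechNerveCx_d_apply f F (q + 1) φ).trans hφ)
  exact ⟨ψ, (cechNerveCx_d_apply f F q ψ).symm.trans hψ⟩

theorem totallyAcyclic_of_cech (F : Sheaf J AddCommGrpCat.{u})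
    (h : ∀ (K' K : Sheaf J (Type u)) (f : K' ⟶ K), Epi f →
      ∀ q : ℕ, IsZero ((CohCx.cechNerveCx F f).homology (q + 1))) :
    CohCx.IsTotallyAcyclic F :=
  fun K p => CA_ext_succ p F (CA_of_cech F h) K

end Groth.Agent.Helper24.CechRes
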