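import Groth.Prelude.Def_CohCx
import Groth.Agent.Lib.Helper24.CechRes4

set_option autoImplicit false
set_option linter.style.haveILetI false
universe u
open CategoryTheory

namespace Groth.Agent.Helper24.CechRes
open CategoryTheory.Limits Simplicial Opposite Abelian Groth.Agent.Helper24.ExtVanish
  Groth.Agent.Helper24.CechAcyc

variable {C : Type u} [SmallCategory C] {J : GrothendieckTopology C}

lemma CA_of_totallyAcyclic (F : Sheaf J AddCommGrpCat.{u}) (hF : CohCx.IsTotallyAcyclic F) :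
    CA F := by
  intro K' K f hf q φ hφ
  haveI := hf
  obtain ⟨hz, hex, hepi⟩ := KK_zero_exact f
  let T : Sheaf J AddCommGrpCat.{u} → Prop := fun Z =>
    ∃ L : Sheaf J (Type u), Z = (Sheaf.composeAndSheafify J AddCommGrpCat.free.{u}).obj L
  have hacyc : Acyc T F := by
    rintro Z ⟨L, rfl⟩ p
    exact hF L p
  exact exists_cobound (KK f) _ _ hz hex hepi (KK_exact_succ f) T ⟨K, rfl⟩
    (fun n => ⟨(Arrow.mk f).cechNerve.obj (op ⦋n⦌), rfl⟩) q F hacyc φ hφ

theorem totallyAcyclic_iff_CA (F : Sheaf J AddCommGrpCat.{u}) :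
    CohCx.IsTotallyAcyclic F ↔ CA F :=
  ⟨CA_of_totallyAcyclic F, fun h K p => CA_ext_succ p F h K⟩

lemma CA_pi {T : Type u} (F : T → Sheaf J AddCommGrpCat.{u}) (hF : ∀ t, CA (F t)) :
    CA (∏ᶜ F) := by
  intro K' K f hf q φ hφ
  have h : ∀ t, ∃ ψ : (KK f).X q ⟶ F t, (KK f).d (q + 1) q ≫ ψ = φ ≫ Pi.π F t := fun t =>
    hF t K' K f hf q (φ ≫ Pi.π F t) (by rw [← Category.assoc, hφ, zero_comp])
  choose ψ hψ using h
  refine ⟨Pi.lift ψ, ?_⟩
  apply Pi.hom_ext
  intro t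
  rw [Category.assoc, Pi.lift_π, hψ]

theorem totallyAcyclic_pi {T : Type u} (F : T → Sheaf J AddCommGrpCat.{u})
    (hF : ∀ t, CohCx.IsTotallyAcyclic (F t)) : CohCx.IsTotallyAcyclic (∏ᶜ F) :=
  (totallyAcyclic_iff_CA _).2 (CA_pi F fun t => (totallyAcyclic_iff_CA _).1 (hF t))

end Groth.Agent.Helper24.CechRes
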