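import Groth.Prelude.Def_W4c3irrattreebunCvg
import Mathlib.FieldTheory.AlgebraicClosure
import Mathlib.FieldTheory.IntermediateField.Adjoin.Basic
import Mathlib.RingTheory.Algebraic.Integral
import Mathlib.FieldTheory.Tower

/-!
Helper lemmas on covering diagrams: passing between `k` and the field of constants
`algebraicClosure k K`.
-/

set_option autoImplicit false
universe u

namespace Groth.Agent.Helper24.CvgLib

open W4c3irrattreebun

theorem nat_sInf_eq (A A' : Set ℕ) (h1 : A' ⊆ A) (h2 : ∀ e ∈ A, ∃ e' ∈ A', e' ≤ e) :
    sInf A = sInf A' := by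
  rcases Set.eq_empty_or_nonempty A with hA | hA
  · have hA' : A' = ∅ := Set.subset_empty_iff.mp (hA ▸ h1)
    rw [hA, hA']
  · obtain ⟨e', he', hle⟩ := h2 _ (Nat.sInf_mem hA)
    apply le_antisymm
    · exact Nat.sInf_le (h1 (Nat.sInf_mem ⟨e', he'⟩))
    · exact (Nat.sInf_le he').trans hle

section Down

variable (k K : Type u) [Field k] [Field K] [Algebra k K]

/-- A covering diagram over the field of constants is a covering diagram over `k`. -/
theorem down (Q : ∀ (KC : Type u) [Field KC] [Algebra K KC], Prop) (e : ℕ)
    (h : ∃ D : CovDiag.{u} (algebraicClosure k K) K e, Q D.KC) :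
    ∃ D : CovDiag.{u} k K e, Q D.KC := by
  obtain ⟨D, hD⟩ := h
  have hB : ∀ x : algebraicClosure k K,
      @algebraMap (algebraicClosure k K) D.KC _ _ D.algkC x =
        algebraMap D.KB D.KC (algebraMap (algebraicClosure k K) D.KB x) :=
    fun x => @IsScalarTower.algebraMap_apply (algebraicClosure k K) D.KB D.KC _ _ _ D.algkB D.algBC
      D.algkC D.towerB x
  have hK : ∀ x : algebraicClosure k K,
      @algebraMap (algebraicClosure k K) D.KC _ _ D.algkC x =
        algebraMap K D.KC (algebraMap (algebraicClosure k K) K x) :=
    fun x => @IsScalarTower.algebraMap_apply (algebraicClosure k K) K D.KC _ _ _ _ D.algKC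
      D.algkC D.towerK x
  letI algkC : Algebra k D.KC := ((algebraMap K D.KC).comp (algebraMap k K)).toAlgebra
  have towerK : IsScalarTower k K D.KC := IsScalarTower.of_algebraMap_eq (fun _ => rfl)
  letI algkB : Algebra k D.KB :=
    ((algebraMap (algebraicClosure k K) D.KB).comp (algebraMap k (algebraicClosure k K))).toAlgebra
  have towerB : IsScalarTower k D.KB D.KC := IsScalarTower.of_algebraMap_eq (fun x => by
    show algebraMap K D.KC (algebraMap k K x) =
      algebraMap D.KB D.KC (algebraMap (algebraicClosure k K) D.KB
        (algebraMap k (algebraicClosure k K) x))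
    rw [← hB, hK]
    rfl)
  exact ⟨{ KC := D.KC, KB := D.KB, instFieldC := D.instFieldC, instFieldB := D.instFieldB,
           algKC := D.algKC, algkC := algkC, towerK := towerK, algkB := algkB, algBC := D.algBC,
           towerB := towerB, finiteK := D.finiteK, t := D.t, transc := D.transc,
           finiteT := D.finiteT, finrank_eq := D.finrank_eq }, hD⟩

end Down

section Up

variable (k K : Type u) [Field k] [Field K] [Algebra k K]

/-- From a covering diagram over `k` one gets one over the field of constants, of degree at most
the original one, with the same top field. -/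
theorem up (Q : ∀ (KC : Type u) [Field KC] [Algebra K KC], Prop) (e : ℕ)
    (h : ∃ D : CovDiag.{u} k K e, Q D.KC) :
    ∃ e', e' ≤ e ∧ ∃ D' : CovDiag.{u} (algebraicClosure k K) K e', Q D'.KC := by
  obtain ⟨D, hD⟩ := h
  -- the compositum of `KB` and the constants inside `KC`
  let KB' : IntermediateField D.KB D.KC :=
    IntermediateField.adjoin D.KB (Set.range (algebraMap (algebraicClosure k K) D.KC))
  letI algB' : Algebra (algebraicClosure k K) KB' :=
    ((algebraMap (algebraicClosure k K) D.KC).codRestrict KB'
      (fun x => IntermediateField.subset_adjoin _ _ ⟨x, rfl⟩)).toAlgebra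
  have towerB' : IsScalarTower (algebraicClosure k K) KB' D.KC :=
    IsScalarTower.of_algebraMap_eq (fun _ => rfl)
  -- `KB'` is algebraic over `KB`
  have halg : Algebra.IsAlgebraic D.KB KB' := by
    apply IntermediateField.isAlgebraic_adjoin
    rintro _ ⟨x, rfl⟩
    have hx : IsIntegral k (x : K) := x.2
    have h1 : IsIntegral k (algebraMap K D.KC (x : K)) := hx.map (IsScalarTower.toAlgHom k K D.KC)
    exact h1.tower_top
  have transc' : Transcendental KB' D.t := by
    intro halg'
    exact D.transc (halg'.restrictScalars D.KB)
  -- the two rational function fields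
  let E : IntermediateField D.KB D.KC := IntermediateField.adjoin D.KB ({D.t} : Set D.KC)
  let E' : IntermediateField KB' D.KC := IntermediateField.adjoin KB' ({D.t} : Set D.KC)
  have hle : E ≤ E'.restrictScalars D.KB := by
    rw [IntermediateField.adjoin_le_iff]
    rintro _ rfl
    exact IntermediateField.subset_adjoin KB' _ rfl
  letI algEE' : Algebra E E' := (IntermediateField.inclusion hle).toRingHom.toAlgebra
  have towerE : IsScalarTower E E' D.KC := IsScalarTower.of_algebraMap_eq (fun _ => rfl)
  haveI finE : Module.Finite E D.KC := D.finiteT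
  have finE' : Module.Finite E' D.KC := Module.Finite.of_restrictScalars_finite E E' D.KC
  have hmul := Module.finrank_mul_finrank E E' D.KC
  have hpos : 0 < Module.finrank E D.KC := Module.finrank_pos
  have hEe : Module.finrank E D.KC = e := D.finrank_eq
  refine ⟨Module.finrank E' D.KC, ?_, ?_⟩
  · have h1 : Module.finrank E' D.KC ≤ Module.finrank E D.KC := by
      rw [← hmul]
      apply Nat.le_mul_of_pos_left
      by_contra h0
      rw [Nat.not_lt, Nat.le_zero] at h0
      rw [h0, zero_mul] at hmul
      omega
    exact h1.trans hEe.le
  · exact ⟨{ KC := D.KC, KB := KB', instFieldC := D.instFieldC, instFieldB := inferInstance,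
             algKC := D.algKC, algkC := inferInstance, towerK := inferInstance, algkB := algB',
             algBC := inferInstance, towerB := towerB', finiteK := D.finiteK, t := D.t,
             transc := transc', finiteT := finE', finrank_eq := rfl }, hD⟩

end Up

end Groth.Agent.Helper24.CvgLib
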