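import Mathlib

/-!
# Coproducts of complexes and their image in the derived category
-/

set_option autoImplicit false
universe w' w v u
open CategoryTheory CategoryTheory.Limits

namespace Groth.Agent.Helper24.DCoprod

section Cx

variable {𝒜 : Type u} [Category.{v} 𝒜] [Abelian 𝒜] {ι : Type w'} [HasCoproductsOfShape ι 𝒜]
  (K : ι → CochainComplex 𝒜 ℤ)

/-- the termwise coproduct of a family of complexes -/
noncomputable def coprodCx : CochainComplex 𝒜 ℤ where
  X i := ∐ fun n => (K n).X i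
  d i j := Limits.Sigma.map fun n => (K n).d i j
  shape i j h := by
    apply Sigma.hom_ext
    intro n
    rw [Limits.Sigma.ι_map, (K n).shape i j h, zero_comp, comp_zero]
  d_comp_d' i j k _ _ := by
    apply Sigma.hom_ext
    intro n
    rw [← Category.assoc, Limits.Sigma.ι_map, Category.assoc, Limits.Sigma.ι_map, ← Category.assoc,
      (K n).d_comp_d, zero_comp, comp_zero]

noncomputable def coprodι (n : ι) : K n ⟶ coprodCx K where
  f i := Sigma.ι (fun n => (K n).X i) n
  comm' i j _ := by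
    change Sigma.ι (fun n => (K n).X i) n ≫ Limits.Sigma.map (fun n => (K n).d i j) =
      (K n).d i j ≫ Sigma.ι (fun n => (K n).X j) n
    rw [Limits.Sigma.ι_map]

@[simp] lemma coprodι_f (n : ι) (i : ℤ) : (coprodι K n).f i = Sigma.ι (fun n => (K n).X i) n := rfl

variable {K}

noncomputable def coprodDesc {L : CochainComplex 𝒜 ℤ} (f : ∀ n, K n ⟶ L) : coprodCx K ⟶ L where
  f i := Sigma.desc fun n => (f n).f i
  comm' i j _ := by
    apply Sigma.hom_ext
    intro n
    change Sigma.ι _ n ≫ (Sigma.desc (fun n => (f n).f i) ≫ L.d i j) =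
      Sigma.ι _ n ≫ (Limits.Sigma.map (fun n => (K n).d i j) ≫ Sigma.desc fun n => (f n).f j)
    rw [← Category.assoc, Sigma.ι_desc, ← Category.assoc, Limits.Sigma.ι_map, Category.assoc,
      Sigma.ι_desc, (f n).comm]

@[reassoc (attr := simp)]
lemma ι_coprodDesc {L : CochainComplex 𝒜 ℤ} (f : ∀ n, K n ⟶ L) (n : ι) :
    coprodι K n ≫ coprodDesc f = f n := by
  ext i
  change Sigma.ι _ n ≫ Sigma.desc (fun n => (f n).f i) = _
  rw [Sigma.ι_desc]

lemma coprod_hom_ext {L : CochainComplex 𝒜 ℤ} (f g : coprodCx K ⟶ L)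
    (h : ∀ n, coprodι K n ≫ f = coprodι K n ≫ g) : f = g := by
  ext i
  apply Sigma.hom_ext
  intro n
  have := congrArg (fun φ => φ.f i) (h n)
  exact this

lemma coprodX_hom_ext {W : 𝒜} {i : ℤ} (a b : (coprodCx K).X i ⟶ W)
    (h : ∀ n, (coprodι K n).f i ≫ a = (coprodι K n).f i ≫ b) : a = b :=
  Sigma.hom_ext _ _ h

/-- descending from a term of the coproduct complex -/
noncomputable def descX {W : 𝒜} {i : ℤ} (a : ∀ n, (K n).X i ⟶ W) : (coprodCx K).X i ⟶ W :=
  Sigma.desc a

lemma ι_descX {W : 𝒜} {i : ℤ} (a : ∀ n, (K n).X i ⟶ W) (n : ι) :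
    (coprodι K n).f i ≫ descX a = a n := Sigma.ι_desc _ _

/-- homotopies out of a coproduct can be assembled from homotopies of the components -/
noncomputable def coprodHomotopy {L : CochainComplex 𝒜 ℤ} (f g : coprodCx K ⟶ L)
    (h : ∀ n, Homotopy (coprodι K n ≫ f) (coprodι K n ≫ g)) : Homotopy f g where
  hom i j := descX fun n => (h n).hom i j
  zero i j hij := by
    apply coprodX_hom_ext
    intro n
    rw [ι_descX, (h n).zero i j hij, comp_zero]
  comm i := by
    apply coprodX_hom_ext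
    intro n
    have h1 := (h n).comm i
    rw [dNext_eq _ (show (ComplexShape.up ℤ).Rel i (i + 1) from rfl),
      prevD_eq _ (show (ComplexShape.up ℤ).Rel (i - 1) i by simp)] at h1 ⊢
    simp only [HomologicalComplex.comp_f] at h1
    rw [Preadditive.comp_add, Preadditive.comp_add, ← Category.assoc, (coprodι K n).comm,
      Category.assoc, ι_descX, ← Category.assoc, ι_descX]
    exact h1

/-- the map induced on coproducts -/
noncomputable def coprodMap {K' : ι → CochainComplex 𝒜 ℤ} (φ : ∀ n, K n ⟶ K' n) :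
    coprodCx K ⟶ coprodCx K' where
  f i := Limits.Sigma.map fun n => (φ n).f i
  comm' i j _ := by
    apply Sigma.hom_ext
    intro n
    change Sigma.ι _ n ≫ (Limits.Sigma.map (fun n => (φ n).f i) ≫ Limits.Sigma.map (fun n => (K' n).d i j)) =
      Sigma.ι _ n ≫ (Limits.Sigma.map (fun n => (K n).d i j) ≫ Limits.Sigma.map fun n => (φ n).f j)
    rw [Limits.Sigma.ι_map_assoc, Limits.Sigma.ι_map, Limits.Sigma.ι_map_assoc, Limits.Sigma.ι_map,
      ← Category.assoc, ← Category.assoc, (φ n).comm]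

@[reassoc (attr := simp)]
lemma ι_coprodMap {K' : ι → CochainComplex 𝒜 ℤ} (φ : ∀ n, K n ⟶ K' n) (n : ι) :
    coprodι K n ≫ coprodMap φ = φ n ≫ coprodι K' n := by
  ext i
  change Sigma.ι (fun n => (K n).X i) n ≫ Limits.Sigma.map (fun n => (φ n).f i) =
    (φ n).f i ≫ Sigma.ι (fun n => (K' n).X i) n
  rw [Limits.Sigma.ι_map]

end Cx

section Sc

variable {𝒜 : Type u} [Category.{v} 𝒜] [Abelian 𝒜] {ι : Type w'}

/-- a family of short complexes as a short complex of functors -/
def famSc (S : ι → ShortComplex 𝒜) : ShortComplex (Discrete ι ⥤ 𝒜) :=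
  ShortComplex.mk (X₁ := Discrete.functor fun n => (S n).X₁) (X₂ := Discrete.functor fun n => (S n).X₂)
    (X₃ := Discrete.functor fun n => (S n).X₃)
    (Discrete.natTrans fun n => (S n.as).f) (Discrete.natTrans fun n => (S n.as).g) (by
      ext ⟨n⟩
      exact (S n).zero)

/-- a family of morphisms of short complexes -/
def famScMap {S S' : ι → ShortComplex 𝒜} (ψ : ∀ n, S n ⟶ S' n) : famSc S ⟶ famSc S' where
  τ₁ := Discrete.natTrans fun n => (ψ n.as).τ₁
  τ₂ := Discrete.natTrans fun n => (ψ n.as).τ₂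
  τ₃ := Discrete.natTrans fun n => (ψ n.as).τ₃
  comm₁₂ := by
    ext ⟨n⟩
    exact (ψ n).comm₁₂
  comm₂₃ := by
    ext ⟨n⟩
    exact (ψ n).comm₂₃

lemma quasiIso_famScMap {S S' : ι → ShortComplex 𝒜} (ψ : ∀ n, S n ⟶ S' n)
    (h : ∀ n, ShortComplex.QuasiIso (ψ n)) : ShortComplex.QuasiIso (famScMap ψ) := by
  have γ : ShortComplex.LeftHomologyMapData (famScMap ψ) (famSc S).leftHomologyData
    (famSc S').leftHomologyData := default
  rw [γ.quasiIso_iff]
  have : ∀ d : Discrete ι, IsIso (γ.φH.app d) := by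
    rintro ⟨n⟩
    have h1 := (γ.map ((evaluation (Discrete ι) 𝒜).obj ⟨n⟩)).quasiIso_iff
    have h2 : ShortComplex.QuasiIso (((evaluation (Discrete ι) 𝒜).obj ⟨n⟩).mapShortComplex.map (famScMap ψ)) :=
      h n
    exact h1.1 h2
  exact NatIso.isIso_of_isIso_app _

end Sc

section QIso

variable {𝒜 : Type u} [Category.{v} 𝒜] [Abelian 𝒜] {ι : Type w'} [HasCoproductsOfShape ι 𝒜]
  [HasExactColimitsOfShape (Discrete ι) 𝒜] {K K' : ι → CochainComplex 𝒜 ℤ}

instance : PreservesFiniteColimits (colim : (Discrete ι ⥤ 𝒜) ⥤ 𝒜) :=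
  ⟨fun _ => inferInstance⟩

theorem quasiIso_coprodMap (φ : ∀ n, K n ⟶ K' n) (h : ∀ n, QuasiIso (φ n)) :
    QuasiIso (coprodMap φ) := by
  rw [quasiIso_iff]
  intro i
  rw [quasiIsoAt_iff]
  let Ψ := famScMap (fun n => (HomologicalComplex.shortComplexFunctor 𝒜 (ComplexShape.up ℤ) i).map (φ n))
  have hΨ : ShortComplex.QuasiIso Ψ := quasiIso_famScMap _ (fun n => by
    have := (h n).quasiIsoAt i
    rw [quasiIsoAt_iff] at this
    exact this)
  have := ShortComplex.quasiIso_map_of_preservesLeftHomology (colim : (Discrete ι ⥤ 𝒜) ⥤ 𝒜) Ψ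
  exact this

end QIso

end Groth.Agent.Helper24.DCoprod
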