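import Groth.Agent.Lib.Helper24.DProd1

set_option autoImplicit false
universe w v u
open CategoryTheory CategoryTheory.Limits

namespace Groth.Agent.Helper24.DProd

section D

variable {𝒜 : Type u} [Category.{v} 𝒜] [Abelian 𝒜] [HasDerivedCategory.{w} 𝒜]

open DerivedCategory

/-- every morphism in the derived category to a K-injective complex comes from a chain map -/
theorem exists_map_eq (K L : CochainComplex 𝒜 ℤ) [L.IsKInjective] (φ : Q.obj K ⟶ Q.obj L) :
    ∃ f : K ⟶ L, Q.map f = φ := by
  obtain ⟨g, hg⟩ := (CochainComplex.IsKInjective.Qh_map_bijective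
    ((HomotopyCategory.quotient 𝒜 (ComplexShape.up ℤ)).obj K) L).2
      ((quotientCompQhIso 𝒜).hom.app K ≫ φ ≫ (quotientCompQhIso 𝒜).inv.app L)
  obtain ⟨f, rfl⟩ := (HomotopyCategory.quotient 𝒜 (ComplexShape.up ℤ)).map_surjective g
  refine ⟨f, ?_⟩
  have h1 := (quotientCompQhIso 𝒜).hom.naturality f
  simp only [Functor.comp_map] at h1
  rw [hg] at h1
  simp only [Category.assoc, Iso.inv_hom_id_app, Category.comp_id] at h1
  exact ((cancel_epi _).1 h1).symm

/-- chain maps to a K-injective complex with the same image in the derived category are homotopic -/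
theorem nonempty_homotopy_of_map_eq (K L : CochainComplex 𝒜 ℤ) [L.IsKInjective] (f g : K ⟶ L)
    (h : Q.map f = Q.map g) : Nonempty (Homotopy f g) := by
  refine ⟨HomotopyCategory.homotopyOfEq f g ?_⟩
  apply (CochainComplex.IsKInjective.Qh_map_bijective
    ((HomotopyCategory.quotient 𝒜 (ComplexShape.up ℤ)).obj K) L).1
  have h1 := (quotientCompQhIso 𝒜).hom.naturality f
  have h2 := (quotientCompQhIso 𝒜).hom.naturality g
  simp only [Functor.comp_map] at h1 h2
  rw [← cancel_mono ((quotientCompQhIso 𝒜).hom.app L), h1, h2, h]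

theorem map_eq_of_homotopy {K L : CochainComplex 𝒜 ℤ} (f g : K ⟶ L) (h : Homotopy f g) :
    Q.map f = Q.map g := by
  have h0 : (HomotopyCategory.quotient 𝒜 (ComplexShape.up ℤ)).map f =
      (HomotopyCategory.quotient 𝒜 (ComplexShape.up ℤ)).map g := HomotopyCategory.eq_of_homotopy f g h
  have h1 := (quotientCompQhIso 𝒜).hom.naturality f
  have h2 := (quotientCompQhIso 𝒜).hom.naturality g
  simp only [Functor.comp_map] at h1 h2
  rw [h0] at h1
  rw [← cancel_epi ((quotientCompQhIso 𝒜).hom.app K), ← h1, ← h2]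

variable {ι : Type} [HasProductsOfShape ι 𝒜] (I : ι → CochainComplex 𝒜 ℤ) [∀ n, (I n).IsKInjective]

/-- the image in the derived category of the termwise product of K-injective complexes is a product -/
noncomputable def isLimitFan :
    IsLimit (Fan.mk (Q.obj (prodCx I)) (fun n => Q.map (prodπ I n))) := by
  have hex : ∀ (s : Fan (fun n => Q.obj (I n))), ∃ l : s.pt ⟶ Q.obj (prodCx I),
      (∀ n, l ≫ Q.map (prodπ I n) = s.proj n) ∧
      ∀ m : s.pt ⟶ Q.obj (prodCx I), (∀ n, m ≫ Q.map (prodπ I n) = s.proj n) → m = l := by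
    intro s
    let K := Q.objPreimage s.pt
    let e : Q.obj K ≅ s.pt := Q.objObjPreimageIso s.pt
    choose f hf using fun n => exists_map_eq K (I n) (e.hom ≫ s.proj n)
    refine ⟨e.inv ≫ Q.map (prodLift f), fun n => ?_, fun m hm => ?_⟩
    · rw [Category.assoc, ← Functor.map_comp, prodLift_π, hf, Iso.inv_hom_id_assoc]
    · obtain ⟨φ, hφ⟩ := exists_map_eq K (prodCx I) (e.hom ≫ m)
      have hh : ∀ n, Nonempty (Homotopy (φ ≫ prodπ I n) (prodLift f ≫ prodπ I n)) := by
        intro n
        apply nonempty_homotopy_of_map_eq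
        rw [Functor.map_comp, hφ, prodLift_π, hf, Category.assoc, hm]
      have h1 : Q.map φ = Q.map (prodLift f) :=
        map_eq_of_homotopy _ _ (prodHomotopy _ _ (fun n => (hh n).some))
      rw [← h1, hφ, Iso.inv_hom_id_assoc]
  exact Fan.IsLimit.mk _ (fun s => (hex s).choose) (fun s n => (hex s).choose_spec.1 n)
    (fun s m hm => (hex s).choose_spec.2 m hm)

instance : HasProduct (fun n => Q.obj (I n)) := ⟨⟨⟨_, isLimitFan I⟩⟩⟩

end D

end Groth.Agent.Helper24.DProd
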