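import Groth.Agent.Lib.Helper24.DCoprod1
import Groth.Agent.Lib.Helper24.DProd2

set_option autoImplicit false
universe w' w v u
open CategoryTheory CategoryTheory.Limits

namespace Groth.Agent.Helper24.DCoprod

/-- the quotient functor to the homotopy category -/
abbrev Qt (𝒜 : Type u) [Category.{v} 𝒜] [Abelian 𝒜] :=
  HomotopyCategory.quotient 𝒜 (ComplexShape.up ℤ)

section Frac

variable {𝒜 : Type u} [Category.{v} 𝒜] [Abelian 𝒜] [HasDerivedCategory.{w} 𝒜]

open DerivedCategory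

local notation "WW" => HomotopyCategory.quasiIso 𝒜 (ComplexShape.up ℤ)

lemma Q_map_eq_iff {K L : CochainComplex 𝒜 ℤ} (f g : K ⟶ L) :
    Q.map f = Q.map g ↔ Qh.map ((Qt 𝒜).map f) = Qh.map ((Qt 𝒜).map g) := by
  have h1 := (quotientCompQhIso 𝒜).hom.naturality f
  have h2 := (quotientCompQhIso 𝒜).hom.naturality g
  simp only [Functor.comp_map] at h1 h2
  constructor
  · intro h
    rw [← cancel_mono ((quotientCompQhIso 𝒜).hom.app L), h1, h2, h]
  · intro h
    rw [← cancel_epi ((quotientCompQhIso 𝒜).hom.app K), ← h1, ← h2, h]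

/-- right fractions -/
theorem exists_rightFraction {K Y : CochainComplex 𝒜 ℤ} (f : Q.obj K ⟶ Q.obj Y) :
    ∃ (K' : CochainComplex 𝒜 ℤ) (s : K' ⟶ K) (_ : QuasiIso s) (g : K' ⟶ Y),
      Q.map s ≫ f = Q.map g := by
  let f' : Qh.obj ((Qt 𝒜).obj K) ⟶ Qh.obj ((Qt 𝒜).obj Y) :=
    (quotientCompQhIso 𝒜).hom.app K ≫ f ≫ (quotientCompQhIso 𝒜).inv.app Y
  obtain ⟨φ, hφ⟩ := Localization.exists_rightFraction Qh WW f'
  obtain ⟨X', s, hs, g, rfl⟩ := φ.cases
  obtain ⟨K', rfl⟩ := HomotopyCategory.quotient_obj_surjective X'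
  obtain ⟨s₀, rfl⟩ := (Qt 𝒜).map_surjective s
  obtain ⟨g₀, rfl⟩ := (Qt 𝒜).map_surjective g
  have hs₀ : QuasiIso s₀ := by
    rw [HomotopyCategory.quotient_map_mem_quasiIso_iff] at hs
    exact hs
  refine ⟨K', s₀, hs₀, g₀, ?_⟩
  have h3 := MorphismProperty.RightFraction.map_s_comp_map
    (MorphismProperty.RightFraction.mk ((Qt 𝒜).map s₀) hs ((Qt 𝒜).map g₀)) Qh
    (Localization.inverts Qh WW)
  rw [← hφ] at h3
  dsimp only at h3
  have h1 := (quotientCompQhIso 𝒜).hom.naturality s₀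
  have h2 := (quotientCompQhIso 𝒜).hom.naturality g₀
  simp only [Functor.comp_map] at h1 h2
  rw [← cancel_epi ((quotientCompQhIso 𝒜).hom.app K'), ← Category.assoc, ← h1, ← h2, ← h3]
  simp only [f', Category.assoc, Iso.inv_hom_id_app, Category.comp_id]

/-- left fractions -/
theorem exists_leftFraction {K Y : CochainComplex 𝒜 ℤ} (f : Q.obj K ⟶ Q.obj Y) :
    ∃ (Y' : CochainComplex 𝒜 ℤ) (t : Y ⟶ Y') (_ : QuasiIso t) (g : K ⟶ Y'),
      f ≫ Q.map t = Q.map g := by
  let f' : Qh.obj ((Qt 𝒜).obj K) ⟶ Qh.obj ((Qt 𝒜).obj Y) :=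
    (quotientCompQhIso 𝒜).hom.app K ≫ f ≫ (quotientCompQhIso 𝒜).inv.app Y
  obtain ⟨φ, hφ⟩ := Localization.exists_leftFraction Qh WW f'
  obtain ⟨X', g, t, ht, rfl⟩ := φ.cases
  obtain ⟨Y', rfl⟩ := HomotopyCategory.quotient_obj_surjective X'
  obtain ⟨t₀, rfl⟩ := (Qt 𝒜).map_surjective t
  obtain ⟨g₀, rfl⟩ := (Qt 𝒜).map_surjective g
  have ht₀ : QuasiIso t₀ := by
    rw [HomotopyCategory.quotient_map_mem_quasiIso_iff] at ht
    exact ht
  refine ⟨Y', t₀, ht₀, g₀, ?_⟩
  have h3 := MorphismProperty.LeftFraction.map_comp_map_s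
    (MorphismProperty.LeftFraction.mk ((Qt 𝒜).map g₀) ((Qt 𝒜).map t₀) ht) Qh
    (Localization.inverts Qh WW)
  rw [← hφ] at h3
  dsimp only at h3
  have h1 := (quotientCompQhIso 𝒜).hom.naturality t₀
  have h2 := (quotientCompQhIso 𝒜).hom.naturality g₀
  simp only [Functor.comp_map] at h1 h2
  rw [← cancel_epi ((quotientCompQhIso 𝒜).hom.app K), ← h2, ← h3]
  simp only [f', Category.assoc]
  rw [h1, Iso.inv_hom_id_app_assoc]

/-- equality of images in the derived category -/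
theorem exists_homotopy_of_map_eq {K Y : CochainComplex 𝒜 ℤ} (f₁ f₂ : K ⟶ Y)
    (h : Q.map f₁ = Q.map f₂) :
    ∃ (K' : CochainComplex 𝒜 ℤ) (s : K' ⟶ K) (_ : QuasiIso s), Nonempty (Homotopy (s ≫ f₁) (s ≫ f₂)) := by
  rw [Q_map_eq_iff, MorphismProperty.map_eq_iff_precomp Qh WW] at h
  obtain ⟨X', s, hs, hh⟩ := h
  obtain ⟨K', rfl⟩ := HomotopyCategory.quotient_obj_surjective X'
  obtain ⟨s₀, rfl⟩ := (Qt 𝒜).map_surjective s
  have hs₀ : QuasiIso s₀ := by
    rw [HomotopyCategory.quotient_map_mem_quasiIso_iff] at hs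
    exact hs
  refine ⟨K', s₀, hs₀, ⟨HomotopyCategory.homotopyOfEq _ _ ?_⟩⟩
  rw [Functor.map_comp, Functor.map_comp]
  exact hh

end Frac

section Coprod

variable {𝒜 : Type u} [Category.{v} 𝒜] [Abelian 𝒜] [HasDerivedCategory.{w} 𝒜]
  {ι : Type w'} [HasCoproductsOfShape ι 𝒜] [HasExactColimitsOfShape (Discrete ι) 𝒜]
  (K : ι → CochainComplex 𝒜 ℤ)

open DerivedCategory Groth.Agent.Helper24.DProd

theorem exists_desc (Y : DerivedCategory 𝒜) (f : ∀ n, Q.obj (K n) ⟶ Y) :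
    ∃ g : Q.obj (coprodCx K) ⟶ Y, ∀ n, Q.map (coprodι K n) ≫ g = f n := by
  let Y' := Q.objPreimage Y
  let e : Q.obj Y' ≅ Y := Q.objObjPreimageIso Y
  choose K' s hs g hg using fun n => exists_rightFraction (f n ≫ e.inv)
  have hS : QuasiIso (coprodMap s) := quasiIso_coprodMap s hs
  have : IsIso (Q.map (coprodMap s)) := by
    rw [DerivedCategory.isIso_Q_map_iff_quasiIso]
    exact hS
  refine ⟨inv (Q.map (coprodMap s)) ≫ Q.map (coprodDesc g) ≫ e.hom, fun n => ?_⟩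
  have : IsIso (Q.map (s n)) := by
    rw [DerivedCategory.isIso_Q_map_iff_quasiIso]
    exact hs n
  rw [← cancel_epi (Q.map (s n)), ← Category.assoc, ← Functor.map_comp, ← ι_coprodMap,
    Functor.map_comp, Category.assoc, IsIso.hom_inv_id_assoc, ← Category.assoc, ← Functor.map_comp,
    ι_coprodDesc, ← hg, Category.assoc, Category.assoc, Iso.inv_hom_id, Category.comp_id]

theorem eq_zero_of_ι_comp (Y : DerivedCategory 𝒜) (g : Q.obj (coprodCx K) ⟶ Y)
    (h : ∀ n, Q.map (coprodι K n) ≫ g = 0) : g = 0 := by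
  let Y' := Q.objPreimage Y
  let e : Q.obj Y' ≅ Y := Q.objObjPreimageIso Y
  obtain ⟨Y'', t, ht, γ, hγ⟩ := exists_leftFraction (g ≫ e.inv)
  have : IsIso (Q.map t) := by
    rw [DerivedCategory.isIso_Q_map_iff_quasiIso]
    exact ht
  have h1 : ∀ n, Q.map (coprodι K n ≫ γ) = Q.map (0 : K n ⟶ Y'') := by
    intro n
    rw [Functor.map_comp, ← hγ, ← Category.assoc, ← Category.assoc, h n, zero_comp, zero_comp,
      Functor.map_zero]
  choose K' s hs hh using fun n => exists_homotopy_of_map_eq _ _ (h1 n)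
  have hS : QuasiIso (coprodMap s) := quasiIso_coprodMap s hs
  have : IsIso (Q.map (coprodMap s)) := by
    rw [DerivedCategory.isIso_Q_map_iff_quasiIso]
    exact hS
  have h2 : Q.map (coprodMap s ≫ γ) = Q.map (0 : coprodCx K' ⟶ Y'') := by
    apply map_eq_of_homotopy
    refine coprodHomotopy _ _ (fun n => ?_)
    refine (Homotopy.ofEq ?_).trans ((hh n).some.trans (Homotopy.ofEq ?_))
    · rw [ι_coprodMap_assoc]
    · rw [comp_zero, comp_zero]
  rw [Functor.map_comp, Functor.map_zero] at h2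
  have h3 : Q.map γ = 0 := by
    rw [← cancel_epi (Q.map (coprodMap s)), h2, comp_zero]
  rw [h3] at hγ
  have h4 : g ≫ e.inv = 0 := by
    rw [← cancel_mono (Q.map t), hγ, zero_comp]
  rw [← cancel_mono e.inv, h4, zero_comp]

/-- the image in the derived category of the termwise coproduct is a coproduct -/
noncomputable def isColimitCofan :
    IsColimit (Cofan.mk (Q.obj (coprodCx K)) (fun n => Q.map (coprodι K n))) :=
  Cofan.IsColimit.mk _ (fun s => (exists_desc K s.pt (fun n => s.inj n)).choose)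
    (fun s n => (exists_desc K s.pt (fun n => s.inj n)).choose_spec n)
    (fun s m hm => by
      rw [← sub_eq_zero]
      apply eq_zero_of_ι_comp K
      intro n
      rw [Preadditive.comp_sub, sub_eq_zero]
      exact (hm n).trans ((exists_desc K s.pt (fun n => s.inj n)).choose_spec n).symm)

instance : HasCoproduct (fun n => Q.obj (K n)) := ⟨⟨⟨_, isColimitCofan K⟩⟩⟩

end Coprod

end Groth.Agent.Helper24.DCoprod
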