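import Groth.Agent.Lib.Helper24.DProd2

set_option autoImplicit false
universe w v u
open CategoryTheory CategoryTheory.Limits

namespace Groth.Agent.Helper24.DProd

section D

variable {𝒜 : Type u} [Category.{v} 𝒜] [Abelian 𝒜] [HasDerivedCategory.{w} 𝒜] [EnoughInjectives 𝒜]

open DerivedCategory

/-- a bounded below object of the derived category is the image of a K-injective complex -/
theorem exists_kInjective_iso (X : DerivedCategory 𝒜) (a : ℤ) [X.IsGE a] :
    ∃ (L : CochainComplex 𝒜 ℤ) (_ : L.IsKInjective), Nonempty (X ≅ Q.obj L) := by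
  obtain ⟨K, hK, ⟨e⟩⟩ := exists_iso_Q_obj_of_isGE X a
  obtain ⟨L, i, hi, hL, hL'⟩ := CochainComplex.Plus.modelCategoryQuillen.exists_quasiIso_injective K a
  exact ⟨L, CochainComplex.isKInjective_of_injective L a, ⟨e ≪≫ asIso (Q.map i)⟩⟩

variable {ι : Type} [HasProductsOfShape ι 𝒜]

/-- products of bounded below objects exist in the derived category -/
theorem hasProduct_of_isGE (X : ι → DerivedCategory 𝒜) (a : ι → ℤ) (h : ∀ n, (X n).IsGE (a n)) :
    HasProduct X := by
  choose L hL e using fun n => exists_kInjective_iso (X n) (a n)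
  have : HasLimit (Discrete.functor (fun n => Q.obj (L n))) :=
    inferInstanceAs (HasProduct (fun n => Q.obj (L n)))
  exact hasLimit_of_iso (F := Discrete.functor (fun n => Q.obj (L n))) (G := Discrete.functor X)
    (Discrete.natIso (fun ⟨n⟩ => (e n).some.symm))

end D

end Groth.Agent.Helper24.DProd
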