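import Mathlib
import Groth.Prelude.Def_CohCx

set_option autoImplicit false
universe u
open CategoryTheory CategoryTheory.Limits

namespace Groth.Agent.Helper24.MLCx

open HomologicalComplex

section AbDict

variable (K L : CochainComplex AddCommGrpCat.{u} ℤ) (φ : K ⟶ L) (m : ℤ)

lemma iCycles_injective : Function.Injective (K.iCycles m).hom :=
  (AddCommGrpCat.mono_iff_injective _).1 inferInstance

lemma exists_cycle (x : K.X m) (hx : (K.d m (m + 1)).hom x = 0) :
    ∃ y : K.cycles m, (K.iCycles m).hom y = x := by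
  have hex : (ShortComplex.mk (K.iCycles m) (K.d m (m + 1)) (K.iCycles_d m (m + 1))).Exact :=
    ShortComplex.exact_of_f_is_kernel _ (K.cyclesIsKernel m (m + 1) (by simp))
  rw [ShortComplex.ab_exact_iff] at hex
  exact hex x hx

lemma iCycles_d_apply (y : K.cycles m) : (K.d m (m + 1)).hom ((K.iCycles m).hom y) = 0 := by
  have := ConcreteCategory.congr_hom (K.iCycles_d m (m + 1)) y
  rw [ConcreteCategory.comp_apply] at this; exact this

lemma homologyπ_surjective : Function.Surjective (K.homologyπ m).hom :=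
  (AddCommGrpCat.epi_iff_surjective _).1 inferInstance

lemma exists_boundary_of_homologyπ_eq_zero (y : K.cycles m) (hy : (K.homologyπ m).hom y = 0) :
    ∃ b : K.X (m - 1), (K.toCycles (m - 1) m).hom b = y := by
  have hex : (ShortComplex.mk (K.toCycles (m - 1) m) (K.homologyπ m)
      (K.toCycles_comp_homologyπ (m - 1) m)).Exact :=
    ShortComplex.exact_of_g_is_cokernel _ (K.homologyIsCokernel (m - 1) m (by simp))
  rw [ShortComplex.ab_exact_iff] at hex
  exact hex y hy

lemma homologyπ_toCycles_apply (b : K.X (m - 1)) :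
    (K.homologyπ m).hom ((K.toCycles (m - 1) m).hom b) = 0 := by
  have := ConcreteCategory.congr_hom (K.toCycles_comp_homologyπ (m - 1) m) b
  rw [ConcreteCategory.comp_apply] at this; exact this

lemma toCycles_i_apply (b : K.X (m - 1)) :
    (K.iCycles m).hom ((K.toCycles (m - 1) m).hom b) = (K.d (m - 1) m).hom b := by
  have := ConcreteCategory.congr_hom (K.toCycles_i (m - 1) m) b
  rw [ConcreteCategory.comp_apply] at this; exact this

variable {K L}

lemma cyclesMap_i_apply (y : K.cycles m) :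
    (L.iCycles m).hom ((cyclesMap φ m).hom y) = (φ.f m).hom ((K.iCycles m).hom y) := by
  have := ConcreteCategory.congr_hom (cyclesMap_i φ m) y
  rw [ConcreteCategory.comp_apply] at this; exact this

lemma homologyπ_naturality_apply (y : K.cycles m) :
    (homologyMap φ m).hom ((K.homologyπ m).hom y) = (L.homologyπ m).hom ((cyclesMap φ m).hom y) := by
  have := ConcreteCategory.congr_hom (homologyπ_naturality φ m) y
  rw [ConcreteCategory.comp_apply] at this; exact this

/-- (E1) -/
theorem inj_of_isIso (h : IsIso (homologyMap φ m)) (c : K.X m) (hc : (K.d m (m + 1)).hom c = 0)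
    (hb : ∃ b : L.X (m - 1), (L.d (m - 1) m).hom b = (φ.f m).hom c) :
    ∃ b' : K.X (m - 1), (K.d (m - 1) m).hom b' = c := by
  obtain ⟨b, hb⟩ := hb
  obtain ⟨y, rfl⟩ := exists_cycle K m c hc
  have hinj : Function.Injective (homologyMap φ m).hom :=
    ((ConcreteCategory.isIso_iff_bijective _).1 h).1
  have h1 : (cyclesMap φ m).hom y = (L.toCycles (m - 1) m).hom b := by
    apply iCycles_injective L m
    rw [cyclesMap_i_apply, toCycles_i_apply, hb]
  have h2 : (K.homologyπ m).hom y = 0 := by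
    apply hinj
    rw [homologyπ_naturality_apply, h1, homologyπ_toCycles_apply, map_zero]
  obtain ⟨b', hb'⟩ := exists_boundary_of_homologyπ_eq_zero K m y h2
  exact ⟨b', by rw [← hb', toCycles_i_apply]⟩

/-- (E2) -/
theorem surj_of_isIso (h : IsIso (homologyMap φ m)) (γ : L.X m) (hγ : (L.d m (m + 1)).hom γ = 0) :
    ∃ c : K.X m, (K.d m (m + 1)).hom c = 0 ∧
      ∃ b : L.X (m - 1), (L.d (m - 1) m).hom b = (φ.f m).hom c - γ := by
  obtain ⟨y', rfl⟩ := exists_cycle L m γ hγ
  have hsurj : Function.Surjective (homologyMap φ m).hom :=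
    ((ConcreteCategory.isIso_iff_bijective _).1 h).2
  obtain ⟨hcl, hh⟩ := hsurj ((L.homologyπ m).hom y')
  obtain ⟨y, rfl⟩ := homologyπ_surjective K m hcl
  have h1 : (L.homologyπ m).hom ((cyclesMap φ m).hom y - y') = 0 := by
    rw [map_sub, ← homologyπ_naturality_apply, hh, sub_self]
  obtain ⟨b, hb⟩ := exists_boundary_of_homologyπ_eq_zero L m _ h1
  refine ⟨(K.iCycles m).hom y, iCycles_d_apply K m y, b, ?_⟩
  rw [← toCycles_i_apply, hb, map_sub, cyclesMap_i_apply]

end AbDict

section LimOne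

variable (K : ℕ → CochainComplex AddCommGrpCat.{u} ℤ) (φ : ∀ n, K (n + 1) ⟶ K n) (m : ℤ)

/-- (E3) -/
theorem limOne_homology_elementwise
    (h : CohCx.LimOneIsZero (fun n => (K n).homology m) (fun n => (homologyMap (φ n) m).hom))
    (z : ∀ n, (K n).X m) (hz : ∀ n, ((K n).d m (m + 1)).hom (z n) = 0) :
    ∃ w : ∀ n, (K n).X m, (∀ n, ((K n).d m (m + 1)).hom (w n) = 0) ∧
      ∀ n, ∃ a : (K n).X (m - 1),
        z n - (w n - ((φ n).f m).hom (w (n + 1))) = ((K n).d (m - 1) m).hom a := by
  choose y hy using fun n => exists_cycle (K n) m (z n) (hz n)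
  obtain ⟨g, hg⟩ := h (fun n => ((K n).homologyπ m).hom (y n))
  have hg' : ∀ n, g n - (homologyMap (φ n) m).hom (g (n + 1)) = ((K n).homologyπ m).hom (y n) :=
    fun n => congrFun hg n
  choose v hv using fun n => homologyπ_surjective (K n) m (g n)
  refine ⟨fun n => ((K n).iCycles m).hom (v n), fun n => iCycles_d_apply (K n) m (v n), fun n => ?_⟩
  have h1 : ((K n).homologyπ m).hom (y n - (v n - (cyclesMap (φ n) m).hom (v (n + 1)))) = 0 := by
    rw [map_sub, map_sub, ← homologyπ_naturality_apply, hv, hv, hg', sub_self]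
  obtain ⟨a, ha⟩ := exists_boundary_of_homologyπ_eq_zero (K n) m _ h1
  refine ⟨a, ?_⟩
  rw [← toCycles_i_apply, ha, map_sub, map_sub, cyclesMap_i_apply, hy]

end LimOne

section General

variable {K L : CochainComplex AddCommGrpCat.{u} ℤ} (φ : K ⟶ L)

theorem inj_of_isIso' (i j k : ℤ) (hi : i = j - 1) (hk : k = j + 1)
    (h : IsIso (homologyMap φ j)) (c : K.X j) (hc : (K.d j k).hom c = 0)
    (hb : ∃ b : L.X i, (L.d i j).hom b = (φ.f j).hom c) :
    ∃ b' : K.X i, (K.d i j).hom b' = c := by
  subst hi hk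
  exact inj_of_isIso φ j h c hc hb

theorem surj_of_isIso' (i j k : ℤ) (hi : i = j - 1) (hk : k = j + 1)
    (h : IsIso (homologyMap φ j)) (γ : L.X j) (hγ : (L.d j k).hom γ = 0) :
    ∃ c : K.X j, (K.d j k).hom c = 0 ∧
      ∃ b : L.X i, (L.d i j).hom b = (φ.f j).hom c - γ := by
  subst hi hk
  exact surj_of_isIso φ j h γ hγ

theorem limOne_homology_elementwise' (K : ℕ → CochainComplex AddCommGrpCat.{u} ℤ)
    (φ : ∀ n, K (n + 1) ⟶ K n) (i j k : ℤ) (hi : i = j - 1) (hk : k = j + 1)
    (h : CohCx.LimOneIsZero (fun n => (K n).homology j) (fun n => (homologyMap (φ n) j).hom))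
    (z : ∀ n, (K n).X j) (hz : ∀ n, ((K n).d j k).hom (z n) = 0) :
    ∃ w : ∀ n, (K n).X j, (∀ n, ((K n).d j k).hom (w n) = 0) ∧
      ∀ n, ∃ a : (K n).X i,
        z n - (w n - ((φ n).f j).hom (w (n + 1))) = ((K n).d i j).hom a := by
  subst hi hk
  exact limOne_homology_elementwise K φ j h z hz

end General

end Groth.Agent.Helper24.MLCx
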