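import Groth.Agent.Lib.Helper24.GSSExt
import Groth.Agent.Lib.Helper24.HDSheaf
import Groth.Agent.Lib.Helper24.MLCx5
import Groth.Agent.Lib.Helper24.DProd3

set_option autoImplicit false
set_option linter.unusedSectionVars false
set_option linter.style.haveILetI false
universe w' w v u
open CategoryTheory CategoryTheory.Limits Opposite

namespace Groth.Agent.Helper24.DCoprod

open Groth.Agent.Helper24.HDSheaf Groth.Agent.Helper24.GSS Groth.Agent.Helper24.CechH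
  Groth.Agent.Helper24.MLCx Groth.Agent.Helper24.DProd Abelian

section Leray

variable {𝒜 : Type u} [Category.{v} 𝒜] [Abelian 𝒜] [EnoughInjectives 𝒜] [HasDerivedCategory.{w} 𝒜]
  [HasExt.{w'} 𝒜]

open DerivedCategory HomologicalComplex

omit [EnoughInjectives 𝒜] [HasDerivedCategory.{w} 𝒜] [HasExt.{w'} 𝒜] in
lemma ζ_postcomp {X : 𝒜} {K L : CochainComplex 𝒜 ℤ} (z : X ⟶ K.X 0) (hz : z ≫ K.d 0 1 = 0)
    (φ : K ⟶ L) :
    ζ z hz ≫ φ = ζ (z ≫ φ.f 0) (by rw [Category.assoc, φ.comm, ← Category.assoc, hz, zero_comp]) := by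
  apply from_single_hom_ext
  rw [comp_f, ζ_f, ζ_f, Category.assoc]

omit [EnoughInjectives 𝒜] [HasDerivedCategory.{w} 𝒜] [HasExt.{w'} 𝒜] in
lemma ζ_add {X : 𝒜} {K : CochainComplex 𝒜 ℤ} (z z' : X ⟶ K.X 0) (hz : z ≫ K.d 0 1 = 0)
    (hz' : z' ≫ K.d 0 1 = 0) :
    ζ (z + z') (by rw [Preadditive.add_comp, hz, hz', add_zero]) = ζ z hz + ζ z' hz' := by
  apply from_single_hom_ext
  rw [ζ_f, HomologicalComplex.add_f_apply, ζ_f, ζ_f, Preadditive.comp_add]

lemma acyc_of_ext (X M : 𝒜) (h : ∀ p : ℕ, Subsingleton (Ext.{w'} X M (p + 1))) :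
    Acyc.Acyc (extFunctorObj.{w'} X 0) M := by
  intro i hi
  obtain ⟨p, rfl⟩ : ∃ p, i = p + 1 := ⟨i - 1, by omega⟩
  haveI : PreservesFiniteLimits (extFunctorObj.{w'} X 0) :=
    inferInstanceAs (PreservesFiniteLimits ((extDelta X).F 0))
  obtain ⟨e⟩ := nonempty_iso_rightDerived_obj (extDelta.{w'} X) (extDelta_effaceable X)
    (extFunctorObj.{w'} X 0) (Iso.refl _) (p + 1) M
  refine IsZero.of_iso ?_ e.symm
  exact @AddCommGrpCat.isZero_of_subsingleton (AddCommGrpCat.of (Ext.{w'} X M (p + 1))) (h p)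

/-- Leray: morphisms in the derived category from a single object to a bounded below complex of
`Hom(X, -)`-acyclic objects are represented by cycles -/
theorem exists_ζ_of_ext_vanishing (X : 𝒜) (L : CochainComplex 𝒜 ℤ) (a : ℤ) [L.IsStrictlyGE a]
    (hL : ∀ (n : ℤ) (p : ℕ), Subsingleton (Ext.{w'} X (L.X n) (p + 1)))
    (f : Q.obj (sg X) ⟶ Q.obj L) :
    ∃ (z : X ⟶ L.X 0) (hz : z ≫ L.d 0 1 = 0), Q.map (ζ z hz) = f := by
  obtain ⟨I, i, hmono, hqis, hinj, hGE⟩ :=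
    CochainComplex.Plus.modelCategoryQuillen.exists_mono_quasiIso_injective L (a - 1) a (by omega)
  haveI := hGE
  haveI : I.IsKInjective := CochainComplex.isKInjective_of_injective I (a - 1)
  haveI : IsIso (Q.map i) := by
    rw [DerivedCategory.isIso_Q_map_iff_quasiIso]
    exact hqis
  obtain ⟨g, hg⟩ := exists_map_eq (sg X) I (f ≫ Q.map i)
  obtain ⟨z₁, hz₁, rfl⟩ := eq_ζ g
  let S := extFunctorObj.{w'} X 0
  haveI : PreservesFiniteLimits S := inferInstanceAs (PreservesFiniteLimits ((extDelta X).F 0))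
  have hqi : QuasiIso ((S.mapHomologicalComplex (ComplexShape.up ℤ)).map i) :=
    Acyc.quasiIso_map_of_mono S i (a - 1) (fun m => acyc_of_ext X (L.X m) (hL m))
      (fun m => Acyc.acyc_of_injective S (I.X m))
  have hiso : IsIso (homologyMap ((S.mapHomologicalComplex (ComplexShape.up ℤ)).map i) 0) := by
    have := hqi.quasiIsoAt 0
    rw [quasiIsoAt_iff_isIso_homologyMap] at this
    exact this
  obtain ⟨c, hc, b, hb⟩ := surj_of_isIso' ((S.mapHomologicalComplex (ComplexShape.up ℤ)).map i)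
    (-1) 0 1 (by norm_num) (by norm_num) hiso (Ext.mk₀ z₁ : Ext.{w'} X (I.X 0) 0) (by
      change (Ext.mk₀ z₁).comp (Ext.mk₀ (I.d 0 1)) (add_zero 0) = 0
      rw [Ext.mk₀_comp_mk₀, hz₁, Ext.mk₀_zero])
  obtain ⟨z, rfl⟩ := (Ext.mk₀_bijective X (L.X 0)).2 c
  obtain ⟨b₀, rfl⟩ := (Ext.mk₀_bijective X (I.X (-1))).2 b
  have hz : z ≫ L.d 0 1 = 0 := by
    have : (Ext.mk₀ z).comp (Ext.mk₀ (L.d 0 1)) (add_zero 0) = 0 := hc
    rw [Ext.mk₀_comp_mk₀, Ext.mk₀_eq_zero_iff] at this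
    exact this
  have hb' : b₀ ≫ I.d (-1) 0 = z ≫ i.f 0 - z₁ := by
    have : (Ext.mk₀ b₀).comp (Ext.mk₀ (I.d (-1) 0)) (add_zero 0) =
      (Ext.mk₀ z).comp (Ext.mk₀ (i.f 0)) (add_zero 0) - Ext.mk₀ z₁ := hb
    rw [Ext.mk₀_comp_mk₀, Ext.mk₀_comp_mk₀] at this
    apply (Ext.mk₀_bijective X (I.X 0)).1
    rw [this]
    simp only [← Ext.addEquiv₀_symm_apply, map_sub]
  refine ⟨z, hz, ?_⟩
  rw [← cancel_mono (Q.map i), ← Functor.map_comp, ζ_postcomp, ← hg]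
  have e1 : z ≫ i.f 0 = z₁ + b₀ ≫ I.d (-1) 0 := by rw [hb']; abel
  have e2 : ζ (z ≫ i.f 0) (by rw [Category.assoc, i.comm, ← Category.assoc, hz, zero_comp]) =
      ζ z₁ hz₁ + ζ (b₀ ≫ I.d (-1) 0) (by simp) := by
    rw [← ζ_add]
    congr 1
  rw [e2, Functor.map_add, Q_map_ζ_eq_zero, add_zero]

end Leray

end Groth.Agent.Helper24.DCoprod
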