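import Mathlib
import Groth.Prelude.Def_CohDer

set_option autoImplicit false
universe w' w v u
open CategoryTheory CategoryTheory.Limits

namespace Groth.Agent.Helper24.DCoprod

section AbColim

variable {𝒜 : Type u} [Category.{v} 𝒜] {ι : Type w} (F : ι → 𝒜) [HasCoproduct F]
  (S : 𝒜 ⥤ AddCommGrpCat.{w'}) [PreservesColimit (Discrete.functor F) S]

/-- the image cocone is a colimit -/
noncomputable def isColimitMapCofan : IsColimit (S.mapCocone (colimit.cocone (Discrete.functor F))) :=
  isColimitOfPreserves S (colimit.isColimit _)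

lemma map_sigma_hom_ext {T : AddCommGrpCat.{w'}} (a b : S.obj (∐ F) ⟶ T)
    (h : ∀ i, S.map (Sigma.ι F i) ≫ a = S.map (Sigma.ι F i) ≫ b) : a = b := by
  refine (isColimitMapCofan F S).hom_ext ?_
  rintro ⟨i⟩
  exact h i

theorem subsingleton_map_sigma (h : ∀ i, Subsingleton (S.obj (F i))) :
    Subsingleton (S.obj (∐ F)) := by
  have h1 : (𝟙 (S.obj (∐ F))) = 0 := by
    apply map_sigma_hom_ext F S
    intro i
    have hz : IsZero (S.obj (F i)) := AddCommGrpCat.isZero_of_subsingleton _
    exact hz.eq_of_src _ _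
  refine ⟨fun x y => ?_⟩
  have hx := congrArg (fun f => f.hom x) h1
  have hy := congrArg (fun f => f.hom y) h1
  simp only [AddCommGrpCat.hom_id, AddMonoidHom.id_apply, AddCommGrpCat.hom_zero,
    AddMonoidHom.zero_apply] at hx hy
  rw [hx, hy]

open Classical in
theorem toAddMonoid_surjective :
    Function.Surjective (DirectSum.toAddMonoid (fun i => (S.map (Sigma.ι F i)).hom) :
      (DirectSum ι fun i => S.obj (F i)) →+ S.obj (∐ F)) := by
  let Φ : (DirectSum ι fun i => S.obj (F i)) →+ S.obj (∐ F) :=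
    DirectSum.toAddMonoid (fun i => (S.map (Sigma.ι F i)).hom)
  let N : AddSubgroup (S.obj (∐ F)) := Φ.range
  let q : S.obj (∐ F) ⟶ AddCommGrpCat.of (S.obj (∐ F) ⧸ N) :=
    AddCommGrpCat.ofHom (QuotientAddGroup.mk' N)
  have hq : q = 0 := by
    apply map_sigma_hom_ext F S
    intro i
    ext x
    change QuotientAddGroup.mk' N ((S.map (Sigma.ι F i)).hom x) = 0
    rw [QuotientAddGroup.mk'_apply, QuotientAddGroup.eq_zero_iff]
    refine ⟨DirectSum.of (fun i => S.obj (F i)) i x, ?_⟩
    simp only [Φ]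
    rw [DirectSum.toAddMonoid_of]
  intro x
  have hx := congrArg (fun f => f.hom x) hq
  change QuotientAddGroup.mk' N x = 0 at hx
  rw [QuotientAddGroup.mk'_apply, QuotientAddGroup.eq_zero_iff] at hx
  exact hx

end AbColim

section Proj

variable {𝒜 : Type u} [Category.{v} 𝒜] [Preadditive 𝒜] {ι : Type w} (F : ι → 𝒜) [HasCoproduct F]

open Classical in
/-- projection of a coproduct onto a summand -/
noncomputable def sπ (j : ι) : ∐ F ⟶ F j :=
  Sigma.desc (fun i => if h : i = j then eqToHom (congrArg F h) else 0)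

open Classical in
lemma ι_sπ_self (j : ι) : Sigma.ι F j ≫ sπ F j = 𝟙 _ := by
  unfold sπ
  rw [Sigma.ι_desc, dif_pos rfl]
  rfl

open Classical in
lemma ι_sπ_of_ne {i j : ι} (h : i ≠ j) : Sigma.ι F i ≫ sπ F j = 0 := by
  unfold sπ
  rw [Sigma.ι_desc, dif_neg h]

/-- the idempotent of a coproduct attached to a finite set of indices -/
noncomputable def eProj (s : Finset ι) : ∐ F ⟶ ∐ F := ∑ i ∈ s, sπ F i ≫ Sigma.ι F i

open Classical in
lemma ι_eProj {s : Finset ι} {i : ι} (hi : i ∈ s) : Sigma.ι F i ≫ eProj F s = Sigma.ι F i := by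
  unfold eProj
  rw [Preadditive.comp_sum, Finset.sum_eq_single i]
  · rw [← Category.assoc, ι_sπ_self, Category.id_comp]
  · intro j _ hj
    rw [← Category.assoc, ι_sπ_of_ne F (Ne.symm hj), zero_comp]
  · intro h
    exact absurd hi h

variable (S : 𝒜 ⥤ AddCommGrpCat.{w'}) [PreservesColimit (Discrete.functor F) S]

open Classical in
theorem exists_finset_eProj (x : S.obj (∐ F)) :
    ∃ s : Finset ι, ∀ s' : Finset ι, s ⊆ s' → (S.map (eProj F s')).hom x = x := by
  obtain ⟨d, rfl⟩ := toAddMonoid_surjective F S x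
  induction d using DirectSum.induction_on with
  | zero => exact ⟨∅, fun s' _ => by rw [map_zero, map_zero]⟩
  | of i y =>
    refine ⟨{i}, fun s' hs' => ?_⟩
    rw [DirectSum.toAddMonoid_of]
    have h1 : (S.map (Sigma.ι F i) ≫ S.map (eProj F s')) = S.map (Sigma.ι F i) := by
      rw [← S.map_comp, ι_eProj F (hs' (Finset.mem_singleton_self i))]
    have h2 := congrArg (fun f => f.hom y) h1
    exact h2
  | add a b ha hb =>
    obtain ⟨sa, hsa⟩ := ha
    obtain ⟨sb, hsb⟩ := hb
    refine ⟨sa ∪ sb, fun s' hs' => ?_⟩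
    rw [map_add, map_add, hsa s' (Finset.union_subset_left hs'), hsb s' (Finset.union_subset_right hs')]

end Proj

section Inj

variable {D : Type u} [Category.{v} D] [Preadditive D] (K : D) {ι : Type v} (X : ι → D)
  [HasCoproduct X]

open Classical in
/-- projection of a coproduct onto a summand -/
noncomputable def sigmaπ (j : ι) : ∐ X ⟶ X j :=
  Sigma.desc (fun i => if h : i = j then eqToHom (congrArg X h) else 0)

open Classical in
lemma ι_sigmaπ_self (j : ι) : Sigma.ι X j ≫ sigmaπ X j = 𝟙 _ := by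
  unfold sigmaπ
  rw [Sigma.ι_desc, dif_pos rfl]
  rfl

open Classical in
lemma ι_sigmaπ_of_ne {i j : ι} (h : i ≠ j) : Sigma.ι X i ≫ sigmaπ X j = 0 := by
  unfold sigmaπ
  rw [Sigma.ι_desc, dif_neg h]

open Classical in
theorem homSumToHomCoprod_comp_sigmaπ (d : DirectSum ι (fun i => K ⟶ X i)) (j : ι) :
    CohDer.homSumToHomCoprod K X d ≫ sigmaπ X j = d j := by
  induction d using DirectSum.induction_on with
  | zero =>
    rw [map_zero, zero_comp]
    rfl
  | of i f =>
    unfold CohDer.homSumToHomCoprod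
    rw [DirectSum.toAddMonoid_of]
    change (f ≫ Sigma.ι X i) ≫ sigmaπ X j = _
    by_cases h : i = j
    · subst h
      rw [Category.assoc, ι_sigmaπ_self, Category.comp_id, DirectSum.of_eq_same]
    · rw [Category.assoc, ι_sigmaπ_of_ne X h, comp_zero, DirectSum.of_eq_of_ne _ _ _ (Ne.symm h)]
  | add x y hx hy =>
    rw [map_add, Preadditive.add_comp, hx, hy]
    rfl

theorem homSumToHomCoprod_injective : Function.Injective (CohDer.homSumToHomCoprod K X) := by
  rw [injective_iff_map_eq_zero]
  intro d hd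
  ext j
  rw [← homSumToHomCoprod_comp_sigmaπ, hd, zero_comp]
  rfl

end Inj

end Groth.Agent.Helper24.DCoprod
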