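import Groth.Agent.Lib.Helper24.DCoprod1
import Groth.Agent.Lib.Helper24.DCoprod2
import Groth.Agent.Lib.Helper24.DCoprod3
import Groth.Agent.Lib.Helper24.DCoprod4

/-!
# A single object whose `Ext`-functors commute with coproducts is compact with respect to
uniformly bounded below families of the derived category
-/

set_option autoImplicit false
set_option linter.unusedSectionVars false
set_option linter.style.haveILetI false
universe w' w v u
open CategoryTheory CategoryTheory.Limits Opposite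

namespace Groth.Agent.Helper24.DCoprod

open Groth.Agent.Helper24.HDSheaf Abelian

section Aux

variable {𝒜 : Type u} [Category.{v} 𝒜] [Abelian 𝒜] {ι : Type w} [HasCoproductsOfShape ι 𝒜]
  (L : ι → CochainComplex 𝒜 ℤ)

open HomologicalComplex

lemma isStrictlyGE_coprodCx (a : ℤ) [∀ i, (L i).IsStrictlyGE a] : (coprodCx L).IsStrictlyGE a := by
  rw [CochainComplex.isStrictlyGE_iff]
  intro n hn
  rw [IsZero.iff_id_eq_zero]
  apply Sigma.hom_ext
  intro i
  exact (CochainComplex.isZero_of_isStrictlyGE (L i) a n hn).eq_of_src _ _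

/-- projection of the coproduct complex onto a summand, in a given degree -/
noncomputable def cπ (j : ι) (p : ℤ) : (coprodCx L).X p ⟶ (L j).X p := sπ (fun n => (L n).X p) j

lemma ι_cπ_self (j : ι) (p : ℤ) : (coprodι L j).f p ≫ cπ L j p = 𝟙 _ :=
  ι_sπ_self (fun n => (L n).X p) j

lemma ι_cπ_of_ne {i j : ι} (h : i ≠ j) (p : ℤ) : (coprodι L i).f p ≫ cπ L j p = 0 :=
  ι_sπ_of_ne (fun n => (L n).X p) h

lemma ι_d (i : ι) (p q : ℤ) :
    (coprodι L i).f p ≫ (coprodCx L).d p q = (L i).d p q ≫ (coprodι L i).f q :=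
  ((coprodι L i).comm p q)

lemma cπ_comm (j : ι) (p q : ℤ) :
    cπ L j p ≫ (L j).d p q = (coprodCx L).d p q ≫ cπ L j q := by
  apply coprodX_hom_ext
  intro i
  by_cases h : i = j
  · subst h
    rw [← Category.assoc, ι_cπ_self, Category.id_comp, ← Category.assoc, ι_d, Category.assoc,
      ι_cπ_self, Category.comp_id]
  · rw [← Category.assoc, ι_cπ_of_ne L h, zero_comp, ← Category.assoc, ι_d, Category.assoc,
      ι_cπ_of_ne L h, comp_zero]

lemma cycle_cπ {X : 𝒜} (z : X ⟶ (coprodCx L).X 0) (hz : z ≫ (coprodCx L).d 0 1 = 0) (i : ι) :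
    (z ≫ cπ L i 0) ≫ (L i).d 0 1 = 0 := by
  rw [Category.assoc, cπ_comm, ← Category.assoc, hz, zero_comp]

/-- the idempotent of the coproduct complex (in degree `p`) attached to a finite set of indices -/
noncomputable def cProj (s : Finset ι) (p : ℤ) : (coprodCx L).X p ⟶ (coprodCx L).X p :=
  ∑ i ∈ s, cπ L i p ≫ (coprodι L i).f p

lemma cProj_eq (s : Finset ι) (p : ℤ) : cProj L s p = eProj (fun n => (L n).X p) s := rfl

lemma ζ_eq_sum {X : 𝒜} (z : X ⟶ (coprodCx L).X 0) (hz : z ≫ (coprodCx L).d 0 1 = 0)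
    (s : Finset ι) (hs : z ≫ cProj L s 0 = z) :
    ζ z hz = ∑ i ∈ s, ζ (z ≫ cπ L i 0) (cycle_cπ L z hz i) ≫ coprodι L i := by
  apply from_single_hom_ext
  rw [ζ_f]
  change _ = Hom.fAddMonoidHom 0 _
  rw [map_sum]
  simp only [Hom.fAddMonoidHom_apply, comp_f, ζ_f]
  conv_lhs => rw [← hs]
  unfold cProj
  rw [Preadditive.comp_sum, Preadditive.comp_sum]
  refine Finset.sum_congr rfl (fun i _ => ?_)
  simp only [Category.assoc]

end Aux

section HS

variable {D : Type u} [Category.{v} D] [Preadditive D] (K : D) {ι : Type v} (X : ι → D)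
  [HasCoproduct X]

open Classical in
lemma homSumToHomCoprod_of (i : ι) (f : K ⟶ X i) :
    CohDer.homSumToHomCoprod K X (DirectSum.of (fun i => K ⟶ X i) i f) = f ≫ Sigma.ι X i := by
  unfold CohDer.homSumToHomCoprod
  rw [DirectSum.toAddMonoid_of]
  rfl

end HS

section Main

variable {𝒜 : Type u} [Category.{v} 𝒜] [Abelian 𝒜] [EnoughInjectives 𝒜] [HasDerivedCategory.{w} 𝒜]
  [HasExt.{w'} 𝒜] {ι : Type w} [HasCoproductsOfShape ι 𝒜] [HasExactColimitsOfShape (Discrete ι) 𝒜]

open DerivedCategory HomologicalComplex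

open Classical in
theorem homSumToHomCoprod_surjective_of_ext (X : 𝒜)
    (hX : ∀ p : ℕ, PreservesColimitsOfShape (Discrete ι) (extFunctorObj.{w'} X p))
    (M : ι → DerivedCategory 𝒜) [HasCoproduct M] (a : ℤ) (hM : ∀ i, (M i).IsGE a) :
    Function.Surjective (CohDer.homSumToHomCoprod (Q.obj (sg X)) M) := by
  choose K hK eK using fun i => exists_iso_Q_obj_of_isGE (M i) a
  haveI := hK
  choose L j hj hLinj hLGE using fun i =>
    CochainComplex.Plus.modelCategoryQuillen.exists_quasiIso_injective (K i) a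
  haveI := hLGE
  haveI : ∀ i, IsIso (Q.map (j i)) := fun i => by
    rw [DerivedCategory.isIso_Q_map_iff_quasiIso]
    exact hj i
  let e : ∀ i, M i ≅ Q.obj (L i) := fun i => (eK i).some ≪≫ asIso (Q.map (j i))
  haveI : (coprodCx L).IsStrictlyGE a := isStrictlyGE_coprodCx L a
  have hExt : ∀ (n : ℤ) (p : ℕ), Subsingleton (Ext.{w'} X ((coprodCx L).X n) (p + 1)) := by
    intro n p
    haveI := hX (p + 1)
    exact subsingleton_map_sigma (fun i => (L i).X n) (extFunctorObj.{w'} X (p + 1))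
      (fun i => by
        haveI := hLinj i n
        exact Ext.subsingleton_of_injective _ _ _)
  let ρ : Q.obj (coprodCx L) ⟶ ∐ M :=
    Cofan.IsColimit.desc (isColimitCofan L) (fun i => (e i).inv ≫ Sigma.ι M i)
  have hρ : ∀ i, Q.map (coprodι L i) ≫ ρ = (e i).inv ≫ Sigma.ι M i := fun i =>
    Cofan.IsColimit.fac (isColimitCofan L) _ i
  let θ : ∐ M ⟶ Q.obj (coprodCx L) := Sigma.desc (fun i => (e i).hom ≫ Q.map (coprodι L i))
  have hθρ : θ ≫ ρ = 𝟙 _ := by
    apply Sigma.hom_ext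
    intro i
    rw [← Category.assoc, Sigma.ι_desc, Category.assoc, hρ, Iso.hom_inv_id_assoc, Category.comp_id]
  intro φ
  obtain ⟨z, hz, hzφ⟩ := exists_ζ_of_ext_vanishing X (coprodCx L) a hExt (φ ≫ θ)
  haveI := hX 0
  obtain ⟨s, hs⟩ := exists_finset_eProj (fun i => (L i).X 0) (extFunctorObj.{w'} X 0)
    (Ext.mk₀ z : Ext.{w'} X ((coprodCx L).X 0) 0)
  have hzs : z ≫ cProj L s 0 = z := by
    have h1 := hs s (Finset.Subset.refl s)
    change (Ext.mk₀ z).comp (Ext.mk₀ (cProj L s 0)) (add_zero 0) = Ext.mk₀ z at h1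
    rw [Ext.mk₀_comp_mk₀] at h1
    exact (Ext.mk₀_bijective X _).1 h1
  have hsum := ζ_eq_sum L z hz s hzs
  refine ⟨∑ i ∈ s, DirectSum.of (fun i => Q.obj (sg X) ⟶ M i) i
    (Q.map (ζ (z ≫ cπ L i 0) (cycle_cπ L z hz i)) ≫ (e i).inv), ?_⟩
  rw [map_sum]
  have hφ : φ = Q.map (ζ z hz) ≫ ρ := by
    rw [hzφ, Category.assoc, hθρ, Category.comp_id]
  rw [hφ, hsum, Functor.map_sum, Preadditive.sum_comp]
  refine Finset.sum_congr rfl (fun i _ => ?_)
  rw [homSumToHomCoprod_of, Functor.map_comp, Category.assoc, Category.assoc, hρ]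

theorem homSumToHomCoprod_bijective_of_ext (X : 𝒜)
    (hX : ∀ p : ℕ, PreservesColimitsOfShape (Discrete ι) (extFunctorObj.{w'} X p))
    (M : ι → DerivedCategory 𝒜) [HasCoproduct M] (a : ℤ) (hM : ∀ i, (M i).IsGE a) :
    Function.Bijective (CohDer.homSumToHomCoprod (Q.obj (sg X)) M) :=
  ⟨homSumToHomCoprod_injective _ _, homSumToHomCoprod_surjective_of_ext X hX M a hM⟩

end Main

end Groth.Agent.Helper24.DCoprod
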