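import Groth.Agent.Lib.Helper24.DCoprod5
import Groth.Agent.Lib.Helper29.KInjE
import Groth.Agent.Lib.Helper9.Leray1

/-!
# Objects of finite `Ext`-dimension whose `Ext` functors commute with coproducts are compact in `D(𝒜)`
-/

set_option autoImplicit false
set_option linter.unusedSectionVars false
set_option linter.style.haveILetI false
universe w' w v u
open CategoryTheory CategoryTheory.Limits Opposite

namespace Groth.Agent.Helper24.DCoprod

open Groth.Agent.Helper24.HDSheaf Groth.Agent.Helper24.DProd Abelian Groth.Agent.Helper9.Leray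

section DimShift

variable {𝒜 : Type u} [Category.{v} 𝒜] [Abelian 𝒜] [HasExt.{w'} 𝒜]

/-- dimension shifting: cycles of an acyclic complex of `Hom(X,-)`-acyclic objects -/
theorem subsingleton_ext_cycles (X : 𝒜) (d : ℕ)
    (hX : ∀ (Y : 𝒜) (p : ℕ), d < p → Subsingleton (Ext.{w'} X Y p))
    (C : CochainComplex 𝒜 ℤ) (hC : C.Acyclic)
    (hCt : ∀ (n : ℤ) (p : ℕ), Subsingleton (Ext.{w'} X (C.X n) (p + 1))) :
    ∀ (k : ℕ) (m : ℤ), Subsingleton (Ext.{w'} X (C.cycles m) (k + 1)) := by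
  -- downward induction
  have key : ∀ j : ℕ, ∀ k : ℕ, k + j = d → ∀ m : ℤ,
      Subsingleton (Ext.{w'} X (C.cycles m) (k + 1)) := by
    intro j
    induction j with
    | zero =>
      intro k hk m
      exact hX _ _ (by omega)
    | succ j ih =>
      intro k hk m
      obtain ⟨m', rfl⟩ : ∃ m', m = m' + 1 := ⟨m - 1, by omega⟩
      have hS := zsc_shortExact C hC m'
      have hnext : Subsingleton (Ext.{w'} X (C.cycles m') (k + 1 + 1)) := ih (k + 1) (by omega) m'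
      constructor
      intro x y
      have hx : ∀ x : Ext.{w'} X (C.cycles (m' + 1)) (k + 1), x = 0 := by
        intro x
        obtain ⟨x₂, hx₂⟩ := Ext.covariant_sequence_exact₃ X hS (x : Ext.{w'} X (zsc C m').X₃ (k + 1))
          (rfl : k + 1 + 1 = k + 1 + 1)
          (@Subsingleton.elim _ (hnext : Subsingleton (Ext.{w'} X (zsc C m').X₁ (k + 1 + 1))) _ _)
        have h0 : x₂ = 0 := @Subsingleton.elim _ (hCt m' k) _ _
        have h1 : x = x₂.comp (Ext.mk₀ (zsc C m').g) (add_zero (k + 1)) := hx₂.symm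
        rw [h1, h0]
        exact Ext.zero_comp X (k + 1) (Ext.mk₀ (zsc C m').g) (k + 1) (add_zero (k + 1))
      rw [hx x, hx y]
  intro k m
  by_cases hk : k ≤ d
  · exact key (d - k) k (by omega) m
  · exact hX _ _ (by omega)

theorem exists_boundary_of_finite_extDim (X : 𝒜) (d : ℕ)
    (hX : ∀ (Y : 𝒜) (p : ℕ), d < p → Subsingleton (Ext.{w'} X Y p))
    (C : CochainComplex 𝒜 ℤ) (hC : C.Acyclic)
    (hCt : ∀ (n : ℤ) (p : ℕ), Subsingleton (Ext.{w'} X (C.X n) (p + 1)))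
    (z : X ⟶ C.X 0) (hz : z ≫ C.d 0 1 = 0) : ∃ y : X ⟶ C.X (-1), y ≫ C.d (-1) 0 = z := by
  have hS := zsc_shortExact C hC (-1)
  have h1 : Subsingleton (Ext.{w'} X (C.cycles (-1)) (0 + 1)) :=
    subsingleton_ext_cycles X d hX C hC hCt 0 (-1)
  let z' : X ⟶ C.cycles (-1 + 1) := C.liftCycles z (-1 + 1 + 1) (by simp) (by
    have : C.d (-1 + 1) (-1 + 1 + 1) = C.d 0 1 := by congr 1
    rw [this]
    exact hz)
  obtain ⟨x₂, hx₂⟩ := Ext.covariant_sequence_exact₃ X hS (Ext.mk₀ z' : Ext.{w'} X (zsc C (-1)).X₃ 0)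
    (rfl : 0 + 1 = 0 + 1)
    (@Subsingleton.elim _ (h1 : Subsingleton (Ext.{w'} X (zsc C (-1)).X₁ (0 + 1))) _ _)
  obtain ⟨y, rfl⟩ := (Ext.mk₀_bijective X (C.X (-1))).2 (x₂ : Ext.{w'} X (C.X (-1)) 0)
  have hx₂' : (Ext.mk₀ y).comp (Ext.mk₀ (C.toCycles (-1) (-1 + 1))) (add_zero 0) = Ext.mk₀ z' := hx₂
  rw [Ext.mk₀_comp_mk₀] at hx₂'
  have h2 : y ≫ C.toCycles (-1) (-1 + 1) = z' := (Ext.mk₀_bijective X _).1 hx₂'
  refine ⟨y, ?_⟩
  have h3 := congrArg (fun t => t ≫ C.iCycles (-1 + 1)) h2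
  simp only [Category.assoc, HomologicalComplex.toCycles_i, z', HomologicalComplex.liftCycles_i] at h3
  exact h3

end DimShift

section Leray2

variable {𝒜 : Type u} [Category.{v} 𝒜] [Abelian 𝒜] [IsGrothendieckAbelian.{v} 𝒜]
  [HasDerivedCategory.{w} 𝒜] [HasExt.{w'} 𝒜]

open DerivedCategory HomologicalComplex Groth.Agent.Helper29

/-- Leray for unbounded complexes: if `X` has finite `Ext`-dimension, morphisms in the derived
category from `X[0]` to any complex of `Hom(X, -)`-acyclic objects are represented by cycles -/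
theorem exists_ζ_of_finite_extDim (X : 𝒜) (d : ℕ)
    (hX : ∀ (Y : 𝒜) (p : ℕ), d < p → Subsingleton (Ext.{w'} X Y p))
    (L : CochainComplex 𝒜 ℤ)
    (hL : ∀ (n : ℤ) (p : ℕ), Subsingleton (Ext.{w'} X (L.X n) (p + 1)))
    (f : Q.obj (sg X) ⟶ Q.obj L) :
    ∃ (z : X ⟶ L.X 0) (hz : z ≫ L.d 0 1 = 0), Q.map (ζ z hz) = f := by
  obtain ⟨I, i, hKinj, hqis, hmono, hinj⟩ := KInjE.exists_kInjective_resolution L
  haveI := hKinj
  haveI : IsIso (Q.map i) := by
    rw [DerivedCategory.isIso_Q_map_iff_quasiIso]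
    exact hqis
  obtain ⟨g, hg⟩ := exists_map_eq (sg X) I (f ≫ Q.map i)
  obtain ⟨z₁, hz₁, rfl⟩ := eq_ζ g
  -- the cokernel complex
  let S : ShortComplex (CochainComplex 𝒜 ℤ) := ShortComplex.mk i (cokernel.π i) (cokernel.condition i)
  have hS : S.ShortExact := Groth.Agent.Helper9.PCohLib.shortExact_cokernel i
  have hSm : ∀ m, (S.map (HomologicalComplex.eval 𝒜 (ComplexShape.up ℤ) m)).ShortExact := fun m =>
    hS.map_of_exact (HomologicalComplex.eval 𝒜 (ComplexShape.up ℤ) m)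
  have hCac : (cokernel i).Acyclic := hS.acyclic_X₃ (inferInstanceAs (QuasiIso i))
  -- terms of the cokernel are acyclic for `Hom(X, -)`
  have hCt : ∀ (n : ℤ) (p : ℕ), Subsingleton (Ext.{w'} X ((cokernel i).X n) (p + 1)) := by
    intro n p
    constructor
    have h0 : ∀ x : Ext.{w'} X ((cokernel i).X n) (p + 1), x = 0 := by
      intro x
      haveI := hL n (p + 1)
      obtain ⟨x₂, hx₂⟩ := Ext.covariant_sequence_exact₃ X (hSm n)
        (x : Ext.{w'} X (S.map (HomologicalComplex.eval 𝒜 (ComplexShape.up ℤ) n)).X₃ (p + 1))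
        (rfl : p + 1 + 1 = p + 1 + 1)
        (@Subsingleton.elim _ (hL n (p + 1) : Subsingleton (Ext.{w'} X
          (S.map (HomologicalComplex.eval 𝒜 (ComplexShape.up ℤ) n)).X₁ (p + 1 + 1))) _ _)
      haveI := hinj n
      have h2 : x₂ = 0 := @Subsingleton.elim _
        (Ext.subsingleton_of_injective X (I.X n) p :
          Subsingleton (Ext.{w'} X (S.map (HomologicalComplex.eval 𝒜 (ComplexShape.up ℤ) n)).X₂ (p + 1))) _ _
      have h1 : x = x₂.comp (Ext.mk₀ (S.map (HomologicalComplex.eval 𝒜 (ComplexShape.up ℤ) n)).g)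
        (add_zero (p + 1)) := hx₂.symm
      rw [h1, h2]
      exact Ext.zero_comp X (p + 1) _ (p + 1) (add_zero (p + 1))
    intro x y
    rw [h0 x, h0 y]
  -- the image of the cycle in the cokernel is a boundary
  have hz₂ : (z₁ ≫ (cokernel.π i).f 0) ≫ (cokernel i).d 0 1 = 0 := by
    rw [Category.assoc, (cokernel.π i).comm, ← Category.assoc, hz₁, zero_comp]
  obtain ⟨y₂, hy₂⟩ := exists_boundary_of_finite_extDim X d hX (cokernel i) hCac hCt
    (z₁ ≫ (cokernel.π i).f 0) hz₂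
  -- lift `y₂` to `I.X (-1)`
  obtain ⟨y, hy⟩ : ∃ y : X ⟶ I.X (-1), y ≫ (cokernel.π i).f (-1) = y₂ := by
    obtain ⟨x₂, hx₂⟩ := Ext.covariant_sequence_exact₃ X (hSm (-1))
      (Ext.mk₀ y₂ : Ext.{w'} X (S.map (HomologicalComplex.eval 𝒜 (ComplexShape.up ℤ) (-1))).X₃ 0)
      (rfl : 0 + 1 = 0 + 1)
      (@Subsingleton.elim _ (hL (-1) 0 : Subsingleton (Ext.{w'} X
        (S.map (HomologicalComplex.eval 𝒜 (ComplexShape.up ℤ) (-1))).X₁ (0 + 1))) _ _)
    obtain ⟨y, rfl⟩ := (Ext.mk₀_bijective X (I.X (-1))).2 (x₂ : Ext.{w'} X (I.X (-1)) 0)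
    have hx₂' : (Ext.mk₀ y).comp (Ext.mk₀ ((cokernel.π i).f (-1))) (add_zero 0) = Ext.mk₀ y₂ := hx₂
    rw [Ext.mk₀_comp_mk₀] at hx₂'
    exact ⟨y, (Ext.mk₀_bijective X _).1 hx₂'⟩
  -- `z₁ - dy` comes from `L`
  have h3 : (z₁ - y ≫ I.d (-1) 0) ≫ (cokernel.π i).f 0 = 0 := by
    rw [Preadditive.sub_comp, Category.assoc, ← (cokernel.π i).comm, ← Category.assoc, hy, hy₂, sub_self]
  obtain ⟨z, hz⟩ : ∃ z : X ⟶ L.X 0, z ≫ i.f 0 = z₁ - y ≫ I.d (-1) 0 := by
    have hex := (hSm 0).exact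
    haveI : Mono (S.map (HomologicalComplex.eval 𝒜 (ComplexShape.up ℤ) 0)).f := (hSm 0).mono_f
    exact ⟨hex.lift (z₁ - y ≫ I.d (-1) 0) h3, hex.lift_f _ h3⟩
  haveI : Mono (i.f 1) := by
    have : Mono (S.map (HomologicalComplex.eval 𝒜 (ComplexShape.up ℤ) 1)).f := (hSm 1).mono_f
    exact this
  have hzc : z ≫ L.d 0 1 = 0 := by
    rw [← cancel_mono (i.f 1), Category.assoc, ← i.comm, ← Category.assoc, hz, zero_comp,
      Preadditive.sub_comp, hz₁, Category.assoc, I.d_comp_d, comp_zero, sub_zero]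
  refine ⟨z, hzc, ?_⟩
  rw [← cancel_mono (Q.map i), ← Functor.map_comp, ζ_postcomp, ← hg]
  have e1 : z₁ = z ≫ i.f 0 + y ≫ I.d (-1) 0 := by rw [hz]; abel
  have e2 : ζ z₁ hz₁ = ζ (z ≫ i.f 0) (by rw [Category.assoc, i.comm, ← Category.assoc, hzc, zero_comp]) +
      ζ (y ≫ I.d (-1) 0) (by simp) := by
    rw [← ζ_add]
    congr 1
  rw [e2, Functor.map_add, Q_map_ζ_eq_zero, add_zero]

end Leray2

section Main2

variable {𝒜 : Type u} [Category.{v} 𝒜] [Abelian 𝒜] [IsGrothendieckAbelian.{v} 𝒜]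
  [HasDerivedCategory.{w} 𝒜]
  [HasExt.{w'} 𝒜] {ι : Type w} [HasCoproductsOfShape ι 𝒜] [HasExactColimitsOfShape (Discrete ι) 𝒜]

open DerivedCategory HomologicalComplex Groth.Agent.Helper29

open Classical in
theorem homSumToHomCoprod_surjective_of_finite_extDim (X : 𝒜) (d : ℕ)
    (hXd : ∀ (Y : 𝒜) (p : ℕ), d < p → Subsingleton (Ext.{w'} X Y p))
    (hX : ∀ p : ℕ, PreservesColimitsOfShape (Discrete ι) (extFunctorObj.{w'} X p))
    (M : ι → DerivedCategory 𝒜) [HasCoproduct M] :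
    Function.Surjective (CohDer.homSumToHomCoprod (Q.obj (sg X)) M) := by
  choose L j hKinj hj hmono hLinj using fun i =>
    KInjE.exists_kInjective_resolution (Q.objPreimage (M i))
  haveI : ∀ i, IsIso (Q.map (j i)) := fun i => by
    rw [DerivedCategory.isIso_Q_map_iff_quasiIso]
    exact hj i
  let e : ∀ i, M i ≅ Q.obj (L i) := fun i => (Q.objObjPreimageIso (M i)).symm ≪≫ asIso (Q.map (j i))
  have hExt : ∀ (n : ℤ) (p : ℕ), Subsingleton (Ext.{w'} X ((coprodCx L).X n) (p + 1)) := by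
    intro n p
    haveI := hX (p + 1)
    exact subsingleton_map_sigma (fun i => (L i).X n) (extFunctorObj.{w'} X (p + 1))
      (fun i => by
        haveI := hLinj i n
        exact Ext.subsingleton_of_injective _ _ _)
  let ρ : Q.obj (coprodCx L) ⟶ ∐ M :=
    Cofan.IsColimit.desc (isColimitCofan L) (fun i => (e i).inv ≫ Sigma.ι M i)
  have hρ : ∀ i, Q.map (coprodι L i) ≫ ρ = (e i).inv ≫ Sigma.ι M i := fun i =>
    Cofan.IsColimit.fac (isColimitCofan L) _ i
  let θ : ∐ M ⟶ Q.obj (coprodCx L) := Sigma.desc (fun i => (e i).hom ≫ Q.map (coprodι L i))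
  have hθρ : θ ≫ ρ = 𝟙 _ := by
    apply Sigma.hom_ext
    intro i
    rw [← Category.assoc, Sigma.ι_desc, Category.assoc, hρ, Iso.hom_inv_id_assoc, Category.comp_id]
  intro φ
  obtain ⟨z, hz, hzφ⟩ := exists_ζ_of_finite_extDim X d hXd (coprodCx L) hExt (φ ≫ θ)
  haveI := hX 0
  obtain ⟨s, hs⟩ := exists_finset_eProj (fun i => (L i).X 0) (extFunctorObj.{w'} X 0)
    (Ext.mk₀ z : Ext.{w'} X ((coprodCx L).X 0) 0)
  have hzs : z ≫ cProj L s 0 = z := by
    have h1 := hs s (Finset.Subset.refl s)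
    change (Ext.mk₀ z).comp (Ext.mk₀ (cProj L s 0)) (add_zero 0) = Ext.mk₀ z at h1
    rw [Ext.mk₀_comp_mk₀] at h1
    exact (Ext.mk₀_bijective X _).1 h1
  have hsum := ζ_eq_sum L z hz s hzs
  refine ⟨∑ i ∈ s, DirectSum.of (fun i => Q.obj (sg X) ⟶ M i) i
    (Q.map (ζ (z ≫ cπ L i 0) (cycle_cπ L z hz i)) ≫ (e i).inv), ?_⟩
  rw [map_sum]
  have hφ : φ = Q.map (ζ z hz) ≫ ρ := by
    rw [hzφ, Category.assoc, hθρ, Category.comp_id]
  rw [hφ, hsum, Functor.map_sum, Preadditive.sum_comp]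
  refine Finset.sum_congr rfl (fun i _ => ?_)
  rw [homSumToHomCoprod_of, Functor.map_comp, Category.assoc, Category.assoc, hρ]

/-- an object of finite `Ext`-dimension whose `Ext` functors commute with coproducts is compact
in the derived category -/
theorem homSumToHomCoprod_bijective_of_finite_extDim (X : 𝒜) (d : ℕ)
    (hXd : ∀ (Y : 𝒜) (p : ℕ), d < p → Subsingleton (Ext.{w'} X Y p))
    (hX : ∀ p : ℕ, PreservesColimitsOfShape (Discrete ι) (extFunctorObj.{w'} X p))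
    (M : ι → DerivedCategory 𝒜) [HasCoproduct M] :
    Function.Bijective (CohDer.homSumToHomCoprod (Q.obj (sg X)) M) :=
  ⟨homSumToHomCoprod_injective _ _, homSumToHomCoprod_surjective_of_finite_extDim X d hXd hX M⟩

end Main2

end Groth.Agent.Helper24.DCoprod
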