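import Groth.Agent.Lib.Helper24.DCoprod6

/-!
# Projective objects with finitely supported maps into coproducts are compact in `D(𝒜)`
-/

set_option autoImplicit false
set_option linter.unusedSectionVars false
set_option linter.style.haveILetI false
universe w' w v u
open CategoryTheory CategoryTheory.Limits Opposite

namespace Groth.Agent.Helper24.DCoprod

open Groth.Agent.Helper24.HDSheaf Groth.Agent.Helper24.DProd Abelian Groth.Agent.Helper9.Leray

section Main3

variable {𝒜 : Type u} [Category.{v} 𝒜] [Abelian 𝒜] [IsGrothendieckAbelian.{v} 𝒜]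
  [HasDerivedCategory.{w} 𝒜]
  [HasExt.{w'} 𝒜] {ι : Type w} [HasCoproductsOfShape ι 𝒜] [HasExactColimitsOfShape (Discrete ι) 𝒜]

open DerivedCategory HomologicalComplex Groth.Agent.Helper29

open Classical in
theorem homSumToHomCoprod_surjective_of_projective (X : 𝒜) [Projective X]
    (hfin : ∀ (F : ι → 𝒜) (z : X ⟶ ∐ F), ∃ s : Finset ι, z ≫ eProj F s = z)
    (M : ι → DerivedCategory 𝒜) [HasCoproduct M] :
    Function.Surjective (CohDer.homSumToHomCoprod (Q.obj (sg X)) M) := by
  choose L j hKinj hj hmono hLinj using fun i =>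
    KInjE.exists_kInjective_resolution (Q.objPreimage (M i))
  haveI : ∀ i, IsIso (Q.map (j i)) := fun i => by
    rw [DerivedCategory.isIso_Q_map_iff_quasiIso]
    exact hj i
  let e : ∀ i, M i ≅ Q.obj (L i) := fun i => (Q.objObjPreimageIso (M i)).symm ≪≫ asIso (Q.map (j i))
  have hXd : ∀ (Y : 𝒜) (p : ℕ), 0 < p → Subsingleton (Ext.{w'} X Y p) := by
    intro Y p hp
    obtain ⟨q, rfl⟩ : ∃ q, p = q + 1 := ⟨p - 1, by omega⟩
    exact Ext.subsingleton_of_projective X Y q
  have hExt : ∀ (n : ℤ) (p : ℕ), Subsingleton (Ext.{w'} X ((coprodCx L).X n) (p + 1)) :=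
    fun n p => Ext.subsingleton_of_projective X _ p
  let ρ : Q.obj (coprodCx L) ⟶ ∐ M :=
    Cofan.IsColimit.desc (isColimitCofan L) (fun i => (e i).inv ≫ Sigma.ι M i)
  have hρ : ∀ i, Q.map (coprodι L i) ≫ ρ = (e i).inv ≫ Sigma.ι M i := fun i =>
    Cofan.IsColimit.fac (isColimitCofan L) _ i
  let θ : ∐ M ⟶ Q.obj (coprodCx L) := Sigma.desc (fun i => (e i).hom ≫ Q.map (coprodι L i))
  have hθρ : θ ≫ ρ = 𝟙 _ := by
    apply Sigma.hom_ext
    intro i
    rw [← Category.assoc, Sigma.ι_desc, Category.assoc, hρ, Iso.hom_inv_id_assoc, Category.comp_id]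
  intro φ
  obtain ⟨z, hz, hzφ⟩ := exists_ζ_of_finite_extDim X 0 hXd (coprodCx L) hExt (φ ≫ θ)
  obtain ⟨s, hs⟩ := hfin (fun i => (L i).X 0) z
  have hzs : z ≫ cProj L s 0 = z := hs
  have hsum := ζ_eq_sum L z hz s hzs
  refine ⟨∑ i ∈ s, DirectSum.of (fun i => Q.obj (sg X) ⟶ M i) i
    (Q.map (ζ (z ≫ cπ L i 0) (cycle_cπ L z hz i)) ≫ (e i).inv), ?_⟩
  rw [map_sum]
  have hφ : φ = Q.map (ζ z hz) ≫ ρ := by
    rw [hzφ, Category.assoc, hθρ, Category.comp_id]
  rw [hφ, hsum, Functor.map_sum, Preadditive.sum_comp]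
  refine Finset.sum_congr rfl (fun i _ => ?_)
  rw [homSumToHomCoprod_of, Functor.map_comp, Category.assoc, Category.assoc, hρ]

/-- a projective object all of whose maps to coproducts are finitely supported is compact
in the derived category -/
theorem homSumToHomCoprod_bijective_of_projective (X : 𝒜) [Projective X]
    (hfin : ∀ (F : ι → 𝒜) (z : X ⟶ ∐ F), ∃ s : Finset ι, z ≫ eProj F s = z)
    (M : ι → DerivedCategory 𝒜) [HasCoproduct M] :
    Function.Bijective (CohDer.homSumToHomCoprod (Q.obj (sg X)) M) :=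
  ⟨homSumToHomCoprod_injective _ _, homSumToHomCoprod_surjective_of_projective X hfin M⟩

end Main3

end Groth.Agent.Helper24.DCoprod
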