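import Groth.Agent.Lib.Helper24.DCoprod7

/-!
# Compactness with respect to uniformly bounded below families, from vanishing of `Ext` into
coproducts of injectives and finite support of maps into coproducts
-/

set_option autoImplicit false
set_option linter.unusedSectionVars false
set_option linter.style.haveILetI false
universe w' w v u
open CategoryTheory CategoryTheory.Limits Opposite

namespace Groth.Agent.Helper24.DCoprod

open Groth.Agent.Helper24.HDSheaf Abelian

section Main4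

variable {𝒜 : Type u} [Category.{v} 𝒜] [Abelian 𝒜] [EnoughInjectives 𝒜] [HasDerivedCategory.{w} 𝒜]
  [HasExt.{w'} 𝒜] {ι : Type w} [HasCoproductsOfShape ι 𝒜] [HasExactColimitsOfShape (Discrete ι) 𝒜]

open DerivedCategory HomologicalComplex

open Classical in
theorem homSumToHomCoprod_surjective_of_inj_vanishing (X : 𝒜)
    (hInj : ∀ (F : ι → 𝒜), (∀ i, Injective (F i)) → ∀ p : ℕ,
      Subsingleton (Ext.{w'} X (∐ F) (p + 1)))
    (hfin : ∀ (F : ι → 𝒜) (z : X ⟶ ∐ F), ∃ s : Finset ι, z ≫ eProj F s = z)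
    (M : ι → DerivedCategory 𝒜) [HasCoproduct M] (a : ℤ) (hM : ∀ i, (M i).IsGE a) :
    Function.Surjective (CohDer.homSumToHomCoprod (Q.obj (sg X)) M) := by
  choose K hK eK using fun i => exists_iso_Q_obj_of_isGE (M i) a
  haveI := hK
  choose L j hj hLinj hLGE using fun i =>
    CochainComplex.Plus.modelCategoryQuillen.exists_quasiIso_injective (K i) a
  haveI := hLGE
  haveI : ∀ i, IsIso (Q.map (j i)) := fun i => by
    rw [DerivedCategory.isIso_Q_map_iff_quasiIso]
    exact hj i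
  let e : ∀ i, M i ≅ Q.obj (L i) := fun i => (eK i).some ≪≫ asIso (Q.map (j i))
  haveI : (coprodCx L).IsStrictlyGE a := isStrictlyGE_coprodCx L a
  have hExt : ∀ (n : ℤ) (p : ℕ), Subsingleton (Ext.{w'} X ((coprodCx L).X n) (p + 1)) :=
    fun n p => hInj (fun i => (L i).X n) (fun i => hLinj i n) p
  let ρ : Q.obj (coprodCx L) ⟶ ∐ M :=
    Cofan.IsColimit.desc (isColimitCofan L) (fun i => (e i).inv ≫ Sigma.ι M i)
  have hρ : ∀ i, Q.map (coprodι L i) ≫ ρ = (e i).inv ≫ Sigma.ι M i := fun i =>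
    Cofan.IsColimit.fac (isColimitCofan L) _ i
  let θ : ∐ M ⟶ Q.obj (coprodCx L) := Sigma.desc (fun i => (e i).hom ≫ Q.map (coprodι L i))
  have hθρ : θ ≫ ρ = 𝟙 _ := by
    apply Sigma.hom_ext
    intro i
    rw [← Category.assoc, Sigma.ι_desc, Category.assoc, hρ, Iso.hom_inv_id_assoc, Category.comp_id]
  intro φ
  obtain ⟨z, hz, hzφ⟩ := exists_ζ_of_ext_vanishing X (coprodCx L) a hExt (φ ≫ θ)
  obtain ⟨s, hs⟩ := hfin (fun i => (L i).X 0) z
  have hzs : z ≫ cProj L s 0 = z := hs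
  have hsum := ζ_eq_sum L z hz s hzs
  refine ⟨∑ i ∈ s, DirectSum.of (fun i => Q.obj (sg X) ⟶ M i) i
    (Q.map (ζ (z ≫ cπ L i 0) (cycle_cπ L z hz i)) ≫ (e i).inv), ?_⟩
  rw [map_sum]
  have hφ : φ = Q.map (ζ z hz) ≫ ρ := by
    rw [hzφ, Category.assoc, hθρ, Category.comp_id]
  rw [hφ, hsum, Functor.map_sum, Preadditive.sum_comp]
  refine Finset.sum_congr rfl (fun i _ => ?_)
  rw [homSumToHomCoprod_of, Functor.map_comp, Category.assoc, Category.assoc, hρ]

theorem homSumToHomCoprod_bijective_of_inj_vanishing (X : 𝒜)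
    (hInj : ∀ (F : ι → 𝒜), (∀ i, Injective (F i)) → ∀ p : ℕ,
      Subsingleton (Ext.{w'} X (∐ F) (p + 1)))
    (hfin : ∀ (F : ι → 𝒜) (z : X ⟶ ∐ F), ∃ s : Finset ι, z ≫ eProj F s = z)
    (M : ι → DerivedCategory 𝒜) [HasCoproduct M] (a : ℤ) (hM : ∀ i, (M i).IsGE a) :
    Function.Bijective (CohDer.homSumToHomCoprod (Q.obj (sg X)) M) :=
  ⟨homSumToHomCoprod_injective _ _, homSumToHomCoprod_surjective_of_inj_vanishing X hInj hfin M a hM⟩

end Main4

end Groth.Agent.Helper24.DCoprod
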