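import Mathlib

/-!
# Countable products of bounded below objects in the derived category
-/

set_option autoImplicit false
universe w v u
open CategoryTheory CategoryTheory.Limits

namespace Groth.Agent.Helper24.DProd

section Cx

variable {𝒜 : Type u} [Category.{v} 𝒜] [Abelian 𝒜] {ι : Type} [HasProductsOfShape ι 𝒜]
  (I : ι → CochainComplex 𝒜 ℤ)

/-- the termwise product of a family of complexes -/
noncomputable def prodCx : CochainComplex 𝒜 ℤ where
  X i := ∏ᶜ fun n => (I n).X i
  d i j := Limits.Pi.map fun n => (I n).d i j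
  shape i j h := by
    apply Pi.hom_ext
    intro n
    rw [Limits.Pi.map_π, (I n).shape i j h, comp_zero, zero_comp]
  d_comp_d' i j k _ _ := by
    apply Pi.hom_ext
    intro n
    rw [Category.assoc, Limits.Pi.map_π, ← Category.assoc, Limits.Pi.map_π, Category.assoc,
      (I n).d_comp_d, comp_zero, zero_comp]

noncomputable def prodπ (n : ι) : prodCx I ⟶ I n where
  f i := Pi.π _ n
  comm' i j _ := by
    change Pi.π _ n ≫ (I n).d i j = Limits.Pi.map (fun n => (I n).d i j) ≫ Pi.π _ n
    rw [Limits.Pi.map_π]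

@[simp] lemma prodπ_f (n : ι) (i : ℤ) : (prodπ I n).f i = Pi.π (fun n => (I n).X i) n := rfl

variable {I}

noncomputable def prodLift {K : CochainComplex 𝒜 ℤ} (f : ∀ n, K ⟶ I n) : K ⟶ prodCx I where
  f i := Pi.lift fun n => (f n).f i
  comm' i j _ := by
    apply Pi.hom_ext
    intro n
    change (Pi.lift (fun n => (f n).f i) ≫ Limits.Pi.map (fun n => (I n).d i j)) ≫ Pi.π _ n =
      (K.d i j ≫ Pi.lift fun n => (f n).f j) ≫ Pi.π _ n
    rw [Category.assoc, Limits.Pi.map_π, ← Category.assoc, Pi.lift_π, Category.assoc, Pi.lift_π,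
      (f n).comm]

@[reassoc (attr := simp)]
lemma prodLift_π {K : CochainComplex 𝒜 ℤ} (f : ∀ n, K ⟶ I n) (n : ι) :
    prodLift f ≫ prodπ I n = f n := by
  ext i
  change Pi.lift (fun n => (f n).f i) ≫ Pi.π _ n = _
  rw [Pi.lift_π]

lemma prod_hom_ext {K : CochainComplex 𝒜 ℤ} (f g : K ⟶ prodCx I)
    (h : ∀ n, f ≫ prodπ I n = g ≫ prodπ I n) : f = g := by
  ext i
  apply Pi.hom_ext
  intro n
  have := congrArg (fun φ => φ.f i) (h n)
  exact this

lemma prodX_hom_ext {W : 𝒜} {i : ℤ} (a b : W ⟶ (prodCx I).X i)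
    (h : ∀ n, a ≫ (prodπ I n).f i = b ≫ (prodπ I n).f i) : a = b :=
  Pi.hom_ext _ _ h

/-- lifting to a term of the product complex -/
noncomputable def liftX {W : 𝒜} {i : ℤ} (a : ∀ n, W ⟶ (I n).X i) : W ⟶ (prodCx I).X i :=
  Pi.lift a

lemma liftX_π {W : 𝒜} {i : ℤ} (a : ∀ n, W ⟶ (I n).X i) (n : ι) :
    liftX a ≫ (prodπ I n).f i = a n := Pi.lift_π _ _

/-- homotopies into a product can be assembled from homotopies of the components -/
noncomputable def prodHomotopy {K : CochainComplex 𝒜 ℤ} (f g : K ⟶ prodCx I)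
    (h : ∀ n, Homotopy (f ≫ prodπ I n) (g ≫ prodπ I n)) : Homotopy f g where
  hom i j := liftX fun n => (h n).hom i j
  zero i j hij := by
    apply prodX_hom_ext
    intro n
    rw [liftX_π, (h n).zero i j hij, zero_comp]
  comm i := by
    apply prodX_hom_ext
    intro n
    have h1 := (h n).comm i
    rw [dNext_eq _ (show (ComplexShape.up ℤ).Rel i (i + 1) from rfl),
      prevD_eq _ (show (ComplexShape.up ℤ).Rel (i - 1) i by simp)] at h1 ⊢
    simp only [HomologicalComplex.comp_f] at h1
    rw [Preadditive.add_comp, Preadditive.add_comp, Category.assoc, liftX_π, Category.assoc,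
      ← (prodπ I n).comm, ← Category.assoc (liftX _), liftX_π]
    exact h1

instance [∀ n, (I n).IsKInjective] : (prodCx I).IsKInjective where
  nonempty_homotopy_zero {K} f hK :=
    ⟨prodHomotopy f 0 (fun n =>
      (CochainComplex.IsKInjective.homotopyZero (f ≫ prodπ I n) hK).trans
        (Homotopy.ofEq (by rw [zero_comp])))⟩

end Cx

end Groth.Agent.Helper24.DProd
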