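import Groth.Agent.Lib.Helper24.DCoprod2

/-!
# Products of complexes and their image in the derived category (exact products)
-/

set_option autoImplicit false
universe w v u
open CategoryTheory CategoryTheory.Limits

namespace Groth.Agent.Helper24.DProd

section Cx

variable {𝒜 : Type u} [Category.{v} 𝒜] [Abelian 𝒜] {ι : Type} [HasProductsOfShape ι 𝒜]
  {I I' : ι → CochainComplex 𝒜 ℤ}

/-- the map induced on products -/
noncomputable def prodMap (φ : ∀ n, I n ⟶ I' n) : prodCx I ⟶ prodCx I' where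
  f i := Limits.Pi.map fun n => (φ n).f i
  comm' i j _ := by
    apply Pi.hom_ext
    intro n
    change (Limits.Pi.map (fun n => (φ n).f i) ≫ Limits.Pi.map (fun n => (I' n).d i j)) ≫ Pi.π _ n =
      (Limits.Pi.map (fun n => (I n).d i j) ≫ Limits.Pi.map fun n => (φ n).f j) ≫ Pi.π _ n
    rw [Category.assoc, Limits.Pi.map_π, Limits.Pi.map_π_assoc, Category.assoc, Limits.Pi.map_π,
      Limits.Pi.map_π_assoc, (φ n).comm]

@[reassoc (attr := simp)]
lemma prodMap_π (φ : ∀ n, I n ⟶ I' n) (n : ι) :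
    prodMap φ ≫ prodπ I' n = prodπ I n ≫ φ n := by
  ext i
  change Limits.Pi.map (fun n => (φ n).f i) ≫ Pi.π (fun n => (I' n).X i) n =
    Pi.π (fun n => (I n).X i) n ≫ (φ n).f i
  rw [Limits.Pi.map_π]

end Cx

section QIso

variable {𝒜 : Type u} [Category.{v} 𝒜] [Abelian 𝒜] {ι : Type} [HasProductsOfShape ι 𝒜]
  {K K' : ι → CochainComplex 𝒜 ℤ}

open Groth.Agent.Helper24.DCoprod

/-- if countable products preserve epimorphisms then they are exact -/
theorem preservesFiniteColimits_lim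
    [(lim : (Discrete ι ⥤ 𝒜) ⥤ 𝒜).PreservesEpimorphisms] :
    PreservesFiniteColimits (lim : (Discrete ι ⥤ 𝒜) ⥤ 𝒜) := by
  haveI : PreservesFiniteLimits (lim : (Discrete ι ⥤ 𝒜) ⥤ 𝒜) := ⟨fun _ => inferInstance⟩
  haveI : (lim : (Discrete ι ⥤ 𝒜) ⥤ 𝒜).Additive := Functor.additive_of_preserves_binary_products _
  rw [Functor.preservesFiniteColimits_iff_forall_exact_map_and_epi]
  intro S hS
  have h := (Functor.preservesFiniteLimits_iff_forall_exact_map_and_mono
    (lim : (Discrete ι ⥤ 𝒜) ⥤ 𝒜)).1 inferInstance S hS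
  haveI := hS.epi_g
  exact ⟨h.1, inferInstance⟩

theorem quasiIso_prodMap [PreservesFiniteColimits (lim : (Discrete ι ⥤ 𝒜) ⥤ 𝒜)]
    (φ : ∀ n, K n ⟶ K' n) (h : ∀ n, QuasiIso (φ n)) :
    QuasiIso (prodMap φ) := by
  haveI : PreservesFiniteLimits (lim : (Discrete ι ⥤ 𝒜) ⥤ 𝒜) := ⟨fun _ => inferInstance⟩
  rw [quasiIso_iff]
  intro i
  rw [quasiIsoAt_iff]
  let Ψ := famScMap (fun n => (HomologicalComplex.shortComplexFunctor 𝒜 (ComplexShape.up ℤ) i).map (φ n))
  have hΨ : ShortComplex.QuasiIso Ψ := quasiIso_famScMap _ (fun n => by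
    have := (h n).quasiIsoAt i
    rw [quasiIsoAt_iff] at this
    exact this)
  have := ShortComplex.quasiIso_map_of_preservesLeftHomology (lim : (Discrete ι ⥤ 𝒜) ⥤ 𝒜) Ψ
  exact this

end QIso

section Frac

variable {𝒜 : Type u} [Category.{v} 𝒜] [Abelian 𝒜] [HasDerivedCategory.{w} 𝒜]

open DerivedCategory Groth.Agent.Helper24.DCoprod

/-- equality of images in the derived category, postcomposition form -/
theorem exists_homotopy_of_map_eq' {K Y : CochainComplex 𝒜 ℤ} (f₁ f₂ : K ⟶ Y)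
    (h : Q.map f₁ = Q.map f₂) :
    ∃ (Y' : CochainComplex 𝒜 ℤ) (t : Y ⟶ Y') (_ : QuasiIso t), Nonempty (Homotopy (f₁ ≫ t) (f₂ ≫ t)) := by
  rw [Q_map_eq_iff, MorphismProperty.map_eq_iff_postcomp Qh
    (HomotopyCategory.quasiIso 𝒜 (ComplexShape.up ℤ))] at h
  obtain ⟨X', t, ht, hh⟩ := h
  obtain ⟨Y', rfl⟩ := HomotopyCategory.quotient_obj_surjective X'
  obtain ⟨t₀, rfl⟩ := (Qt 𝒜).map_surjective t
  have ht₀ : QuasiIso t₀ := by
    rw [HomotopyCategory.quotient_map_mem_quasiIso_iff] at ht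
    exact ht
  refine ⟨Y', t₀, ht₀, ⟨HomotopyCategory.homotopyOfEq _ _ ?_⟩⟩
  rw [Functor.map_comp, Functor.map_comp]
  exact hh

end Frac

section Prod

variable {𝒜 : Type u} [Category.{v} 𝒜] [Abelian 𝒜] [HasDerivedCategory.{w} 𝒜]
  {ι : Type} [HasProductsOfShape ι 𝒜] [PreservesFiniteColimits (lim : (Discrete ι ⥤ 𝒜) ⥤ 𝒜)]
  (K : ι → CochainComplex 𝒜 ℤ)

open DerivedCategory Groth.Agent.Helper24.DCoprod

theorem exists_lift (Y : DerivedCategory 𝒜) (f : ∀ n, Y ⟶ Q.obj (K n)) :
    ∃ g : Y ⟶ Q.obj (prodCx K), ∀ n, g ≫ Q.map (prodπ K n) = f n := by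
  let Y' := Q.objPreimage Y
  let e : Q.obj Y' ≅ Y := Q.objObjPreimageIso Y
  choose K' t ht g hg using fun n => exists_leftFraction (e.hom ≫ f n)
  have hS : QuasiIso (prodMap t) := quasiIso_prodMap t ht
  have : IsIso (Q.map (prodMap t)) := by
    rw [DerivedCategory.isIso_Q_map_iff_quasiIso]
    exact hS
  refine ⟨e.inv ≫ Q.map (prodLift g) ≫ inv (Q.map (prodMap t)), fun n => ?_⟩
  have : IsIso (Q.map (t n)) := by
    rw [DerivedCategory.isIso_Q_map_iff_quasiIso]
    exact ht n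
  rw [← cancel_mono (Q.map (t n)), Category.assoc, Category.assoc, Category.assoc,
    ← Functor.map_comp, ← prodMap_π, Functor.map_comp, IsIso.inv_hom_id_assoc,
    ← Functor.map_comp, prodLift_π, ← hg, Category.assoc, Iso.inv_hom_id_assoc]

theorem eq_zero_of_comp_π (Y : DerivedCategory 𝒜) (g : Y ⟶ Q.obj (prodCx K))
    (h : ∀ n, g ≫ Q.map (prodπ K n) = 0) : g = 0 := by
  let Y' := Q.objPreimage Y
  let e : Q.obj Y' ≅ Y := Q.objObjPreimageIso Y
  obtain ⟨Y'', s, hs, γ, hγ⟩ := exists_rightFraction (e.hom ≫ g)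
  have : IsIso (Q.map s) := by
    rw [DerivedCategory.isIso_Q_map_iff_quasiIso]
    exact hs
  have h1 : ∀ n, Q.map (γ ≫ prodπ K n) = Q.map (0 : Y'' ⟶ K n) := by
    intro n
    rw [Functor.map_comp, ← hγ, Category.assoc, Category.assoc, h n, comp_zero, comp_zero,
      Functor.map_zero]
  choose K' t ht hh using fun n => exists_homotopy_of_map_eq' _ _ (h1 n)
  have hS : QuasiIso (prodMap t) := quasiIso_prodMap t ht
  have : IsIso (Q.map (prodMap t)) := by
    rw [DerivedCategory.isIso_Q_map_iff_quasiIso]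
    exact hS
  have h2 : Q.map (γ ≫ prodMap t) = Q.map (0 : Y'' ⟶ prodCx K') := by
    apply map_eq_of_homotopy
    refine prodHomotopy _ _ (fun n => ?_)
    refine (Homotopy.ofEq ?_).trans ((hh n).some.trans (Homotopy.ofEq ?_))
    · rw [Category.assoc, prodMap_π, Category.assoc]
    · rw [zero_comp, zero_comp]
  rw [Functor.map_comp, Functor.map_zero] at h2
  have h3 : Q.map γ = 0 := by
    rw [← cancel_mono (Q.map (prodMap t)), h2, zero_comp]
  rw [h3] at hγ
  have h4 : e.hom ≫ g = 0 := by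
    rw [← cancel_epi (Q.map s), hγ, comp_zero]
  rw [← cancel_epi e.hom, h4, comp_zero]

/-- the image in the derived category of the termwise product is a product, when products are
exact -/
noncomputable def isLimitFan' :
    IsLimit (Fan.mk (Q.obj (prodCx K)) (fun n => Q.map (prodπ K n))) :=
  Fan.IsLimit.mk _ (fun s => (exists_lift K s.pt (fun n => s.proj n)).choose)
    (fun s n => (exists_lift K s.pt (fun n => s.proj n)).choose_spec n)
    (fun s m hm => by
      rw [← sub_eq_zero]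
      apply eq_zero_of_comp_π K
      intro n
      rw [Preadditive.sub_comp, sub_eq_zero]
      exact (hm n).trans ((exists_lift K s.pt (fun n => s.proj n)).choose_spec n).symm)

end Prod

end Groth.Agent.Helper24.DProd
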