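import Mathlib
import Groth.Agent.Lib.Helper24.PtGG
import Groth.Agent.Lib.Helper13.AcycEmbed
import Groth.Agent.Lib.Helper13.TensorFunctor

/-!
# Extensions of deformation ample modules on a curve with `H¹(O) = 0` (helper24)
-/

set_option autoImplicit false
set_option linter.unusedSectionVars false
set_option linter.style.haveILetI false
set_option linter.unusedVariables false
set_option maxHeartbeats 400000
universe u
open CategoryTheory CategoryTheory.Limits AlgebraicGeometry Opposite TopologicalSpace TensorProduct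
open Groth.Agent.Helper13 Groth.Agent.Helper13.Tensor Groth.Agent.Helper13.TensorFunctor
open Groth.Agent.Helper13.LocFree Groth.Agent.Helper13.FinType Groth.Agent.Helper13.PnFin
open Groth.Agent.Helper13.TwistSES Groth.Agent.Helper13.QCoh Groth.Agent.Helper13.Inv

namespace Groth.Agent.Helper24.DefAmple

section General

variable {X : Scheme.{u}}

/-- the stalks of a finite locally free module are free. -/
theorem free_stalk_of_isFinLocFree (E : X.Modules) (hE : FlatMod.IsFinLocFree E) (x : X) :
    Module.Free (X.presheaf.stalk x) (E.presheaf.stalk x) := by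
  obtain ⟨V, n, s, hxV, hb⟩ :=
    Groth.Agent.Helper13.TensorFinLocFree.exists_isBasisAt_of_isFinLocFree E hE x
  exact Module.Free.of_basis
    (Groth.Agent.Helper13.TensorFinLocFree.basisOf E s x hxV (hb x hxV))

/-- tensoring a short exact sequence whose last term has free stalks with any module is exact. -/
theorem tensorSC_shortExact_of_free (S : ShortComplex X.Modules) (hS : S.ShortExact)
    (N : X.Modules)
    (hF : ∀ x : X, Module.Free (X.presheaf.stalk x) (S.X₃.presheaf.stalk x)) :
    (tensorSC S N).ShortExact := by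
  haveI := hS.mono_f
  haveI := hS.epi_g
  have hinj : ∀ x : X, Function.Injective (stalkLinearMap S.f x) := fun x =>
    (mono_iff_stalk_injective S.f).1 inferInstance x
  have hsurj : ∀ x : X, Function.Surjective (stalkLinearMap S.g x) := fun x =>
    Groth.Agent.Helper13.FinType.stalkMap_surjective_of_epi S.g x
  have hex : ∀ x : X, Function.Exact (stalkLinearMap S.f x) (stalkLinearMap S.g x) := by
    intro x m
    constructor
    · intro hm
      obtain ⟨m₁, hm₁⟩ := stalk_exact_of_exact_of_mono S hS.exact x m hm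
      exact ⟨m₁, hm₁⟩
    · rintro ⟨m₁, rfl⟩
      change stalkMap S.g x (stalkMap S.f x m₁) = 0
      rw [← Groth.Agent.Helper18.BasisCrit.stalkMap_comp, S.zero]
      exact Groth.Agent.Helper18.BasisCrit.stalkMap_zero x m₁
  refine ShortComplex.ShortExact.mk' ?_ ?_ ?_
  · -- exactness
    apply Groth.Agent.Helper18.BasisCrit.exact_of_stalk
    intro x m hm
    obtain ⟨z, rfl⟩ := (stalkTensorEquiv S.X₂ N x).surjective m
    change stalkMap (Tensor.map S.g (𝟙 N)) x _ = 0 at hm
    rw [stalkMap_map_id] at hm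
    have hz : (stalkLinearMap S.g x).rTensor (N.presheaf.stalk x) z = 0 := by
      apply (stalkTensorEquiv S.X₃ N x).injective
      rw [hm, map_zero]
    obtain ⟨z₁, hz₁⟩ := (rTensor_exact (N.presheaf.stalk x) (hex x) (hsurj x) z).1 hz
    refine ⟨stalkTensorEquiv S.X₁ N x z₁, ?_⟩
    change stalkMap (Tensor.map S.f (𝟙 N)) x _ = _
    rw [stalkMap_map_id, hz₁]
  · -- mono
    rw [mono_iff_stalk_injective]
    intro x a b hab
    haveI := hF x
    obtain ⟨z, rfl⟩ := (stalkTensorEquiv S.X₁ N x).surjective a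
    obtain ⟨z', rfl⟩ := (stalkTensorEquiv S.X₁ N x).surjective b
    change stalkMap (Tensor.map S.f (𝟙 N)) x _ = stalkMap (Tensor.map S.f (𝟙 N)) x _ at hab
    rw [stalkMap_map_id, stalkMap_map_id] at hab
    have hab' := (stalkTensorEquiv S.X₂ N x).injective hab
    -- the stalk sequence splits
    obtain ⟨l, hl⟩ := Module.projective_lifting_property (stalkLinearMap S.g x)
      LinearMap.id (hsurj x)
    have hiff : (∃ l', stalkLinearMap S.g x ∘ₗ l' = LinearMap.id) ↔
        (∃ r', r' ∘ₗ stalkLinearMap S.f x = LinearMap.id) :=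
      ((hex x).split_tfae (hinj x) (hsurj x)).out 0 1
    obtain ⟨r, hr⟩ := hiff.1 ⟨l, hl⟩
    have hinjT : Function.Injective
        ((stalkLinearMap S.f x).rTensor (N.presheaf.stalk x)) := by
      refine Function.LeftInverse.injective (g := r.rTensor (N.presheaf.stalk x)) ?_
      intro t
      have h1 : (r.rTensor (N.presheaf.stalk x))
          (((stalkLinearMap S.f x).rTensor (N.presheaf.stalk x)) t) =
          ((r ∘ₗ stalkLinearMap S.f x).rTensor (N.presheaf.stalk x)) t :=
        (LinearMap.rTensor_comp_apply _ _ _ t).symm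
      refine h1.trans ?_
      rw [hr, LinearMap.rTensor_id_apply]
    rw [hinjT hab']
  · -- epi
    apply Groth.Agent.Helper13.FinType.epi_of_stalkMap_surjective
    intro x m
    obtain ⟨z, rfl⟩ := (stalkTensorEquiv S.X₃ N x).surjective m
    obtain ⟨z₂, rfl⟩ := LinearMap.rTensor_surjective (N.presheaf.stalk x) (hsurj x) z
    refine ⟨stalkTensorEquiv S.X₂ N x z₂, ?_⟩
    change stalkMap (Tensor.map S.g (𝟙 N)) x _ = _
    rw [stalkMap_map_id]

/-- if `H¹(S.X₁) = 0` then `S.g` is surjective on global sections. -/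
theorem app_top_surjective_of_H1 (A : Type u) [CommRing A] [X.Over (Spec (CommRingCat.of A))]
    (S : ShortComplex X.Modules) (hS : S.ShortExact)
    (h1 : Subsingleton (Coh.HH X S.X₁ 1)) :
    Function.Surjective (S.g.app (⊤ : X.Opens)) := by
  have hr : LinearMap.range (hstar A S.g 0) = ⊤ := by
    rw [LinLES.range_g_eq_ker_δ A S hS 0 1 rfl]
    ext y
    simp only [LinearMap.mem_ker, Submodule.mem_top, iff_true]
    exact @Subsingleton.elim _ h1 _ _
  have hsurj : Function.Surjective (hstar A S.g 0) := LinearMap.range_eq_top.1 hr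
  intro s
  obtain ⟨y, hy⟩ := hsurj ((Groth.Agent.Helper26.HomGlob.h0 S.X₃).symm s)
  refine ⟨Groth.Agent.Helper26.HomGlob.h0 S.X₂ y, ?_⟩
  have h3 := Sheaf.H.equiv₀_naturality ((SheafOfModules.toSheaf X.ringCatSheaf).map S.g)
    (hT := (isTerminalTop : IsTerminal (⊤ : Opens X))) y
  have h5 : Groth.Agent.Helper26.HomGlob.h0 S.X₃ (hstar A S.g 0 y) =
      S.g.app ⊤ (Groth.Agent.Helper26.HomGlob.h0 S.X₂ y) := h3.symm
  refine h5.symm.trans ?_
  rw [hy, AddEquiv.apply_symm_apply]

/-- the middle term of a short exact sequence is generated by global sections at `y` when the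
outer terms are and `S.g` is surjective on global sections. -/
theorem ggAt_X₂ (S : ShortComplex X.Modules) (hS : S.ShortExact)
    (hsurj : Function.Surjective (S.g.app (⊤ : X.Opens))) (y : X)
    (h1 : Groth.Agent.Helper13.GlobGen.GGAt S.X₁ y)
    (h3 : Groth.Agent.Helper13.GlobGen.GGAt S.X₃ y) :
    Groth.Agent.Helper13.GlobGen.GGAt S.X₂ y := by
  haveI := hS.mono_f
  unfold Groth.Agent.Helper13.GlobGen.GGAt at h1 h3 ⊢
  -- the image of `S.f` on stalks lies in the span
  have hf : ∀ m₁ : S.X₁.presheaf.stalk y, stalkLinearMap S.f y m₁ ∈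
      Submodule.span (X.presheaf.stalk y)
        (Set.range fun t : Γ(S.X₂, ⊤) => S.X₂.presheaf.germ ⊤ y trivial t) := by
    intro m₁
    have hm₁ : m₁ ∈ Submodule.span (X.presheaf.stalk y)
        (Set.range fun t : Γ(S.X₁, ⊤) => S.X₁.presheaf.germ ⊤ y trivial t) := by
      rw [h1]; trivial
    have hmap := Submodule.apply_mem_span_image_of_mem_span (stalkLinearMap S.f y) hm₁
    refine Submodule.span_mono ?_ hmap
    rintro _ ⟨_, ⟨t, rfl⟩, rfl⟩
    exact ⟨S.f.app (⊤ : X.Opens) t, (stalkMap_germ S.f y (⊤ : X.Opens) trivial t).symm⟩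
  -- every element of the stalk of `S.X₃` lifts to the span
  have hle : Submodule.span (X.presheaf.stalk y)
      (Set.range fun t : Γ(S.X₃, ⊤) => S.X₃.presheaf.germ ⊤ y trivial t) ≤
      Submodule.map (stalkLinearMap S.g y) (Submodule.span (X.presheaf.stalk y)
        (Set.range fun t : Γ(S.X₂, ⊤) => S.X₂.presheaf.germ ⊤ y trivial t)) := by
    rw [Submodule.span_le]
    intro z hz
    obtain ⟨t, rfl⟩ := hz
    obtain ⟨t₂, rfl⟩ := hsurj t
    exact Submodule.mem_map.2 ⟨S.X₂.presheaf.germ ⊤ y trivial t₂,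
      Submodule.subset_span ⟨t₂, rfl⟩, stalkMap_germ S.g y (⊤ : X.Opens) trivial t₂⟩
  rw [eq_top_iff]
  intro m _
  have hm₃ : stalkLinearMap S.g y m ∈ Submodule.span (X.presheaf.stalk y)
      (Set.range fun t : Γ(S.X₃, ⊤) => S.X₃.presheaf.germ ⊤ y trivial t) := by
    rw [h3]; trivial
  obtain ⟨m₂, hm₂, hm₂'⟩ := Submodule.mem_map.1 (hle hm₃)
  have hk : stalkMap S.g y (m - m₂) = 0 := by
    have h0 : stalkLinearMap S.g y (m - m₂) = 0 := by
      rw [map_sub, hm₂', sub_self]
    exact h0
  obtain ⟨m₁, hm₁⟩ := stalk_exact_of_exact_of_mono S hS.exact y (m - m₂) hk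
  have hm : m = stalkLinearMap S.f y m₁ + m₂ := by
    rw [stalkLinearMap_apply, hm₁]
    abel
  rw [hm]
  exact Submodule.add_mem _ (hf m₁) hm₂

end General

section Curve

variable (k : Type u) [Field k] (X : Scheme.{u}) [X.Over (Spec (CommRingCat.of k))]
  [IsProper (X ↘ Spec (CommRingCat.of k))]

include k in
/-- `H¹` of a globally generated finite locally free module vanishes on a curve with
`H¹(O) = 0`. -/
theorem H1_subsingleton_of_gg (hd : topologicalKrullDim X ≤ 1)
    (hg : Subsingleton (Coh.HH X (Coh.structureModule X) 1))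
    (E : X.Modules) (hE : FlatMod.IsFinLocFree E) (hgg : Curv2.IsGloballyGenerated E) :
    Subsingleton (Coh.HH X E 1) := by
  haveI := PtIdeal.isNoetherian_of_proper k X
  have hEc : Coh.IsCoh E := PtGG.isCoh_of_isFinLocFree E hE
  haveI := hEc.2
  have hgg' := (Groth.Agent.Helper13.GlobGen.isGloballyGenerated_iff E).1 hgg
  obtain ⟨b, t, ht⟩ := Groth.Agent.Helper13.FinGlobGen.exists_fin_genOn E hgg'
  haveI hψ : Epi (descSec E t) := Groth.Agent.Helper13.InvTwist.epi_descSec_of_genOn E t ht
  exact PtGG.H1_subsingleton_of_epi_free k X hd hg E hEc (descSec E t)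

include k in
/-- an extension of deformation ample modules is deformation ample (for any module `W` in place
of the dualizing module). -/
theorem main17656 (hd : topologicalKrullDim X ≤ 1)
    (hg : Subsingleton (Coh.HH X (Coh.structureModule X) 1))
    (S : ShortComplex X.Modules) (hS : S.ShortExact)
    (hE₁ : FlatMod.IsFinLocFree S.X₁) (hE₃ : FlatMod.IsFinLocFree S.X₃) (W : X.Modules)
    (h₁ : Curv2.IsGloballyGenerated S.X₁ ∧
      Subsingleton (Coh.HH X (CohB1.tensorMod S.X₁ W) 1))
    (h₃ : Curv2.IsGloballyGenerated S.X₃ ∧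
      Subsingleton (Coh.HH X (CohB1.tensorMod S.X₃ W) 1)) :
    Curv2.IsGloballyGenerated S.X₂ ∧
      Subsingleton (Coh.HH X (CohB1.tensorMod S.X₂ W) 1) := by
  refine ⟨?_, ?_⟩
  · have hH1 : Subsingleton (Coh.HH X S.X₁ 1) :=
      H1_subsingleton_of_gg k X hd hg S.X₁ hE₁ h₁.1
    have hsurj := app_top_surjective_of_H1 k S hS hH1
    rw [Groth.Agent.Helper13.GlobGen.isGloballyGenerated_iff]
    intro y
    exact ggAt_X₂ S hS hsurj y
      ((Groth.Agent.Helper13.GlobGen.isGloballyGenerated_iff _).1 h₁.1 y)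
      ((Groth.Agent.Helper13.GlobGen.isGloballyGenerated_iff _).1 h₃.1 y)
  · have hT : (tensorSC S W).ShortExact :=
      tensorSC_shortExact_of_free S hS W (fun x => free_stalk_of_isFinLocFree S.X₃ hE₃ x)
    exact Groth.Agent.Helper13.AcycEmbed.HH_subsingleton_of_shortExact (tensorSC S W) hT 1
      h₁.2 h₃.2

end Curve

end Groth.Agent.Helper24.DefAmple
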