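import Mathlib
import Groth.Agent.Lib.Helper24.PtGG
import Groth.Agent.Lib.Helper13.GlobGen4
import Groth.Agent.Lib.Helper13.PushInv1
import Groth.Agent.Lib.Helper13.QCohKer
import Groth.Agent.Lib.Helper13.TensorQCoh
import Groth.Agent.Lib.Helper13.TensorFinLocFree
import Groth.Agent.Lib.Helper13.TensorFunctor

/-!
# Tensor powers of deformation ample modules on a curve (helper24)
-/

set_option autoImplicit false
set_option linter.unusedSectionVars false
set_option linter.style.haveILetI false
set_option linter.unusedVariables false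
set_option maxHeartbeats 400000
universe u
open CategoryTheory CategoryTheory.Limits AlgebraicGeometry Opposite TopologicalSpace TensorProduct
open Groth.Agent.Helper13 Groth.Agent.Helper13.Tensor Groth.Agent.Helper13.TensorFunctor
open Groth.Agent.Helper13.LocFree Groth.Agent.Helper13.FinType Groth.Agent.Helper13.PnFin
open Groth.Agent.Helper13.TwistSES

namespace Groth.Agent.Helper24.DefAmplePow

section General

variable {X : Scheme.{u}}

/-- tensor powers of a finite locally free module are finite locally free. -/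
theorem isFinLocFree_tensorPow (E : X.Modules) (hE : FlatMod.IsFinLocFree E) (n : ℕ) :
    FlatMod.IsFinLocFree (CohB1.tensorPow E n) := by
  induction n with
  | zero => exact Groth.Agent.Helper13.PushInv.isFinLocFree_structureModule X
  | succ n ih =>
    exact Groth.Agent.Helper13.TensorFinLocFree.isFinLocFree_tensorMod _ _ ih hE

/-- tensor powers of a globally generated module are globally generated. -/
theorem isGloballyGenerated_tensorPow (E : X.Modules) (hE : Curv2.IsGloballyGenerated E)
    (n : ℕ) : Curv2.IsGloballyGenerated (CohB1.tensorPow E n) := by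
  induction n with
  | zero => exact Groth.Agent.Helper13.GlobGen.isGloballyGenerated_structureModule
  | succ n ih =>
    exact Groth.Agent.Helper13.GlobGen.isGloballyGenerated_tensorMod _ _ ih hE

/-- `H¹((O ⊗ E) ⊗ W) = 0` when `H¹(E ⊗ W) = 0`. -/
theorem H1_base (E W : X.Modules) (h : Subsingleton (Coh.HH X (CohB1.tensorMod E W) 1)) :
    Subsingleton (Coh.HH X
      (CohB1.tensorMod (CohB1.tensorMod (Coh.structureModule X) E) W) 1) :=
  Groth.Agent.Helper9.AffStrat.HH_subsingleton_of_iso
    ((tensorRight W).mapIso (Tensor.lid E)) 1 h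

end General

section Curve

variable (k : Type u) [Field k] (X : Scheme.{u}) [X.Over (Spec (CommRingCat.of k))]
  [IsProper (X ↘ Spec (CommRingCat.of k))]

include k in
/-- on a curve, `H¹` of a quasi-coherent quotient of a quasi-coherent module with vanishing `H¹`
vanishes. -/
theorem H1_subsingleton_of_epi (hd : topologicalKrullDim X ≤ 1) {M N : X.Modules}
    [M.IsQuasicoherent] [N.IsQuasicoherent] (φ : M ⟶ N) [Epi φ]
    (hM : Subsingleton (Coh.HH X M 1)) : Subsingleton (Coh.HH X N 1) := by
  haveI := PtIdeal.isNoetherian_of_proper k X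
  have hK : (kernel φ).IsQuasicoherent :=
    Groth.Agent.Helper13.QCohLocal.isQuasicoherent_kernel φ
  let S : ShortComplex X.Modules := ShortComplex.mk (kernel.ι φ) φ (kernel.condition φ)
  have hS : S.ShortExact :=
    { exact := ShortComplex.exact_kernel φ
      mono_f := inferInstanceAs (Mono (kernel.ι φ))
      epi_g := inferInstanceAs (Epi φ) }
  have h1 : Subsingleton (Coh.HH X S.X₁ 2) :=
    Groth.Agent.S1436.result X 1 (Groth.Agent.Helper14.AffStrat.of_dim_le 1 X hd) (kernel φ)
      hK 2 (by norm_num)
  exact Groth.Agent.Helper26.PnReg.HH_subsingleton_X₃ S hS 1 hM h1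

include k in
/-- `H¹((F ⊗ E) ⊗ W) = 0` for a globally generated finite locally free `F` when
`H¹(E ⊗ W) = 0`. -/
theorem H1_tensor_of_gg (hd : topologicalKrullDim X ≤ 1) (E W F : X.Modules)
    [E.IsQuasicoherent] [W.IsQuasicoherent]
    (hF : FlatMod.IsFinLocFree F) (hFgg : Curv2.IsGloballyGenerated F)
    (h : Subsingleton (Coh.HH X (CohB1.tensorMod E W) 1)) :
    Subsingleton (Coh.HH X (CohB1.tensorMod (CohB1.tensorMod F E) W) 1) := by
  haveI := PtIdeal.isNoetherian_of_proper k X
  have hFc : Coh.IsCoh F := PtGG.isCoh_of_isFinLocFree F hF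
  haveI : F.IsQuasicoherent := hFc.1
  haveI := hFc.2
  have hgg' := (Groth.Agent.Helper13.GlobGen.isGloballyGenerated_iff F).1 hFgg
  obtain ⟨b, t, ht⟩ := Groth.Agent.Helper13.FinGlobGen.exists_fin_genOn F hgg'
  haveI hψ : Epi (descSec F t) := Groth.Agent.Helper13.InvTwist.epi_descSec_of_genOn F t ht
  have hOc : Coh.IsCoh (FlatMod.freeMod X b) :=
    PtGG.isCoh_of_isFinLocFree _ (isFinLocFree_freeMod b)
  haveI : (FlatMod.freeMod X b).IsQuasicoherent := hOc.1
  haveI h1 : Epi (Tensor.map (descSec F t) (𝟙 E)) :=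
    Groth.Agent.Helper13.InvTwist.epi_map_id _ E
  haveI h2 : Epi (Tensor.map (Tensor.map (descSec F t) (𝟙 E)) (𝟙 W)) :=
    Groth.Agent.Helper13.InvTwist.epi_map_id _ W
  have hM : Subsingleton (Coh.HH X
      (CohB1.tensorMod (CohB1.tensorMod (FlatMod.freeMod X b) E) W) 1) :=
    Groth.Agent.Helper13.PnSerre.subsingleton_sigma k
      (fun _ : Fin b => Coh.structureModule X) (tensorRight E ⋙ tensorRight W) 1
      (fun _ => H1_base E W h)
  exact H1_subsingleton_of_epi k X hd
    (Tensor.map (Tensor.map (descSec F t) (𝟙 E)) (𝟙 W)) hM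

include k in
/-- tensor powers of a deformation ample module are deformation ample (for any quasi-coherent
module `W` in place of the dualizing module). -/
theorem main17657 (hd : topologicalKrullDim X ≤ 1)
    (E : X.Modules) (hE : FlatMod.IsFinLocFree E) (W : X.Modules) [W.IsQuasicoherent]
    (h₁ : Curv2.IsGloballyGenerated E ∧
      Subsingleton (Coh.HH X (CohB1.tensorMod E W) 1)) (n : ℕ) (hn : 1 ≤ n) :
    Curv2.IsGloballyGenerated (CohB1.tensorPow E n) ∧
      Subsingleton (Coh.HH X (CohB1.tensorMod (CohB1.tensorPow E n) W) 1) := by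
  haveI hEq : E.IsQuasicoherent :=
    Groth.Agent.Helper13.ResFinLocFree.isQuasicoherent_of_isFinLocFree E hE
  refine ⟨isGloballyGenerated_tensorPow E h₁.1 n, ?_⟩
  obtain ⟨m, rfl⟩ : ∃ m, n = m + 1 := ⟨n - 1, by omega⟩
  cases m with
  | zero => exact H1_base E W h₁.2
  | succ m =>
    exact H1_tensor_of_gg k X hd E W (CohB1.tensorPow E (m + 1))
      (isFinLocFree_tensorPow E hE (m + 1)) (isGloballyGenerated_tensorPow E h₁.1 (m + 1)) h₁.2

end Curve

end Groth.Agent.Helper24.DefAmplePow
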