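import Mathlib
import Groth.Agent.Lib.Helper24.DefAmple
import Groth.Agent.Lib.Helper24.DefAmplePow
import Groth.Agent.Lib.Helper28.ZeroDimGG
import Groth.Agent.Lib.Helper28.SuppProper
import Groth.Agent.Lib.Helper9.AffStrat
import Groth.Agent.Lib.Helper14.AffStrat
import Groth.Agent.S1436
import Groth.Agent.Lib.Helper26.PnReg2

/-!
# Deformation ampleness passes along morphisms with torsion cokernel (helper24)
-/

set_option autoImplicit false
set_option linter.unusedSectionVars false
set_option linter.style.haveILetI false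
set_option linter.unusedVariables false
set_option maxHeartbeats 400000
universe u
open CategoryTheory CategoryTheory.Limits AlgebraicGeometry Opposite TopologicalSpace TensorProduct
open Groth.Agent.Helper13 Groth.Agent.Helper13.Tensor Groth.Agent.Helper13.TensorFunctor
open Groth.Agent.Helper13.LocFree Groth.Agent.Helper13.FinType Groth.Agent.Helper13.PnFin
open Groth.Agent.Helper13.TwistSES Groth.Agent.Helper13.QCoh Groth.Agent.Helper13.Inv

namespace Groth.Agent.Helper24.DefAmpleTors

section Top

open Topology in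
/-- a quasi-sober space without proper generizations has dimension at most zero. -/
theorem dim_le_zero_of_noGen {T : Type*} [TopologicalSpace T] [QuasiSober T]
    (hX : ∀ x x' : T, x' ⤳ x → x' = x) : topologicalKrullDim T ≤ 0 := by
  unfold topologicalKrullDim
  rw [Order.krullDim_nonpos_iff_forall_isMax]
  intro Z Z' hZZ'
  obtain ⟨z, hz⟩ := QuasiSober.sober Z.isIrreducible Z.isClosed
  obtain ⟨z', hz'⟩ := QuasiSober.sober Z'.isIrreducible Z'.isClosed
  have hzcl : closure ({z} : Set T) = (Z : Set T) := hz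
  have hz'cl : closure ({z'} : Set T) = (Z' : Set T) := hz'
  have h1 : z' ⤳ z := by
    rw [specializes_iff_mem_closure, hz'cl]
    apply hZZ'
    show z ∈ (Z : Set T)
    rw [← hzcl]; exact subset_closure rfl
  have h2 : z' = z := hX z z' h1
  intro a ha
  have : a ∈ closure ({z'} : Set T) := by rw [hz'cl]; exact ha
  rw [h2, hzcl] at this
  exact this

/-- a closed subset of a quasi-sober space all of whose points are closed has dimension at most
zero. -/
theorem dim_le_zero_of_forall_isClosed {T : Type*} [TopologicalSpace T] [QuasiSober T]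
    (Z : Set T) (hZ : IsClosed Z) (h : ∀ x ∈ Z, IsClosed ({x} : Set T)) :
    topologicalKrullDim Z ≤ 0 := by
  haveI : QuasiSober Z := hZ.isClosedEmbedding_subtypeVal.quasiSober
  apply dim_le_zero_of_noGen
  intro x x' hx'
  have h1 : (x' : T) ⤳ (x : T) := (subtype_specializes_iff _ _).1 hx'
  have h2 : (x : T) ∈ closure ({(x' : T)} : Set T) := specializes_iff_mem_closure.1 h1
  rw [(h x' x'.2).closure_eq] at h2
  exact Subtype.ext (Set.mem_singleton_iff.1 h2).symm

end Top

section General

variable {X : Scheme.{u}}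

/-- a module whose stalks vanish on an open subset restricts to zero there. -/
theorem isZero_restrict_of_stalk (M : X.Modules) (U : X.Opens)
    (h : ∀ x ∈ U, Subsingleton (M.presheaf.stalk x)) : IsZero (M.restrict U.ι) := by
  rw [isZero_iff_sections]
  intro W
  have hsub : Subsingleton Γ(M, U.ι ''ᵁ W) := by
    refine ⟨fun a b => ?_⟩
    apply TopCat.Presheaf.section_ext ⟨M.presheaf, M.isSheaf⟩ (U.ι ''ᵁ W)
    intro x hx
    exact (h x (U.ι_image_le W hx)).elim _ _
  exact hsub

/-- higher cohomology of a quasi-coherent module supported in a closed set of closed points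
vanishes. -/
theorem HH_subsingleton_of_support_closedPoints [IsNoetherian X] (M : X.Modules)
    [M.IsQuasicoherent] (Z : Set X) (hZ : IsClosed Z)
    (hZpt : ∀ x ∈ Z, IsClosed ({x} : Set X)) (hsupp : CohB1.support M ⊆ Z) (p : ℕ)
    (hp : 0 < p) : Subsingleton (Coh.HH X M p) := by
  haveI : QuasiSeparatedSpace X := inferInstance
  haveI : CompactSpace X := inferInstance
  have hdimZ0 : topologicalKrullDim Z ≤ 0 := dim_le_zero_of_forall_isClosed Z hZ hZpt
  obtain ⟨U, hUZ⟩ : ∃ U : X.Opens, (U : Set X) = Zᶜ := ⟨⟨Zᶜ, hZ.isOpen_compl⟩, rfl⟩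
  have IH : Groth.Agent.Helper9.AffStrat.IHyp X U 0 := by
    intro Y i hi hiU G hG q hq
    haveI := hi
    have hmem : ∀ y : Y, i y ∈ Z := by
      intro y
      by_contra hy
      apply hiU y
      show i y ∈ (U : Set X)
      rw [hUZ]
      exact hy
    have hcont : Continuous (fun y : Y => (⟨i y, hmem y⟩ : Z)) :=
      Continuous.subtype_mk i.continuous hmem
    have hind : Topology.IsInducing (fun y : Y => (⟨i y, hmem y⟩ : Z)) := by
      have h1 : Topology.IsInducing (i : Y → X) := i.isEmbedding.isInducing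
      exact Topology.IsInducing.of_comp hcont continuous_subtype_val h1
    have hdimY : topologicalKrullDim Y ≤ ((0 : ℕ) : WithBot ℕ∞) :=
      (hind.topologicalKrullDim_le).trans (by simpa using hdimZ0)
    haveI : IsNoetherian Y := by
      haveI : IsLocallyNoetherian Y := LocallyOfFiniteType.isLocallyNoetherian i
      haveI : CompactSpace Y := by
        have := (i.isClosedEmbedding).isCompact_preimage isCompact_univ
        rw [Set.preimage_univ] at this
        exact isCompact_univ_iff.1 this
      exact ⟨⟩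
    have strat := Groth.Agent.Helper14.AffStrat.of_dim_le 0 Y hdimY
    exact Groth.Agent.S1436.result Y 0 strat G hG q hq
  have hM : IsZero (M.restrict U.ι) := by
    apply isZero_restrict_of_stalk
    intro x hx
    by_contra hns
    have hxZ : x ∈ Z := hsupp hns
    have hx' : x ∈ (U : Set X) := hx
    rw [hUZ] at hx'
    exact hx' hxZ
  exact Groth.Agent.Helper9.AffStrat.HH_subsingleton_of_zeroOn U 0 IH M hM p hp

/-- tensoring a short exact sequence with any module is right exact. -/
theorem tensorSC_exact_epi (S : ShortComplex X.Modules) (hS : S.ShortExact) (N : X.Modules) :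
    (tensorSC S N).Exact ∧ Epi (tensorSC S N).g := by
  haveI := hS.mono_f
  haveI := hS.epi_g
  have hsurj : ∀ x : X, Function.Surjective (stalkLinearMap S.g x) := fun x =>
    Groth.Agent.Helper13.FinType.stalkMap_surjective_of_epi S.g x
  have hex : ∀ x : X, Function.Exact (stalkLinearMap S.f x) (stalkLinearMap S.g x) := by
    intro x m
    constructor
    · intro hm
      obtain ⟨m₁, hm₁⟩ := stalk_exact_of_exact_of_mono S hS.exact x m hm
      exact ⟨m₁, hm₁⟩
    · rintro ⟨m₁, rfl⟩
      change stalkMap S.g x (stalkMap S.f x m₁) = 0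
      rw [← Groth.Agent.Helper18.BasisCrit.stalkMap_comp, S.zero]
      exact Groth.Agent.Helper18.BasisCrit.stalkMap_zero x m₁
  constructor
  · -- exactness
    apply Groth.Agent.Helper18.BasisCrit.exact_of_stalk
    intro x m hm
    obtain ⟨z, rfl⟩ := (stalkTensorEquiv S.X₂ N x).surjective m
    change stalkMap (Tensor.map S.g (𝟙 N)) x _ = 0 at hm
    rw [stalkMap_map_id] at hm
    have hz : (stalkLinearMap S.g x).rTensor (N.presheaf.stalk x) z = 0 := by
      apply (stalkTensorEquiv S.X₃ N x).injective
      rw [hm, map_zero]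
    obtain ⟨z₁, hz₁⟩ := (rTensor_exact (N.presheaf.stalk x) (hex x) (hsurj x) z).1 hz
    refine ⟨stalkTensorEquiv S.X₁ N x z₁, ?_⟩
    change stalkMap (Tensor.map S.f (𝟙 N)) x _ = _
    rw [stalkMap_map_id, hz₁]
  · -- epi
    apply Groth.Agent.Helper13.FinType.epi_of_stalkMap_surjective
    intro x m
    obtain ⟨z, rfl⟩ := (stalkTensorEquiv S.X₃ N x).surjective m
    obtain ⟨z₂, rfl⟩ := LinearMap.rTensor_surjective (N.presheaf.stalk x) (hsurj x) z
    refine ⟨stalkTensorEquiv S.X₂ N x z₂, ?_⟩
    change stalkMap (Tensor.map S.g (𝟙 N)) x _ = _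
    rw [stalkMap_map_id]

end General

section Curve

variable (k : Type u) [Field k] (X : Scheme.{u}) [X.Over (Spec (CommRingCat.of k))]
  [IsProper (X ↘ Spec (CommRingCat.of k))]

include k in
/-- explicit-argument form of `DefAmplePow.H1_subsingleton_of_epi`. -/
theorem H1_of_epi (hd : topologicalKrullDim X ≤ 1) {M N : X.Modules}
    (hM : M.IsQuasicoherent) (hN : N.IsQuasicoherent) (φ : M ⟶ N) (hφ : Epi φ)
    (h : Subsingleton (Coh.HH X M 1)) : Subsingleton (Coh.HH X N 1) := by
  haveI := hM
  haveI := hN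
  haveI := hφ
  exact DefAmplePow.H1_subsingleton_of_epi k X hd φ h

include k in
/-- deformation ampleness passes along a morphism of finite locally free modules with torsion
cokernel (for any quasi-coherent module `W` in place of the dualizing module). -/
theorem main17655 (hd : topologicalKrullDim X ≤ 1)
    (hg : Subsingleton (Coh.HH X (Coh.structureModule X) 1))
    (E₁ E₂ : X.Modules) (hE₁ : FlatMod.IsFinLocFree E₁) (hE₂ : FlatMod.IsFinLocFree E₂)
    (φ : E₁ ⟶ E₂)
    (htors : ∀ x ∈ CohB1.support (cokernel φ), IsClosed ({x} : Set X))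
    (W : X.Modules) [W.IsQuasicoherent]
    (h₁ : Curv2.IsGloballyGenerated E₁ ∧
      Subsingleton (Coh.HH X (CohB1.tensorMod E₁ W) 1)) :
    Curv2.IsGloballyGenerated E₂ ∧
      Subsingleton (Coh.HH X (CohB1.tensorMod E₂ W) 1) := by
  haveI := PtIdeal.isNoetherian_of_proper k X
  have hE₁c : Coh.IsCoh E₁ := PtGG.isCoh_of_isFinLocFree E₁ hE₁
  have hE₂c : Coh.IsCoh E₂ := PtGG.isCoh_of_isFinLocFree E₂ hE₂
  have hCc : Coh.IsCoh (cokernel φ) := (Groth.Agent.S9514.result X hE₁c hE₂c φ).2
  haveI hE₁q : E₁.IsQuasicoherent := hE₁c.1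
  haveI hE₂q : E₂.IsQuasicoherent := hE₂c.1
  haveI hCq : (cokernel φ).IsQuasicoherent := hCc.1
  haveI hCft := hCc.2
  have hZcl : IsClosed (CohB1.support (cokernel φ)) :=
    Groth.Agent.Helper28.SuppProper.isClosed_support (cokernel φ)
  have hdimC : topologicalKrullDim (CohB1.support (cokernel φ)) ≤ 0 :=
    dim_le_zero_of_forall_isClosed _ hZcl htors
  -- the short exact sequence `0 → im φ → E₂ → coker φ → 0`
  let S : ShortComplex X.Modules := ShortComplex.mk (kernel.ι (cokernel.π φ)) (cokernel.π φ)
    (kernel.condition (cokernel.π φ))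
  have hS : S.ShortExact :=
    { exact := ShortComplex.exact_kernel (cokernel.π φ)
      mono_f := inferInstanceAs (Mono (kernel.ι (cokernel.π φ)))
      epi_g := inferInstanceAs (Epi (cokernel.π φ)) }
  have hKq : (kernel (cokernel.π φ)).IsQuasicoherent :=
    Groth.Agent.Helper13.QCohLocal.isQuasicoherent_kernel (cokernel.π φ)
  -- `E₁ → im φ` is an epimorphism
  obtain ⟨ψ, hψ⟩ : ∃ ψ : E₁ ⟶ kernel (cokernel.π φ), Epi ψ :=
    ⟨Abelian.factorThruImage φ, inferInstanceAs (Epi (Abelian.factorThruImage φ))⟩
  refine ⟨?_, ?_⟩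
  · -- global generation
    have hH1E₁ : Subsingleton (Coh.HH X E₁ 1) :=
      DefAmple.H1_subsingleton_of_gg k X hd hg E₁ hE₁ h₁.1
    have hH1K : Subsingleton (Coh.HH X S.X₁ 1) := H1_of_epi k X hd hE₁q hKq ψ hψ hH1E₁
    have hsurj := DefAmple.app_top_surjective_of_H1 k S hS hH1K
    have ggK : Curv2.IsGloballyGenerated (kernel (cokernel.π φ)) := by
      obtain ⟨ι, p, hp⟩ := h₁.1
      exact ⟨ι, p ≫ ψ, @epi_comp _ _ _ _ _ p hp ψ hψ⟩
    have ggC : Curv2.IsGloballyGenerated (cokernel φ) :=
      Groth.Agent.Helper28.ZeroDimGG.isGloballyGenerated_of_dim_zero k X (cokernel φ) hdimC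
    rw [Groth.Agent.Helper13.GlobGen.isGloballyGenerated_iff]
    intro y
    exact DefAmple.ggAt_X₂ S hS hsurj y
      ((Groth.Agent.Helper13.GlobGen.isGloballyGenerated_iff _).1 ggK y)
      ((Groth.Agent.Helper13.GlobGen.isGloballyGenerated_iff _).1 ggC y)
  · -- vanishing of `H¹(E₂ ⊗ W)`
    obtain ⟨hTex, hTepi⟩ := tensorSC_exact_epi S hS W
    have hKWq : (CohB1.tensorMod (kernel (cokernel.π φ)) W).IsQuasicoherent := by
      haveI := hKq
      infer_instance
    have hE₁Wq : (CohB1.tensorMod E₁ W).IsQuasicoherent := inferInstance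
    have hE₂Wq : (CohB1.tensorMod E₂ W).IsQuasicoherent := inferInstance
    have hCWq : (CohB1.tensorMod (cokernel φ) W).IsQuasicoherent := inferInstance
    -- `H¹(im φ ⊗ W) = 0`
    have hψW : Epi (Tensor.map ψ (𝟙 W)) := by
      haveI := hψ
      exact Groth.Agent.Helper13.InvTwist.epi_map_id ψ W
    have hK1 : Subsingleton (Coh.HH X (CohB1.tensorMod (kernel (cokernel.π φ)) W) 1) :=
      H1_of_epi k X hd hE₁Wq hKWq (Tensor.map ψ (𝟙 W)) hψW h₁.2
    -- the maps of the tensored sequence
    obtain ⟨f', hf'⟩ : ∃ f' : CohB1.tensorMod (kernel (cokernel.π φ)) W ⟶ CohB1.tensorMod E₂ W,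
        f' = (tensorSC S W).f := ⟨_, rfl⟩
    obtain ⟨g', hg'⟩ : ∃ g' : CohB1.tensorMod E₂ W ⟶ CohB1.tensorMod (cokernel φ) W,
        g' = (tensorSC S W).g := ⟨_, rfl⟩
    have hzero : f' ≫ g' = 0 := by
      rw [hf', hg']
      exact (tensorSC S W).zero
    have hTex' : (ShortComplex.mk f' g' hzero).Exact := by
      subst hf' hg'
      exact hTex
    have hg'epi : Epi g' := by
      subst hg'
      exact hTepi
    have hK'q : (kernel g').IsQuasicoherent := by
      haveI := hE₂Wq
      haveI := hCWq
      exact Groth.Agent.Helper13.QCohLocal.isQuasicoherent_kernel g'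
    have hlift : Epi (kernel.lift g' f' hzero) :=
      (ShortComplex.mk f' g' hzero).exact_iff_epi_kernel_lift.1 hTex'
    have hK'1 : Subsingleton (Coh.HH X (kernel g') 1) :=
      H1_of_epi k X hd hKWq hK'q (kernel.lift g' f' hzero) hlift hK1
    have hS' : (ShortComplex.mk (kernel.ι g') g' (kernel.condition g')).ShortExact := by
      haveI := hg'epi
      exact
        { exact := ShortComplex.exact_kernel g'
          mono_f := inferInstanceAs (Mono (kernel.ι g'))
          epi_g := inferInstanceAs (Epi g') }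
    have hC1 : Subsingleton (Coh.HH X (CohB1.tensorMod (cokernel φ) W) 1) := by
      haveI := hCWq
      exact HH_subsingleton_of_support_closedPoints (CohB1.tensorMod (cokernel φ) W)
        (CohB1.support (cokernel φ)) hZcl htors
        (Groth.Agent.Helper26.PnReg.support_tensorMod_subset _ _) 1 Nat.one_pos
    exact Groth.Agent.Helper13.AcycEmbed.HH_subsingleton_of_shortExact
      (ShortComplex.mk (kernel.ι g') g' (kernel.condition g')) hS' 1 hK'1 hC1

end Curve

end Groth.Agent.Helper24.DefAmpleTors
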