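import Mathlib
import Groth.Prelude.Def_SpSeq

/-!
# Hand-built degenerate spectral sequences

Given a complex `P` of shape `(1, 0)` on `ℤ × ℤ` (a first page) whose homology is concentrated in
the column `p = 0`, we build a cohomological spectral sequence starting at page one, with first
page `P`, all further pages equal to the homology of `P` (with zero differentials), and abutment
data on the objects `H q ≅ H(P)(0, q)` (filtration `⊤` for `p ≤ 0`, `⊥` for `p > 0`).
-/

set_option autoImplicit false

open CategoryTheory CategoryTheory.Limits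

namespace Groth.Agent.Helper24.DegSS

universe v u

variable {C : Type u} [Category.{v} C] [Abelian C]

/-- the complex with zero differentials -/
def zeroCx {κ : Type*} (c : ComplexShape κ) (X : κ → C) : HomologicalComplex C c where
  X := X
  d _ _ := 0
  shape _ _ _ := rfl
  d_comp_d' _ _ _ _ _ := zero_comp

/-- homology of a complex with zero differentials -/
noncomputable def homologyIsoOfD0 {κ : Type*} {c : ComplexShape κ} (K : HomologicalComplex C c)
    (h : ∀ i j, K.d i j = 0) (i : κ) : K.homology i ≅ K.X i :=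
  (ShortComplex.HomologyData.ofZeros (K.sc i) (h _ _) (h _ _)).left.homologyIso

section Subquot

variable {X : C}

lemma isZero_subquot_of_eq (Z B : Subobject X) (h : B ≤ Z) (h' : Z = B) :
    IsZero (SpSeq.subquot Z B h) := by
  subst h'
  unfold SpSeq.subquot
  have : IsIso (Z.ofLE Z h) := by
    have h1 : Z.ofLE Z h = 𝟙 _ := Subobject.ofLE_refl Z
    rw [h1]; infer_instance
  exact isZero_cokernel_of_epi _

/-- `⊤ / ⊥ ≅ X`. -/
noncomputable def subquotTopBot (Z B : Subobject X) (h : B ≤ Z) (hZ : Z = ⊤) (hB : B = ⊥) :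
    SpSeq.subquot Z B h ≅ X := by
  subst hZ hB
  have h0 : (⊥ : Subobject X).ofLE ⊤ h = 0 :=
    (IsZero.of_iso (isZero_zero C) Subobject.botCoeIsoZero).eq_of_src _ _
  exact cokernelIsoOfEq h0 ≪≫ cokernelZeroIsoTarget ≪≫ asIso (⊤ : Subobject X).arrow

end Subquot

section Build

variable (P : HomologicalComplex C (ComplexShape.up' (⟨(1 : ℤ), 1 - 1⟩ : ℤ × ℤ)))

/-- the pages -/
noncomputable def page (r : ℤ) : HomologicalComplex C (ComplexShape.up' (⟨r, 1 - r⟩ : ℤ × ℤ)) :=
  if h : r = 1 then cast (by rw [h]) P else zeroCx _ (fun pq => P.homology pq)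

lemma page_one : page P 1 = P := by
  unfold page
  rw [dif_pos rfl]
  rfl

lemma page_ne (r : ℤ) (h : r ≠ 1) : page P r = zeroCx _ (fun pq => P.homology pq) := by
  unfold page
  rw [dif_neg h]

lemma page_d_zero (r : ℤ) (h : r ≠ 1) (a b : ℤ × ℤ) : (page P r).d a b = 0 := by
  rw [page_ne P r h]
  rfl

/-- objects of the pages `≥ 2` -/
noncomputable def pageXIso (r : ℤ) (h : r ≠ 1) (pq : ℤ × ℤ) : (page P r).X pq ≅ P.homology pq :=
  eqToIso (by rw [page_ne P r h]; rfl)

/-- the structure isomorphisms -/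
noncomputable def isoAux (r r' : ℤ) (pq : ℤ × ℤ) (hrr' : r + 1 = r') (hr : 1 ≤ r) :
    (page P r).homology pq ≅ (page P r').X pq :=
  if h : r = 1 then by
    subst h
    exact (HomologicalComplex.homologyFunctor C _ pq).mapIso (eqToIso (page_one P)) ≪≫
      (pageXIso P r' (by omega) pq).symm
  else
    homologyIsoOfD0 (page P r) (page_d_zero P r h) pq ≪≫ pageXIso P r h pq ≪≫
      (pageXIso P r' (by omega) pq).symm

/-- the spectral sequence -/
noncomputable def E : CohomologicalSpectralSequence C 1 where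
  page r _ := page P r
  iso r r' pq hrr' hr := isoAux P r r' pq hrr' hr

lemma E_page_one : (E P).page 1 le_rfl = P := page_one P

variable (H : ℤ → C)

/-- the filtration: `⊤` for `p ≤ 0`, `⊥` for `p > 0` -/
noncomputable def fil (n : ℤ) (p : ℤ) : Subobject (H n) := if p ≤ 0 then ⊤ else ⊥

lemma fil_anti (n : ℤ) : Antitone (fil H n) := by
  intro p p' h
  unfold fil
  split_ifs with h1 h2
  · exact le_rfl
  · omega
  · exact le_top
  · exact le_rfl

variable (hz : ∀ pq : ℤ × ℤ, pq.1 ≠ 0 → IsZero (P.homology pq))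
  (hiso : ∀ q : ℤ, P.homology (0, q) ≅ H q)

/-- the identification in column zero -/
noncomputable def hiso' (pq : ℤ × ℤ) (h : pq.1 = 0) : P.homology pq ≅ H (pq.1 + pq.2) := by
  obtain ⟨p, q⟩ := pq
  dsimp at h
  subst h
  exact hiso q ≪≫ eqToIso (by simp)

include hz in
/-- the abutment data -/
noncomputable def abut : SpSeq.Abutment (E P) H where
  fil := fil H
  anti := fil_anti H
  rk _ := 2
  stat pq := ⟨by norm_num, fun r' _ hr =>
    ⟨page_d_zero P r' (by omega) _ _, page_d_zero P r' (by omega) _ _⟩⟩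
  β pq :=
    if h : pq.1 = 0 then
      pageXIso P 2 (by norm_num) pq ≪≫ hiso' P H hiso pq h ≪≫
        (subquotTopBot _ _ _ (by unfold fil; rw [if_pos (by omega)])
          (by unfold fil; rw [if_neg (by omega)])).symm
    else
      (IsZero.of_iso (hz pq h) (pageXIso P 2 (by norm_num) pq)).iso
        (isZero_subquot_of_eq _ _ _ (by
          unfold fil
          by_cases h' : pq.1 ≤ 0
          · rw [if_pos h', if_pos (by omega)]
          · rw [if_neg h', if_neg (by omega)]))

lemma abut_isFinite (n : ℤ) : (abut P H hz hiso).IsFinite n :=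
  ⟨⟨0, by show fil H n 0 = ⊤; unfold fil; rw [if_pos le_rfl]⟩,
    ⟨1, by show fil H n 1 = ⊥; unfold fil; rw [if_neg (by norm_num)]⟩⟩

theorem exists_degenerate
    (hz : ∀ pq : ℤ × ℤ, pq.1 ≠ 0 → IsZero (P.homology pq))
    (hiso : ∀ q : ℤ, Nonempty (P.homology (0, q) ≅ H q))
    (hb : ∀ n : ℤ, Set.Finite {p : ℤ | ¬ IsZero (P.X (p, n - p))}) :
    ∃ (E : CohomologicalSpectralSequence C 1) (a : SpSeq.Abutment E H),
      (∀ n, a.IsFinite n) ∧ SpSeq.IsBounded E ∧ E.page 1 le_rfl = P := by
  refine ⟨E P, abut P H hz (fun q => (hiso q).some), abut_isFinite P H hz _, ?_, E_page_one P⟩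
  intro n
  rw [E_page_one P]
  exact hb n

end Build

end Groth.Agent.Helper24.DegSS
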