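import Mathlib

/-!
# Mayer–Vietoris type long exact sequence for right derived functors (helper24)

Let `F₁, Fa, Fb, F₃ : A ⥤ B` be additive functors between abelian categories and
`αa : F₁ ⟶ Fa`, `αb : F₁ ⟶ Fb`, `βa : Fa ⟶ F₃`, `βb : Fb ⟶ F₃` natural transformations such that
`0 → F₁ I → Fa I ⊞ Fb I → F₃ I → 0` (sum, difference) is short exact for every injective `I`.
Then there is a long exact sequence
`… → RⁿF₁ X → RⁿFa X ⊞ RⁿFb X → RⁿF₃ X → Rⁿ⁺¹F₁ X → …`.
-/

universe v v' u u'
open CategoryTheory CategoryTheory.Limits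

namespace Groth.Agent.Helper24.DerMV

variable {A : Type u} [Category.{v} A] [Abelian A]
  {B : Type u'} [Category.{v'} B] [Abelian B]
  {F₁ Fa Fb F₃ : A ⥤ B} [F₁.Additive] [Fa.Additive] [Fb.Additive] [F₃.Additive]
  (αa : F₁ ⟶ Fa) (αb : F₁ ⟶ Fb) (βa : Fa ⟶ F₃) (βb : Fb ⟶ F₃)

/-- the hypotheses -/
structure Hyp : Prop where
  comm : αa ≫ βa = αb ≫ βb
  shortExact : ∀ I : A, Injective I →
    ∀ w : biprod.lift (αa.app I) (αb.app I) ≫ biprod.desc (βa.app I) (-(βb.app I)) = 0,
      (ShortComplex.mk _ _ w).ShortExact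

variable {αa αb βa βb}

/-- shorthand -/
noncomputable abbrev mh {F G : A ⥤ B} [F.Additive] [G.Additive] (α : F ⟶ G)
    (K : CochainComplex A ℕ) :
    (F.mapHomologicalComplex (ComplexShape.up ℕ)).obj K ⟶
      (G.mapHomologicalComplex (ComplexShape.up ℕ)).obj K :=
  (NatTrans.mapHomologicalComplex α (ComplexShape.up ℕ)).app K

lemma mh_comm (h : Hyp αa αb βa βb) (K : CochainComplex A ℕ) :
    mh αa K ≫ mh βa K = mh αb K ≫ mh βb K := by
  ext n
  simp only [HomologicalComplex.comp_f, NatTrans.mapHomologicalComplex_app_f]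
  exact congrArg (fun t => t.app (K.X n)) h.comm

/-- the short complex of complexes `F₁ K ⟶ Fa K ⊞ Fb K ⟶ F₃ K`. -/
noncomputable def scx (h : Hyp αa αb βa βb) (K : CochainComplex A ℕ) :
    ShortComplex (CochainComplex B ℕ) :=
  ShortComplex.mk (biprod.lift (mh αa K) (mh αb K)) (biprod.desc (mh βa K) (-(mh βb K))) (by
    rw [biprod.lift_desc, Preadditive.comp_neg, mh_comm h K, add_neg_cancel])

lemma scx_shortExact (h : Hyp αa αb βa βb) (K : CochainComplex A ℕ) (hK : ∀ n, Injective (K.X n)) :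
    (scx h K).ShortExact := by
  apply HomologicalComplex.shortExact_of_degreewise_shortExact
  intro n
  have w : biprod.lift (αa.app (K.X n)) (αb.app (K.X n)) ≫
      biprod.desc (βa.app (K.X n)) (-(βb.app (K.X n))) = 0 := by
    rw [biprod.lift_desc, Preadditive.comp_neg]
    have := congrArg (fun t => t.app (K.X n)) h.comm
    simp only [NatTrans.comp_app] at this
    rw [this, add_neg_cancel]
  have w' : biprod.lift ((mh αa K).f n) ((mh αb K).f n) ≫
      biprod.desc ((mh βa K).f n) (-((mh βb K).f n)) = 0 := w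
  let T : ShortComplex B := ShortComplex.mk _ _ w'
  have hT : T.ShortExact := h.shortExact (K.X n) (hK n) w
  have e : (scx h K).map (HomologicalComplex.eval B (ComplexShape.up ℕ) n) ≅ T := by
    refine ShortComplex.isoMk (Iso.refl _) (HomologicalComplex.biprodXIso _ _ n) (Iso.refl _)
      ?_ ?_
    · show 𝟙 _ ≫ biprod.lift ((mh αa K).f n) ((mh αb K).f n) =
        (biprod.lift (mh αa K) (mh αb K)).f n ≫ (HomologicalComplex.biprodXIso _ _ n).hom
      rw [Category.id_comp]
      apply biprod.hom_ext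
      · rw [Category.assoc, HomologicalComplex.biprodXIso_hom_fst, ← HomologicalComplex.comp_f,
          biprod.lift_fst, biprod.lift_fst]
      · rw [Category.assoc, HomologicalComplex.biprodXIso_hom_snd, ← HomologicalComplex.comp_f,
          biprod.lift_snd, biprod.lift_snd]
    · show (HomologicalComplex.biprodXIso _ _ n).hom ≫
          biprod.desc ((mh βa K).f n) (-((mh βb K).f n)) =
        (biprod.desc (mh βa K) (-(mh βb K))).f n ≫ 𝟙 _
      rw [Category.comp_id]
      apply HomologicalComplex.biprodX_ext_from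
      · rw [← HomologicalComplex.comp_f, biprod.inl_desc, ← HomologicalComplex.inl_biprodXIso_inv,
          Category.assoc, Iso.inv_hom_id_assoc, biprod.inl_desc]
      · rw [← HomologicalComplex.comp_f, biprod.inr_desc, ← HomologicalComplex.inr_biprodXIso_inv,
          Category.assoc, Iso.inv_hom_id_assoc, biprod.inr_desc]
        rfl
  exact ShortComplex.shortExact_of_iso e.symm hT

section Generic

variable {D : Type*} [Category D] [Preadditive D] [HasBinaryBiproducts D]
  {R₁ Ra Rb R₃ H₁ Ha Hb H₃ H₂ : D}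

lemma lift_comm (i₁ : R₁ ≅ H₁) (ia : Ra ≅ Ha) (ib : Rb ≅ Hb) (θ : H₂ ≅ Ha ⊞ Hb)
    (x : R₁ ⟶ Ra) (y : R₁ ⟶ Rb) (f : H₁ ⟶ H₂) (ua : H₁ ⟶ Ha) (ub : H₁ ⟶ Hb)
    (hfa : f ≫ θ.hom ≫ biprod.fst = ua) (hfb : f ≫ θ.hom ≫ biprod.snd = ub)
    (hx : x = i₁.hom ≫ ua ≫ ia.inv) (hy : y = i₁.hom ≫ ub ≫ ib.inv) :
    biprod.lift x y ≫ (biprod.mapIso ia ib ≪≫ θ.symm).hom = i₁.hom ≫ f := by
  rw [← cancel_mono (biprod.mapIso ia ib ≪≫ θ.symm).inv, Category.assoc, Iso.hom_inv_id,
    Category.comp_id]
  dsimp
  apply biprod.hom_ext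
  · simp only [Category.assoc, biprod.lift_fst, biprod.map_fst]
    rw [hx, ← hfa]
    simp
  · simp only [Category.assoc, biprod.lift_snd, biprod.map_snd]
    rw [hy, ← hfb]
    simp

lemma desc_comm (ia : Ra ≅ Ha) (ib : Rb ≅ Hb) (i₃ : R₃ ≅ H₃) (θ : H₂ ≅ Ha ⊞ Hb)
    (x : Ra ⟶ R₃) (y : Rb ⟶ R₃) (g : H₂ ⟶ H₃) (va : Ha ⟶ H₃) (vb : Hb ⟶ H₃)
    (hga : biprod.inl ≫ θ.inv ≫ g = va) (hgb : biprod.inr ≫ θ.inv ≫ g = -vb)
    (hx : x = ia.hom ≫ va ≫ i₃.inv) (hy : y = ib.hom ≫ vb ≫ i₃.inv) :
    biprod.desc x (-y) ≫ i₃.hom = (biprod.mapIso ia ib ≪≫ θ.symm).hom ≫ g := by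
  dsimp
  apply biprod.hom_ext'
  · simp only [biprod.inl_desc_assoc, Category.assoc]
    rw [hx, ← hga]
    simp
  · simp only [biprod.inr_desc_assoc, Category.assoc]
    rw [hy]
    have : biprod.inr ≫ (biprod.mapIso ia ib).hom ≫ θ.inv ≫ g = ib.hom ≫ (-vb) := by
      rw [← hgb]; simp
    rw [this]
    simp

end Generic

variable [HasInjectiveResolutions A]

section LES

variable (h : Hyp αa αb βa βb) {X : A} (P : InjectiveResolution X)

lemma shortExact_res : (scx h P.cocomplex).ShortExact :=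
  scx_shortExact h _ (fun n => P.injective n)

/-- the complex `F P` -/
noncomputable abbrev cx (F : A ⥤ B) [F.Additive] : CochainComplex B ℕ :=
  (F.mapHomologicalComplex (ComplexShape.up ℕ)).obj P.cocomplex

/-- homology of a biproduct of complexes -/
noncomputable def homologyBiprodIso (K L : CochainComplex B ℕ) (n : ℕ) :
    (K ⊞ L).homology n ≅ K.homology n ⊞ L.homology n where
  hom := biprod.lift (HomologicalComplex.homologyMap biprod.fst n)
    (HomologicalComplex.homologyMap biprod.snd n)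
  inv := biprod.desc (HomologicalComplex.homologyMap biprod.inl n)
    (HomologicalComplex.homologyMap biprod.inr n)
  hom_inv_id := by
    rw [biprod.lift_desc, ← HomologicalComplex.homologyMap_comp,
      ← HomologicalComplex.homologyMap_comp, ← HomologicalComplex.homologyMap_add, biprod.total,
      HomologicalComplex.homologyMap_id]
  inv_hom_id := by
    apply biprod.hom_ext <;> apply biprod.hom_ext' <;>
      simp [← HomologicalComplex.homologyMap_comp]

/-- the middle comparison isomorphism -/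
noncomputable def e₂ (n : ℕ) :
    (Fa.rightDerived n).obj X ⊞ (Fb.rightDerived n).obj X ≅ (cx P Fa ⊞ cx P Fb).homology n :=
  biprod.mapIso (P.isoRightDerivedObj Fa n) (P.isoRightDerivedObj Fb n) ≪≫
    (homologyBiprodIso (cx P Fa) (cx P Fb) n).symm

lemma comm₁ (n : ℕ) :
    biprod.lift ((NatTrans.rightDerived αa n).app X) ((NatTrans.rightDerived αb n).app X) ≫
      (e₂ (Fa := Fa) (Fb := Fb) P n).hom =
    (P.isoRightDerivedObj F₁ n).hom ≫ HomologicalComplex.homologyMap (scx h P.cocomplex).f n := by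
  refine lift_comm (H₁ := (cx P F₁).homology n) (Ha := (cx P Fa).homology n)
    (Hb := (cx P Fb).homology n) (H₂ := (cx P Fa ⊞ cx P Fb).homology n)
    (P.isoRightDerivedObj F₁ n) (P.isoRightDerivedObj Fa n) (P.isoRightDerivedObj Fb n)
    (homologyBiprodIso (cx P Fa) (cx P Fb) n) _ _
    (HomologicalComplex.homologyMap (scx h P.cocomplex).f n)
    (HomologicalComplex.homologyMap (mh αa P.cocomplex) n)
    (HomologicalComplex.homologyMap (mh αb P.cocomplex) n) ?_ ?_
    (P.rightDerived_app_eq αa n) (P.rightDerived_app_eq αb n)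
  · show HomologicalComplex.homologyMap (biprod.lift (mh αa P.cocomplex) (mh αb P.cocomplex)) n ≫
      biprod.lift (HomologicalComplex.homologyMap biprod.fst n)
        (HomologicalComplex.homologyMap biprod.snd n) ≫ biprod.fst = _
    rw [biprod.lift_fst, ← HomologicalComplex.homologyMap_comp, biprod.lift_fst]
  · show HomologicalComplex.homologyMap (biprod.lift (mh αa P.cocomplex) (mh αb P.cocomplex)) n ≫
      biprod.lift (HomologicalComplex.homologyMap biprod.fst n)
        (HomologicalComplex.homologyMap biprod.snd n) ≫ biprod.snd = _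
    rw [biprod.lift_snd, ← HomologicalComplex.homologyMap_comp, biprod.lift_snd]

lemma comm₂ (n : ℕ) :
    biprod.desc ((NatTrans.rightDerived βa n).app X) (-((NatTrans.rightDerived βb n).app X)) ≫
      (P.isoRightDerivedObj F₃ n).hom =
    (e₂ (Fa := Fa) (Fb := Fb) P n).hom ≫ HomologicalComplex.homologyMap (scx h P.cocomplex).g n := by
  refine desc_comm (Ha := (cx P Fa).homology n)
    (Hb := (cx P Fb).homology n) (H₂ := (cx P Fa ⊞ cx P Fb).homology n)
    (H₃ := (cx P F₃).homology n)
    (P.isoRightDerivedObj Fa n) (P.isoRightDerivedObj Fb n) (P.isoRightDerivedObj F₃ n)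
    (homologyBiprodIso (cx P Fa) (cx P Fb) n) _ _
    (HomologicalComplex.homologyMap (scx h P.cocomplex).g n)
    (HomologicalComplex.homologyMap (mh βa P.cocomplex) n)
    (HomologicalComplex.homologyMap (mh βb P.cocomplex) n) ?_ ?_
    (P.rightDerived_app_eq βa n) (P.rightDerived_app_eq βb n)
  · show biprod.inl ≫ biprod.desc (HomologicalComplex.homologyMap biprod.inl n)
        (HomologicalComplex.homologyMap biprod.inr n) ≫
      HomologicalComplex.homologyMap
        (biprod.desc (mh βa P.cocomplex) (-(mh βb P.cocomplex))) n = _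
    rw [biprod.inl_desc_assoc, ← HomologicalComplex.homologyMap_comp, biprod.inl_desc]
  · show biprod.inr ≫ biprod.desc (HomologicalComplex.homologyMap biprod.inl n)
        (HomologicalComplex.homologyMap biprod.inr n) ≫
      HomologicalComplex.homologyMap
        (biprod.desc (mh βa P.cocomplex) (-(mh βb P.cocomplex))) n = _
    rw [biprod.inr_desc_assoc, ← HomologicalComplex.homologyMap_comp, biprod.inr_desc,
      HomologicalComplex.homologyMap_neg]

/-- the connecting morphism -/
noncomputable def δ (n : ℕ) : (F₃.rightDerived n).obj X ⟶ (F₁.rightDerived (n + 1)).obj X :=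
  (P.isoRightDerivedObj F₃ n).hom ≫ (shortExact_res h P).δ n (n + 1) rfl ≫
    (P.isoRightDerivedObj F₁ (n + 1)).inv

include h P in
lemma zero₁ (n : ℕ) :
    biprod.lift ((NatTrans.rightDerived αa n).app X) ((NatTrans.rightDerived αb n).app X) ≫
      biprod.desc ((NatTrans.rightDerived βa n).app X) (-((NatTrans.rightDerived βb n).app X)) =
        0 := by
  have h3 : HomologicalComplex.homologyMap (scx h P.cocomplex).f n ≫
      HomologicalComplex.homologyMap (scx h P.cocomplex).g n = 0 := by
    rw [← HomologicalComplex.homologyMap_comp, (scx h P.cocomplex).zero,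
      HomologicalComplex.homologyMap_zero]
  rw [← cancel_mono (P.isoRightDerivedObj F₃ n).hom, zero_comp, Category.assoc]
  exact (congrArg (fun t => _ ≫ t) (comm₂ h P n)).trans
    ((Category.assoc _ _ _).symm.trans ((congrArg (fun t => t ≫ _) (comm₁ h P n)).trans
      ((Category.assoc _ _ _).trans ((congrArg (fun t => _ ≫ t) h3).trans comp_zero))))

theorem exact₁ (n : ℕ) : (ShortComplex.mk _ _ (zero₁ h P n)).Exact := by
  refine ShortComplex.exact_of_iso ?_ ((shortExact_res h P).homology_exact₂ n)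
  exact (ShortComplex.isoMk (P.isoRightDerivedObj F₁ n) (e₂ P n) (P.isoRightDerivedObj F₃ n)
    (comm₁ h P n).symm (comm₂ h P n).symm).symm

lemma zero₂ (n : ℕ) :
    biprod.desc ((NatTrans.rightDerived βa n).app X) (-((NatTrans.rightDerived βb n).app X)) ≫
      δ h P n = 0 := by
  have h3 := (shortExact_res h P).comp_δ n (n + 1) rfl
  dsimp only [δ]
  rw [← Category.assoc]
  exact (congrArg (fun t => t ≫ _) (comm₂ h P n)).trans
    ((Category.assoc _ _ _).trans ((congrArg (fun t => _ ≫ t)
      ((Category.assoc _ _ _).symm.trans ((congrArg (fun t => t ≫ _) h3).trans zero_comp))).trans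
        comp_zero))

theorem exact₂ (n : ℕ) : (ShortComplex.mk _ _ (zero₂ h P n)).Exact := by
  refine ShortComplex.exact_of_iso ?_ ((shortExact_res h P).homology_exact₃ n (n + 1) rfl)
  refine (ShortComplex.isoMk (e₂ P n) (P.isoRightDerivedObj F₃ n)
    (P.isoRightDerivedObj F₁ (n + 1)) (comm₂ h P n).symm ?_).symm
  dsimp only [δ]
  simp
  rfl

lemma zero₃ (n : ℕ) :
    δ h P n ≫ biprod.lift ((NatTrans.rightDerived αa (n + 1)).app X)
      ((NatTrans.rightDerived αb (n + 1)).app X) = 0 := by
  have h3 := (shortExact_res h P).δ_comp n (n + 1) rfl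
  rw [← cancel_mono (e₂ (Fa := Fa) (Fb := Fb) P (n + 1)).hom, zero_comp, Category.assoc]
  refine (congrArg (fun t => _ ≫ t) (comm₁ h P (n + 1))).trans ?_
  have h4 : δ h P n ≫ (P.isoRightDerivedObj F₁ (n + 1)).hom =
      (P.isoRightDerivedObj F₃ n).hom ≫ (shortExact_res h P).δ n (n + 1) rfl := by
    dsimp only [δ]
    rw [Category.assoc, Category.assoc]
    erw [Iso.inv_hom_id, Category.comp_id]
    rfl
  exact (Category.assoc _ _ _).symm.trans ((congrArg (fun t => t ≫ _) h4).trans
    ((Category.assoc _ _ _).trans ((congrArg (fun t => _ ≫ t) h3).trans comp_zero)))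

theorem exact₃ (n : ℕ) : (ShortComplex.mk _ _ (zero₃ h P n)).Exact := by
  refine ShortComplex.exact_of_iso ?_ ((shortExact_res h P).homology_exact₁ n (n + 1) rfl)
  refine (ShortComplex.isoMk (P.isoRightDerivedObj F₃ n) (P.isoRightDerivedObj F₁ (n + 1))
    (e₂ P (n + 1)) ?_ (comm₁ h P (n + 1)).symm).symm
  dsimp only [δ]
  simp
  rfl

lemma mono_homologyMap_zero {K L : CochainComplex B ℕ} (φ : K ⟶ L) [Mono (φ.f 0)] :
    Mono (HomologicalComplex.homologyMap φ 0) := by
  have h1 := CochainComplex.isoHomologyπ₀_inv_naturality φ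
  have : Mono (HomologicalComplex.homologyMap φ 0 ≫ L.isoHomologyπ₀.inv) := by
    rw [h1]; infer_instance
  exact mono_of_mono _ L.isoHomologyπ₀.inv

include h P in
theorem mono_zero :
    Mono (biprod.lift ((NatTrans.rightDerived αa 0).app X) ((NatTrans.rightDerived αb 0).app X)) := by
  have hS := shortExact_res h P
  have : Mono (scx h P.cocomplex).f := hS.mono_f
  have : Mono ((scx h P.cocomplex).f.f 0) := inferInstance
  have hm : Mono (HomologicalComplex.homologyMap (scx h P.cocomplex).f 0) :=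
    mono_homologyMap_zero _
  have : Mono (biprod.lift ((NatTrans.rightDerived αa 0).app X)
      ((NatTrans.rightDerived αb 0).app X) ≫ (e₂ (Fa := Fa) (Fb := Fb) P 0).hom) := by
    rw [comm₁ h P 0]
    exact @mono_comp _ _ _ _ _ _ inferInstance _ hm
  exact mono_of_mono _ (e₂ (Fa := Fa) (Fb := Fb) P 0).hom

end LES

end Groth.Agent.Helper24.DerMV
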