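import Mathlib
import Groth.Prelude.Def_Disp2

/-!
# Twisted composition of maps `P → B ⊗_{τ} P` and iterates of `V^#`

`comp φ φ'` for `φ : P → BC τ P`, `φ' : P → BC τ' P` is the composite
`P → BC τ P → BC τ (BC τ' P) → BC (τ ∘ τ') P`.  Bundled in a sigma type `S` it is associative,
and the prelude's `Dieu.vSharpPow Vs n` is the `(n+1)`-st power of `⟨σ, Vs⟩`.
-/

set_option autoImplicit false

namespace Groth.Agent.Helper24.DispComp

open Dieu

universe u v

section General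

variable {A : Type u} [CommRing A] {P : Type v} [AddCommGroup P] [Module A P]

/-- The twist of `ψ : P → BC τ' P` by `τ`: `BC τ P → BC (τ ∘ τ') P`, `b ⊗ x ↦ b • push (ψ x)`. -/
noncomputable def tw (τ : A →+* A) {τ' : A →+* A} (ψ : P →ₗ[A] BC τ' P) :
    BC τ P →ₗ[A] BC (τ.comp τ') P :=
  (BC.lift τ (BC.push τ' τ)).comp (BC.map τ ψ)

lemma tw_tmul (τ : A →+* A) {τ' : A →+* A} (ψ : P →ₗ[A] BC τ' P) (b : A) (x : P) :
    tw τ ψ (BC.tmul τ b x) = b • BC.push τ' τ (ψ x) := by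
  rw [tw, LinearMap.comp_apply, BC.map_tmul, BC.lift_tmul]

/-- Twisted composite. -/
noncomputable def comp {τ τ' : A →+* A} (φ : P →ₗ[A] BC τ P) (φ' : P →ₗ[A] BC τ' P) :
    P →ₗ[A] BC (τ.comp τ') P :=
  (tw τ φ').comp φ

lemma push_push (τ τ' τ'' : A →+* A) (v : BC τ'' P) :
    BC.push (τ'.comp τ'') τ (BC.push τ'' τ' v) = BC.push τ'' (τ.comp τ') v := by
  induction v using BC.induction_on τ'' with
  | zero => rw [map_zero, map_zero, map_zero]
  | tmul d t =>
    rw [BC.push_tmul, BC.push_tmul, BC.push_tmul]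
    rfl
  | add z₁ z₂ h₁ h₂ => rw [map_add, map_add, map_add, h₁, h₂]

lemma tw_push (τ : A →+* A) {τ' τ'' : A →+* A} (φ'' : P →ₗ[A] BC τ'' P) (w : BC τ' P) :
    tw (τ.comp τ') φ'' (BC.push τ' τ w) = BC.push (τ'.comp τ'') τ (tw τ' φ'' w) := by
  induction w using BC.induction_on τ' with
  | zero => rw [map_zero, map_zero, map_zero, map_zero]
  | tmul c u =>
    rw [BC.push_tmul, tw_tmul, tw_tmul, map_smulₛₗ, push_push]
  | add z₁ z₂ h₁ h₂ => rw [map_add, map_add, map_add, map_add, h₁, h₂]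

lemma tw_tw (τ : A →+* A) {τ' τ'' : A →+* A} (φ' : P →ₗ[A] BC τ' P) (φ'' : P →ₗ[A] BC τ'' P)
    (z : BC τ P) :
    tw (τ.comp τ') φ'' (tw τ φ' z) = tw τ ((tw τ' φ'').comp φ') z := by
  induction z using BC.induction_on τ with
  | zero => rw [map_zero, map_zero, map_zero]
  | tmul b y =>
    rw [tw_tmul, tw_tmul, map_smul, tw_push, LinearMap.comp_apply]
  | add z₁ z₂ h₁ h₂ => rw [map_add, map_add, map_add, h₁, h₂]

lemma comp_assoc {τ τ' τ'' : A →+* A} (φ : P →ₗ[A] BC τ P) (φ' : P →ₗ[A] BC τ' P)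
    (φ'' : P →ₗ[A] BC τ'' P) : comp (comp φ φ') φ'' = comp φ (comp φ' φ'') := by
  apply LinearMap.ext
  intro x
  exact tw_tw τ φ' φ'' (φ x)

/-- image of the twist lies in `𝔟.map τ • ⊤`. -/
lemma tw_mem (τ : A →+* A) {τ' : A →+* A} (ψ : P →ₗ[A] BC τ' P) (𝔟 : Ideal A)
    (h : ∀ x, ψ x ∈ 𝔟 • (⊤ : Submodule A (BC τ' P))) (z : BC τ P) :
    tw τ ψ z ∈ (𝔟.map τ) • (⊤ : Submodule A (BC (τ.comp τ') P)) := by
  induction z using BC.induction_on τ with
  | zero => rw [map_zero]; exact Submodule.zero_mem _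
  | tmul b x =>
    rw [tw_tmul]
    apply Submodule.smul_mem
    refine Submodule.smul_induction_on (h x) ?_ ?_
    · intro c hc m _
      rw [map_smulₛₗ]
      exact Submodule.smul_mem_smul (Ideal.mem_map_of_mem τ hc) Submodule.mem_top
    · intro m m' hm hm'
      rw [map_add]
      exact Submodule.add_mem _ hm hm'
  | add z₁ z₂ h₁ h₂ => rw [map_add]; exact Submodule.add_mem _ h₁ h₂

lemma comp_mem {τ τ' : A →+* A} (φ : P →ₗ[A] BC τ P) (φ' : P →ₗ[A] BC τ' P) (𝔞 𝔟 : Ideal A)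
    (h : ∀ x, φ x ∈ 𝔞 • (⊤ : Submodule A (BC τ P)))
    (h' : ∀ x, φ' x ∈ 𝔟 • (⊤ : Submodule A (BC τ' P))) (x : P) :
    comp φ φ' x ∈ (𝔞 * 𝔟.map τ) • (⊤ : Submodule A (BC (τ.comp τ') P)) := by
  show tw τ φ' (φ x) ∈ _
  refine Submodule.smul_induction_on (h x) ?_ ?_
  · intro a ha z _
    rw [map_smul, Submodule.mul_smul]
    exact Submodule.smul_mem_smul ha (tw_mem τ φ' 𝔟 h' z)
  · intro m m' hm hm'
    rw [map_add]
    exact Submodule.add_mem _ hm hm'

variable (A P) in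
/-- Bundled maps `P → BC τ P`. -/
def S := Σ τ : A →+* A, P →ₗ[A] BC τ P

/-- multiplication on `S`. -/
noncomputable def mul (s t : S A P) : S A P := ⟨s.1.comp t.1, comp s.2 t.2⟩

lemma mul_assoc (s t r : S A P) : mul (mul s t) r = mul s (mul t r) := by
  obtain ⟨τ, φ⟩ := s
  obtain ⟨τ', φ'⟩ := t
  obtain ⟨τ'', φ''⟩ := r
  show (⟨(τ.comp τ').comp τ'', comp (comp φ φ') φ''⟩ : S A P) =
    ⟨τ.comp (τ'.comp τ''), comp φ (comp φ' φ'')⟩
  rw [comp_assoc]
  rfl

lemma sigma_cast {g g' : A →+* A} (e : g = g') (φ : P →ₗ[A] BC g P) :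
    (⟨g, φ⟩ : S A P) = ⟨g', (BC.castHom e).comp φ⟩ := by
  subst e
  rfl

/-- Membership of the image in `𝔞 • ⊤`. -/
def InIdeal (𝔞 : Ideal A) (s : S A P) : Prop :=
  ∀ x, s.2 x ∈ 𝔞 • (⊤ : Submodule A (BC s.1 P))

lemma InIdeal.mul {𝔞 𝔟 : Ideal A} {s t : S A P} (hs : InIdeal 𝔞 s) (ht : InIdeal 𝔟 t) :
    InIdeal (𝔞 * 𝔟.map s.1) (mul s t) :=
  fun x => comp_mem s.2 t.2 𝔞 𝔟 hs ht x

lemma InIdeal.mono {𝔞 𝔟 : Ideal A} (h : 𝔞 ≤ 𝔟) {s : S A P} (hs : InIdeal 𝔞 s) : InIdeal 𝔟 s :=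
  fun x => Submodule.smul_mono_left h (hs x)

/-- powers of `⟨σ, Vs⟩`: `pw σ Vs n = ⟨σ,Vs⟩^(n+1)`. -/
noncomputable def pw (σ : A →+* A) (Vs : P →ₗ[A] BC σ P) : ℕ → S A P
  | 0 => ⟨σ, Vs⟩
  | n + 1 => mul ⟨σ, Vs⟩ (pw σ Vs n)

lemma pw_add (σ : A →+* A) (Vs : P →ₗ[A] BC σ P) (a b : ℕ) :
    pw σ Vs (a + b + 1) = mul (pw σ Vs a) (pw σ Vs b) := by
  induction a with
  | zero => rw [Nat.zero_add]; rfl
  | succ a ih =>
    have : a + 1 + b + 1 = (a + b + 1) + 1 := by omega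
    rw [this]
    show mul ⟨σ, Vs⟩ (pw σ Vs (a + b + 1)) = mul (mul ⟨σ, Vs⟩ (pw σ Vs a)) (pw σ Vs b)
    rw [ih]
    exact (mul_assoc _ _ _).symm

end General

section Witt

variable {p : ℕ} [Fact p.Prime] {R : Type u} [CommRing R]
variable {P : Type v} [AddCommGroup P] [Module (WittVector p R) P]

local notation "σ" => (WittVector.frobenius : WittVector p R →+* WittVector p R)

lemma pw_eq (Vs : P →ₗ[WittVector p R] BC σ P) (n : ℕ) :
    pw σ Vs n = ⟨σ ^ (n + 1), vSharpPow Vs n⟩ := by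
  induction n with
  | zero => exact sigma_cast (pow_one σ).symm Vs
  | succ n ih =>
    show mul ⟨σ, Vs⟩ (pw σ Vs n) = _
    rw [ih]
    exact sigma_cast (comp_pow_eq_pow_succ σ (n + 1)) (comp Vs (vSharpPow Vs n))

/-- the ideal `I_R + pW`. -/
noncomputable def J (p : ℕ) [Fact p.Prime] (R : Type u) [CommRing R] : Ideal (WittVector p R) :=
  W4c1extbt610.IV p R ⊔ Ideal.span {(p : WittVector p R)}

lemma map_span_p (τ : WittVector p R →+* WittVector p R) :
    (Ideal.span {(p : WittVector p R)}).map τ = Ideal.span {(p : WittVector p R)} := by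
  rw [Ideal.map_span, Set.image_singleton, map_natCast]

lemma J_map_frobenius : (J p R).map σ ≤ Ideal.span {(p : WittVector p R)} := by
  rw [J, Ideal.map_sup, map_span_p]
  refine sup_le ?_ le_rfl
  rw [W4c1extbt610.IV, Ideal.map_span, Ideal.span_le]
  rintro _ ⟨_, ⟨w, rfl⟩, rfl⟩
  show σ (WittVector.verschiebung w) ∈ _
  rw [WittVector.frobenius_verschiebung]
  exact Ideal.mem_span_singleton'.mpr ⟨w, rfl⟩

lemma J_map_comp (τ τ' : WittVector p R →+* WittVector p R)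
    (h : (J p R).map τ' ≤ Ideal.span {(p : WittVector p R)}) :
    (J p R).map (τ.comp τ') ≤ Ideal.span {(p : WittVector p R)} := by
  rw [← Ideal.map_map]
  exact (Ideal.map_mono h).trans (map_span_p τ).le

lemma J_map_pw (Vs : P →ₗ[WittVector p R] BC σ P) (n : ℕ) :
    (J p R).map (pw σ Vs n).1 ≤ Ideal.span {(p : WittVector p R)} := by
  induction n with
  | zero => exact J_map_frobenius
  | succ n ih => exact J_map_comp σ _ ih

lemma exists_inIdeal (Vs : P →ₗ[WittVector p R] BC σ P) (n₀ : ℕ)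
    (h : InIdeal (J p R) (pw σ Vs n₀)) (k : ℕ) :
    ∃ N, InIdeal (J p R * Ideal.span {(p : WittVector p R)} ^ k) (pw σ Vs N) := by
  induction k with
  | zero => exact ⟨n₀, by rw [pow_zero, Ideal.one_eq_top, Ideal.mul_top]; exact h⟩
  | succ k ih =>
    obtain ⟨N, hN⟩ := ih
    refine ⟨N + n₀ + 1, ?_⟩
    rw [pw_add]
    refine (hN.mul h).mono ?_
    rw [pow_succ, ← _root_.mul_assoc]
    exact Ideal.mul_mono_right (J_map_pw Vs N)

lemma pow_mem_ker_truncate (a : ℕ) (ha : (p : R) ^ a = 0) (n : ℕ) :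
    ((p : WittVector p R) ^ a) ^ n ∈ RingHom.ker (WittVector.truncate (p := p) (R := R) n) := by
  set c : WittVector p R := (p : WittVector p R) ^ a with hc
  have hc0 : c.coeff 0 = 0 := by
    have : WittVector.constantCoeff c = 0 := by
      rw [hc, map_pow, map_natCast, ha]
    exact this
  have hFc : ∀ i : ℕ, (WittVector.frobenius^[i]) c = c := by
    intro i
    apply Function.iterate_fixed
    rw [hc, map_pow, map_natCast]
  induction n with
  | zero =>
    rw [WittVector.mem_ker_truncate]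
    intro i hi
    exact absurd hi (Nat.not_lt_zero i)
  | succ n ih =>
    rw [WittVector.mem_ker_truncate] at ih
    have h1 := WittVector.eq_iterate_verschiebung ih
    have h2 : c ^ (n + 1) = (WittVector.verschiebung^[n]) ((c ^ n).shift n * c) := by
      rw [pow_succ]
      conv_lhs => rw [h1]
      rw [WittVector.iterate_verschiebung_mul_left, hFc]
    have h3 : ((c ^ n).shift n * c).coeff 0 = 0 := by
      rw [WittVector.mul_coeff_zero, hc0, mul_zero]
    have h4 := WittVector.eq_iterate_verschiebung (x := (c ^ n).shift n * c) (n := 1)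
      (by intro i hi; obtain rfl : i = 0 := by omega
          exact h3)
    rw [h4, ← Function.iterate_add_apply] at h2
    rw [WittVector.mem_ker_truncate, h2]
    intro i hi
    exact WittVector.iterate_verschiebung_coeff_eq_zero _ (by omega)

end Witt

end Groth.Agent.Helper24.DispComp
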