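import Mathlib
import Groth.Prelude.Def_Disp2
import Groth.Agent.Lib.Helper24.DispComp

/-!
# Base change of maps `P → BC τ P` along a ring map `φ : A → B`
-/

set_option autoImplicit false

namespace Groth.Agent.Helper24.DispBC

open Dieu Groth.Agent.Helper24.DispComp

universe u v

section General

variable {A B : Type u} [CommRing A] [CommRing B] (φ : A →+* B)
variable {P : Type v} [AddCommGroup P] [Module A P]

/-- `x ↦ 1 ⊗ (1 ⊗ x)`, semilinear for `τ' ∘ φ`. -/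
noncomputable def ιι (τ' : B →+* B) : P →ₛₗ[τ'.comp φ] BC τ' (BC φ P) where
  toFun x := BC.tmul τ' 1 (BC.tmul φ 1 x)
  map_add' x y := by rw [BC.tmul_add, BC.tmul_add]
  map_smul' a x := by
    rw [← BC.tmul_apply_eq φ a x, BC.tmul_eq_smul_tmul_one φ (φ a) x, ← BC.tmul_apply_eq τ',
      BC.tmul_eq_smul_tmul_one τ']
    rfl

/-- `BC (τ' ∘ φ) P → BC τ' (BC φ P)`, `w ⊗ y ↦ w ⊗ (1 ⊗ y)`. -/
noncomputable def unfold (τ' : B →+* B) : BC (τ'.comp φ) P →ₗ[B] BC τ' (BC φ P) :=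
  BC.lift (τ'.comp φ) (ιι φ τ')

lemma unfold_tmul (τ' : B →+* B) (w : B) (y : P) :
    unfold φ τ' (BC.tmul (τ'.comp φ) w y) = BC.tmul τ' w (BC.tmul φ 1 y) := by
  rw [unfold, BC.lift_tmul]
  show w • BC.tmul τ' 1 (BC.tmul φ 1 y) = _
  rw [BC.smul_tmul, mul_one]

/-- `Θ : BC τ P → BC τ' (BC φ P)`, `u ⊗ y ↦ φ u ⊗ (1 ⊗ y)`. -/
noncomputable def Th (τ : A →+* A) (τ' : B →+* B) (e : φ.comp τ = τ'.comp φ) :
    BC τ P →ₛₗ[φ] BC τ' (BC φ P) :=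
  ((unfold φ τ').comp (BC.castHom e)).comp (BC.push τ φ)

lemma Th_tmul (τ : A →+* A) (τ' : B →+* B) (e : φ.comp τ = τ'.comp φ) (u : A) (y : P) :
    Th φ τ τ' e (BC.tmul τ u y) = BC.tmul τ' (φ u) (BC.tmul φ 1 y) := by
  rw [Th, LinearMap.comp_apply, LinearMap.comp_apply, BC.push_tmul, BC.castHom_tmul, unfold_tmul]

lemma Th_mem (τ : A →+* A) (τ' : B →+* B) (e : φ.comp τ = τ'.comp φ) (𝔞 : Ideal A)
    (z : BC τ P) (hz : z ∈ 𝔞 • (⊤ : Submodule A (BC τ P))) :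
    Th φ τ τ' e z ∈ (𝔞.map φ) • (⊤ : Submodule B (BC τ' (BC φ P))) := by
  refine Submodule.smul_induction_on hz ?_ ?_
  · intro c hc m _
    rw [map_smulₛₗ]
    exact Submodule.smul_mem_smul (Ideal.mem_map_of_mem φ hc) Submodule.mem_top
  · intro m m' hm hm'
    rw [map_add]
    exact Submodule.add_mem _ hm hm'

/-- compatibility of `s ∈ S A P` with `s' ∈ S B (BC φ P)`. -/
def Compat (s : S A P) (s' : S B (BC φ P)) : Prop :=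
  ∃ e : φ.comp s.1 = s'.1.comp φ, ∀ x : P, s'.2 (BC.tmul φ 1 x) = Th φ s.1 s'.1 e (s.2 x)

lemma comp_comm {τ₁ τ₂ : A →+* A} {τ₁' τ₂' : B →+* B} (e₁ : φ.comp τ₁ = τ₁'.comp φ)
    (e₂ : φ.comp τ₂ = τ₂'.comp φ) : φ.comp (τ₁.comp τ₂) = (τ₁'.comp τ₂').comp φ := by
  rw [← RingHom.comp_assoc, e₁, RingHom.comp_assoc, e₂, RingHom.comp_assoc]

lemma push_Th {τ₁ τ₂ : A →+* A} {τ₁' τ₂' : B →+* B} (e₁ : φ.comp τ₁ = τ₁'.comp φ)
    (e₂ : φ.comp τ₂ = τ₂'.comp φ) (v : BC τ₂ P) :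
    BC.push τ₂' τ₁' (Th φ τ₂ τ₂' e₂ v) =
      Th φ (τ₁.comp τ₂) (τ₁'.comp τ₂') (comp_comm φ e₁ e₂) (BC.push τ₂ τ₁ v) := by
  induction v using BC.induction_on τ₂ with
  | zero => rw [map_zero, map_zero, map_zero, map_zero]
  | tmul d r =>
    rw [Th_tmul, BC.push_tmul, BC.push_tmul, Th_tmul]
    have : τ₁' (φ d) = φ (τ₁ d) := (RingHom.congr_fun e₁ d).symm
    rw [this]
  | add z₁ z₂ h₁ h₂ => rw [map_add, map_add, map_add, map_add, h₁, h₂]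

lemma tw_Th {τ₁ τ₂ : A →+* A} {τ₁' τ₂' : B →+* B} (e₁ : φ.comp τ₁ = τ₁'.comp φ)
    (e₂ : φ.comp τ₂ = τ₂'.comp φ) (ψ : P →ₗ[A] BC τ₂ P) (ψ' : BC φ P →ₗ[B] BC τ₂' (BC φ P))
    (h : ∀ x : P, ψ' (BC.tmul φ 1 x) = Th φ τ₂ τ₂' e₂ (ψ x)) (z : BC τ₁ P) :
    tw τ₁' ψ' (Th φ τ₁ τ₁' e₁ z) =
      Th φ (τ₁.comp τ₂) (τ₁'.comp τ₂') (comp_comm φ e₁ e₂) (tw τ₁ ψ z) := by
  induction z using BC.induction_on τ₁ with
  | zero => rw [map_zero, map_zero, map_zero, map_zero]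
  | tmul u y =>
    rw [Th_tmul, tw_tmul, tw_tmul, h, push_Th φ e₁ e₂, map_smulₛₗ]
  | add z₁ z₂ h₁ h₂ => rw [map_add, map_add, map_add, map_add, h₁, h₂]

lemma Compat.mul {s t : S A P} {s' t' : S B (BC φ P)} (hs : Compat φ s s') (ht : Compat φ t t') :
    Compat φ (mul s t) (mul s' t') := by
  obtain ⟨e₁, h₁⟩ := hs
  obtain ⟨e₂, h₂⟩ := ht
  refine ⟨comp_comm φ e₁ e₂, fun x => ?_⟩
  show tw s'.1 t'.2 (s'.2 (BC.tmul φ 1 x)) = Th φ _ _ _ (tw s.1 t.2 (s.2 x))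
  rw [h₁, tw_Th φ e₁ e₂ t.2 t'.2 h₂]

lemma Compat.pw {σ : A →+* A} {σ' : B →+* B} {Vs : P →ₗ[A] BC σ P}
    {Vs' : BC φ P →ₗ[B] BC σ' (BC φ P)} (h : Compat φ ⟨σ, Vs⟩ ⟨σ', Vs'⟩) (n : ℕ) :
    Compat φ (pw σ Vs n) (pw σ' Vs' n) := by
  induction n with
  | zero => exact h
  | succ n ih => exact h.mul φ ih

lemma Compat.inIdeal {s : S A P} {s' : S B (BC φ P)} (h : Compat φ s s') {𝔞 : Ideal A}
    (hs : InIdeal 𝔞 s) : InIdeal (𝔞.map φ) s' := by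
  obtain ⟨e, he⟩ := h
  intro z
  induction z using BC.induction_on φ with
  | zero => rw [map_zero]; exact Submodule.zero_mem _
  | tmul b x =>
    rw [BC.tmul_eq_smul_tmul_one, map_smul, he]
    exact Submodule.smul_mem _ _ (Th_mem φ _ _ e 𝔞 _ (hs x))
  | add z₁ z₂ h₁ h₂ => rw [map_add]; exact Submodule.add_mem _ h₁ h₂

/-- The base change of `Vs : P → BC σ P` to `BC φ P → BC σ' (BC φ P)`. -/
noncomputable def bcV (σ : A →+* A) (σ' : B →+* B) (e : φ.comp σ = σ'.comp φ)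
    (Vs : P →ₗ[A] BC σ P) : BC φ P →ₗ[B] BC σ' (BC φ P) :=
  BC.lift φ ((Th φ σ σ' e).comp Vs)

lemma bcV_tmul (σ : A →+* A) (σ' : B →+* B) (e : φ.comp σ = σ'.comp φ)
    (Vs : P →ₗ[A] BC σ P) (b : B) (x : P) :
    bcV φ σ σ' e Vs (BC.tmul φ b x) = b • Th φ σ σ' e (Vs x) := by
  rw [bcV, BC.lift_tmul]
  rfl

lemma bcV_compat (σ : A →+* A) (σ' : B →+* B) (e : φ.comp σ = σ'.comp φ)
    (Vs : P →ₗ[A] BC σ P) : Compat φ ⟨σ, Vs⟩ ⟨σ', bcV φ σ σ' e Vs⟩ :=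
  ⟨e, fun x => by rw [bcV_tmul, one_smul]⟩

end General

end Groth.Agent.Helper24.DispBC
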