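import Mathlib
import Groth.Prelude.Def_Disp2

/-!
# Semilinear base change, functoriality of `BC.map`, finiteness/projectivity of `BC φ P`,
# and the inverse of the Verschiebung on its image.
-/

set_option autoImplicit false

namespace Groth.Agent.Helper24.DispSemi

open Dieu

universe u v

section Tw

variable {W : Type u} [CommRing W]

/-- `M` with scalars acting through `τ'`. -/
@[nolint unusedArguments]
def Tw (_τ' : W →+* W) (M : Type v) : Type v := M

variable (τ' : W →+* W) (M : Type v) [AddCommGroup M] [Module W M]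

instance : AddCommGroup (Tw τ' M) := inferInstanceAs (AddCommGroup M)

instance : Module W (Tw τ' M) := Module.compHom M τ'

end Tw

section Functor

variable {A B : Type u} [CommRing A] [CommRing B] (g : A →+* B)
variable {P P' P'' : Type v} [AddCommGroup P] [Module A P] [AddCommGroup P'] [Module A P']
  [AddCommGroup P''] [Module A P'']

lemma bcMap_comp (ψ₁ : P' →ₗ[A] P'') (ψ₂ : P →ₗ[A] P') :
    BC.map g (ψ₁ ∘ₗ ψ₂) = BC.map g ψ₁ ∘ₗ BC.map g ψ₂ := by
  apply BC.ext
  intro x
  rw [LinearMap.comp_apply, BC.map_tmul, BC.map_tmul, BC.map_tmul, LinearMap.comp_apply]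

lemma bcMap_id : BC.map g (LinearMap.id : P →ₗ[A] P) = LinearMap.id := by
  apply BC.ext
  intro x
  rw [BC.map_tmul, LinearMap.id_apply, LinearMap.id_apply]

lemma bcMap_add (ψ₁ ψ₂ : P →ₗ[A] P') : BC.map g (ψ₁ + ψ₂) = BC.map g ψ₁ + BC.map g ψ₂ := by
  apply BC.ext
  intro x
  rw [LinearMap.add_apply, BC.map_tmul, BC.map_tmul, BC.map_tmul, LinearMap.add_apply, BC.tmul_add]

lemma bcMap_zero : BC.map g (0 : P →ₗ[A] P') = 0 := by
  apply BC.ext
  intro x
  rw [BC.map_tmul, LinearMap.zero_apply, LinearMap.zero_apply, BC.tmul_zero]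

/-- base change of a linear functional. -/
noncomputable def bcFun (l : P →ₗ[A] A) : BC g P →ₗ[B] B :=
  BC.lift g ((semilinearOfRingHom g).comp l)

lemma bcFun_tmul (l : P →ₗ[A] A) (b : B) (x : P) : bcFun g l (BC.tmul g b x) = b * g (l x) := by
  rw [bcFun, BC.lift_tmul]
  rfl

lemma tmul_sum {ι : Type*} (s : Finset ι) (b : B) (x : ι → P) :
    BC.tmul g b (∑ i ∈ s, x i) = ∑ i ∈ s, BC.tmul g b (x i) := by
  classical
  induction s using Finset.induction_on with
  | empty => simp
  | insert a s ha ih => rw [Finset.sum_insert ha, Finset.sum_insert ha, BC.tmul_add, ih]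

/-- dual-basis expansion in `BC g P`. -/
lemma dual_expand {n : ℕ} (f : (Fin n → A) →ₗ[A] P) (γ : P →ₗ[A] Fin n → A)
    (hfg : f ∘ₗ γ = LinearMap.id) (z : BC g P) :
    z = ∑ j : Fin n, bcFun g ((LinearMap.proj j).comp γ) z • BC.tmul g 1 (f (Pi.single j 1)) := by
  have hx : ∀ x : P, x = ∑ j : Fin n, (γ x j) • f (Pi.single j 1) := by
    intro x
    have h1 : f (γ x) = x := LinearMap.congr_fun hfg x
    conv_lhs => rw [← h1, ← Finset.univ_sum_single (γ x), map_sum]
    refine Finset.sum_congr rfl fun j _ => ?_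
    rw [← map_smul]
    congr 1
    ext i
    simp [Pi.single_apply]
  induction z using BC.induction_on g with
  | zero => simp
  | tmul b x =>
    conv_lhs => rw [hx x, tmul_sum]
    refine Finset.sum_congr rfl fun j _ => ?_
    rw [bcFun_tmul, BC.smul_tmul, mul_one, ← BC.tmul_mul_apply]
    rfl
  | add z₁ z₂ h₁ h₂ =>
    conv_lhs => rw [h₁, h₂, ← Finset.sum_add_distrib]
    refine Finset.sum_congr rfl fun j _ => ?_
    rw [map_add, add_smul]

lemma finite_projective_BC [Module.Finite A P] [Module.Projective A P] :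
    Module.Finite B (BC g P) ∧ Module.Projective B (BC g P) := by
  obtain ⟨n, f, γ, -, -, hfg⟩ := Module.Finite.exists_comp_eq_id_of_projective A P
  let i : BC g P →ₗ[B] (Fin n → B) := LinearMap.pi fun j => bcFun g ((LinearMap.proj j).comp γ)
  let s : (Fin n → B) →ₗ[B] BC g P :=
    ∑ j : Fin n, (LinearMap.proj j).smulRight (BC.tmul g 1 (f (Pi.single j 1)))
  have hsi : s ∘ₗ i = LinearMap.id := by
    apply LinearMap.ext
    intro z
    rw [LinearMap.comp_apply, LinearMap.id_apply]
    conv_rhs => rw [dual_expand g f γ hfg z]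
    simp [s, i]
  have hsurj : Function.Surjective s := fun z => ⟨i z, LinearMap.congr_fun hsi z⟩
  exact ⟨Module.Finite.of_surjective s hsurj, Module.Projective.of_split i s hsi⟩

end Functor

section Semi

variable {A B : Type u} [CommRing A] [CommRing B] (φ : A →+* B) (σA : A →+* A) (σB : B →+* B)
  (e : φ.comp σA = σB.comp φ)
variable {P P' : Type v} [AddCommGroup P] [Module A P] [AddCommGroup P'] [Module A P']

/-- auxiliary: `x ↦ 1 ⊗ G x` as a `φ`-semilinear map into the twisted module. -/
noncomputable def bcSemiAux (G : P →ₛₗ[σA] P') : P →ₛₗ[φ] Tw σB (BC φ P') where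
  toFun x := (BC.tmul φ 1 (G x) : BC φ P')
  map_add' x y := by
    show BC.tmul φ 1 (G (x + y)) = BC.tmul φ 1 (G x) + BC.tmul φ 1 (G y)
    rw [map_add, BC.tmul_add]
  map_smul' a x := by
    show BC.tmul φ 1 (G (a • x)) = σB (φ a) • BC.tmul φ 1 (G x)
    rw [map_smulₛₗ, ← BC.tmul_apply_eq, BC.tmul_eq_smul_tmul_one]
    have : φ (σA a) = σB (φ a) := RingHom.congr_fun e a
    rw [this]

/-- semilinear base change: `w ⊗ x ↦ σ w ⊗ G x`. -/
noncomputable def bcSemi (G : P →ₛₗ[σA] P') : BC φ P →ₛₗ[σB] BC φ P' where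
  toFun z := (BC.lift φ (bcSemiAux φ σA σB e G) z : Tw σB (BC φ P'))
  map_add' z z' := map_add (BC.lift φ (bcSemiAux φ σA σB e G)) z z'
  map_smul' c z := map_smul (BC.lift φ (bcSemiAux φ σA σB e G)) c z

lemma bcSemi_tmul (G : P →ₛₗ[σA] P') (b : B) (x : P) :
    bcSemi φ σA σB e G (BC.tmul φ b x) = BC.tmul φ (σB b) (G x) := by
  show (BC.lift φ (bcSemiAux φ σA σB e G) (BC.tmul φ b x) : Tw σB (BC φ P')) = _
  rw [BC.lift_tmul]
  show σB b • BC.tmul φ 1 (G x) = _
  rw [BC.smul_tmul, mul_one]

end Semi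

section Witt

variable {p : ℕ} [Fact p.Prime] {R : Type u} [CommRing R]

lemma V_shift (a : WittVector p R) (ha : a.coeff 0 = 0) :
    WittVector.verschiebung (a.shift 1) = a := by
  have := WittVector.eq_iterate_verschiebung (x := a) (n := 1)
    (by intro i hi; obtain rfl : i = 0 := by omega
        exact ha)
  rw [Function.iterate_one] at this
  exact this.symm

lemma shift_V (u : WittVector p R) : (WittVector.verschiebung u).shift 1 = u :=
  WittVector.verschiebung_injective _ _
    (V_shift _ (WittVector.verschiebung_coeff_zero u))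

lemma shift_add (a b : WittVector p R) (ha : a.coeff 0 = 0) (hb : b.coeff 0 = 0) :
    (a + b).shift 1 = a.shift 1 + b.shift 1 := by
  apply WittVector.verschiebung_injective
  rw [map_add, V_shift a ha, V_shift b hb, V_shift]
  rw [WittVector.add_coeff_zero, ha, hb, add_zero]

lemma shift_mul (c a : WittVector p R) (ha : a.coeff 0 = 0) :
    (c * a).shift 1 = WittVector.frobenius c * a.shift 1 := by
  apply WittVector.verschiebung_injective
  rw [mul_comm (WittVector.frobenius c), WittVector.verschiebung_mul_frobenius, V_shift a ha,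
    V_shift, mul_comm]
  rw [WittVector.mul_coeff_zero, ha, mul_zero]

lemma mem_IV_iff (a : WittVector p R) : a ∈ W4c1extbt610.IV p R ↔ a.coeff 0 = 0 := by
  constructor
  · intro h
    refine Submodule.span_induction ?_ ?_ ?_ ?_ h
    · rintro _ ⟨w, rfl⟩
      exact WittVector.verschiebung_coeff_zero w
    · exact WittVector.zero_coeff p R 0
    · intro x y _ _ hx hy
      rw [WittVector.add_coeff_zero, hx, hy, add_zero]
    · intro c x _ hx
      rw [smul_eq_mul, WittVector.mul_coeff_zero, hx, mul_zero]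
  · intro h
    rw [← V_shift a h]
    exact W4c1extbt610.verschiebung_mem_IV p R _

end Witt

end Groth.Agent.Helper24.DispSemi
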