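import Mathlib
import Groth.Prelude.Def_Disp2
import Groth.Agent.Lib.Helper24.DispComp
import Groth.Agent.Lib.Helper24.DispSemi

/-!
# Matrix description of maps `P → BC τ P` for a free module `P`
-/

set_option autoImplicit false

namespace Groth.Agent.Helper24.DispMat

open Dieu Groth.Agent.Helper24.DispComp Groth.Agent.Helper24.DispSemi

universe u v w

section General

variable {A : Type u} [CommRing A] {P : Type v} [AddCommGroup P] [Module A P]
variable {ι : Type w} [Fintype ι] [DecidableEq ι] (e : Module.Basis ι A P)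

lemma sum_tmul {κ : Type*} (τ : A →+* A) (s : Finset κ) (b : κ → A) (x : P) :
    BC.tmul τ (∑ i ∈ s, b i) x = ∑ i ∈ s, BC.tmul τ (b i) x := by
  classical
  induction s using Finset.induction_on with
  | empty => simp
  | insert a s ha ih => rw [Finset.sum_insert ha, Finset.sum_insert ha, BC.add_tmul, ih]

/-- The map `P → BC τ P` with matrix `M` in the basis `e`. -/
noncomputable def ofMat (τ : A →+* A) (M : Matrix ι ι A) : P →ₗ[A] BC τ P :=
  e.constr A (fun i => ∑ c, BC.tmul τ (M c i) (e c))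

lemma ofMat_basis (τ : A →+* A) (M : Matrix ι ι A) (i : ι) :
    ofMat e τ M (e i) = ∑ c, BC.tmul τ (M c i) (e c) := e.constr_basis ..

/-- Coordinate functionals on `BC τ P`. -/
noncomputable def coordBC (τ : A →+* A) (c : ι) : BC τ P →ₗ[A] A := bcFun τ (e.coord c)

lemma coordBC_tmul (τ : A →+* A) (c : ι) (b : A) (x : P) :
    coordBC e τ c (BC.tmul τ b x) = b * τ (e.repr x c) := by
  rw [coordBC, bcFun_tmul]
  rfl

lemma coordBC_ofMat (τ : A →+* A) (M : Matrix ι ι A) (c i : ι) :
    coordBC e τ c (ofMat e τ M (e i)) = M c i := by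
  rw [ofMat_basis, map_sum]
  simp only [coordBC_tmul, Module.Basis.repr_self, Finsupp.single_apply]
  rw [Finset.sum_eq_single c]
  · simp
  · intro b _ hb
    simp [hb]
  · intro h
    exact absurd (Finset.mem_univ c) h

lemma apply_mem_of_mem_smul_top {N : Type*} [AddCommGroup N] [Module A N] (f : N →ₗ[A] A)
    (𝔞 : Ideal A) (z : N) (hz : z ∈ 𝔞 • (⊤ : Submodule A N)) : f z ∈ 𝔞 := by
  refine Submodule.smul_induction_on hz ?_ ?_
  · intro a ha n _
    rw [map_smul, smul_eq_mul]
    exact Ideal.mul_mem_right _ _ ha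
  · intro x y hx hy
    rw [map_add]
    exact Ideal.add_mem _ hx hy

lemma ofMat_mem_iff (τ : A →+* A) (M : Matrix ι ι A) (𝔞 : Ideal A) :
    (∀ x, ofMat e τ M x ∈ 𝔞 • (⊤ : Submodule A (BC τ P))) ↔ ∀ c i, M c i ∈ 𝔞 := by
  constructor
  · intro h c i
    rw [← coordBC_ofMat e τ M c i]
    exact apply_mem_of_mem_smul_top _ 𝔞 _ (h (e i))
  · intro h x
    rw [← e.sum_repr x, map_sum]
    refine Submodule.sum_mem _ fun i _ => ?_
    rw [map_smul, ofMat_basis]
    refine Submodule.smul_mem _ _ (Submodule.sum_mem _ fun c _ => ?_)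
    rw [BC.tmul_eq_smul_tmul_one]
    exact Submodule.smul_mem_smul (h c i) Submodule.mem_top

lemma comp_ofMat (τ τ' : A →+* A) (M M' : Matrix ι ι A) :
    comp (ofMat e τ M) (ofMat e τ' M') = ofMat e (τ.comp τ') ((M'.map τ) * M) := by
  apply e.ext
  intro i
  show tw τ (ofMat e τ' M') (ofMat e τ M (e i)) = _
  rw [ofMat_basis, ofMat_basis, map_sum]
  simp only [tw_tmul, ofMat_basis, map_sum, BC.push_tmul, Finset.smul_sum, BC.smul_tmul]
  rw [Finset.sum_comm]
  refine Finset.sum_congr rfl fun d _ => ?_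
  rw [Matrix.mul_apply, sum_tmul]
  refine Finset.sum_congr rfl fun c _ => ?_
  rw [Matrix.map_apply, mul_comm]

/-- A bundled map has matrix `M`. -/
def IsMat (s : S A P) (M : Matrix ι ι A) : Prop := s.2 = ofMat e s.1 M

lemma IsMat.mul {s t : S A P} {M M' : Matrix ι ι A} (hs : IsMat e s M) (ht : IsMat e t M') :
    IsMat e (mul s t) ((M'.map s.1) * M) := by
  obtain ⟨τ, φ⟩ := s
  obtain ⟨τ', φ'⟩ := t
  have hs' : φ = ofMat e τ M := hs
  have ht' : φ' = ofMat e τ' M' := ht
  subst hs' ht'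
  exact comp_ofMat e τ τ' M M'

/-- The matrix of the iterates. -/
def matPow (σ : A →+* A) (M : Matrix ι ι A) : ℕ → Matrix ι ι A
  | 0 => M
  | n + 1 => ((matPow σ M n).map σ) * M

lemma isMat_pw (σ : A →+* A) (M : Matrix ι ι A) (n : ℕ) :
    IsMat e (pw σ (ofMat e σ M) n) (matPow σ M n) := by
  induction n with
  | zero => rfl
  | succ n ih =>
    show IsMat e (mul ⟨σ, ofMat e σ M⟩ (pw σ (ofMat e σ M) n)) _
    exact IsMat.mul e (s := ⟨σ, ofMat e σ M⟩) rfl ih

end General

section Witt

variable {p : ℕ} [Fact p.Prime] {R : Type u} [CommRing R]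
variable {P : Type v} [AddCommGroup P] [Module (WittVector p R) P]
variable {ι : Type w} [Fintype ι] [DecidableEq ι] (e : Module.Basis ι (WittVector p R) P)

local notation "σ" => (WittVector.frobenius : WittVector p R →+* WittVector p R)

lemma vSharpPow_ofMat (M : Matrix ι ι (WittVector p R)) (n : ℕ) :
    vSharpPow (ofMat e σ M) n = ofMat e (σ ^ (n + 1)) (matPow σ M n) := by
  have h := isMat_pw e σ M n
  rw [pw_eq] at h
  exact h

lemma isVNilpotent_ofMat_iff (M : Matrix ι ι (WittVector p R)) :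
    IsVNilpotent (ofMat e σ M) ↔ ∃ n, ∀ c i, matPow σ M n c i ∈ J p R := by
  unfold IsVNilpotent
  refine exists_congr fun n => ?_
  rw [vSharpPow_ofMat]
  exact ofMat_mem_iff e (σ ^ (n + 1)) (matPow σ M n) (J p R)

end Witt

end Groth.Agent.Helper24.DispMat
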