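import Mathlib
import Groth.Prelude.Def_EtCore
import Groth.Agent.S0101
import Groth.Agent.Lib.Helper24.ExtRetract

/-!
# Etale cohomology along a morphism with a section: retractions
-/

set_option autoImplicit false

open CategoryTheory CategoryTheory.Limits AlgebraicGeometry Opposite

namespace Groth.Agent.Helper24.EtDesc

universe u

noncomputable instance pull_pfl {X Y : Scheme.{u}} (f : X ⟶ Y) :
    PreservesFiniteLimits (EtCoh.pull f) := Groth.Agent.S0101.result f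

/-- base change along the identity -/
noncomputable def bcId (X : Scheme.{u}) : EtCoh.bc (𝟙 X) ≅ 𝟭 X.Etale :=
  (MorphismProperty.Over.mapPullbackAdj EtCoh.etaleMP ⊤ (𝟙 X)
    (inferInstanceAs (Etale (𝟙 X))) trivial).rightAdjointUniq
    (Adjunction.id.ofNatIsoLeft
      (MorphismProperty.Over.mapId (P := EtCoh.etaleMP) (Q := ⊤) X).symm)

noncomputable def pushId (X : Scheme.{u}) : EtCoh.push (𝟙 X) ≅ 𝟭 (EtCoh.Ab X) :=
  Functor.sheafPushforwardContinuousId' (bcId X) AddCommGrpCat.{u+1} X.smallEtaleTopology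

noncomputable def pullId (X : Scheme.{u}) : EtCoh.pull (𝟙 X) ≅ 𝟭 (EtCoh.Ab X) :=
  Adjunction.leftAdjointUniq (EtCoh.pullPushAdj (𝟙 X))
    ((Adjunction.id).ofNatIsoRight (pushId X).symm)

section Retract

variable {T T' : Scheme.{u}} (π : T' ⟶ T) (σ : T ⟶ T') (hσ : σ ≫ π = 𝟙 T)

/-- `π⁻¹` followed by `σ⁻¹` is the identity -/
noncomputable def tau : EtCoh.pull π ⋙ EtCoh.pull σ ≅ 𝟭 (EtCoh.Ab T) :=
  (EtCore.pullComp σ π).symm ≪≫ EtCore.pullCongr hσ ≪≫ pullId T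

include hσ in
theorem exists_retract (G : EtCoh.Ab T) (G' : EtCoh.Ab T')
    (φ : (EtCoh.pull π).obj G ≅ G') (q : ℕ) :
    ∃ (i : AddCommGrpCat.of (EtCoh.H T G q) ⟶ AddCommGrpCat.of (EtCoh.H T' G' q))
      (r : AddCommGrpCat.of (EtCoh.H T' G' q) ⟶ AddCommGrpCat.of (EtCoh.H T G q)),
      i ≫ r = 𝟙 _ := by
  let a := (EtCore.pullConstIso π).app (AddCommGrpCat.of (ULift.{u + 1} ℤ))
  refine ⟨AddCommGrpCat.ofHom ((Sheaf.H.map φ.hom q).comp
      (ExtRetract.incl (EtCoh.pull π) a G q)),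
    AddCommGrpCat.ofHom ((ExtRetract.retr (EtCoh.pull π) (EtCoh.pull σ) (tau π σ hσ) a G q).comp
      (Sheaf.H.map φ.inv q)), ?_⟩
  ext x
  show ExtRetract.retr (EtCoh.pull π) (EtCoh.pull σ) (tau π σ hσ) a G q
    (Sheaf.H.map φ.inv q (Sheaf.H.map φ.hom q (ExtRetract.incl (EtCoh.pull π) a G q x))) = x
  rw [← Sheaf.H.map_comp_apply, φ.hom_inv_id, Sheaf.H.map_id_apply]
  exact ExtRetract.retr_incl (EtCoh.pull π) (EtCoh.pull σ) (tau π σ hσ) a G q x

end Retract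

end Groth.Agent.Helper24.EtDesc
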