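import Mathlib

open CategoryTheory CategoryTheory.Limits CategoryTheory.Abelian
universe w w' v u
namespace Groth.Agent.Helper24.ExtMV

section Crit
variable {A : Type u} [Category.{v} A] [Abelian A] [EnoughInjectives A]

/-- A short complex is short exact as soon as `Hom(-, I)` turns it into a short exact sequence
for every injective `I`. -/
theorem shortExact_of_hom (S : ShortComplex A)
    (h1 : ∀ (I : A) [Injective I] (φ : S.X₃ ⟶ I), S.g ≫ φ = 0 → φ = 0)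
    (h2 : ∀ (I : A) [Injective I] (ψ : S.X₂ ⟶ I), S.f ≫ ψ = 0 → ∃ φ : S.X₃ ⟶ I, S.g ≫ φ = ψ)
    (h3 : ∀ (I : A) [Injective I] (χ : S.X₁ ⟶ I), ∃ ψ : S.X₂ ⟶ I, S.f ≫ ψ = χ) :
    S.ShortExact := by
  have hepi : Epi S.g := by
    apply Preadditive.epi_of_cancel_zero
    intro Z φ hφ
    have := h1 (Injective.under Z) (φ ≫ Injective.ι Z) (by rw [← Category.assoc, hφ, zero_comp])
    exact (cancel_mono (Injective.ι Z)).1 (this.trans zero_comp.symm)
  have hmono : Mono S.f := by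
    apply Preadditive.mono_of_cancel_zero
    intro Z a ha
    obtain ⟨ψ, hψ⟩ := h3 (Injective.under S.X₁) (Injective.ι S.X₁)
    have : a ≫ Injective.ι S.X₁ = 0 := by rw [← hψ, ← Category.assoc, ha, zero_comp]
    exact (cancel_mono (Injective.ι S.X₁)).1 (this.trans zero_comp.symm)
  have hex : S.Exact := by
    rw [S.exact_iff_kernel_ι_comp_cokernel_π_zero]
    obtain ⟨φ, hφ⟩ := h2 (Injective.under (cokernel S.f)) (cokernel.π S.f ≫ Injective.ι _)
      (by rw [← Category.assoc, cokernel.condition, zero_comp])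
    have : (kernel.ι S.g ≫ cokernel.π S.f) ≫ Injective.ι (cokernel S.f) = 0 := by
      rw [Category.assoc, ← hφ, ← Category.assoc, kernel.condition, zero_comp]
    exact (cancel_mono (Injective.ι (cokernel S.f))).1 (this.trans zero_comp.symm)
  exact { exact := hex, mono_f := hmono, epi_g := hepi }

end Crit

section MV
variable {A : Type u} [Category.{v} A] [Abelian A] [HasExt.{w} A]
variable {P₁ Pa Pb P₃ : A} (εa : Pa ⟶ P₁) (εb : Pb ⟶ P₁) (κa : P₃ ⟶ Pa) (κb : P₃ ⟶ Pb)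
  (hw : κa ≫ εa = κb ≫ εb)

/-- the Mayer-Vietoris short complex `P₃ ⟶ Pa ⊞ Pb ⟶ P₁` -/
noncomputable def mvSC : ShortComplex A :=
  ShortComplex.mk (biprod.lift κa (-κb)) (biprod.desc εa εb) (by
    rw [biprod.lift_desc, Preadditive.neg_comp, hw, add_neg_cancel])

variable {εa εb κa κb hw}
variable {F : A}

omit [HasExt.{w} A] in
lemma mvSC_f : (mvSC εa εb κa κb hw).f = biprod.lift κa (-κb) := rfl
omit [HasExt.{w} A] in
lemma mvSC_g : (mvSC εa εb κa κb hw).g = biprod.desc εa εb := rfl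

lemma g_comp_eq_zero_iff {n : ℕ} (x : Ext.{w} P₁ F n) :
    (Ext.mk₀ (biprod.desc εa εb)).comp x (zero_add n) = 0 ↔
      (Ext.mk₀ εa).comp x (zero_add n) = 0 ∧ (Ext.mk₀ εb).comp x (zero_add n) = 0 := by
  constructor
  · intro h
    constructor
    · have := congrArg (fun y => (Ext.mk₀ biprod.inl).comp y (zero_add n)) h
      simpa [Ext.mk₀_comp_mk₀_assoc] using this
    · have := congrArg (fun y => (Ext.mk₀ biprod.inr).comp y (zero_add n)) h
      simpa [Ext.mk₀_comp_mk₀_assoc] using this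
  · rintro ⟨h1, h2⟩
    apply Ext.biprod_ext
    · simpa [Ext.mk₀_comp_mk₀_assoc] using h1
    · simpa [Ext.mk₀_comp_mk₀_assoc] using h2

lemma g_comp_eq {n : ℕ} (x : Ext.{w} P₁ F n) (y : Ext.{w} (Pa ⊞ Pb) F n) :
    (Ext.mk₀ (biprod.desc εa εb)).comp x (zero_add n) = y ↔
      (Ext.mk₀ εa).comp x (zero_add n) = (Ext.mk₀ biprod.inl).comp y (zero_add n) ∧
      (Ext.mk₀ εb).comp x (zero_add n) = (Ext.mk₀ biprod.inr).comp y (zero_add n) := by
  constructor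
  · rintro rfl
    constructor <;> simp [Ext.mk₀_comp_mk₀_assoc]
  · rintro ⟨h1, h2⟩
    apply Ext.biprod_ext
    · simpa [Ext.mk₀_comp_mk₀_assoc] using h1
    · simpa [Ext.mk₀_comp_mk₀_assoc] using h2

lemma f_comp {n : ℕ} (y : Ext.{w} (Pa ⊞ Pb) F n) :
    (Ext.mk₀ (biprod.lift κa (-κb))).comp y (zero_add n) =
      (Ext.mk₀ κa).comp ((Ext.mk₀ biprod.inl).comp y (zero_add n)) (zero_add n) -
      (Ext.mk₀ κb).comp ((Ext.mk₀ biprod.inr).comp y (zero_add n)) (zero_add n) := by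
  rw [biprod.lift_eq, Ext.mk₀_add, Ext.add_comp, Preadditive.neg_comp, Ext.mk₀_neg, Ext.neg_comp,
    ← sub_eq_add_neg, Ext.mk₀_comp_mk₀_assoc, Ext.mk₀_comp_mk₀_assoc]

variable (hS : (mvSC εa εb κa κb hw).ShortExact)
include hS

/-- the extension class of the Mayer-Vietoris sequence -/
noncomputable def cls : Ext.{w} P₁ P₃ 1 := hS.extClass

lemma ex1 {n : ℕ} (x₁ : Ext.{w} P₃ F n) (hx₁ : (cls hS).comp x₁ (show 1 + n = n + 1 by omega) = 0) :
    ∃ y : Ext.{w} (Pa ⊞ Pb) F n, (Ext.mk₀ (biprod.lift κa (-κb))).comp y (zero_add n) = x₁ :=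
  Ext.contravariant_sequence_exact₁ hS F x₁ (show 1 + n = n + 1 by omega) hx₁

lemma ex2 {n : ℕ} (y : Ext.{w} (Pa ⊞ Pb) F n)
    (hy : (Ext.mk₀ (biprod.lift κa (-κb))).comp y (zero_add n) = 0) :
    ∃ x : Ext.{w} P₁ F n, (Ext.mk₀ (biprod.desc εa εb)).comp x (zero_add n) = y :=
  Ext.contravariant_sequence_exact₂ hS F y hy

lemma ex3 {n : ℕ} (x : Ext.{w} P₁ F (n + 1))
    (hx : (Ext.mk₀ (biprod.desc εa εb)).comp x (zero_add (n + 1)) = 0) :
    ∃ x₁ : Ext.{w} P₃ F n, (cls hS).comp x₁ (show 1 + n = n + 1 by omega) = x :=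
  Ext.contravariant_sequence_exact₃ hS F x hx (show 1 + n = n + 1 by omega)

lemma z1 {n : ℕ} (x₁ : Ext.{w} P₃ F n) :
    (Ext.mk₀ (biprod.desc εa εb)).comp ((cls hS).comp x₁ (show 1 + n = n + 1 by omega))
      (zero_add (n + 1)) = 0 :=
  hS.comp_extClass_assoc x₁ _

lemma z3 {n : ℕ} (y : Ext.{w} (Pa ⊞ Pb) F n) :
    (cls hS).comp ((Ext.mk₀ (biprod.lift κa (-κb))).comp y (zero_add n))
      (show 1 + n = n + 1 by omega) = 0 :=
  hS.extClass_comp_assoc y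

omit hS in
include hw in
lemma z2 {n : ℕ} (x : Ext.{w} P₁ F n) :
    (Ext.mk₀ (biprod.lift κa (-κb))).comp ((Ext.mk₀ (biprod.desc εa εb)).comp x (zero_add n))
      (zero_add n) = 0 := by
  rw [Ext.mk₀_comp_mk₀_assoc]
  have h0 : biprod.lift κa (-κb) ≫ biprod.desc εa εb = 0 := (mvSC εa εb κa κb hw).zero
  rw [h0, Ext.mk₀_zero, Ext.zero_comp]

/-- Mayer-Vietoris for `Ext`, transported along arbitrary additive identifications. -/
theorem ext_mv (F : A) {HU HV HW : ℕ → Type w'} [∀ n, AddCommGroup (HU n)] [∀ n, AddCommGroup (HV n)]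
    [∀ n, AddCommGroup (HW n)]
    (ΦU : ∀ n, Ext.{w} Pa F n ≃+ HU n) (ΦV : ∀ n, Ext.{w} Pb F n ≃+ HV n)
    (ΦW : ∀ n, Ext.{w} P₃ F n ≃+ HW n)
    (pU : ∀ n, Ext.{w} P₁ F n →+ HU n) (pV : ∀ n, Ext.{w} P₁ F n →+ HV n)
    (qU : ∀ n, HU n →+ HW n) (qV : ∀ n, HV n →+ HW n)
    (hpU : ∀ n x, pU n x = ΦU n ((Ext.mk₀ εa).comp x (zero_add n)))
    (hpV : ∀ n x, pV n x = ΦV n ((Ext.mk₀ εb).comp x (zero_add n)))
    (hqU : ∀ n y, qU n (ΦU n y) = ΦW n ((Ext.mk₀ κa).comp y (zero_add n)))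
    (hqV : ∀ n y, qV n (ΦV n y) = ΦW n ((Ext.mk₀ κb).comp y (zero_add n))) :
    ∃ δ : ∀ n : ℕ, HW n →+ Ext.{w} P₁ F (n + 1),
      ((pU 0).prod (pV 0)).ker = ⊥ ∧
      (∀ n : ℕ, ((pU (n + 1)).prod (pV (n + 1))).ker = (δ n).range) ∧
      (∀ n : ℕ, ((qU n).comp (AddMonoidHom.fst _ _) - (qV n).comp (AddMonoidHom.snd _ _)).ker =
        ((pU n).prod (pV n)).range) ∧
      (∀ n : ℕ, (δ n).ker =
        ((qU n).comp (AddMonoidHom.fst _ _) - (qV n).comp (AddMonoidHom.snd _ _)).range) := by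
  have hepi : Epi (biprod.desc εa εb) := hS.epi_g
  -- key facts
  have key_p : ∀ n (x : Ext.{w} P₁ F n), (pU n).prod (pV n) x = 0 ↔
      (Ext.mk₀ (biprod.desc εa εb)).comp x (zero_add n) = 0 := by
    intro n x
    rw [g_comp_eq_zero_iff, AddMonoidHom.prod_apply, Prod.mk_eq_zero, hpU, hpV,
      EmbeddingLike.map_eq_zero_iff, EmbeddingLike.map_eq_zero_iff]
  have key_q : ∀ n (y : Ext.{w} (Pa ⊞ Pb) F n),
      qU n (ΦU n ((Ext.mk₀ biprod.inl).comp y (zero_add n))) -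
        qV n (ΦV n ((Ext.mk₀ biprod.inr).comp y (zero_add n))) =
      ΦW n ((Ext.mk₀ (biprod.lift κa (-κb))).comp y (zero_add n)) := by
    intro n y
    rw [hqU, hqV, f_comp, map_sub]
  have key_d : ∀ n (a' : HU n) (b' : HV n), ∃ y : Ext.{w} (Pa ⊞ Pb) F n,
      a' = ΦU n ((Ext.mk₀ biprod.inl).comp y (zero_add n)) ∧
      b' = ΦV n ((Ext.mk₀ biprod.inr).comp y (zero_add n)) := by
    intro n a' b'
    obtain ⟨a, rfl⟩ := (ΦU n).surjective a'
    obtain ⟨b, rfl⟩ := (ΦV n).surjective b'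
    obtain ⟨y, hy⟩ := (Ext.biprodAddEquiv (X₁ := Pa) (X₂ := Pb) (Y := F) (n := n)).surjective (a, b)
    refine ⟨y, ?_, ?_⟩
    · rw [← Ext.biprodAddEquiv_apply_fst, hy]
    · rw [← Ext.biprodAddEquiv_apply_snd, hy]
  let δ : ∀ n : ℕ, HW n →+ Ext.{w} P₁ F (n + 1) := fun n =>
    ((cls hS).precomp F (show 1 + n = n + 1 by omega)).comp (ΦW n).symm.toAddMonoidHom
  have hδ : ∀ n (x₁ : Ext.{w} P₃ F n), δ n (ΦW n x₁) =
      (cls hS).comp x₁ (show 1 + n = n + 1 by omega) := by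
    intro n x₁
    show (cls hS).comp ((ΦW n).symm (ΦW n x₁)) (show 1 + n = n + 1 by omega) = _
    rw [AddEquiv.symm_apply_apply]
  have hq : ∀ n (p : HU n × HV n),
      ((qU n).comp (AddMonoidHom.fst (HU n) (HV n)) - (qV n).comp (AddMonoidHom.snd (HU n) (HV n))) p =
        qU n p.1 - qV n p.2 := fun n p => rfl
  refine ⟨δ, ?_, ?_, ?_, ?_⟩
  · rw [AddSubgroup.eq_bot_iff_forall]
    intro x hx
    rw [AddMonoidHom.mem_ker, key_p] at hx
    apply Ext.precomp_mk₀_injective_of_epi F (biprod.desc εa εb)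
    rw [map_zero]
    exact hx
  · intro n
    ext x
    rw [AddMonoidHom.mem_ker, key_p, AddMonoidHom.mem_range]
    constructor
    · intro hx
      obtain ⟨x₁, hx₁⟩ := ex3 hS x hx
      exact ⟨ΦW n x₁, (hδ n x₁).trans hx₁⟩
    · rintro ⟨y, rfl⟩
      obtain ⟨x₁, rfl⟩ := (ΦW n).surjective y
      rw [hδ]
      exact z1 hS x₁
  · intro n
    ext ⟨a', b'⟩
    obtain ⟨y, rfl, rfl⟩ := key_d n a' b'
    rw [AddMonoidHom.mem_ker, AddMonoidHom.mem_range, hq, key_q, EmbeddingLike.map_eq_zero_iff]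
    constructor
    · intro hy
      obtain ⟨x, hx⟩ := ex2 hS y hy
      refine ⟨x, ?_⟩
      have := (g_comp_eq x y).1 hx
      rw [AddMonoidHom.prod_apply, hpU, hpV, this.1, this.2]
    · rintro ⟨x, hx⟩
      rw [AddMonoidHom.prod_apply, hpU, hpV, Prod.mk.injEq, EmbeddingLike.apply_eq_iff_eq,
        EmbeddingLike.apply_eq_iff_eq] at hx
      have hy := (g_comp_eq x y).2 hx
      rw [← hy]
      exact z2 (hw := hw) x
  · intro n
    ext x'
    obtain ⟨x₁, rfl⟩ := (ΦW n).surjective x'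
    rw [AddMonoidHom.mem_ker, AddMonoidHom.mem_range, hδ]
    constructor
    · intro hx
      obtain ⟨y, hy⟩ := ex1 hS x₁ hx
      refine ⟨(ΦU n ((Ext.mk₀ biprod.inl).comp y (zero_add n)),
        ΦV n ((Ext.mk₀ biprod.inr).comp y (zero_add n))), ?_⟩
      rw [hq, key_q, hy]
    · rintro ⟨⟨a', b'⟩, hab⟩
      obtain ⟨y, rfl, rfl⟩ := key_d n a' b'
      rw [hq, key_q, EmbeddingLike.apply_eq_iff_eq] at hab
      rw [← hab]
      exact z3 hS y

end MV

end Groth.Agent.Helper24.ExtMV
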