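import Mathlib
import Groth.Agent.Lib.Helper24.CohExt3
import Groth.Agent.Lib.Helper24.Supp4

/-!
# Ext sheaves with supports of a module supported in the closed set (helper24)

If `F|_U = 0` then `Γ_Z ℋom(F, -) ≅ ℋom(F, -)` (`Z` the closed complement of `U`), hence
`ℰxt^i_Z(F, G) ≅ ℰxt^i(F, G)`.
-/

set_option autoImplicit false
set_option maxHeartbeats 400000
set_option linter.style.haveILetI false
universe u
open CategoryTheory CategoryTheory.Limits AlgebraicGeometry Opposite TopologicalSpace

namespace Groth.Agent.Helper24.ExtZ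

section Site

variable {C : Type u} [SmallCategory C] {J : GrothendieckTopology C}
variable (O : Sheaf J CommRingCat.{u}) (U : C)

/-- a morphism of modules whose components over the objects above `U` vanish restricts to zero
on `C/U` -/
theorem restr_map_eq_zero_of_app {M N : ModSite.Mod O} (φ : M ⟶ N)
    (h : ∀ (V : C) (_ : V ⟶ U), φ.val.app (op V) = 0) : (ModSite.restr O U).map φ = 0 := by
  apply (SheafOfModules.toSheaf _).map_injective
  ext Y m
  have key : ∀ m' : M.val.obj (op Y.unop.left), (φ.val.app (op Y.unop.left)).hom m' = 0 := by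
    intro m'
    rw [h Y.unop.left Y.unop.hom]
    rfl
  exact key m

variable [ModSite.HasPushOver O U]

/-- the inclusion `Γ_Z(H) ⟶ H` is an isomorphism when all the sections of `H` over the objects
above `U` vanish -/
theorem isIso_sectOnι_app (H : ModSite.Mod O)
    (h : ∀ (V : C) (_ : V ⟶ U), Subsingleton (H.val.obj (op V))) :
    IsIso ((ModSite.sectOnι O U).app H) := by
  have h0 : (ModSite.restrPushOverAdj O U).unit.app H = 0 := by
    have h1 := (Groth.Agent.Helper24.Supp.comp_unit_eq_zero_iff O U (𝟙 H)).2
      (restr_map_eq_zero_of_app O U (𝟙 H) (by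
        intro V f
        haveI := h V f
        apply ModuleCat.hom_ext
        apply LinearMap.ext
        intro m
        exact Subsingleton.elim _ _))
    rwa [Category.id_comp] at h1
  refine ⟨kernel.lift _ (𝟙 H) (by rw [h0, comp_zero]), ?_, ?_⟩
  · apply equalizer.hom_ext
    show (kernel.ι _ ≫ kernel.lift _ (𝟙 H) _) ≫ kernel.ι _ = 𝟙 _ ≫ kernel.ι _
    rw [Category.assoc, kernel.lift_ι, Category.comp_id, Category.id_comp]
  · exact kernel.lift_ι _ _ _

end Site

section Sch

open Groth.Agent.Helper24.RelExt Groth.Agent.Helper24.CohExt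

variable {X : Scheme.{u}}

/-- sections of `ℋom(F, N)` over `V` vanish when the stalks of `F` at the points of `V` do -/
theorem subsingleton_homSh_sections (F N : X.Modules) (V : X.Opens)
    (h : ∀ x ∈ V, Subsingleton (F.presheaf.stalk x)) :
    Subsingleton Γ(RefHull.homSh F N, V) := by
  constructor
  intro a b
  apply Subtype.ext
  funext x
  haveI := h x.1 x.2
  apply LinearMap.ext
  intro m
  rw [Subsingleton.elim m 0, map_zero, map_zero]

/-- the same for the chosen internal Hom -/
theorem subsingleton_sheafHom_sections (F N : X.Modules)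
    [ModSite.HasSheafHom (O := X.sheaf) F] (V : X.Opens)
    (h : ∀ x ∈ V, Subsingleton (F.presheaf.stalk x)) :
    Subsingleton (((ModSite.sheafHom (O := X.sheaf) F).obj N).val.obj (op V)) := by
  have h1 : Subsingleton ↑((SheafOfModules.evaluation X.ringCatSheaf (op V)).obj
      ((Groth.Agent.Helper29.SHomA.homFun F).obj N)) :=
    subsingleton_homSh_sections F N V h
  let e := (SheafOfModules.evaluation X.ringCatSheaf (op V)).mapIso
    ((Groth.Agent.Helper29.SHomA.sheafHomIso F).app N)
  exact @Equiv.subsingleton _ _ e.toLinearEquiv.toEquiv h1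

/-- **Ext sheaves with supports of a module supported in the closed set**: if `Supp F ⊆ Z`
then `ℰxt^i_Z(F, G) ≅ ℰxt^i(F, G)` -/
theorem nonempty_extZSh_iso_extSh (U : X.Opens) (F G : X.Modules)
    (hsupp : ∀ x ∈ CohB1.support F, x ∉ (U : Set X))
    [ModSite.HasSheafHom (O := X.sheaf) F] [HasInjectiveResolutions (ModSite.Mod X.sheaf)]
    (i : ℕ) :
    Nonempty ((ModSite.extZSh (O := X.sheaf) U F i).obj G ≅
      (ModSite.extSh (O := X.sheaf) F i).obj G) := by
  have hst : ∀ V : X.Opens, (V ⟶ U) → ∀ x ∈ V, Subsingleton (F.presheaf.stalk x) := by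
    intro V f x hx
    by_contra hne
    exact hsupp x hne (f.le hx)
  let K : ModSite.Mod X.sheaf ⥤ ModSite.Mod X.sheaf := ModSite.sheafHom (O := X.sheaf) F
  haveI : K.Additive := ModSite.sheafHom_additive (O := X.sheaf) F
  let α : K ⋙ ModSite.sectOn X.sheaf U ⟶ K :=
    Functor.whiskerLeft K (ModSite.sectOnι X.sheaf U) ≫ (Functor.rightUnitor K).hom
  haveI : ∀ N, IsIso (α.app N) := by
    intro N
    haveI : IsIso ((ModSite.sectOnι X.sheaf U).app (K.obj N)) :=
      isIso_sectOnι_app X.sheaf U (K.obj N)
        (fun V f => subsingleton_sheafHom_sections F N V (hst V f))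
    show IsIso ((ModSite.sectOnι X.sheaf U).app (K.obj N) ≫ 𝟙 _)
    infer_instance
  haveI : IsIso α := NatIso.isIso_of_isIso_app α
  let β := asIso α
  let γ : (K ⋙ ModSite.sectOn X.sheaf U).rightDerived i ≅ K.rightDerived i :=
    { hom := NatTrans.rightDerived β.hom i
      inv := NatTrans.rightDerived β.inv i
      hom_inv_id := by
        rw [← NatTrans.rightDerived_comp, β.hom_inv_id, NatTrans.rightDerived_id]
      inv_hom_id := by
        rw [← NatTrans.rightDerived_comp, β.inv_hom_id, NatTrans.rightDerived_id] }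
  exact ⟨γ.app G⟩

/-- coherence of the Ext sheaves with supports, for `F` supported in the closed set -/
theorem main12880 (X : Scheme.{u}) [IsLocallyNoetherian X] (U : X.Opens)
    (F G : X.Modules) (hF : Coh.IsCoh F) (hG : Coh.IsCoh G)
    (hsupp : ∀ x ∈ CohB1.support F, x ∉ (U : Set X))
    [ModSite.HasSheafHom (O := X.sheaf) F] [HasInjectiveResolutions (ModSite.Mod X.sheaf)]
    (i : ℕ) : Coh.IsCoh ((ModSite.extZSh (O := X.sheaf) U F i).obj G) := by
  obtain ⟨e⟩ := nonempty_extZSh_iso_extSh U F G hsupp i
  exact isCoh_of_iso e.symm (main10943 X F G hF hG i)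

end Sch

end Groth.Agent.Helper24.ExtZ
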