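import Mathlib
import Groth.Agent.Lib.Helper24.WayOut1

/-!
# Way-out dévissage, part 2: natural transformations between left t-exact triangulated functors
-/

set_option autoImplicit false
universe w₁ w₂ v₁ v₂ u₁ u₂
open CategoryTheory CategoryTheory.Limits Pretriangulated

namespace Groth.Agent.Helper24.WayOut

open DerivedCategory DerivedCategory.TStructure Groth.Agent.Helper24.RlimTrunc

section LeftTExact

variable {𝒜 : Type u₁} [Category.{v₁} 𝒜] [Abelian 𝒜] [HasDerivedCategory.{w₁} 𝒜]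
  {ℬ : Type u₂} [Category.{v₂} ℬ] [Abelian ℬ] [HasDerivedCategory.{w₂} ℬ]

/-- left t-exactness -/
def LeftTExact (T : DerivedCategory 𝒜 ⥤ DerivedCategory ℬ) : Prop :=
  ∀ (X : DerivedCategory 𝒜) (a : ℤ), X.IsGE a → (T.obj X).IsGE a

/-- right t-exactness -/
def RightTExact (T : DerivedCategory 𝒜 ⥤ DerivedCategory ℬ) : Prop :=
  ∀ (X : DerivedCategory 𝒜) (a : ℤ), X.IsLE a → (T.obj X).IsLE a

variable (T : DerivedCategory 𝒜 ⥤ DerivedCategory ℬ) [T.CommShift ℤ] [T.IsTriangulated]

theorem isIso_homologyMap_map_truncLTι (hT : LeftTExact T) (X : DerivedCategory 𝒜) (b q : ℤ)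
    (h : q < b) : IsIso ((homologyFunctor ℬ q).map (T.map ((t.truncLTι b).app X))) := by
  have hd := T.map_distinguished _ (t.triangleLTGE_distinguished b X)
  have hGE : (T.obj ((t.truncGE b).obj X)).IsGE b := hT _ b inferInstance
  have h0 : IsZero (((homologyFunctor ℬ 0).shift (q - 1)).obj
      (T.mapTriangle.obj ((t.triangleLTGE b).obj X)).obj₃) :=
    isZero_of_isGE (T.obj ((t.truncGE b).obj X)) b (q - 1) (by omega)
  have h1 : IsZero (((homologyFunctor ℬ 0).shift q).obj
      (T.mapTriangle.obj ((t.triangleLTGE b).obj X)).obj₃) :=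
    isZero_of_isGE (T.obj ((t.truncGE b).obj X)) b q (by omega)
  exact isIso_shift_map_mor₁ (homologyFunctor ℬ 0) _ hd (q - 1) q (by omega) h0 h1

end LeftTExact

section Main

variable {𝒜 : Type u₁} [Category.{v₁} 𝒜] [Abelian 𝒜] [HasDerivedCategory.{w₁} 𝒜]
  {ℬ : Type u₂} [Category.{v₂} ℬ] [Abelian ℬ] [HasDerivedCategory.{w₂} ℬ]
  {T₁ T₂ : DerivedCategory 𝒜 ⥤ DerivedCategory ℬ} [T₁.CommShift ℤ] [T₂.CommShift ℤ]
  [T₁.IsTriangulated] [T₂.IsTriangulated] (η : T₁ ⟶ T₂) [NatTrans.CommShift η ℤ]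

theorem isIso_app_of_bounded (n : ℕ) (X : DerivedCategory 𝒜) (a : ℤ) (h1 : X.IsGE a)
    (h2 : X.IsLE (a + n))
    (hX : ∀ q, IsIso (η.app ((singleFunctor 𝒜 0).obj ((homologyFunctor 𝒜 q).obj X)))) :
    IsIso (η.app X) :=
  devissage_bounded (fun X => IsIso (η.app X)) (fun e h => isIso_app_of_iso η e h)
    (fun X n h => isIso_app_shift η X n h) (fun X hX => isIso_app_of_isZero η X hX)
    (fun T hT h1 h3 => isIso_app_obj₂ η T hT h1 h3) n X a h1 h2 hX

/-- the way-out lemma: a natural transformation (compatible with shifts) between left t-exact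
triangulated functors is an isomorphism on a bounded below object as soon as it is one on its
cohomology objects -/
theorem isIso_app_of_isGE (h₁ : LeftTExact T₁) (h₂ : LeftTExact T₂) (X : DerivedCategory 𝒜)
    (n₀ : ℤ) (hX : X.IsGE n₀)
    (hH : ∀ q, IsIso (η.app ((singleFunctor 𝒜 0).obj ((homologyFunctor 𝒜 q).obj X)))) :
    IsIso (η.app X) := by
  rw [DerivedCategory.isIso_iff]
  intro n
  obtain ⟨k, hk⟩ : ∃ k : ℕ, n + 1 ≤ n₀ + k + 1 := ⟨(n - n₀).toNat, by omega⟩
  let b : ℤ := n₀ + k + 1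
  have hnb : n < b := by omega
  have g1 : ((t.truncLT b).obj X).IsGE n₀ := inferInstance
  have g2 : ((t.truncLT b).obj X).IsLE (n₀ + k) := t.isLE_truncLT_obj X _ _ (by omega)
  have hτ : IsIso (η.app ((t.truncLT b).obj X)) := by
    refine isIso_app_of_bounded η k _ n₀ g1 g2 (fun q => ?_)
    by_cases hq : q < b
    · have := isIso_homologyMap_truncLTι X b q hq
      exact isIso_app_of_iso η ((singleFunctor 𝒜 0).mapIso
        (asIso ((homologyFunctor 𝒜 q).map ((t.truncLTι b).app X))).symm) (hH q)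
    · exact isIso_app_of_isZero η _ (Functor.map_isZero _
        (isZero_of_isLE ((t.truncLT b).obj X) (n₀ + k) q (by omega)))
  have i1 := isIso_homologyMap_map_truncLTι T₁ h₁ X b n hnb
  have i2 := isIso_homologyMap_map_truncLTι T₂ h₂ X b n hnb
  have sq : T₁.map ((t.truncLTι b).app X) ≫ η.app X =
      η.app ((t.truncLT b).obj X) ≫ T₂.map ((t.truncLTι b).app X) := η.naturality _
  have sq' := congrArg (fun f => (homologyFunctor ℬ n).map f) sq
  simp only [Functor.map_comp] at sq'
  have : (homologyFunctor ℬ n).map (η.app X) =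
      inv ((homologyFunctor ℬ n).map (T₁.map ((t.truncLTι b).app X))) ≫
        (homologyFunctor ℬ n).map (η.app ((t.truncLT b).obj X)) ≫
        (homologyFunctor ℬ n).map (T₂.map ((t.truncLTι b).app X)) := by
    rw [← sq', IsIso.inv_hom_id_assoc]
  rw [this]
  infer_instance

end Main

end Groth.Agent.Helper24.WayOut
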