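import Mathlib
import Groth.Agent.Lib.Helper24.WayOut2

/-!
# Way-out dévissage, part 3: exact functors, adjoints, units and counits
-/

set_option autoImplicit false
universe w₁ w₂ v₁ v₂ u₁ u₂
open CategoryTheory CategoryTheory.Limits Pretriangulated

namespace Groth.Agent.Helper24.WayOut

open DerivedCategory DerivedCategory.TStructure

section Exact

variable {𝒜 : Type u₁} [Category.{v₁} 𝒜] [Abelian 𝒜] [HasDerivedCategory.{w₁} 𝒜]
  {ℬ : Type u₂} [Category.{v₂} ℬ] [Abelian ℬ] [HasDerivedCategory.{w₂} ℬ]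
  (F : 𝒜 ⥤ ℬ) [F.Additive] [PreservesFiniteLimits F] [PreservesFiniteColimits F]

theorem leftTExact_mapDerivedCategory : LeftTExact F.mapDerivedCategory := by
  intro X a hX
  obtain ⟨K, hK, ⟨e⟩⟩ := exists_iso_Q_obj_of_isGE X a
  have hFK : CochainComplex.IsStrictlyGE ((F.mapHomologicalComplex (ComplexShape.up ℤ)).obj K) a := by
    rw [CochainComplex.isStrictlyGE_iff]
    intro i hi
    exact F.map_isZero (CochainComplex.isZero_of_isStrictlyGE K a i hi)
  have hQ : (Q.obj ((F.mapHomologicalComplex (ComplexShape.up ℤ)).obj K)).IsGE a := inferInstance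
  have e' : Q.obj ((F.mapHomologicalComplex (ComplexShape.up ℤ)).obj K) ≅ F.mapDerivedCategory.obj X :=
    (F.mapDerivedCategoryFactors.app K).symm ≪≫ F.mapDerivedCategory.mapIso e.symm
  exact t.isGE_of_iso e' a

theorem rightTExact_mapDerivedCategory : RightTExact F.mapDerivedCategory := by
  intro X a hX
  obtain ⟨K, hK, ⟨e⟩⟩ := exists_iso_Q_obj_of_isLE X a
  have hFK : CochainComplex.IsStrictlyLE ((F.mapHomologicalComplex (ComplexShape.up ℤ)).obj K) a := by
    rw [CochainComplex.isStrictlyLE_iff]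
    intro i hi
    exact F.map_isZero (CochainComplex.isZero_of_isStrictlyLE K a i hi)
  have hQ : (Q.obj ((F.mapHomologicalComplex (ComplexShape.up ℤ)).obj K)).IsLE a := inferInstance
  have e' : Q.obj ((F.mapHomologicalComplex (ComplexShape.up ℤ)).obj K) ≅ F.mapDerivedCategory.obj X :=
    (F.mapDerivedCategoryFactors.app K).symm ≪≫ F.mapDerivedCategory.mapIso e.symm
  exact t.isLE_of_iso e' a

end Exact

section Adj

variable {𝒜 : Type u₁} [Category.{v₁} 𝒜] [Abelian 𝒜] [HasDerivedCategory.{w₁} 𝒜]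
  {ℬ : Type u₂} [Category.{v₂} ℬ] [Abelian ℬ] [HasDerivedCategory.{w₂} ℬ]
  {L : DerivedCategory ℬ ⥤ DerivedCategory 𝒜} {R : DerivedCategory 𝒜 ⥤ DerivedCategory ℬ}
  (adj : L ⊣ R)

include adj in
theorem leftTExact_of_adjunction [R.PreservesZeroMorphisms] (hL : RightTExact L) :
    LeftTExact R := by
  intro X a hX
  refine (t.isGE_iff_orthogonal (a - 1) a (by omega) _).2 ?_
  intro Y f hY
  have hLY : (L.obj Y).IsLE (a - 1) := hL Y (a - 1) hY
  have h0 : (adj.homEquiv Y X).symm f = 0 := t.zero _ (a - 1) a (by omega)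
  have := congrArg (adj.homEquiv Y X) h0
  rw [Equiv.apply_symm_apply] at this
  rw [this, adj.homEquiv_unit, Functor.map_zero, comp_zero]

end Adj


section UnitCounit

variable {𝒜 : Type u₁} [Category.{v₁} 𝒜] [Abelian 𝒜] [HasDerivedCategory.{w₁} 𝒜]
  {ℬ : Type u₂} [Category.{v₂} ℬ] [Abelian ℬ] [HasDerivedCategory.{w₂} ℬ]
  {L : DerivedCategory ℬ ⥤ DerivedCategory 𝒜} {R : DerivedCategory 𝒜 ⥤ DerivedCategory ℬ}
  (adj : L ⊣ R) [L.CommShift ℤ] [L.IsTriangulated]

omit [L.CommShift ℤ] [L.IsTriangulated] in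
theorem leftTExact_comp {𝒞 : Type*} [Category 𝒞] [Abelian 𝒞] [HasDerivedCategory 𝒞]
    {T : DerivedCategory 𝒜 ⥤ DerivedCategory ℬ} {T' : DerivedCategory ℬ ⥤ DerivedCategory 𝒞}
    (h : LeftTExact T) (h' : LeftTExact T') : LeftTExact (T ⋙ T') :=
  fun X a hX => h' _ a (h X a hX)

omit [L.CommShift ℤ] [L.IsTriangulated] in
theorem leftTExact_id : LeftTExact (𝟭 (DerivedCategory 𝒜)) := fun _ _ hX => hX

include adj in
theorem isIso_counit_app (hL1 : LeftTExact L) (hL2 : RightTExact L) (X : DerivedCategory 𝒜)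
    (n₀ : ℤ) (hX : X.IsGE n₀)
    (h : ∀ q, IsIso (adj.counit.app ((singleFunctor 𝒜 0).obj ((homologyFunctor 𝒜 q).obj X)))) :
    IsIso (adj.counit.app X) := by
  letI : R.CommShift ℤ := adj.rightAdjointCommShift ℤ
  haveI : adj.CommShift ℤ := adj.commShift_of_leftAdjoint ℤ
  haveI : R.IsTriangulated := adj.isTriangulated_rightAdjoint
  have hR : LeftTExact R := leftTExact_of_adjunction adj hL2
  exact isIso_app_of_isGE adj.counit (leftTExact_comp hR hL1) leftTExact_id X n₀ hX h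

include adj in
theorem isIso_unit_app (hL1 : LeftTExact L) (hL2 : RightTExact L) (Y : DerivedCategory ℬ)
    (n₀ : ℤ) (hY : Y.IsGE n₀)
    (h : ∀ q, IsIso (adj.unit.app ((singleFunctor ℬ 0).obj ((homologyFunctor ℬ q).obj Y)))) :
    IsIso (adj.unit.app Y) := by
  letI : R.CommShift ℤ := adj.rightAdjointCommShift ℤ
  haveI : adj.CommShift ℤ := adj.commShift_of_leftAdjoint ℤ
  haveI : R.IsTriangulated := adj.isTriangulated_rightAdjoint
  have hR : LeftTExact R := leftTExact_of_adjunction adj hL2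
  exact isIso_app_of_isGE adj.unit leftTExact_id (leftTExact_comp hL1 hR) Y n₀ hY h

end UnitCounit

end Groth.Agent.Helper24.WayOut
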