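import Mathlib
import Groth.Agent.Lib.Helper24.WayOut3

/-!
# Way-out dévissage, part 4: cohomology in a weak Serre subcategory
-/

set_option autoImplicit false
universe w₁ w₂ v₁ v₂ u₁ u₂
open CategoryTheory CategoryTheory.Limits Pretriangulated

namespace Groth.Agent.Helper24.WayOut

open DerivedCategory DerivedCategory.TStructure Groth.Agent.Helper24.RlimTrunc
  Groth.Agent.Helper24.RlimConst

section Obj2

variable {ℬ : Type u₂} [Category.{v₂} ℬ] [Abelian ℬ] [HasDerivedCategory.{w₂} ℬ]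
  (P : ObjectProperty ℬ) [WSerre.IsWeakSerre P]

theorem prop_homology_obj₂ (T : Triangle (DerivedCategory ℬ)) (hT : T ∈ distTriang _)
    (h₁ : ∀ q, P ((homologyFunctor ℬ q).obj T.obj₁)) (h₃ : ∀ q, P ((homologyFunctor ℬ q).obj T.obj₃))
    (q : ℤ) : P ((homologyFunctor ℬ q).obj T.obj₂) :=
  weakSerre_five P _ _ _ _
    ((homologyFunctor ℬ 0).homologySequenceδ_comp T hT (q - 1) q (by omega))
    ((homologyFunctor ℬ 0).homologySequence_comp T hT q)
    ((homologyFunctor ℬ 0).comp_homologySequenceδ T hT q (q + 1) rfl)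
    ((homologyFunctor ℬ 0).homologySequence_exact₁ T hT (q - 1) q (by omega))
    ((homologyFunctor ℬ 0).homologySequence_exact₂ T hT q)
    ((homologyFunctor ℬ 0).homologySequence_exact₃ T hT q (q + 1) rfl)
    (h₃ (q - 1)) (h₁ q) (h₃ q) (h₁ (q + 1))

end Obj2

section CohIn

variable {𝒜 : Type u₁} [Category.{v₁} 𝒜] [Abelian 𝒜] [HasDerivedCategory.{w₁} 𝒜]
  {ℬ : Type u₂} [Category.{v₂} ℬ] [Abelian ℬ] [HasDerivedCategory.{w₂} ℬ]
  (T : DerivedCategory 𝒜 ⥤ DerivedCategory ℬ) [T.CommShift ℤ] [T.IsTriangulated]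
  (P : ObjectProperty ℬ) [WSerre.IsWeakSerre P]

/-- all cohomology objects of the image lie in `P` -/
def CohInImage (X : DerivedCategory 𝒜) : Prop :=
  ∀ q, P ((homologyFunctor ℬ q).obj (T.obj X))

omit [T.CommShift ℤ] [T.IsTriangulated] in
theorem cohInImage_of_iso {X Y : DerivedCategory 𝒜} (e : X ≅ Y) (h : CohInImage T P X) :
    CohInImage T P Y := fun q =>
  P.prop_of_iso ((homologyFunctor ℬ q).mapIso (T.mapIso e)) (h q)

omit [T.IsTriangulated] in
theorem cohInImage_shift (X : DerivedCategory 𝒜) (n : ℤ) (h : CohInImage T P X) :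
    CohInImage T P (X⟦n⟧) := fun q => by
  have e₁ : (homologyFunctor ℬ q).obj (T.obj (X⟦n⟧)) ≅ (homologyFunctor ℬ q).obj ((T.obj X)⟦n⟧) :=
    (homologyFunctor ℬ q).mapIso ((T.commShiftIso n).app X)
  have e₂ : (homologyFunctor ℬ q).obj ((T.obj X)⟦n⟧) ≅ (homologyFunctor ℬ (n + q)).obj (T.obj X) :=
    ((homologyFunctor ℬ 0).shiftIso n q (n + q) rfl).app (T.obj X)
  exact P.prop_of_iso (e₁ ≪≫ e₂).symm (h (n + q))

theorem cohInImage_of_isZero (X : DerivedCategory 𝒜) (hX : IsZero X) : CohInImage T P X :=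
  fun q => P.prop_of_isZero (Functor.map_isZero _ (T.map_isZero hX))

theorem cohInImage_obj₂ (Tr : Triangle (DerivedCategory 𝒜)) (hTr : Tr ∈ distTriang _)
    (h₁ : CohInImage T P Tr.obj₁) (h₃ : CohInImage T P Tr.obj₃) : CohInImage T P Tr.obj₂ :=
  fun q => prop_homology_obj₂ P _ (T.map_distinguished Tr hTr) h₁ h₃ q

theorem cohInImage_of_bounded (n : ℕ) (X : DerivedCategory 𝒜) (a : ℤ) (h1 : X.IsGE a)
    (h2 : X.IsLE (a + n))
    (hX : ∀ q, CohInImage T P ((singleFunctor 𝒜 0).obj ((homologyFunctor 𝒜 q).obj X))) :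
    CohInImage T P X :=
  devissage_bounded (fun X => CohInImage T P X) (fun e h => cohInImage_of_iso T P e h)
    (fun X n h => cohInImage_shift T P X n h) (fun X hX => cohInImage_of_isZero T P X hX)
    (fun Tr hTr h1 h3 => cohInImage_obj₂ T P Tr hTr h1 h3) n X a h1 h2 hX

theorem cohInImage_of_isGE (hT : LeftTExact T) (X : DerivedCategory 𝒜) (n₀ : ℤ) (hX : X.IsGE n₀)
    (hH : ∀ q, CohInImage T P ((singleFunctor 𝒜 0).obj ((homologyFunctor 𝒜 q).obj X))) :
    CohInImage T P X := by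
  intro n
  obtain ⟨k, hk⟩ : ∃ k : ℕ, n + 1 ≤ n₀ + k + 1 := ⟨(n - n₀).toNat, by omega⟩
  let b : ℤ := n₀ + k + 1
  have hnb : n < b := by omega
  have g1 : ((t.truncLT b).obj X).IsGE n₀ := inferInstance
  have g2 : ((t.truncLT b).obj X).IsLE (n₀ + k) := t.isLE_truncLT_obj X _ _ (by omega)
  have hτ : CohInImage T P ((t.truncLT b).obj X) := by
    refine cohInImage_of_bounded T P k _ n₀ g1 g2 (fun q => ?_)
    by_cases hq : q < b
    · have := isIso_homologyMap_truncLTι X b q hq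
      exact cohInImage_of_iso T P ((singleFunctor 𝒜 0).mapIso
        (asIso ((homologyFunctor 𝒜 q).map ((t.truncLTι b).app X))).symm) (hH q)
    · exact cohInImage_of_isZero T P _ (Functor.map_isZero _
        (isZero_of_isLE ((t.truncLT b).obj X) (n₀ + k) q (by omega)))
  have i1 := isIso_homologyMap_map_truncLTι T hT X b n hnb
  exact P.prop_of_iso (asIso ((homologyFunctor ℬ n).map (T.map ((t.truncLTι b).app X)))) (hτ n)

end CohIn

end Groth.Agent.Helper24.WayOut
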