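import Mathlib
import Groth.Agent.Lib.Helper24.WayOut4

/-!
# Way-out dévissage, part 5: packaging for adjunctions
-/

set_option autoImplicit false
universe w₁ w₂ v₁ v₂ u₁ u₂
open CategoryTheory CategoryTheory.Limits Pretriangulated

namespace Groth.Agent.Helper24.WayOut

open DerivedCategory DerivedCategory.TStructure

section Single

variable {ℬ : Type u₂} [Category.{v₂} ℬ] [Abelian ℬ] [HasDerivedCategory.{w₂} ℬ]
  (P : ObjectProperty ℬ) [WSerre.IsWeakSerre P]

theorem prop_homology_single (N : ℬ) (hN : P N) (q : ℤ) :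
    P ((homologyFunctor ℬ q).obj ((singleFunctor ℬ 0).obj N)) := by
  by_cases hq : q = 0
  · subst hq
    exact P.prop_of_iso ((singleFunctorCompHomologyFunctorIso ℬ 0).app N).symm hN
  · rcases lt_or_gt_of_ne hq with h | h
    · exact P.prop_of_isZero (isZero_of_isGE ((singleFunctor ℬ 0).obj N) 0 q h)
    · exact P.prop_of_isZero (isZero_of_isLE ((singleFunctor ℬ 0).obj N) 0 q h)

end Single

section Adj

variable {𝒜 : Type u₁} [Category.{v₁} 𝒜] [Abelian 𝒜] [HasDerivedCategory.{w₁} 𝒜]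
  {ℬ : Type u₂} [Category.{v₂} ℬ] [Abelian ℬ] [HasDerivedCategory.{w₂} ℬ]
  {L : DerivedCategory ℬ ⥤ DerivedCategory 𝒜} {R : DerivedCategory 𝒜 ⥤ DerivedCategory ℬ}
  (adj : L ⊣ R)

include adj in
theorem isIso_counit_app_obj_of_isIso_unit (Z : DerivedCategory ℬ) (h : IsIso (adj.unit.app Z)) :
    IsIso (adj.counit.app (L.obj Z)) := by
  have h1 : L.map (adj.unit.app Z) ≫ adj.counit.app (L.obj Z) = 𝟙 _ :=
    adj.left_triangle_components Z
  have h2 : adj.counit.app (L.obj Z) = inv (L.map (adj.unit.app Z)) := by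
    rw [← cancel_epi (L.map (adj.unit.app Z)), h1, IsIso.hom_inv_id]
  rw [h2]
  infer_instance

variable [L.CommShift ℤ] [L.IsTriangulated] (P : ObjectProperty ℬ) [WSerre.IsWeakSerre P]

include adj in
theorem cohIn_rightAdjoint_of_isGE (hL2 : RightTExact L) (X : DerivedCategory 𝒜) (n₀ : ℤ)
    (hX : X.IsGE n₀)
    (hH : ∀ q q', P ((homologyFunctor ℬ q').obj
      (R.obj ((singleFunctor 𝒜 0).obj ((homologyFunctor 𝒜 q).obj X))))) :
    (∀ q, P ((homologyFunctor ℬ q).obj (R.obj X))) ∧ (R.obj X).IsGE n₀ := by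
  letI : R.CommShift ℤ := adj.rightAdjointCommShift ℤ
  haveI : adj.CommShift ℤ := adj.commShift_of_leftAdjoint ℤ
  haveI : R.IsTriangulated := adj.isTriangulated_rightAdjoint
  have hR : LeftTExact R := leftTExact_of_adjunction adj hL2
  exact ⟨cohInImage_of_isGE R P hR X n₀ hX hH, hR X n₀ hX⟩

end Adj

end Groth.Agent.Helper24.WayOut
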