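import Mathlib
import Groth.Agent.Lib.Helper24.WayOut5

/-!
# The functor induced on derived categories by an exact functor commutes with cohomology
-/

set_option autoImplicit false
universe w₁ w₂ v₁ v₂ u₁ u₂
open CategoryTheory CategoryTheory.Limits

namespace Groth.Agent.Helper24.WayOut

open DerivedCategory

section

variable {𝒜 : Type u₁} [Category.{v₁} 𝒜] [Abelian 𝒜] [HasDerivedCategory.{w₁} 𝒜]
  {ℬ : Type u₂} [Category.{v₂} ℬ] [Abelian ℬ] [HasDerivedCategory.{w₂} ℬ]
  (F : 𝒜 ⥤ ℬ) [F.Additive] [PreservesFiniteLimits F] [PreservesFiniteColimits F]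

/-- an exact functor commutes with the homology of complexes -/
noncomputable def mapHomologicalComplexHomologyIso (j : ℤ) :
    F.mapHomologicalComplex (ComplexShape.up ℤ) ⋙ HomologicalComplex.homologyFunctor ℬ _ j ≅
      HomologicalComplex.homologyFunctor 𝒜 _ j ⋙ F :=
  NatIso.ofComponents (fun K => (K.sc j).mapHomologyIso F) (fun {K K'} f =>
    ShortComplex.mapHomologyIso_hom_naturality
      ((HomologicalComplex.shortComplexFunctor 𝒜 (ComplexShape.up ℤ) j).map f) F)

/-- the functor induced by an exact functor on derived categories commutes with cohomology -/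
noncomputable def mapDerivedCategoryHomologyIso (j : ℤ) :
    F.mapDerivedCategory ⋙ DerivedCategory.homologyFunctor ℬ j ≅
      DerivedCategory.homologyFunctor 𝒜 j ⋙ F :=
  letI : Localization.Lifting Q (HomologicalComplex.quasiIso 𝒜 (ComplexShape.up ℤ))
      (F.mapHomologicalComplex (ComplexShape.up ℤ) ⋙ HomologicalComplex.homologyFunctor ℬ _ j)
      (F.mapDerivedCategory ⋙ DerivedCategory.homologyFunctor ℬ j) :=
    ⟨(Functor.associator _ _ _).symm ≪≫ Functor.isoWhiskerRight F.mapDerivedCategoryFactors _ ≪≫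
      Functor.associator _ _ _ ≪≫ Functor.isoWhiskerLeft _ (homologyFunctorFactors ℬ j)⟩
  letI : Localization.Lifting Q (HomologicalComplex.quasiIso 𝒜 (ComplexShape.up ℤ))
      (HomologicalComplex.homologyFunctor 𝒜 _ j ⋙ F)
      (DerivedCategory.homologyFunctor 𝒜 j ⋙ F) :=
    ⟨(Functor.associator _ _ _).symm ≪≫ Functor.isoWhiskerRight (homologyFunctorFactors 𝒜 j) F⟩
  Localization.liftNatIso Q (HomologicalComplex.quasiIso 𝒜 (ComplexShape.up ℤ)) _ _ _ _
    (mapHomologicalComplexHomologyIso F j)

theorem isIso_homologyMap_mapDerivedCategory_iff_of_reflects {Z Z' : DerivedCategory 𝒜} (g : Z ⟶ Z')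
    (j : ℤ) (h : IsIso ((homologyFunctor 𝒜 j).map g)) :
    IsIso ((homologyFunctor ℬ j).map (F.mapDerivedCategory.map g)) := by
  have h1 : IsIso ((DerivedCategory.homologyFunctor 𝒜 j ⋙ F).map g) := by
    change IsIso (F.map ((homologyFunctor 𝒜 j).map g))
    infer_instance
  exact (NatIso.isIso_map_iff (mapDerivedCategoryHomologyIso F j) g).2 h1

end

end Groth.Agent.Helper24.WayOut
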