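import Mathlib
import Groth.Agent.Lib.Helper24.WayOut6

/-!
# Dévissage for full faithfulness and essential surjectivity of a triangulated functor
-/

set_option autoImplicit false
universe w₁ w₂ v₁ v₂ u₁ u₂
open CategoryTheory CategoryTheory.Limits Pretriangulated

namespace Groth.Agent.Helper24.FFDev

section Gen

variable {D₁ : Type u₁} {D₂ : Type u₂} [Category.{v₁} D₁] [Category.{v₂} D₂]
  [Preadditive D₁] [Preadditive D₂] [HasZeroObject D₁] [HasZeroObject D₂]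
  [HasShift D₁ ℤ] [HasShift D₂ ℤ]
  [∀ n : ℤ, (shiftFunctor D₁ n).Additive] [∀ n : ℤ, (shiftFunctor D₂ n).Additive]
  [Pretriangulated D₁] [Pretriangulated D₂]
  (T : D₁ ⥤ D₂)

/-- `T` is bijective on `Hom(X, Y)` -/
def FF (X Y : D₁) : Prop := Function.Bijective (fun φ : X ⟶ Y => T.map φ)

variable {T}

omit [Preadditive D₁] [Preadditive D₂] [HasZeroObject D₁] [HasZeroObject D₂]
  [HasShift D₁ ℤ] [HasShift D₂ ℤ] [∀ n : ℤ, (shiftFunctor D₁ n).Additive]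
  [∀ n : ℤ, (shiftFunctor D₂ n).Additive] [Pretriangulated D₁] [Pretriangulated D₂] in
lemma FF.of_iso_left {X X' Y : D₁} (e : X ≅ X') (h : FF T X Y) : FF T X' Y := by
  constructor
  · intro φ₁ φ₂ h12
    have : e.hom ≫ φ₁ = e.hom ≫ φ₂ := h.1 (by
      change T.map (e.hom ≫ φ₁) = T.map (e.hom ≫ φ₂)
      rw [T.map_comp, T.map_comp]; exact congrArg _ h12)
    exact (cancel_epi e.hom).1 this
  · intro χ
    obtain ⟨φ, hφ⟩ := h.2 (T.map e.hom ≫ χ)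
    refine ⟨e.inv ≫ φ, ?_⟩
    change T.map (e.inv ≫ φ) = χ
    have hφ' : T.map φ = T.map e.hom ≫ χ := hφ
    rw [T.map_comp, hφ', ← Category.assoc, ← T.map_comp, e.inv_hom_id, T.map_id, Category.id_comp]

omit [Preadditive D₁] [Preadditive D₂] [HasZeroObject D₁] [HasZeroObject D₂]
  [HasShift D₁ ℤ] [HasShift D₂ ℤ] [∀ n : ℤ, (shiftFunctor D₁ n).Additive]
  [∀ n : ℤ, (shiftFunctor D₂ n).Additive] [Pretriangulated D₁] [Pretriangulated D₂] in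
lemma FF.of_iso_right {X Y Y' : D₁} (e : Y ≅ Y') (h : FF T X Y) : FF T X Y' := by
  constructor
  · intro φ₁ φ₂ h12
    have : φ₁ ≫ e.inv = φ₂ ≫ e.inv := h.1 (by
      change T.map (φ₁ ≫ e.inv) = T.map (φ₂ ≫ e.inv)
      rw [T.map_comp, T.map_comp]; exact congrArg (· ≫ T.map e.inv) h12)
    exact (cancel_mono e.inv).1 this
  · intro χ
    obtain ⟨φ, hφ⟩ := h.2 (χ ≫ T.map e.inv)
    refine ⟨φ ≫ e.hom, ?_⟩
    change T.map (φ ≫ e.hom) = χ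
    have hφ' : T.map φ = χ ≫ T.map e.inv := hφ
    rw [T.map_comp, hφ', Category.assoc, ← T.map_comp, e.inv_hom_id, T.map_id, Category.comp_id]

omit [HasZeroObject D₁] [HasZeroObject D₂]
  [HasShift D₁ ℤ] [HasShift D₂ ℤ] [∀ n : ℤ, (shiftFunctor D₁ n).Additive]
  [∀ n : ℤ, (shiftFunctor D₂ n).Additive] [Pretriangulated D₁] [Pretriangulated D₂] in
lemma FF.of_isZero_left [T.PreservesZeroMorphisms] {X Y : D₁} (hX : IsZero X) : FF T X Y := by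
  constructor
  · intro φ₁ φ₂ _
    exact hX.eq_of_src _ _
  · intro χ
    exact ⟨0, (T.map_isZero hX).eq_of_src _ _⟩

omit [HasZeroObject D₁] [HasZeroObject D₂]
  [HasShift D₁ ℤ] [HasShift D₂ ℤ] [∀ n : ℤ, (shiftFunctor D₁ n).Additive]
  [∀ n : ℤ, (shiftFunctor D₂ n).Additive] [Pretriangulated D₁] [Pretriangulated D₂] in
lemma FF.of_isZero_right [T.PreservesZeroMorphisms] {X Y : D₁} (hY : IsZero Y) : FF T X Y := by
  constructor
  · intro φ₁ φ₂ _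
    exact hY.eq_of_tgt _ _
  · intro χ
    exact ⟨0, (T.map_isZero hY).eq_of_tgt _ _⟩

omit [Preadditive D₁] [Preadditive D₂] [HasZeroObject D₁] [HasZeroObject D₂]
  [∀ n : ℤ, (shiftFunctor D₁ n).Additive]
  [∀ n : ℤ, (shiftFunctor D₂ n).Additive] [Pretriangulated D₁] [Pretriangulated D₂] in
lemma FF.shift [T.CommShift ℤ] {X Y : D₁} (n : ℤ) (h : FF T X Y) : FF T (X⟦n⟧) (Y⟦n⟧) := by
  have key : ∀ φ : X ⟶ Y, T.map (φ⟦n⟧') =
      (T.commShiftIso n).hom.app X ≫ (T.map φ)⟦n⟧' ≫ (T.commShiftIso n).inv.app Y := by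
    intro φ
    have := (T.commShiftIso n).hom.naturality φ
    simp only [Functor.comp_map] at this
    rw [← Category.assoc, ← this, Category.assoc, Iso.hom_inv_id_app, Category.comp_id]
  constructor
  · intro ψ₁ ψ₂ h12
    obtain ⟨φ₁, rfl⟩ := (shiftFunctor D₁ n).map_surjective ψ₁
    obtain ⟨φ₂, rfl⟩ := (shiftFunctor D₁ n).map_surjective ψ₂
    have h12' : T.map (φ₁⟦n⟧') = T.map (φ₂⟦n⟧') := h12
    rw [key, key, cancel_epi, cancel_mono] at h12'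
    have := (shiftFunctor D₂ n).map_injective h12'
    rw [h.1 this]
  · intro χ
    obtain ⟨ξ, hξ⟩ := (shiftFunctor D₂ n).map_surjective
      ((T.commShiftIso n).inv.app X ≫ χ ≫ (T.commShiftIso n).hom.app Y)
    obtain ⟨φ, hφ⟩ := h.2 ξ
    refine ⟨φ⟦n⟧', ?_⟩
    change T.map (φ⟦n⟧') = χ
    have hφ' : T.map φ = ξ := hφ
    rw [key, hφ', hξ]
    simp

variable [T.CommShift ℤ] [T.IsTriangulated]

/-- five lemma in the first variable -/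
lemma FF.obj₂_left (Tr : Triangle D₁) (hTr : Tr ∈ distTriang D₁) (Y : D₁)
    (h₁ : FF T Tr.obj₁ Y) (h₃ : FF T Tr.obj₃ Y) (h₁' : FF T (Tr.obj₁⟦(1 : ℤ)⟧) Y)
    (h₃' : FF T (Tr.obj₃⟦(-1 : ℤ)⟧) Y) : FF T Tr.obj₂ Y := by
  have hT := T.map_distinguished Tr hTr
  have hTrot := T.map_distinguished _ (rot_of_distTriang _ hTr)
  have hinv := inv_rot_of_distTriang _ hTr
  let w : Tr.obj₃⟦(-1 : ℤ)⟧ ⟶ Tr.obj₁ := Tr.invRotate.mor₁
  have hw : w ≫ Tr.mor₁ = 0 := comp_distTriang_mor_zero₁₂ _ hinv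
  have ex0 : ∀ φ : Tr.obj₂ ⟶ Y, Tr.mor₁ ≫ φ = 0 → ∃ ψ : Tr.obj₃ ⟶ Y, φ = Tr.mor₂ ≫ ψ :=
    fun φ h => Triangle.yoneda_exact₂ Tr hTr φ h
  have exL : ∀ α : Tr.obj₁ ⟶ Y, w ≫ α = 0 → ∃ β : Tr.obj₂ ⟶ Y, α = Tr.mor₁ ≫ β :=
    fun α h => Triangle.yoneda_exact₂ _ hinv α h
  have exT : ∀ ξ : T.obj Tr.obj₂ ⟶ T.obj Y, T.map Tr.mor₁ ≫ ξ = 0 →
      ∃ γ : T.obj Tr.obj₃ ⟶ T.obj Y, ξ = T.map Tr.mor₂ ≫ γ :=
    fun ξ h => Triangle.yoneda_exact₂ _ hT ξ h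
  have exTrot : ∀ ξ : T.obj Tr.obj₃ ⟶ T.obj Y, T.map Tr.mor₂ ≫ ξ = 0 →
      ∃ χ : T.obj (Tr.obj₁⟦(1 : ℤ)⟧) ⟶ T.obj Y, ξ = T.map Tr.mor₃ ≫ χ :=
    fun ξ h => Triangle.yoneda_exact₂ _ hTrot ξ h
  clear_value w
  constructor
  · -- injectivity
    have inj0 : ∀ φ : Tr.obj₂ ⟶ Y, T.map φ = 0 → φ = 0 := by
      intro φ hφ
      have h1 : Tr.mor₁ ≫ φ = 0 := h₁.1 (by
        change T.map (Tr.mor₁ ≫ φ) = T.map 0
        rw [T.map_comp, hφ, Limits.comp_zero, T.map_zero])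
      obtain ⟨ψ, rfl⟩ := ex0 φ h1
      have h2 : T.map Tr.mor₂ ≫ T.map ψ = 0 := by rw [← T.map_comp]; exact hφ
      obtain ⟨χ, hχ⟩ := exTrot (T.map ψ) h2
      obtain ⟨ω, hω⟩ := h₁'.2 χ
      have hω' : T.map ω = χ := hω
      have h3 : ψ = Tr.mor₃ ≫ ω := h₃.1 (by
        change T.map ψ = T.map (Tr.mor₃ ≫ ω)
        rw [hχ, T.map_comp, hω'])
      rw [h3, ← Category.assoc, comp_distTriang_mor_zero₂₃ _ hTr, Limits.zero_comp]
    intro φ₁ φ₂ h12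
    have h12' : T.map φ₁ = T.map φ₂ := h12
    have := inj0 (φ₁ - φ₂) (by rw [T.map_sub, h12', sub_self])
    exact sub_eq_zero.1 this
  · -- surjectivity
    intro χ
    obtain ⟨α, hα⟩ := h₁.2 (T.map Tr.mor₁ ≫ χ)
    have hα' : T.map α = T.map Tr.mor₁ ≫ χ := hα
    have h1 : w ≫ α = 0 := h₃'.1 (by
      change T.map (w ≫ α) = T.map 0
      rw [T.map_comp, hα', ← Category.assoc, ← T.map_comp, hw, T.map_zero, T.map_zero,
        Limits.zero_comp])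
    obtain ⟨β, hβ⟩ := exL α h1
    have h2 : T.map Tr.mor₁ ≫ (χ - T.map β) = 0 := by
      rw [Preadditive.comp_sub, ← hα', ← T.map_comp, ← hβ, sub_self]
    obtain ⟨γ, hγ⟩ := exT (χ - T.map β) h2
    obtain ⟨δ, hδ⟩ := h₃.2 γ
    have hδ' : T.map δ = γ := hδ
    refine ⟨β + Tr.mor₂ ≫ δ, ?_⟩
    change T.map (β + Tr.mor₂ ≫ δ) = χ
    rw [T.map_add, T.map_comp, hδ', ← hγ]
    abel

/-- five lemma in the second variable -/
lemma FF.obj₂_right (Tr : Triangle D₁) (hTr : Tr ∈ distTriang D₁) (X : D₁)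
    (h₁ : FF T X Tr.obj₁) (h₃ : FF T X Tr.obj₃) (h₁' : FF T X (Tr.obj₁⟦(1 : ℤ)⟧))
    (h₃' : FF T X (Tr.obj₃⟦(-1 : ℤ)⟧)) : FF T X Tr.obj₂ := by
  have hT := T.map_distinguished Tr hTr
  have hrot := rot_of_distTriang _ hTr
  have hinv := inv_rot_of_distTriang _ hTr
  have hTinv := T.map_distinguished _ hinv
  let w : Tr.obj₃⟦(-1 : ℤ)⟧ ⟶ Tr.obj₁ := Tr.invRotate.mor₁
  have hw : w ≫ Tr.mor₁ = 0 := comp_distTriang_mor_zero₁₂ _ hinv
  have ex0 : ∀ φ : X ⟶ Tr.obj₂, φ ≫ Tr.mor₂ = 0 → ∃ ψ : X ⟶ Tr.obj₁, φ = ψ ≫ Tr.mor₁ :=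
    fun φ h => Triangle.coyoneda_exact₂ Tr hTr φ h
  have exR : ∀ γ : X ⟶ Tr.obj₃, γ ≫ Tr.mor₃ = 0 → ∃ β : X ⟶ Tr.obj₂, γ = β ≫ Tr.mor₂ :=
    fun γ h => Triangle.coyoneda_exact₂ _ hrot γ h
  have exT : ∀ ξ : T.obj X ⟶ T.obj Tr.obj₂, ξ ≫ T.map Tr.mor₂ = 0 →
      ∃ α' : T.obj X ⟶ T.obj Tr.obj₁, ξ = α' ≫ T.map Tr.mor₁ :=
    fun ξ h => Triangle.coyoneda_exact₂ _ hT ξ h
  have exTinv : ∀ ξ : T.obj X ⟶ T.obj Tr.obj₁, ξ ≫ T.map Tr.mor₁ = 0 →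
      ∃ χ : T.obj X ⟶ T.obj (Tr.obj₃⟦(-1 : ℤ)⟧), ξ = χ ≫ T.map w :=
    fun ξ h => Triangle.coyoneda_exact₂ _ hTinv ξ h
  clear_value w
  constructor
  · have inj0 : ∀ φ : X ⟶ Tr.obj₂, T.map φ = 0 → φ = 0 := by
      intro φ hφ
      have h1 : φ ≫ Tr.mor₂ = 0 := h₃.1 (by
        change T.map (φ ≫ Tr.mor₂) = T.map 0
        rw [T.map_comp, hφ, Limits.zero_comp, T.map_zero])
      obtain ⟨ψ, rfl⟩ := ex0 φ h1
      have h2 : T.map ψ ≫ T.map Tr.mor₁ = 0 := by rw [← T.map_comp]; exact hφ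
      obtain ⟨χ, hχ⟩ := exTinv (T.map ψ) h2
      obtain ⟨ω, hω⟩ := h₃'.2 χ
      have hω' : T.map ω = χ := hω
      have h3 : ψ = ω ≫ w := h₁.1 (by
        change T.map ψ = T.map (ω ≫ w)
        rw [hχ, T.map_comp, hω'])
      rw [h3, Category.assoc, hw, Limits.comp_zero]
    intro φ₁ φ₂ h12
    have h12' : T.map φ₁ = T.map φ₂ := h12
    have := inj0 (φ₁ - φ₂) (by rw [T.map_sub, h12', sub_self])
    exact sub_eq_zero.1 this
  · intro χ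
    obtain ⟨γ, hγ⟩ := h₃.2 (χ ≫ T.map Tr.mor₂)
    have hγ' : T.map γ = χ ≫ T.map Tr.mor₂ := hγ
    have h1 : γ ≫ Tr.mor₃ = 0 := h₁'.1 (by
      change T.map (γ ≫ Tr.mor₃) = T.map 0
      rw [T.map_comp, hγ', Category.assoc, ← T.map_comp, comp_distTriang_mor_zero₂₃ _ hTr,
        T.map_zero, T.map_zero, Limits.comp_zero])
    obtain ⟨β, hβ⟩ := exR γ h1
    have h2 : (χ - T.map β) ≫ T.map Tr.mor₂ = 0 := by
      rw [Preadditive.sub_comp, ← hγ', ← T.map_comp, ← hβ, sub_self]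
    obtain ⟨α', hα'⟩ := exT (χ - T.map β) h2
    obtain ⟨α, hα⟩ := h₁.2 α'
    have hα2 : T.map α = α' := hα
    refine ⟨β + α ≫ Tr.mor₁, ?_⟩
    change T.map (β + α ≫ Tr.mor₁) = χ
    rw [T.map_add, T.map_comp, hα2, ← hα']
    abel

end Gen

section Shifted

variable {D₁ : Type u₁} {D₂ : Type u₂} [Category.{v₁} D₁] [Category.{v₂} D₂]
  [Preadditive D₁] [Preadditive D₂] [HasZeroObject D₁] [HasZeroObject D₂]
  [HasShift D₁ ℤ] [HasShift D₂ ℤ]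
  [∀ n : ℤ, (shiftFunctor D₁ n).Additive] [∀ n : ℤ, (shiftFunctor D₂ n).Additive]
  [Pretriangulated D₁] [Pretriangulated D₂]
  (T : D₁ ⥤ D₂) [T.CommShift ℤ] [T.IsTriangulated]

/-- `T` is bijective on `Hom(K[m], Y)` for all `m` -/
def FFL (Y K : D₁) : Prop := ∀ m : ℤ, FF T (K⟦m⟧) Y

/-- `T` is bijective on `Hom(X, L[n])` for all `n` -/
def FFR (X L : D₁) : Prop := ∀ n : ℤ, FF T X (L⟦n⟧)

variable {T}

omit [T.IsTriangulated] [T.CommShift ℤ] [HasZeroObject D₁] [HasZeroObject D₂]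
  [∀ n : ℤ, (shiftFunctor D₁ n).Additive] [∀ n : ℤ, (shiftFunctor D₂ n).Additive]
  [Pretriangulated D₁] [Pretriangulated D₂] [Preadditive D₁] [Preadditive D₂] in
lemma FFL.of_iso {Y K K' : D₁} (e : K ≅ K') (h : FFL T Y K) : FFL T Y K' :=
  fun m => (h m).of_iso_left ((shiftFunctor D₁ m).mapIso e)

omit [T.IsTriangulated] [T.CommShift ℤ] [HasZeroObject D₁] [HasZeroObject D₂]
  [∀ n : ℤ, (shiftFunctor D₁ n).Additive] [∀ n : ℤ, (shiftFunctor D₂ n).Additive]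
  [Pretriangulated D₁] [Pretriangulated D₂] [Preadditive D₁] [Preadditive D₂] in
lemma FFL.shift {Y K : D₁} (k : ℤ) (h : FFL T Y K) : FFL T Y (K⟦k⟧) :=
  fun m => (h (k + m)).of_iso_left ((shiftFunctorAdd' D₁ k m (k + m) rfl).app K)

omit [T.CommShift ℤ] [HasZeroObject D₁] [HasZeroObject D₂]
  [∀ n : ℤ, (shiftFunctor D₂ n).Additive]
  [Pretriangulated D₁] [Pretriangulated D₂] [T.IsTriangulated] in
lemma FFL.of_isZero [T.PreservesZeroMorphisms] {Y K : D₁} (hK : IsZero K) : FFL T Y K :=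
  fun m => FF.of_isZero_left ((shiftFunctor D₁ m).map_isZero hK)

lemma FFL.obj₂ {Y : D₁} (Tr : Triangle D₁) (hTr : Tr ∈ distTriang D₁)
    (h₁ : FFL T Y Tr.obj₁) (h₃ : FFL T Y Tr.obj₃) : FFL T Y Tr.obj₂ := by
  intro m
  have hm := Triangle.shift_distinguished Tr hTr m
  exact FF.obj₂_left _ hm Y (h₁ m) (h₃ m)
    ((h₁ (m + 1)).of_iso_left ((shiftFunctorAdd' D₁ m 1 (m + 1) rfl).app Tr.obj₁))
    ((h₃ (m + (-1))).of_iso_left ((shiftFunctorAdd' D₁ m (-1) (m + (-1)) rfl).app Tr.obj₃))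

omit [T.IsTriangulated] [T.CommShift ℤ] [HasZeroObject D₁] [HasZeroObject D₂]
  [∀ n : ℤ, (shiftFunctor D₁ n).Additive] [∀ n : ℤ, (shiftFunctor D₂ n).Additive]
  [Pretriangulated D₁] [Pretriangulated D₂] [Preadditive D₁] [Preadditive D₂] in
lemma FFR.of_iso {X L L' : D₁} (e : L ≅ L') (h : FFR T X L) : FFR T X L' :=
  fun n => (h n).of_iso_right ((shiftFunctor D₁ n).mapIso e)

omit [T.IsTriangulated] [T.CommShift ℤ] [HasZeroObject D₁] [HasZeroObject D₂]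
  [∀ n : ℤ, (shiftFunctor D₁ n).Additive] [∀ n : ℤ, (shiftFunctor D₂ n).Additive]
  [Pretriangulated D₁] [Pretriangulated D₂] [Preadditive D₁] [Preadditive D₂] in
lemma FFR.shift {X L : D₁} (k : ℤ) (h : FFR T X L) : FFR T X (L⟦k⟧) :=
  fun n => (h (k + n)).of_iso_right ((shiftFunctorAdd' D₁ k n (k + n) rfl).app L)

omit [T.CommShift ℤ] [HasZeroObject D₁] [HasZeroObject D₂]
  [∀ n : ℤ, (shiftFunctor D₂ n).Additive]
  [Pretriangulated D₁] [Pretriangulated D₂] [T.IsTriangulated] in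
lemma FFR.of_isZero [T.PreservesZeroMorphisms] {X L : D₁} (hL : IsZero L) : FFR T X L :=
  fun n => FF.of_isZero_right ((shiftFunctor D₁ n).map_isZero hL)

lemma FFR.obj₂ {X : D₁} (Tr : Triangle D₁) (hTr : Tr ∈ distTriang D₁)
    (h₁ : FFR T X Tr.obj₁) (h₃ : FFR T X Tr.obj₃) : FFR T X Tr.obj₂ := by
  intro n
  have hn := Triangle.shift_distinguished Tr hTr n
  exact FF.obj₂_right _ hn X (h₁ n) (h₃ n)
    ((h₁ (n + 1)).of_iso_right ((shiftFunctorAdd' D₁ n 1 (n + 1) rfl).app Tr.obj₁))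
    ((h₃ (n + (-1))).of_iso_right ((shiftFunctorAdd' D₁ n (-1) (n + (-1)) rfl).app Tr.obj₃))

end Shifted

open DerivedCategory DerivedCategory.TStructure Groth.Agent.Helper24.WayOut ZeroObject

section CohInBdd

variable {𝒜 : Type u₁} [Category.{v₁} 𝒜] [Abelian 𝒜] [HasDerivedCategory.{w₁} 𝒜]
  (P : ObjectProperty 𝒜) [WSerre.IsWeakSerre P]

theorem cohInBdd_of_iso {K K' : DerivedCategory 𝒜} (e : K ≅ K') (h : WSerre.cohInBdd P K) :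
    WSerre.cohInBdd P K' :=
  ⟨fun q => P.prop_of_iso ((homologyFunctor 𝒜 q).mapIso e) (h.1 q),
    (t : Triangulated.TStructure (DerivedCategory 𝒜)).bounded.prop_of_iso e h.2⟩

theorem cohInBdd_shift {K : DerivedCategory 𝒜} (n : ℤ) (h : WSerre.cohInBdd P K) :
    WSerre.cohInBdd P (K⟦n⟧) :=
  ⟨fun q => P.prop_of_iso (((homologyFunctor 𝒜 0).shiftIso n q (n + q) rfl).app K).symm (h.1 (n + q)),
    (t : Triangulated.TStructure (DerivedCategory 𝒜)).bounded.le_shift n _ h.2⟩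

theorem cohInBdd_of_isZero {K : DerivedCategory 𝒜} (hK : IsZero K) : WSerre.cohInBdd P K :=
  ⟨fun q => P.prop_of_isZero (Functor.map_isZero _ hK),
    ⟨⟨0, t.isGE_of_isZero hK 0⟩, ⟨0, t.isLE_of_isZero hK 0⟩⟩⟩

theorem cohInBdd_obj₂ (Tr : Triangle (DerivedCategory 𝒜)) (hTr : Tr ∈ distTriang _)
    (h₁ : WSerre.cohInBdd P Tr.obj₁) (h₃ : WSerre.cohInBdd P Tr.obj₃) :
    WSerre.cohInBdd P Tr.obj₂ :=
  ⟨fun q => prop_homology_obj₂ P Tr hTr h₁.1 h₃.1 q,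
    (t : Triangulated.TStructure (DerivedCategory 𝒜)).bounded.ext_of_isTriangulatedClosed₂ Tr hTr
      h₁.2 h₃.2⟩

theorem cohInBdd_single (F : 𝒜) (hF : P F) : WSerre.cohInBdd P ((singleFunctor 𝒜 0).obj F) :=
  ⟨fun q => prop_homology_single P F hF q, ⟨⟨0, inferInstance⟩, ⟨0, inferInstance⟩⟩⟩

/-- dévissage over `D^b_P` -/
theorem devissage_cohInBdd (𝒮 : ObjectProperty (DerivedCategory 𝒜))
    (h_iso : ∀ {X Y : DerivedCategory 𝒜}, (X ≅ Y) → 𝒮 X → 𝒮 Y)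
    (h_shift : ∀ (X : DerivedCategory 𝒜) (n : ℤ), 𝒮 X → 𝒮 (X⟦n⟧))
    (h_zero : ∀ X : DerivedCategory 𝒜, IsZero X → 𝒮 X)
    (h_tri : ∀ T : Triangle (DerivedCategory 𝒜), T ∈ distTriang _ → 𝒮 T.obj₁ → 𝒮 T.obj₃ → 𝒮 T.obj₂)
    (h_base : ∀ F : 𝒜, P F → 𝒮 ((singleFunctor 𝒜 0).obj F))
    (K : DerivedCategory 𝒜) (hK : WSerre.cohInBdd P K) : 𝒮 K := by
  obtain ⟨hc, ⟨a, ha⟩, ⟨b, hb⟩⟩ := hK
  have ha' : K.IsGE a := ha
  have hb' : K.IsLE (a + ((b - a).toNat : ℤ)) := by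
    have hb0 : K.IsLE b := hb
    exact t.isLE_of_le K b _ (by omega)
  exact devissage_bounded 𝒮 h_iso h_shift h_zero h_tri (b - a).toNat K a ha' hb'
    (fun q => h_base _ (hc q))

end CohInBdd

section Main

variable {𝒜 : Type u₁} [Category.{v₁} 𝒜] [Abelian 𝒜] [HasDerivedCategory.{w₁} 𝒜]
  {ℬ : Type u₂} [Category.{v₂} ℬ] [Abelian ℬ] [HasDerivedCategory.{w₂} ℬ]
  (T : DerivedCategory 𝒜 ⥤ DerivedCategory ℬ) [T.CommShift ℤ] [T.IsTriangulated]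
  (P : ObjectProperty 𝒜) [WSerre.IsWeakSerre P]

/-- full faithfulness on `D^b_P` from full faithfulness on `Ext` groups between objects of `P` -/
theorem ff_of_cohInBdd
    (h2 : ∀ F F' : 𝒜, P F → P F' → ∀ n : ℤ,
      FF T ((singleFunctor 𝒜 0).obj F) (((singleFunctor 𝒜 0).obj F')⟦n⟧))
    (K L : DerivedCategory 𝒜) (hK : WSerre.cohInBdd P K) (hL : WSerre.cohInBdd P L) :
    FF T K L := by
  have hA : ∀ (F' : 𝒜), P F' → ∀ n : ℤ, FFL T (((singleFunctor 𝒜 0).obj F')⟦n⟧) K := by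
    intro F' hF' n
    refine devissage_cohInBdd P (fun K => FFL T (((singleFunctor 𝒜 0).obj F')⟦n⟧) K)
      (fun e h => h.of_iso e) (fun X k h => h.shift k) (fun X hX => FFL.of_isZero hX)
      (fun Tr hTr h1 h3 => FFL.obj₂ Tr hTr h1 h3) ?_ K hK
    intro F hF m
    exact ((h2 F F' hF hF' (n - m)).shift m).of_iso_right
      ((shiftFunctorAdd' (DerivedCategory 𝒜) (n - m) m n (by omega)).symm.app _)
  have hB : FFR T K L := by
    refine devissage_cohInBdd P (fun L => FFR T K L)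
      (fun e h => h.of_iso e) (fun X k h => h.shift k) (fun X hX => FFR.of_isZero hX)
      (fun Tr hTr h1 h3 => FFR.obj₂ Tr hTr h1 h3) ?_ L hL
    intro F' hF' n
    exact (hA F' hF' n 0).of_iso_left ((shiftFunctorZero (DerivedCategory 𝒜) ℤ).app K)
  exact (hB 0).of_iso_right ((shiftFunctorZero (DerivedCategory 𝒜) ℤ).app L)

variable (Q : ObjectProperty ℬ) [WSerre.IsWeakSerre Q]

/-- essential surjectivity onto `D^b_Q` -/
theorem essSurj_of_cohInBdd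
    (hfull : ∀ K L : DerivedCategory 𝒜, WSerre.cohInBdd P K → WSerre.cohInBdd P L →
      Function.Surjective (fun φ : K ⟶ L => T.map φ))
    (hbase : ∀ N : ℬ, Q N → ∃ K : DerivedCategory 𝒜, WSerre.cohInBdd P K ∧
      Nonempty (T.obj K ≅ (singleFunctor ℬ 0).obj N))
    (M : DerivedCategory ℬ) (hM : WSerre.cohInBdd Q M) :
    ∃ K : DerivedCategory 𝒜, WSerre.cohInBdd P K ∧ Nonempty (T.obj K ≅ M) := by
  refine devissage_cohInBdd Q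
    (fun M => ∃ K : DerivedCategory 𝒜, WSerre.cohInBdd P K ∧ Nonempty (T.obj K ≅ M))
    ?_ ?_ ?_ ?_ hbase M hM
  · rintro X Y e ⟨K, hK, ⟨e'⟩⟩
    exact ⟨K, hK, ⟨e' ≪≫ e⟩⟩
  · rintro X n ⟨K, hK, ⟨e'⟩⟩
    exact ⟨K⟦n⟧, cohInBdd_shift P n hK,
      ⟨(T.commShiftIso n).app K ≪≫ (shiftFunctor _ n).mapIso e'⟩⟩
  · intro X hX
    exact ⟨(0 : DerivedCategory 𝒜), cohInBdd_of_isZero P (isZero_zero _),
      ⟨(T.map_isZero (isZero_zero _)).iso hX⟩⟩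
  · rintro Tr hTr ⟨K₁, hK₁, ⟨e₁⟩⟩ ⟨K₃, hK₃, ⟨e₃⟩⟩
    obtain ⟨δ, hδ⟩ := hfull K₃ (K₁⟦(1 : ℤ)⟧) hK₃ (cohInBdd_shift P 1 hK₁)
      (e₃.hom ≫ Tr.mor₃ ≫ e₁.inv⟦(1 : ℤ)⟧' ≫ (T.commShiftIso (1 : ℤ)).inv.app K₁)
    have hδ' : T.map δ =
      e₃.hom ≫ Tr.mor₃ ≫ e₁.inv⟦(1 : ℤ)⟧' ≫ (T.commShiftIso (1 : ℤ)).inv.app K₁ := hδ
    obtain ⟨K₂, f, g, hdist⟩ := distinguished_cocone_triangle₂ δ
    have hTd := T.map_distinguished _ hdist
    have comm : (T.mapTriangle.obj (Triangle.mk f g δ)).mor₃ ≫ e₁.hom⟦(1 : ℤ)⟧' =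
        e₃.hom ≫ Tr.mor₃ := by
      change (T.map δ ≫ (T.commShiftIso (1 : ℤ)).hom.app K₁) ≫ e₁.hom⟦(1 : ℤ)⟧' = _
      rw [hδ']
      simp only [Category.assoc, Iso.inv_hom_id_app_assoc]
      rw [← CategoryTheory.Functor.map_comp, e₁.inv_hom_id, CategoryTheory.Functor.map_id,
        Category.comp_id]
    obtain ⟨b, hb₁, hb₂⟩ := complete_distinguished_triangle_morphism₂ _ Tr hTd hTr
      e₁.hom e₃.hom comm
    let φ : T.mapTriangle.obj (Triangle.mk f g δ) ⟶ Tr :=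
      { hom₁ := e₁.hom
        hom₂ := b
        hom₃ := e₃.hom
        comm₁ := hb₁
        comm₂ := hb₂
        comm₃ := comm }
    have hb : IsIso b := isIso₂_of_isIso₁₃ φ hTd hTr (by dsimp [φ]; infer_instance)
      (by dsimp [φ]; infer_instance)
    refine ⟨K₂, ?_, ⟨@asIso _ _ _ _ b hb⟩⟩
    exact cohInBdd_obj₂ P (Triangle.mk f g δ) hdist hK₁ hK₃

end Main

section Exact

variable {𝒜 : Type u₁} [Category.{v₁} 𝒜] [Abelian 𝒜] [HasDerivedCategory.{w₁} 𝒜]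
  {ℬ : Type u₂} [Category.{v₂} ℬ] [Abelian ℬ] [HasDerivedCategory.{w₂} ℬ]
  (F : 𝒜 ⥤ ℬ) [F.Additive] [PreservesFiniteLimits F] [PreservesFiniteColimits F]
  (P : ObjectProperty 𝒜) (Q : ObjectProperty ℬ) [Q.IsClosedUnderIsomorphisms]

theorem cohInBdd_mapDerivedCategory (h : ∀ X, P X → Q (F.obj X)) (K : DerivedCategory 𝒜)
    (hK : WSerre.cohInBdd P K) : WSerre.cohInBdd Q (F.mapDerivedCategory.obj K) := by
  obtain ⟨hc, ⟨a, ha⟩, ⟨b, hb⟩⟩ := hK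
  refine ⟨fun q => ?_, ⟨a, ?_⟩, ⟨b, ?_⟩⟩
  · exact Q.prop_of_iso ((mapDerivedCategoryHomologyIso F q).app K).symm (h _ (hc q))
  · exact leftTExact_mapDerivedCategory F K a ha
  · exact rightTExact_mapDerivedCategory F K b hb

end Exact

end Groth.Agent.Helper24.FFDev
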