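import Mathlib
import Groth.Prelude.Def_ModSite
import Groth.Prelude.Def_ModSite2
import Groth.Prelude.Def_Coh
import Groth.Agent.Lib.Helper24.FrMod4
import Groth.Agent.Lib.Helper24.Supp2
import Groth.Agent.Lib.Helper24.Flasque
import Groth.Agent.Lib.Helper13.RpushCmp

/-!
`ℋom_O(F, Q)` is flasque for injective `Q`; direct images of it are acyclic for direct images
(helper24).
-/

set_option autoImplicit false
universe u
open CategoryTheory CategoryTheory.Limits Opposite

namespace Groth.Agent.Helper24.RelExt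

open Groth.Agent.Helper24.FrMod Groth.Agent.Helper24.Supp Groth.Agent.Helper17.MT

section Site
variable {C : Type u} [SmallCategory C] {J : GrothendieckTopology C}

theorem free_map_injective {X T : Type u} (t : X → T) (ht : Function.Injective t) :
    Function.Injective (FreeAbelianGroup.map t) := by
  by_cases hX : Nonempty X
  · obtain ⟨r, hr⟩ := ht.hasLeftInverse
    apply Function.LeftInverse.injective (g := FreeAbelianGroup.map r)
    intro x
    rw [← FreeAbelianGroup.map_comp_apply]
    have : r ∘ t = id := funext hr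
    rw [this, FreeAbelianGroup.map_id_apply]
  · rw [not_nonempty_iff] at hX
    intro p q _
    apply (FreeAbelianGroup.equivFinsupp X).injective
    ext x
    exact (hX.false x).elim

/-- an abelian sheaf with the extension property along monomorphisms with torsion-free cokernel
has surjective restriction maps along monomorphisms into objects with at most one map from
every object -/
theorem restrict_surjective_of_extend (A : Sheaf J Ab.{u})
    (hext : ∀ (S : ShortComplex (Sheaf J Ab.{u})), S.ShortExact → TF S.X₃ →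
      ∀ η : S.X₁ ⟶ A, ∃ ζ : S.X₂ ⟶ A, S.f ≫ ζ = η)
    {V U : C} (i : V ⟶ U) [Mono i] (hU : ∀ W : C, Subsingleton (W ⟶ U)) :
    Function.Surjective (A.obj.map i.op).hom := by
  let g := Functor.whiskerRight (yoneda.map i) AddCommGrpCat.free.{u}
  have hg : Mono g := by
    rw [NatTrans.mono_iff_mono_app]
    intro W
    rw [AddCommGrpCat.mono_iff_injective]
    apply free_map_injective
    intro a b hab
    exact (cancel_mono i).1 hab
  let Sp : ShortComplex (Cᵒᵖ ⥤ Ab.{u}) := ShortComplex.mk g (cokernel.π g) (cokernel.condition g)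
  have hSp : Sp.ShortExact :=
    { exact := ShortComplex.exact_of_g_is_cokernel _ (cokernelIsCokernel g)
      mono_f := hg
      epi_g := inferInstanceAs (Epi (cokernel.π g)) }
  let S : ShortComplex (Sheaf J Ab.{u}) := Sp.map (presheafToSheaf J Ab.{u})
  have hS : S.ShortExact := hSp.map_of_exact (presheafToSheaf J Ab.{u})
  have h3 : TF S.X₃ :=
    tf_sheafify _ (fun W n hn => coker_free_tf (yoneda.map i) (fun W => hU W.unop) W n hn)
  intro s
  let τ : yoneda.obj V ⟶ (sheafToPresheaf J AddCommGrpCat.{u} ⋙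
      (Functor.whiskeringRight Cᵒᵖ _ _).obj (forget AddCommGrpCat.{u})).obj A :=
    yonedaEquiv.symm s
  let η : S.X₁ ⟶ A := ((freeAdj (J := J)).homEquiv (yoneda.obj V) A).symm τ
  obtain ⟨ζ, hζ⟩ := hext S hS h3 η
  let σ := (freeAdj (J := J)).homEquiv (yoneda.obj U) A ζ
  refine ⟨yonedaEquiv σ, ?_⟩
  have h1 : yoneda.map i ≫ σ = τ := by
    have := (freeAdj (J := J)).homEquiv_naturality_left (yoneda.map i) ζ
    rw [← this]
    have h2 : ((Functor.whiskeringRight Cᵒᵖ _ _).obj AddCommGrpCat.free.{u} ⋙
      presheafToSheaf J AddCommGrpCat.{u}).map (yoneda.map i) ≫ ζ = η := hζ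
    rw [h2]
    exact Equiv.apply_symm_apply _ _
  have h4 := yonedaEquiv_naturality σ i
  rw [h1] at h4
  exact h4.trans (Equiv.apply_symm_apply _ _)

end Site

section Top
variable {X : TopCat.{u}}

theorem isFlasque_of_extend (A : CohTop.Ab X)
    (hext : ∀ (S : ShortComplex (CohTop.Ab X)), S.ShortExact → TF S.X₃ →
      ∀ η : S.X₁ ⟶ A, ∃ ζ : S.X₂ ⟶ A, S.f ≫ ζ = η) : TopCat.Sheaf.IsFlasque A where
  epi {U V} i := by
    rw [AddCommGrpCat.epi_iff_surjective]
    have : Mono i.unop := ⟨fun _ _ _ => Subsingleton.elim _ _⟩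
    exact restrict_surjective_of_extend A hext i.unop (fun W => ⟨fun _ _ => Subsingleton.elim _ _⟩)

end Top

section Scheme
open AlgebraicGeometry

variable {X Y Z : Scheme.{u}}

theorem isFlasque_sheafHom (F : ModSite.Mod X.sheaf) [ModSite.HasSheafHom F]
    (Q : ModSite.Mod X.sheaf) [Injective Q] :
    TopCat.Sheaf.IsFlasque (X := X.toTopCat) (ModSite.toAb ((ModSite.sheafHom F).obj Q)) :=
  isFlasque_of_extend _ (fun _ hS h3 η => extend F Q hS h3 η)

theorem isZero_of_isZero_toAb (N : Z.Modules) (h : IsZero (Coh.toAb N)) : IsZero N := by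
  rw [IsZero.iff_id_eq_zero]
  apply (SheafOfModules.toSheaf Z.ringCatSheaf).map_injective
  exact ((SheafOfModules.toSheaf Z.ringCatSheaf).map_id N).trans
    (((IsZero.iff_id_eq_zero _).1 h).trans ((SheafOfModules.toSheaf Z.ringCatSheaf).map_zero _ _).symm)

theorem isZero_Rpush_push_sheafHom (f : X ⟶ Y) (g : Y ⟶ Z) [HasInjectiveResolutions Y.Modules]
    (F : ModSite.Mod X.sheaf) [ModSite.HasSheafHom F] (Q : ModSite.Mod X.sheaf) [Injective Q]
    (q : ℕ) :
    IsZero ((Coh.Rpush g (q + 1)).obj ((Scheme.Modules.pushforward f).obj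
      ((ModSite.sheafHom (O := X.sheaf) F).obj Q))) := by
  let M : Y.Modules := (Scheme.Modules.pushforward f).obj
    ((ModSite.sheafHom (O := X.sheaf) F).obj Q)
  obtain ⟨e⟩ := Groth.Agent.Helper13.RpushCmp.main g M (q + 1)
  have hfl0 := isFlasque_sheafHom F Q
  have hfl : TopCat.Sheaf.IsFlasque (X := Y.toTopCat) (Coh.toAb M) :=
    @TopCat.Sheaf.IsFlasque.pushforward_isFlasque X.toTopCat _ _ Y.toTopCat
      (ModSite.toAb ((ModSite.sheafHom F).obj Q)) hfl0 f.base
  have hz : IsZero ((Coh.RpushAb g (q + 1)).obj (Coh.toAb M)) :=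
    Groth.Agent.Helper24.Flasque.Rpush_succ_isZero g.base q (Coh.toAb M) hfl
  exact isZero_of_isZero_toAb _ (IsZero.of_iso hz e)

end Scheme

end Groth.Agent.Helper24.RelExt
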