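import Mathlib
import Groth.Agent.Lib.Helper24.RelExt10
import Groth.Agent.Lib.Helper24.RelExt1
import Groth.Agent.Lib.Helper29.SHomA

/-!
# `ℋom(F, I)` is flasque for injective `I` (helper24)
-/

set_option autoImplicit false
universe u
open CategoryTheory CategoryTheory.Limits AlgebraicGeometry Opposite TopologicalSpace

namespace Groth.Agent.Helper24.FlasqueHom

open Groth.Agent.Helper24.RelExt

variable {X : Scheme.{u}}

attribute [local instance] hasSheafHom'

/-- surjectivity of restriction maps is invariant under isomorphisms of modules -/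
lemma surjective_map_of_iso {M N : X.Modules} (e : M ≅ N) {U V : X.Opens} (hUV : U ≤ V)
    (h : Function.Surjective (N.val.map (homOfLE hUV).op).hom) :
    Function.Surjective (M.val.map (homOfLE hUV).op).hom := by
  intro s
  obtain ⟨t, ht⟩ := h (e.hom.val.app (op U) s)
  refine ⟨e.inv.val.app (op V) t, ?_⟩
  have h1 : M.val.map (homOfLE hUV).op (e.inv.val.app (op V) t) =
      e.inv.val.app (op U) (N.val.map (homOfLE hUV).op t) :=
    (PresheafOfModules.naturality_apply e.inv.val (homOfLE hUV).op t).symm
  have h2 : e.inv.val.app (op U) (e.hom.val.app (op U) s) = s := by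
    have := congrArg (fun φ : M ⟶ M => φ.val.app (op U) s) e.hom_inv_id
    exact this
  exact h1.trans ((congrArg (e.inv.val.app (op U)) ht).trans h2)

theorem main10942 (F I : X.Modules) [DCoh.HasSheafHom F] (hI : Injective I) (U V : X.Opens)
    (hUV : U ≤ V) :
    Function.Surjective (((DCoh.sheafHom F).obj I).val.map (homOfLE hUV).op).hom := by
  have hQ : @Injective (ModSite.Mod X.sheaf) _ I :=
    ⟨fun {A B} g f hf => @Injective.factors X.Modules _ I _ A B g f hf⟩
  let e : (DCoh.sheafHom F).obj I ≅ (ModSite.sheafHom (O := X.sheaf) F).obj I :=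
    (Groth.Agent.Helper29.SHomA.dSheafHomIso F).app I ≪≫
      ((Groth.Agent.Helper29.SHomA.sheafHomIso F).app I).symm
  apply surjective_map_of_iso e hUV
  have hfl := @isFlasque_sheafHom X F _ I hQ
  have hepi := hfl.epi (homOfLE hUV).op
  rw [AddCommGrpCat.epi_iff_surjective] at hepi
  exact hepi

end Groth.Agent.Helper24.FlasqueHom
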