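import Groth.Agent.Lib.Helper24.FrMod4
import Groth.Agent.Lib.Helper24.ModGroth

set_option autoImplicit false
universe u
open CategoryTheory

namespace Groth.Agent.Helper24.FrMod
open CategoryTheory.Limits Opposite Groth.Agent.Helper17.MT Groth.Agent.Helper24.ModGroth

variable {C : Type u} [SmallCategory C] {J : GrothendieckTopology C} (O : Sheaf J CommRingCat.{u})

/-- free presheaf of `O`-modules on a presheaf of sets, two ways -/
noncomputable def frPFreeIso :
    (Functor.whiskeringRight Cᵒᵖ _ _).obj AddCommGrpCat.free.{u} ⋙ frP O ≅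
      PresheafOfModules.free (ModSite.ringSh O).obj :=
  ((Adjunction.whiskerRight Cᵒᵖ AddCommGrpCat.adj.{u}).comp (frPAdj O)).leftAdjointUniq
    (PresheafOfModules.freeAdjunction (ModSite.ringSh O).obj)

/-- `O[K] ≅ Fr ℤ[K]` -/
noncomputable def freeSheafIso (K : Sheaf J (Type u)) :
    (ModSite.sheafify O).obj ((PresheafOfModules.free (ModSite.ringSh O).obj).obj K.obj) ≅
      (Fr O).obj ((presheafToSheaf J AddCommGrpCat.{u}).obj (K.obj ⋙ AddCommGrpCat.free.{u})) :=
  (ModSite.sheafify O).mapIso ((frPFreeIso O).app K.obj).symm ≪≫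
    ((frSheafifyIso O).app (K.obj ⋙ AddCommGrpCat.free.{u})).symm

end Groth.Agent.Helper24.FrMod

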