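import Groth.Agent.Lib.Helper24.HDMod
import Groth.Prelude.Def_SiteCmp

/-!
# The inverse image of the free module on an object is the free module on its image
-/

set_option autoImplicit false
open CategoryTheory Limits Opposite
universe u

namespace Groth.Agent.Helper24.FrPull

open Groth.Agent.Helper24.FrMod Groth.Agent.Helper24.HDMod

variable {C : Type u} [SmallCategory C] {J : GrothendieckTopology C} {O_C : Sheaf J CommRingCat.{u}}
    {D : Type u} [SmallCategory D] {K : GrothendieckTopology D} {O_D : Sheaf K CommRingCat.{u}}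
    (f : ModSite.RMor O_C O_D) (W : D)

/-- `Hom(f^* O_D[W], G) → Hom(O_C[u W], G)` -/
noncomputable def Φ (G : ModSite.Mod O_C) (a : f.pull.obj (ZM O_D W) ⟶ G) :
    ZM O_C (f.fn.obj W) ⟶ G :=
  ofSectM O_C (f.fn.obj W) G (evalM O_D W (f.push.obj G) (f.adj.homEquiv _ _ a))

/-- the inverse map -/
noncomputable def Ψ (G : ModSite.Mod O_C) (b : ZM O_C (f.fn.obj W) ⟶ G) :
    f.pull.obj (ZM O_D W) ⟶ G :=
  (f.adj.homEquiv _ _).symm (ofSectM O_D W (f.push.obj G) (evalM O_C (f.fn.obj W) G b))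

lemma Φ_Ψ (G : ModSite.Mod O_C) (b : ZM O_C (f.fn.obj W) ⟶ G) : Φ f W G (Ψ f W G b) = b := by
  unfold Φ Ψ
  rw [Equiv.apply_symm_apply, evalM_ofSectM, ofSectM_evalM]

lemma Ψ_Φ (G : ModSite.Mod O_C) (a : f.pull.obj (ZM O_D W) ⟶ G) : Ψ f W G (Φ f W G a) = a := by
  unfold Φ Ψ
  rw [evalM_ofSectM, ofSectM_evalM, Equiv.symm_apply_apply]

lemma Φ_comp {G G' : ModSite.Mod O_C} (a : f.pull.obj (ZM O_D W) ⟶ G) (p : G ⟶ G') :
    Φ f W G' (a ≫ p) = Φ f W G a ≫ p := by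
  apply evalM_injective
  unfold Φ
  rw [evalM_ofSectM, evalM_comp, evalM_ofSectM, Adjunction.homEquiv_naturality_right, evalM_comp]
  rfl

/-- `O_C[u W] ≅ f^* O_D[W]` -/
noncomputable def pullZMIso : ZM O_C (f.fn.obj W) ≅ f.pull.obj (ZM O_D W) where
  hom := Φ f W _ (𝟙 _)
  inv := Ψ f W _ (𝟙 _)
  hom_inv_id := by
    rw [← Φ_comp, Category.id_comp, Φ_Ψ]
  inv_hom_id := by
    have h : Φ f W _ (Ψ f W _ (𝟙 _) ≫ Φ f W _ (𝟙 _)) = Φ f W _ (𝟙 _) := by
      rw [Φ_comp, Φ_Ψ, Category.id_comp]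
    have := congrArg (Ψ f W _) h
    rw [Ψ_Φ, Ψ_Φ] at this
    exact this

end Groth.Agent.Helper24.FrPull
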