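import Groth.Agent.Lib.Helper24.TypeA2
import Groth.Agent.Lib.Helper24.DCoprod7
import Groth.Agent.Lib.Helper29.ShModGA
import Groth.Prelude.Def_CohDer

/-!
# `j_! O_U` is a compact object of `D(O)` for `U` quasi-compact and weakly contractible
-/

open CategoryTheory Limits Opposite
universe u
set_option linter.unusedSectionVars false
set_option autoImplicit false
set_option linter.style.haveILetI false
namespace Groth.Agent.Helper24.FreeOnCompact

open Groth.Agent.Helper24.FrMod Groth.Agent.Helper17.MT Groth.Agent.Helper10.QcObj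
  Groth.Agent.Helper24.TypeA Groth.Agent.Helper24.DCoprod

variable {C : Type u} [SmallCategory C] {J : GrothendieckTopology C}
variable (O : Sheaf J CommRingCat.{u})

/-- over a weakly contractible object, epimorphisms of modules are surjective on sections -/
theorem surjective_app_of_epi {U : C} (hwc : CohSite.IsWeaklyContractible J U)
    {P G : ModSite.Mod O} (p : P ⟶ G) [Epi p] (s : G.val.obj (op U)) :
    ∃ t : P.val.obj (op U), p.val.app (op U) t = s := by
  have h1 : Epi ((toAbF O).map p) := inferInstance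
  have h2 : Sheaf.IsLocallySurjective ((toAbF O).map p) :=
    (Sheaf.isLocallySurjective_iff_epi' _ _).2 h1
  have h3 : Sheaf.IsLocallySurjective ((sheafCompose J (forget Ab.{u})).map ((toAbF O).map p)) := by
    change Presheaf.IsLocallySurjective J (Functor.whiskerRight ((toAbF O).map p).hom (forget Ab.{u}))
    haveI : Presheaf.IsLocallySurjective J ((toAbF O).map p).hom := h2
    infer_instance
  have h4 : Epi ((sheafCompose J (forget Ab.{u})).map ((toAbF O).map p)) :=
    (Sheaf.isLocallySurjective_iff_epi _).1 h3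
  obtain ⟨t, ht⟩ := hwc _ _ _ h4 s
  exact ⟨t, ht⟩

theorem projective_freeOn {U : C} (hwc : CohSite.IsWeaklyContractible J U) :
    Projective (ModSite.freeOn O U) := by
  constructor
  intro E X f e he
  obtain ⟨t, ht⟩ := surjective_app_of_epi O hwc e (freeOnHomEquiv O U X f)
  refine ⟨(freeOnHomEquiv O U E).symm t, ?_⟩
  apply (freeOnHomEquiv O U X).injective
  rw [freeOnHomEquiv_comp, Equiv.apply_symm_apply, ht]

/-- the right adjoint of sheafification -/
noncomputable abbrev Φ : ModSite.Mod O ⥤ PresheafOfModules.{u} (ModSite.ringSh O).obj :=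
  SheafOfModules.forget (ModSite.ringSh O) ⋙
    PresheafOfModules.restrictScalars (𝟙 (ModSite.ringSh O).obj)

noncomputable abbrev adj : ModSite.sheafify O ⊣ Φ O :=
  PresheafOfModules.sheafificationAdjunction (𝟙 (ModSite.ringSh O).obj)

variable {ι : Type u} (F : ι → ModSite.Mod O)

/-- the presheaf coproduct -/
noncomputable abbrev P : PresheafOfModules.{u} (ModSite.ringSh O).obj := ∐ (fun i => (Φ O).obj (F i))

noncomputable def c : P O F ⟶ (Φ O).obj (∐ F) := Sigma.desc (fun i => (Φ O).map (Sigma.ι F i))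

lemma ι_c (i : ι) : Sigma.ι (fun i => (Φ O).obj (F i)) i ≫ c O F = (Φ O).map (Sigma.ι F i) := by
  unfold c
  rw [Sigma.ι_desc]

noncomputable def ac : (ModSite.sheafify O).obj (P O F) ⟶ ∐ F := ((adj O).homEquiv _ _).symm (c O F)

lemma unit_ac : (adj O).unit.app (P O F) ≫ (Φ O).map (ac O F) = c O F := by
  have h := (adj O).homEquiv_unit (f := ac O F)
  exact h.symm.trans (Equiv.apply_symm_apply _ _)

instance epi_ac : Epi (ac O F) := by
  constructor
  intro T a b hab
  have h1 : c O F ≫ (Φ O).map a = c O F ≫ (Φ O).map b := by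
    rw [← unit_ac, Category.assoc, Category.assoc, ← Functor.map_comp, ← Functor.map_comp, hab]
  apply Sigma.hom_ext
  intro i
  apply (Φ O).map_injective
  rw [Functor.map_comp, Functor.map_comp, ← ι_c, Category.assoc, Category.assoc, h1]

lemma Φ_map_app {M N : ModSite.Mod O} (f : M ⟶ N) (W : Cᵒᵖ) (x : M.val.obj W) :
    ((Φ O).map f).app W x = f.val.app W x := rfl

/-- every section of the coproduct is locally in the image of the presheaf coproduct -/
lemma exists_local_preimage (V : C) (y : (∐ F).val.obj (op V)) :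
    ∃ S ∈ J V, ∀ {W : C} (g : W ⟶ V), S g →
      ∃ p : (P O F).obj (op W), (c O F).app (op W) p = (∐ F).val.map g.op y := by
  obtain ⟨S₁, hS₁, h1⟩ := imageSieve_mem_of_epi O (ac O F) V y
  refine ⟨Sieve.bind S₁ (fun W g hg => Presheaf.imageSieve
    (CategoryTheory.toSheafify J (P O F).presheaf) (h1 g hg).choose), ?_, ?_⟩
  · exact J.bind_covering hS₁ (fun W g hg => Presheaf.imageSieve_mem J _ _)
  · rintro W g ⟨W', a, b, hb, ha, rfl⟩
    obtain ⟨p, hp⟩ := ha
    have ht := (h1 b hb).choose_spec
    refine ⟨p, ?_⟩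
    set t := (h1 b hb).choose with ht_def
    have e1 : (c O F).app (op W) p =
        ((Φ O).map (ac O F)).app (op W) (((adj O).unit.app (P O F)).app (op W) p) := by
      rw [← unit_ac O F]
      rfl
    have e2 : ((adj O).unit.app (P O F)).app (op W) p =
        ((ModSite.sheafify O).obj (P O F)).val.map a.op t := hp
    have e3 := PresheafOfModules.naturality_apply (ac O F).val a.op t
    rw [e1, e2, Φ_map_app, e3, ht, ← PresheafOfModules.map_comp_apply]
    rfl

/-- sections functor on presheaves of modules -/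
noncomputable abbrev secF (W : C) : PresheafOfModules.{u} (ModSite.ringSh O).obj ⥤ AddCommGrpCat.{u} :=
  PresheafOfModules.toPresheaf _ ⋙ (CategoryTheory.evaluation Cᵒᵖ AddCommGrpCat.{u}).obj (op W)

instance (W : C) : PreservesColimit (Discrete.functor (fun i => (Φ O).obj (F i))) (secF O W) :=
  inferInstance

lemma c_app_ι (W : C) (i : ι) (y : ((Φ O).obj (F i)).obj (op W)) :
    (c O F).app (op W) ((Sigma.ι (fun i => (Φ O).obj (F i)) i).app (op W) y) =
      (Sigma.ι F i).val.app (op W) y := by
  have h := ι_c O F i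
  have h2 : (Sigma.ι (fun i => (Φ O).obj (F i)) i ≫ c O F).app (op W) y =
      ((Φ O).map (Sigma.ι F i)).app (op W) y := by rw [h]
  exact h2

open Classical in
lemma exists_finset_of_presheaf_section (W : C) (p : (P O F).obj (op W)) :
    ∃ s : Finset ι, ∀ s' : Finset ι, s ⊆ s' →
      (eProj F s').val.app (op W) ((c O F).app (op W) p) = (c O F).app (op W) p := by
  let cW : (secF O W).obj (P O F) →+ (∐ F).val.obj (op W) :=
    ((c O F).app (op W)).hom.toAddMonoidHom
  let eW : Finset ι → ((∐ F).val.obj (op W) →+ (∐ F).val.obj (op W)) := fun s' =>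
    ((eProj F s').val.app (op W)).hom.toAddMonoidHom
  suffices h : ∀ x : (secF O W).obj (P O F), ∃ s : Finset ι, ∀ s' : Finset ι, s ⊆ s' →
      eW s' (cW x) = cW x from h p
  intro x
  obtain ⟨d, rfl⟩ := toAddMonoid_surjective (fun i => (Φ O).obj (F i)) (secF O W) x
  induction d using DirectSum.induction_on with
  | zero => exact ⟨∅, fun s' _ => by rw [map_zero, map_zero, map_zero]⟩
  | of i y =>
    refine ⟨{i}, fun s' hs' => ?_⟩
    rw [DirectSum.toAddMonoid_of]
    have h1 : cW ((secF O W).map (Sigma.ι (fun i => (Φ O).obj (F i)) i) y) =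
        (Sigma.ι F i).val.app (op W) y := c_app_ι O F W i y
    have h2 : (Sigma.ι F i ≫ eProj F s').val.app (op W) y = (Sigma.ι F i).val.app (op W) y := by
      rw [ι_eProj F (hs' (Finset.mem_singleton_self i))]
    change eW s' (cW ((secF O W).map (Sigma.ι (fun i => (Φ O).obj (F i)) i) y)) =
      cW ((secF O W).map (Sigma.ι (fun i => (Φ O).obj (F i)) i) y)
    rw [h1]
    exact h2
  | add a b ha hb =>
    obtain ⟨sa, hsa⟩ := ha
    obtain ⟨sb, hsb⟩ := hb
    refine ⟨sa ∪ sb, fun s' hs' => ?_⟩
    rw [map_add, map_add, map_add, hsa s' (Finset.union_subset_left hs'),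
      hsb s' (Finset.union_subset_right hs')]

lemma eProj_comp_of_subset {𝒜 : Type*} [Category 𝒜] [Preadditive 𝒜] {ι : Type*} (G : ι → 𝒜)
    [HasCoproduct G] (i : ι) {s : Finset ι} (hi : i ∈ s) :
    (sπ G i ≫ Sigma.ι G i) ≫ eProj G s = sπ G i ≫ Sigma.ι G i := by
  rw [Category.assoc, ι_eProj G hi]

/-- every section of the coproduct is locally finitely supported -/
lemma exists_local_finset (V : C) (y : (∐ F).val.obj (op V)) :
    ∃ S ∈ J V, ∀ {W : C} (g : W ⟶ V), S g → ∃ s : Finset ι, ∀ s' : Finset ι, s ⊆ s' →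
      (eProj F s').val.app (op W) ((∐ F).val.map g.op y) = (∐ F).val.map g.op y := by
  obtain ⟨S, hS, h⟩ := exists_local_preimage O F V y
  refine ⟨S, hS, fun {W} g hg => ?_⟩
  obtain ⟨p, hp⟩ := h g hg
  obtain ⟨s, hs⟩ := exists_finset_of_presheaf_section O F W p
  refine ⟨s, fun s' hs' => ?_⟩
  have := hs s' hs'
  rw [hp] at this
  exact this

open Classical in
/-- over a quasi-compact object, sections of a coproduct are finitely supported -/
theorem exists_finset_section {U : C} (hqc : CohCx.IsQcObject (hS J U))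
    (x : (∐ F).val.obj (op U)) :
    ∃ s : Finset ι, (eProj F s).val.app (op U) x = x := by
  obtain ⟨S, hS', h⟩ := exists_local_finset O F U x
  obtain ⟨t, ht⟩ := exists_finset_covering hqc S hS'
  choose sf hsf using fun i : Idx S => h i.2.1 i.2.2
  refine ⟨t.biUnion sf, ?_⟩
  refine sec_ext O (fun i : ↥t => i.1.1) (fun i : ↥t => i.1.2.1) ht _ _ (fun i => ?_)
  have h1 := hsf i.1 (t.biUnion sf) (Finset.subset_biUnion_of_mem sf i.2)
  have h2 := PresheafOfModules.naturality_apply (eProj F (t.biUnion sf)).val (i.1.2.1).op x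
  rw [← h2]
  exact h1

/-- maps from `j_! O_U`, `U` quasi-compact, to a coproduct are finitely supported -/
theorem exists_finset_hom {U : C} (hqc : CohCx.IsQcObject (hS J U))
    (z : ModSite.freeOn O U ⟶ ∐ F) :
    ∃ s : Finset ι, z ≫ eProj F s = z := by
  obtain ⟨s, hs⟩ := exists_finset_section O F hqc (freeOnHomEquiv O U _ z)
  refine ⟨s, ?_⟩
  apply (freeOnHomEquiv O U _).injective
  rw [freeOnHomEquiv_comp]
  exact hs


theorem main9037 [HasDerivedCategory.{u} (ModSite.Mod O)]
    [HasCoproducts.{u} (DerivedCategory (ModSite.Mod O))]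
    (U : C) (hqc : CohCx.IsQcObject ((presheafToSheaf J (Type u)).obj (yoneda.obj U)))
    (hwc : CohSite.IsWeaklyContractible J U) :
    CohDer.IsCompactObject
      ((DerivedCategory.singleFunctor (ModSite.Mod O) 0).obj (ModSite.freeOn O U)) := by
  intro I M
  haveI : IsGrothendieckAbelian.{u} (ModSite.Mod O) :=
    Groth.Agent.Helper29.ShModGA.main0484 J (ModSite.ringSh O)
  haveI : HasFiniteBiproducts (ModSite.Mod O) := Abelian.hasFiniteBiproducts
  haveI : AB4OfSize.{u} (ModSite.Mod O) := AB4.of_AB5 _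
  haveI : HasExactColimitsOfShape (Discrete I) (ModSite.Mod O) := AB4OfSize.ofShape I
  haveI := projective_freeOn O hwc
  exact homSumToHomCoprod_bijective_of_projective (ModSite.freeOn O U)
    (fun F z => exists_finset_hom O F hqc z) M

end Groth.Agent.Helper24.FreeOnCompact
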