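import Groth.Agent.Lib.Helper24.FreeOnCompact
import Groth.Agent.Lib.Helper24.DCoprod8
import Groth.Agent.Lib.Helper24.CechEdgeLib
import Groth.Agent.Lib.Helper24.CechDelta
import Groth.Agent.S16022
import Groth.Agent.S0861

/-!
# `j_! O_U` is compact with respect to uniformly bounded below families for `U` in a class with finite Čech-cofinal coverings
-/

open CategoryTheory Limits Opposite
universe u
set_option linter.unusedSectionVars false
set_option autoImplicit false
set_option linter.style.haveILetI false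
namespace Groth.Agent.Helper24.FreeOnCompact

open Groth.Agent.Helper24.FrMod Groth.Agent.Helper17.MT Groth.Agent.Helper10.QcObj
  Groth.Agent.Helper24.TypeA Groth.Agent.Helper24.DCoprod Groth.Agent.Helper24.CechDelta

section CechFactor

variable {C : Type u} [SmallCategory C] [HasPullbacks C] {U : C} {ι : Type u} (Y : ι → Over U)

lemma cx_map_fix {P : Cᵒᵖ ⥤ AddCommGrpCat.{u}} (φ : P ⟶ P) (m : ℕ) (z : (CechEdge.cx P Y).X m)
    (h : ∀ a : Fin (m+1) → ι, (φ.app (op (∏ᶜ (Y ∘ a)).left)).hom
      ((Pi.π (fun a : Fin (m+1) → ι => P.obj (op (∏ᶜ (Y ∘ a)).left)) a).hom z) =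
      (Pi.π (fun a : Fin (m+1) → ι => P.obj (op (∏ᶜ (Y ∘ a)).left)) a).hom z) :
    (((CechEdge.cxFunctor Y).map φ).f m).hom z = z := by
  rw [cxFunctor_map_f]
  refine pi_ext (A := fun a : Fin (m+1) → ι => P.obj (op (∏ᶜ (Y ∘ a)).left)) _ _ (fun a => ?_)
  exact (pi_map_apply (A := fun a : Fin (m+1) → ι => P.obj (op (∏ᶜ (Y ∘ a)).left))
    (B := fun a : Fin (m+1) → ι => P.obj (op (∏ᶜ (Y ∘ a)).left))
    (fun a => φ.app (op (∏ᶜ (Y ∘ a)).left)) z a).trans (h a)

theorem isZero_cechH_of_factor (P : Cᵒᵖ ⥤ AddCommGrpCat.{u}) (m : ℕ)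
    (h : ∀ z : (CechEdge.cx P Y).X m, ∃ (Q : Cᵒᵖ ⥤ AddCommGrpCat.{u}) (π : P ⟶ Q) (j : Q ⟶ P),
      IsZero (CohCx.cechH Q Y m) ∧ ∀ a : Fin (m+1) → ι,
        ((π ≫ j).app (op (∏ᶜ (Y ∘ a)).left)).hom
          ((Pi.π (fun a : Fin (m+1) → ι => P.obj (op (∏ᶜ (Y ∘ a)).left)) a).hom z) =
        (Pi.π (fun a : Fin (m+1) → ι => P.obj (op (∏ᶜ (Y ∘ a)).left)) a).hom z) :
    IsZero (CohCx.cechH P Y m) := by
  haveI : Subsingleton (CohCx.cechH P Y m) := by
    refine subsingleton_of_forall_eq 0 (fun x => ?_)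
    let K := CechEdge.cx P Y
    have hsurj : Function.Surjective (K.homologyπ m).hom :=
      (AddCommGrpCat.epi_iff_surjective _).1 inferInstance
    obtain ⟨c, rfl⟩ := hsurj x
    obtain ⟨Q, π, j, hQ, hfix⟩ := h ((K.iCycles m).hom c)
    let f : K ⟶ K := (CechEdge.cxFunctor Y).map (π ≫ j)
    have hinj : Function.Injective (K.iCycles m).hom :=
      (AddCommGrpCat.mono_iff_injective _).1 inferInstance
    have h1 : (HomologicalComplex.cyclesMap f m).hom c = c := by
      apply hinj
      have e1 := HomologicalComplex.cyclesMap_i f m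
      have e2 := congrArg (fun g => g.hom c) e1
      exact e2.trans (cx_map_fix Y (π ≫ j) m _ hfix)
    have h2 : (HomologicalComplex.homologyMap f m).hom ((K.homologyπ m).hom c) =
        (K.homologyπ m).hom c := by
      have e1 := HomologicalComplex.homologyπ_naturality f m
      have e2 := congrArg (fun g => g.hom c) e1
      refine e2.trans ?_
      change (K.homologyπ m).hom ((HomologicalComplex.cyclesMap f m).hom c) = _
      rw [h1]
    have h3 : HomologicalComplex.homologyMap f m = 0 := by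
      have : f = (CechEdge.cxFunctor Y).map π ≫ (CechEdge.cxFunctor Y).map j :=
        Functor.map_comp _ _ _
      rw [this, HomologicalComplex.homologyMap_comp]
      have hz : HomologicalComplex.homologyMap ((CechEdge.cxFunctor Y).map π) m = 0 :=
        hQ.eq_of_tgt _ _
      rw [hz, zero_comp]
    rw [← h2, h3]
    rfl
  exact AddCommGrpCat.isZero_of_subsingleton _

end CechFactor

section InjCech

variable {C : Type u} [SmallCategory C] [HasPullbacks C] {J : GrothendieckTopology C}
variable (O : Sheaf J CommRingCat.{u})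

open Groth.Agent.Helper24.RlimTrunc Groth.Agent.Helper24.HDMod Abelian

lemma subsingleton_HU_of_injective (I : ModSite.Mod O) [Injective I] (V : C) (q : ℕ) :
    Subsingleton (CohSite.HU (ModSite.toAb I) (q + 1) V) := by
  obtain ⟨e⟩ := nonempty_ext_ZM_iso O V I (q + 1)
  haveI : Subsingleton (Ext (ZM O V) I (q + 1)) := Ext.subsingleton_of_injective _ _ _
  exact e.symm.addCommGroupIsoToAddEquiv.toEquiv.subsingleton

/-- injective `O`-modules are Čech-acyclic -/
theorem isZero_cechH_of_injective (I : ModSite.Mod O) [Injective I] {U : C} {ι : Type u}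
    (Y : ι → Over U)
    (hY : Sieve.ofArrows (fun i => (Y i).left) (fun i => (Y i).hom) ∈ J U) (p : ℕ) :
    IsZero (CohCx.cechH (ModSite.toAb I).obj Y (p + 1)) := by
  have hb := Groth.Agent.S16022.result J Y (Groth.Agent.Helper24.CechEdgeLib.edge Y J hY)
    (Groth.Agent.Helper24.CechEdgeLib.isEdge_edge Y J hY) (ModSite.toAb I)
    (fun p a q => subsingleton_HU_of_injective O I _ q) (p + 1)
  haveI := subsingleton_HU_of_injective O I U p
  haveI : Subsingleton (CohCx.cechH (ModSite.toAb I).obj Y (p + 1)) := hb.1.subsingleton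
  exact AddCommGrpCat.isZero_of_subsingleton _

end InjCech

section FinProj

variable {𝒜 : Type*} [Category 𝒜] [Preadditive 𝒜] [HasFiniteBiproducts 𝒜] {ι : Type*}
  (F : ι → 𝒜) [HasCoproduct F]

/-- the finite family attached to a finite set of indices -/
noncomputable def famS (s : Finset ι) : Fin s.card → 𝒜 := fun k => F (s.equivFin.symm k).1

/-- projection of a coproduct to a finite sub-biproduct -/
noncomputable def projS (s : Finset ι) : ∐ F ⟶ ⨁ (famS F s) :=
  biproduct.lift (fun k => sπ F (s.equivFin.symm k).1)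

/-- inclusion of a finite sub-biproduct in a coproduct -/
noncomputable def inclS (s : Finset ι) : ⨁ (famS F s) ⟶ ∐ F :=
  biproduct.desc (fun k => Sigma.ι F (s.equivFin.symm k).1)

lemma projS_inclS (s : Finset ι) : projS F s ≫ inclS F s = eProj F s := by
  unfold projS inclS eProj
  rw [biproduct.lift_desc]
  rw [← Finset.sum_coe_sort s (fun i => sπ F i ≫ Sigma.ι F i)]
  exact Equiv.sum_comp s.equivFin.symm (fun i : ↥s => sπ F i.1 ≫ Sigma.ι F i.1)

lemma injective_biproduct {β : Type*} (c : β → 𝒜) [HasBiproduct c] [∀ b, Injective (c b)] :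
    Injective (⨁ c) where
  factors g f mono := by
    refine ⟨biproduct.lift fun b => Injective.factorThru (g ≫ biproduct.π _ _) f, ?_⟩
    ext
    simp only [Category.assoc, biproduct.lift_π, Injective.comp_factorThru]

lemma injective_famS (s : Finset ι) (hF : ∀ i, Injective (F i)) : Injective (⨁ (famS F s)) := by
  haveI : ∀ k, Injective (famS F s k) := fun k => hF _
  exact injective_biproduct _

end FinProj

section FinCov

variable {C : Type u} [SmallCategory C] {J : GrothendieckTopology C}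
variable (O : Sheaf J CommRingCat.{u})

/-- every covering sieve contains a finite covering family -/
def FinCov (J : GrothendieckTopology C) (V : C) : Prop :=
  ∀ S ∈ J V, ∃ (κ : Type u) (_ : Finite κ) (W : κ → C) (f : ∀ k, W k ⟶ V),
    (∀ k, S.arrows (f k)) ∧ Sieve.ofArrows W f ∈ J V

variable {I : Type u} (F : I → ModSite.Mod O)

open Classical in
/-- sections of a coproduct over an object with the finite covering property are finitely
supported -/
theorem exists_finset_section' {U : C} (hU : FinCov J U) (x : (∐ F).val.obj (op U)) :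
    ∃ s : Finset I, ∀ s' : Finset I, s ⊆ s' → (eProj F s').val.app (op U) x = x := by
  obtain ⟨S, hS', h⟩ := exists_local_finset O F U x
  obtain ⟨κ, hκ, W, f, hf, hcov⟩ := hU S hS'
  haveI : Fintype κ := Fintype.ofFinite κ
  choose sf hsf using fun k : κ => h (f k) (hf k)
  refine ⟨Finset.univ.biUnion sf, fun s' hs' => ?_⟩
  refine sec_ext O W f hcov _ _ (fun k => ?_)
  have h1 := hsf k s' ((Finset.subset_biUnion_of_mem sf (Finset.mem_univ k)).trans hs')
  have h2 := PresheafOfModules.naturality_apply (eProj F s').val (f k).op x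
  rw [← h2]
  exact h1

theorem exists_finset_hom' {U : C} (hU : FinCov J U) (z : ModSite.freeOn O U ⟶ ∐ F) :
    ∃ s : Finset I, z ≫ eProj F s = z := by
  obtain ⟨s, hs⟩ := exists_finset_section' O F hU (freeOnHomEquiv O U _ z)
  refine ⟨s, ?_⟩
  apply (freeOnHomEquiv O U _).injective
  rw [freeOnHomEquiv_comp]
  exact hs s (Finset.Subset.refl s)

end FinCov

section CoprodCech

variable {C : Type u} [SmallCategory C] [HasPullbacks C] {J : GrothendieckTopology C}
variable (O : Sheaf J CommRingCat.{u}) {I : Type u} (F : I → ModSite.Mod O)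

open Classical in
/-- coproducts of injective modules are Čech-acyclic for finite covering families all of whose
fibre products have the finite covering property -/
theorem isZero_cechH_coprod (hF : ∀ i, Injective (F i)) {U : C} {ι : Type u} [Finite ι]
    (Y : ι → Over U)
    (hY : Sieve.ofArrows (fun i => (Y i).left) (fun i => (Y i).hom) ∈ J U)
    (hfc : ∀ (m : ℕ) (a : Fin (m + 1) → ι), FinCov J (∏ᶜ (Y ∘ a)).left) (p : ℕ) :
    IsZero (CohCx.cechH (ModSite.toAb (∐ F)).obj Y (p + 1)) := by
  haveI : HasFiniteBiproducts (ModSite.Mod O) := Abelian.hasFiniteBiproducts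
  refine isZero_cechH_of_factor Y _ (p + 1) (fun z => ?_)
  haveI : Fintype (Fin (p + 1 + 1) → ι) := Fintype.ofFinite _
  have hs : ∀ a : Fin (p + 1 + 1) → ι, ∃ s : Finset I, ∀ s' : Finset I, s ⊆ s' →
      (eProj F s').val.app (op (∏ᶜ (Y ∘ a)).left)
        ((Pi.π (fun a : Fin (p + 1 + 1) → ι => (ModSite.toAb (∐ F)).obj.obj
          (op (∏ᶜ (Y ∘ a)).left)) a).hom z) =
      (Pi.π (fun a : Fin (p + 1 + 1) → ι => (ModSite.toAb (∐ F)).obj.obj
          (op (∏ᶜ (Y ∘ a)).left)) a).hom z := fun a =>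
    exists_finset_section' O F (hfc (p + 1) a) _
  choose sf hsf using hs
  let s : Finset I := Finset.univ.biUnion sf
  haveI := injective_famS F s hF
  refine ⟨(ModSite.toAb (⨁ (famS F s))).obj, ((toAbF O).map (projS F s)).hom,
    ((toAbF O).map (inclS F s)).hom, isZero_cechH_of_injective O _ Y hY p, fun a => ?_⟩
  have h1 : ((toAbF O).map (projS F s)).hom ≫ ((toAbF O).map (inclS F s)).hom =
      ((toAbF O).map (eProj F s)).hom := by
    rw [← projS_inclS, Functor.map_comp]
    rfl
  rw [h1]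
  exact hsf a s (Finset.subset_biUnion_of_mem sf (Finset.mem_univ a))

end CoprodCech

section ZMIso

variable {C : Type u} [SmallCategory C] {J : GrothendieckTopology C}
variable (O : Sheaf J CommRingCat.{u})

open Groth.Agent.Helper24.RlimTrunc Groth.Agent.Helper24.HDMod Abelian

/-- `Hom(O[U], M) ≃ M(U)` -/
noncomputable def evalMEquiv (U : C) (M : ModSite.Mod O) :
    (ZM O U ⟶ M) ≃ M.val.obj (op U) where
  toFun a := evalM O U M a
  invFun s := ofSectM O U M s
  left_inv a := ofSectM_evalM O U M a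
  right_inv s := evalM_ofSectM O U M s

/-- the two models of the free module on an object agree -/
theorem nonempty_ZM_iso_freeOn (U : C) : Nonempty (ZM O U ≅ ModSite.freeOn O U) := by
  refine nonempty_iso_of_homEquiv
    (fun M => (evalMEquiv O U M).trans (freeOnHomEquiv O U M).symm) ?_
  intro M M' h g
  apply (freeOnHomEquiv O U M').injective
  rw [freeOnHomEquiv_comp]
  simp only [Equiv.trans_apply, Equiv.apply_symm_apply]
  exact evalM_comp O U h g

lemma subsingleton_ext_of_iso {𝒜 : Type*} [Category 𝒜] [Abelian 𝒜] [HasExt 𝒜] {A B : 𝒜}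
    (e : A ≅ B) (Y : 𝒜) (n : ℕ) (h : Subsingleton (Ext A Y n)) : Subsingleton (Ext B Y n) := by
  refine subsingleton_of_forall_eq 0 (fun x => ?_)
  have h1 : ((Ext.mk₀ e.inv).comp ((Ext.mk₀ e.hom).comp x (zero_add n)) (zero_add n)) = x := by
    rw [Ext.mk₀_comp_mk₀_assoc, Iso.inv_hom_id, Ext.mk₀_id_comp]
  rw [← h1, Subsingleton.elim ((Ext.mk₀ e.hom).comp x (zero_add n)) 0, Ext.comp_zero]

end ZMIso

section Main9047

variable {C : Type u} [SmallCategory C] [HasPullbacks C] {J : GrothendieckTopology C}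
variable (O : Sheaf J CommRingCat.{u})

open Groth.Agent.Helper24.RlimTrunc Groth.Agent.Helper24.HDMod Abelian

theorem main9047
    (B : Set C) (Cov : ∀ (U : C) (ι : Type u), (ι → Over U) → Prop)
    (h1 : ∀ (U : C) (ι : Type u) (Y : ι → Over U), Cov U ι Y → Finite ι ∧ U ∈ B ∧
      Sieve.ofArrows (fun i => (Y i).left) (fun i => (Y i).hom) ∈ J U ∧
      ∀ (p : ℕ) (a : Fin (p + 1) → ι), (∏ᶜ fun k => Y (a k)).left ∈ B)
    (h2 : ∀ U ∈ B, ∀ T ∈ J U, ∃ (ι : Type u) (Y : ι → Over U), Cov U ι Y ∧ ∀ i, T.arrows (Y i).hom)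
    [HasDerivedCategory.{u} (ModSite.Mod O)]
    (U : C) (hU : U ∈ B) {I : Type u} (M : I → DerivedCategory (ModSite.Mod O)) [HasCoproduct M]
    (a : ℤ) (hM : ∀ i, (M i).IsGE a) :
    Function.Bijective (CohDer.homSumToHomCoprod
      ((DerivedCategory.singleFunctor (ModSite.Mod O) 0).obj (ModSite.freeOn O U)) M) := by
  haveI : IsGrothendieckAbelian.{u} (ModSite.Mod O) :=
    Groth.Agent.Helper29.ShModGA.main0484 J (ModSite.ringSh O)
  haveI : HasFiniteBiproducts (ModSite.Mod O) := Abelian.hasFiniteBiproducts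
  haveI : AB4OfSize.{u} (ModSite.Mod O) := AB4.of_AB5 _
  haveI : HasExactColimitsOfShape (Discrete I) (ModSite.Mod O) := AB4OfSize.ofShape I
  have hfc : ∀ V ∈ B, FinCov J V := by
    intro V hV S hS
    obtain ⟨ι, Y, hc, hYS⟩ := h2 V hV S hS
    obtain ⟨hfin, -, hcov, -⟩ := h1 V ι Y hc
    exact ⟨ι, hfin, fun i => (Y i).left, fun i => (Y i).hom, hYS, hcov⟩
  have hInj : ∀ (F : I → ModSite.Mod O), (∀ i, Injective (F i)) → ∀ p : ℕ,
      Subsingleton (Ext (ModSite.freeOn O U) (∐ F) (p + 1)) := by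
    intro F hF p
    have h3 : ∀ (U' : C) (ι : Type u) (Y : ι → Over U'), Cov U' ι Y → ∀ p : ℕ,
        IsZero (CohCx.cechH (ModSite.toAb (∐ F)).obj Y (p + 1)) := by
      intro U' ι Y hc p
      obtain ⟨hfin, -, hcov, hB⟩ := h1 U' ι Y hc
      haveI := hfin
      exact isZero_cechH_coprod O F hF Y hcov (fun m a => hfc _ (hB m a)) p
    have h4 := Groth.Agent.S0861.result J B Cov
      (fun U' ι Y hc => ⟨(h1 U' ι Y hc).2.1, (h1 U' ι Y hc).2.2.1, (h1 U' ι Y hc).2.2.2⟩) h2
      (ModSite.toAb (∐ F)) h3 U hU p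
    obtain ⟨e⟩ := nonempty_ZM_iso_freeOn O U
    exact subsingleton_ext_of_iso e _ _ (subsingleton_ext_ZM O U (∐ F) (p + 1) h4)
  exact homSumToHomCoprod_bijective_of_inj_vanishing (ModSite.freeOn O U) hInj
    (fun F z => exists_finset_hom' O F (hfc U hU) z) M a hM

end Main9047

end Groth.Agent.Helper24.FreeOnCompact
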