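import Mathlib
import Groth.Prelude.Def_DCoh2
import Groth.Agent.Lib.Helper26.LocInj

/-!
# Sections with supports of an injective module form an injective module (helper24)

For an open immersion `j : U ⟶ X` and an injective `O_X`-module `I`, the module
`Γ_Z(I) = ker (I ⟶ j_* j^* I)` is injective.
-/

set_option autoImplicit false
set_option maxHeartbeats 400000
set_option linter.style.haveILetI false
universe u
open CategoryTheory CategoryTheory.Limits AlgebraicGeometry TopologicalSpace Opposite

namespace Groth.Agent.Helper24.GammaZInj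

variable {X : Scheme.{u}}

/-- the restriction of a morphism of modules along an open immersion vanishes iff its components
over the opens contained in the range do -/
theorem restrict_map_eq_zero_iff {U : Scheme.{u}} (j : U ⟶ X) [IsOpenImmersion j]
    {T I : X.Modules} (φ : T ⟶ I) :
    (Scheme.Modules.restrictFunctor j).map φ = 0 ↔
      ∀ V : X.Opens, V ≤ j.opensRange → φ.app V = 0 := by
  constructor
  · intro h V hV
    have h1 : ((Scheme.Modules.restrictFunctor j).map φ).app (j ⁻¹ᵁ V) = 0 := by
      rw [h]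
      rfl
    have h2 : φ.app (j ''ᵁ (j ⁻¹ᵁ V)) = 0 := h1
    have h3 : j ''ᵁ (j ⁻¹ᵁ V) = V := by
      rw [j.image_preimage_eq_opensRange_inf]
      exact inf_eq_right.2 hV
    rw [h3] at h2
    exact h2
  · intro h
    apply Scheme.Modules.hom_ext
    intro W
    exact h (j ''ᵁ W) (j.image_le_opensRange W)

/-- composing with the unit of `j^* ⊣ j_*` gives zero iff the restriction vanishes -/
theorem comp_unit_eq_zero_iff {U : Scheme.{u}} (j : U ⟶ X) [IsOpenImmersion j]
    {T I : X.Modules} (φ : T ⟶ I) :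
    φ ≫ (Scheme.Modules.restrictAdjunction j).unit.app I = 0 ↔
      (Scheme.Modules.restrictFunctor j).map φ = 0 := by
  have h1 : φ ≫ (Scheme.Modules.restrictAdjunction j).unit.app I =
      ((Scheme.Modules.restrictAdjunction j).homEquiv T _)
        ((Scheme.Modules.restrictFunctor j).map φ) := by
    rw [Adjunction.homEquiv_unit]
    exact (Scheme.Modules.restrictAdjunction j).unit.naturality φ
  rw [h1]
  constructor
  · intro h
    apply ((Scheme.Modules.restrictAdjunction j).homEquiv T _).injective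
    rw [h, Adjunction.homEquiv_unit, Functor.map_zero, comp_zero]
  · intro h
    rw [h, Adjunction.homEquiv_unit, Functor.map_zero, comp_zero]

section Core

variable (V : X.Opens)

/-- composing with the counit of `j_! ⊣ j^*` gives zero iff the restriction vanishes -/
theorem counit_comp_eq_zero_iff {T I : X.Modules} (φ : T ⟶ I) :
    (CxOX.extZeroAdj V.ι).counit.app T ≫ φ = 0 ↔
      (Scheme.Modules.restrictFunctor V.ι).map φ = 0 := by
  have h1 : (CxOX.extZeroAdj V.ι).counit.app T ≫ φ =
      ((CxOX.extZeroAdj V.ι).homEquiv _ I).symm ((Scheme.Modules.restrictFunctor V.ι).map φ) := by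
    rw [Adjunction.homEquiv_counit]
    exact ((CxOX.extZeroAdj V.ι).counit.naturality φ).symm
  rw [h1]
  constructor
  · intro h
    apply ((CxOX.extZeroAdj V.ι).homEquiv _ I).symm.injective
    rw [h, Adjunction.homEquiv_counit, Functor.map_zero, zero_comp]
  · intro h
    rw [h, Adjunction.homEquiv_counit, Functor.map_zero, zero_comp]

/-- **extension with vanishing restriction**: a morphism into an injective module whose
restriction to `V` vanishes extends along a monomorphism to a morphism with the same property -/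
theorem exists_extension (I : X.Modules) [Injective I] {M N : X.Modules} (f : M ⟶ N) [Mono f]
    (g' : M ⟶ I) (hg : (Scheme.Modules.restrictFunctor V.ι).map g' = 0) :
    ∃ ψ : N ⟶ I, f ≫ ψ = g' ∧ (Scheme.Modules.restrictFunctor V.ι).map ψ = 0 := by
  let J : X.Modules := (CxOX.extZero V.ι).obj ((Scheme.Modules.restrictFunctor V.ι).obj N)
  let c : J ⟶ N := (CxOX.extZeroAdj V.ι).counit.app N
  let σ : M ⊞ J ⟶ N := biprod.desc f c
  let τ : M ⊞ J ⟶ I := biprod.desc g' 0
  have key : kernel.ι σ ≫ τ = 0 := by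
    have h0 : kernel.ι σ ≫ σ = 0 := kernel.condition σ
    have h1 : (kernel.ι σ ≫ biprod.fst) ≫ f = (-(kernel.ι σ ≫ biprod.snd)) ≫ c := by
      have h2 : kernel.ι σ ≫ σ = (kernel.ι σ ≫ biprod.fst) ≫ f + (kernel.ι σ ≫ biprod.snd) ≫ c := by
        have h3 : σ = biprod.fst ≫ f + biprod.snd ≫ c := by
          apply biprod.hom_ext'
          · simp [σ]
          · simp [σ]
        rw [h3, Preadditive.comp_add, Category.assoc, Category.assoc]
      rw [h0] at h2
      rw [Preadditive.neg_comp]
      exact eq_neg_of_add_eq_zero_left h2.symm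
    have hpb := Groth.Agent.Helper26.LocInj.isPullback_counit V f
    let l := hpb.lift (kernel.ι σ ≫ biprod.fst) (-(kernel.ι σ ≫ biprod.snd)) h1
    have hl : l ≫ (CxOX.extZeroAdj V.ι).counit.app M = kernel.ι σ ≫ biprod.fst :=
      hpb.lift_fst _ _ _
    have h4 : kernel.ι σ ≫ τ = (kernel.ι σ ≫ biprod.fst) ≫ g' := by
      have h5 : τ = biprod.fst ≫ g' := by
        apply biprod.hom_ext'
        · simp [τ]
        · simp [τ]
      rw [h5, Category.assoc]
    rw [h4, ← hl, Category.assoc, (counit_comp_eq_zero_iff V g').2 hg, comp_zero]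
  let τ' : Abelian.coimage σ ⟶ I := cokernel.desc (kernel.ι σ) τ key
  let ψ : N ⟶ I := Injective.factorThru τ' (Abelian.factorThruCoimage σ)
  have hψ : σ ≫ ψ = τ := by
    have h1 : Abelian.factorThruCoimage σ ≫ ψ = τ' := Injective.comp_factorThru _ _
    calc σ ≫ ψ = (Abelian.coimage.π σ ≫ Abelian.factorThruCoimage σ) ≫ ψ := by
          rw [Abelian.coimage.fac]
      _ = Abelian.coimage.π σ ≫ τ' := by rw [Category.assoc, h1]
      _ = τ := cokernel.π_desc _ _ _
  refine ⟨ψ, ?_, ?_⟩
  · have h1 : biprod.inl ≫ σ ≫ ψ = biprod.inl ≫ τ := by rw [hψ]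
    rw [← Category.assoc] at h1
    simpa [σ, τ] using h1
  · have h1 : biprod.inr ≫ σ ≫ ψ = biprod.inr ≫ τ := by rw [hψ]
    rw [← Category.assoc] at h1
    have h2 : c ≫ ψ = 0 := by simpa [σ, τ] using h1
    exact (counit_comp_eq_zero_iff V ψ).1 h2

end Core

/-- **S17641**: `Γ_Z(I)` is injective when `I` is -/
theorem main17641 {U : Scheme.{u}} (j : U ⟶ X) [IsOpenImmersion j] (I : X.Modules)
    [Injective I] : Injective ((DCoh.gammaZ j).obj I) := by
  constructor
  intro M N g f hf
  let A := Scheme.Modules.restrictAdjunction j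
  let ι : (DCoh.gammaZ j).obj I ⟶ I := kernel.ι (A.unit.app I)
  haveI : Mono ι := inferInstanceAs (Mono (kernel.ι (A.unit.app I)))
  have hκ : ι ≫ A.unit.app I = 0 := kernel.condition (A.unit.app I)
  have hg : (g ≫ ι) ≫ A.unit.app I = 0 := by
    rw [Category.assoc, hκ, comp_zero]
  have h1 : (Scheme.Modules.restrictFunctor j).map (g ≫ ι) = 0 :=
    (comp_unit_eq_zero_iff j (g ≫ ι)).1 hg
  have h2 : (Scheme.Modules.restrictFunctor j.opensRange.ι).map (g ≫ ι) = 0 := by
    rw [restrict_map_eq_zero_iff] at h1 ⊢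
    intro V hV
    rw [Scheme.Opens.opensRange_ι] at hV
    exact h1 V hV
  obtain ⟨ψ, hψ1, hψ2⟩ := exists_extension j.opensRange I f (g ≫ ι) h2
  have h3 : (Scheme.Modules.restrictFunctor j).map ψ = 0 := by
    rw [restrict_map_eq_zero_iff] at hψ2 ⊢
    intro V hV
    exact hψ2 V (by rw [Scheme.Opens.opensRange_ι]; exact hV)
  have h4 : ψ ≫ A.unit.app I = 0 := (comp_unit_eq_zero_iff j ψ).2 h3
  obtain ⟨h, hlift⟩ : ∃ h : N ⟶ (DCoh.gammaZ j).obj I, h ≫ ι = ψ :=
    ⟨kernel.lift (A.unit.app I) ψ h4, kernel.lift_ι _ _ _⟩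
  refine ⟨h, ?_⟩
  rw [← cancel_mono ι, Category.assoc, hlift]
  exact hψ1

end Groth.Agent.Helper24.GammaZInj
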