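import Groth.Prelude.Def_CohTop
import Mathlib.Topology.Sheaves.SheafCondition.UniqueGluing

/-!
# Gluing two sections of an abelian sheaf on a space (helper24)
-/

set_option autoImplicit false
universe u
open CategoryTheory TopologicalSpace Opposite

namespace Groth.Agent.Helper24.GlueTwo

variable {X : TopCat.{u}}

/-- restriction map -/
noncomputable def res (F : CohTop.Ab X) {U V : Opens X} (h : V ≤ U) :
    F.obj.obj (op U) →+ F.obj.obj (op V) := (F.obj.map (homOfLE h).op).hom

lemma res_eq (F : CohTop.Ab X) {U V : Opens X} (i : V ⟶ U) :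
    (F.obj.map i.op).hom = res F i.le := rfl

theorem res_res (F : CohTop.Ab X) {U V W : Opens X} (h₁ : V ≤ U) (h₂ : W ≤ V)
    (x : F.obj.obj (op U)) : res F h₂ (res F h₁ x) = res F (h₂.trans h₁) x := by
  unfold res
  rw [← ConcreteCategory.comp_apply, ← F.obj.map_comp]
  rfl

theorem res_self (F : CohTop.Ab X) {U : Opens X} (x : F.obj.obj (op U)) :
    res F (le_refl U) x = x := by
  unfold res
  have : (homOfLE (le_refl U)).op = 𝟙 (op U) := rfl
  rw [this, F.obj.map_id]
  rfl

theorem res_nat {F G : CohTop.Ab X} (β : F ⟶ G) {U V : Opens X} (h : V ≤ U)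
    (x : F.obj.obj (op U)) :
    (β.hom.app (op V)).hom (res F h x) = res G h ((β.hom.app (op U)).hom x) := by
  unfold res
  have := β.hom.naturality (homOfLE h).op
  rw [← ConcreteCategory.comp_apply, ← ConcreteCategory.comp_apply, this]

theorem ext_two (F : CohTop.Ab X) {V W T : Opens X} (hV : V ≤ T) (hW : W ≤ T) (hT : T ≤ V ⊔ W)
    (s t : F.obj.obj (op T))
    (h₁ : res F hV s = res F hV t) (h₂ : res F hW s = res F hW t) : s = t :=
  TopCat.Sheaf.eq_of_locally_eq₂ (F : TopCat.Sheaf AddCommGrpCat.{u} X)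
    (homOfLE hV) (homOfLE hW) hT s t h₁ h₂

theorem glue_two (F : CohTop.Ab X) {V W T : Opens X} (hV : V ≤ T) (hW : W ≤ T) (hT : T ≤ V ⊔ W)
    (a : F.obj.obj (op V)) (b : F.obj.obj (op W))
    (hab : res F (inf_le_left : V ⊓ W ≤ V) a = res F (inf_le_right : V ⊓ W ≤ W) b) :
    ∃ c : F.obj.obj (op T), res F hV c = a ∧ res F hW c = b := by
  obtain ⟨c, hc, -⟩ := TopCat.Sheaf.existsUnique_gluing' (F : TopCat.Sheaf AddCommGrpCat.{u} X)
    (fun t : Bool => (Bool.rec W V t : Opens X)) T
    (fun t => homOfLE (by cases t; exacts [hW, hV]))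
    (by
      refine hT.trans (sup_le ?_ ?_)
      · exact le_iSup (fun b : Bool => (Bool.rec W V b : Opens X)) true
      · exact le_iSup (fun b : Bool => (Bool.rec W V b : Opens X)) false)
    (fun t => Bool.rec (motive := fun t => F.obj.obj (op (Bool.rec W V t : Opens X))) b a t)
    (by
      intro i j
      cases i <;> cases j
      · rfl
      · show res F (inf_le_left : W ⊓ V ≤ W) b = res F (inf_le_right : W ⊓ V ≤ V) a
        have h1 : W ⊓ V ≤ V ⊓ W := le_of_eq (inf_comm W V)
        have := congrArg (res F h1) hab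
        rw [res_res, res_res] at this
        exact this.symm
      · exact hab
      · rfl)
  exact ⟨c, hc true, hc false⟩

end Groth.Agent.Helper24.GlueTwo
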