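import Groth.Agent.Lib.Helper24.HDMod
import Groth.Agent.Lib.Helper24.RlimTrunc2

/-!
# A local criterion for a morphism of `D(O)` to induce an isomorphism on a cohomology sheaf
-/
open CategoryTheory Limits Opposite
universe w u
set_option linter.unusedSectionVars false
set_option autoImplicit false
namespace Groth.Agent.Helper24.HDLocal

open Groth.Agent.Helper24.FrMod Groth.Agent.Helper24.HDMod

variable {C : Type u} [SmallCategory C] {J : GrothendieckTopology C}

/-- a morphism of abelian sheaves which is locally injective and locally surjective is invertible -/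
theorem isIso_of_locally {F G : Sheaf J AddCommGrpCat.{u}} (φ : F ⟶ G)
    (hinj : ∀ (U : C) (s : F.obj.obj (op U)), (φ.hom.app (op U)).hom s = 0 →
      ∃ S ∈ J U, ∀ {V : C} (g : V ⟶ U), S g → (F.obj.map g.op).hom s = 0)
    (hsurj : ∀ (U : C) (t : G.obj.obj (op U)), ∃ S ∈ J U, ∀ {V : C} (g : V ⟶ U), S g →
      ∃ x : F.obj.obj (op V), (φ.hom.app (op V)).hom x = (G.obj.map g.op).hom t) : IsIso φ := by
  have hm : Mono φ := by
    have : Mono φ.hom := by
      refine @NatTrans.mono_of_mono_app _ _ _ _ _ _ φ.hom (fun W => ?_)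
      rw [AddCommGrpCat.mono_iff_injective, injective_iff_map_eq_zero]
      intro s hs
      obtain ⟨S, hS, h⟩ := hinj W.unop s hs
      have hsep : Presheaf.IsSeparated J F.obj := Sheaf.isSeparated F
      refine hsep W.unop S hS s 0 ?_
      intro V g hg
      have h1 := h g hg
      have h2 : (ConcreteCategory.hom (F.obj.map g.op)) s = 0 := h1
      rw [h2, map_zero]
    exact Sheaf.Hom.mono_of_presheaf_mono _ _ φ
  have he : Epi φ := by
    rw [← Sheaf.isLocallySurjective_iff_epi' AddCommGrpCat.{u} φ]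
    refine ⟨fun {U} t => ?_⟩
    obtain ⟨S, hS, h⟩ := hsurj U t
    refine J.superset_covering ?_ hS
    intro V g hg
    obtain ⟨x, hx⟩ := h g hg
    exact ⟨x, hx⟩
  exact isIso_of_mono_of_epi φ

variable (O : Sheaf J CommRingCat.{u}) [HasDerivedCategory.{w} (ModSite.Mod O)]

open DerivedCategory

/-- the sieve on which a section vanishes -/
def zeroSieve (F : Sheaf J AddCommGrpCat.{u}) {U : C} (s : F.obj.obj (op U)) : Sieve U where
  arrows V g := (F.obj.map g.op).hom s = 0
  downward_closed {V W} g hg k := by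
    change (F.obj.map (k ≫ g).op).hom s = 0
    rw [op_comp, Functor.map_comp]
    change (F.obj.map k.op).hom ((F.obj.map g.op).hom s) = 0
    rw [hg, map_zero]

/-- the sieve on which a section lifts -/
def liftSieve {F G : Sheaf J AddCommGrpCat.{u}} (φ : F ⟶ G) {U : C} (t : G.obj.obj (op U)) :
    Sieve U where
  arrows V g := ∃ x : F.obj.obj (op V), (φ.hom.app (op V)).hom x = (G.obj.map g.op).hom t
  downward_closed {V W} g hg k := by
    obtain ⟨x, hx⟩ := hg
    refine ⟨(F.obj.map k.op).hom x, ?_⟩
    have hn := ConcreteCategory.congr_hom (φ.hom.naturality k.op) x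
    simp only [ConcreteCategory.comp_apply] at hn
    refine hn.trans ?_
    erw [hx]
    rw [op_comp, Functor.map_comp]
    rfl

theorem isIso_homologyMap_of_local {Y K : DerivedCategory (ModSite.Mod O)} (η : Y ⟶ K) (q : ℤ)
    (hs : ∀ (U : C) (ψ : HDUM O K q U), ∃ S ∈ J U, ∀ {V : C} (g : V ⟶ U), S g →
      ∃ φ : HDUM O Y q V, φ ≫ (shiftFunctor _ q).map η = HDUMres O K q g ψ)
    (hi : ∀ (U : C) (φ : HDUM O Y q U), φ ≫ (shiftFunctor _ q).map η = 0 →
      ∃ S ∈ J U, ∀ {V : C} (g : V ⟶ U), S g → HDUMres O Y q g φ = 0) :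
    IsIso ((homologyFunctor (ModSite.Mod O) q).map η) := by
  have hiso : IsIso ((toAbF O).map ((homologyFunctor (ModSite.Mod O) q).map η)) := by
    apply isIso_of_locally
    · intro U s hs0
      refine ⟨zeroSieve _ s, ?_, fun g hg => hg⟩
      obtain ⟨S₁, hS₁, h₁⟩ := cSecM_locally_surj O Y q U s
      refine J.transitive hS₁ _ (fun V g hg => ?_)
      obtain ⟨φ', hφ'⟩ := h₁ g hg
      have hz : cSecM O K q V (φ' ≫ (shiftFunctor _ q).map η) = 0 := by
        rw [cSecM_postcomp, hφ']
        have hn := ConcreteCategory.congr_hom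
          (((toAbF O).map ((homologyFunctor (ModSite.Mod O) q).map η)).hom.naturality g.op) s
        simp only [ConcreteCategory.comp_apply] at hn
        refine hn.trans ?_
        erw [hs0]
        exact map_zero _
      obtain ⟨S₂, hS₂, h₂⟩ := cSecM_locally_inj O K q V _ hz
      refine J.transitive hS₂ _ (fun V' g' hg' => ?_)
      have h2 := h₂ g' hg'
      have h2' : HDUMres O Y q g' φ' ≫ (shiftFunctor _ q).map η = 0 := by
        rw [← h2]
        exact Category.assoc _ _ _
      obtain ⟨S₃, hS₃, h₃⟩ := hi V' _ h2'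
      refine J.superset_covering ?_ hS₃
      intro V'' g'' hg''
      have h3 := h₃ g'' hg''
      change ((((toAbF O).obj ((homologyFunctor (ModSite.Mod O) q).obj Y)).obj.map
        ((g'' ≫ g') ≫ g).op).hom s) = 0
      rw [op_comp, Functor.map_comp, op_comp, Functor.map_comp]
      change ((((toAbF O).obj ((homologyFunctor (ModSite.Mod O) q).obj Y)).obj.map g''.op).hom
        ((((toAbF O).obj ((homologyFunctor (ModSite.Mod O) q).obj Y)).obj.map g'.op).hom
        ((((toAbF O).obj ((homologyFunctor (ModSite.Mod O) q).obj Y)).obj.map g.op).hom s))) = 0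
      rw [← hφ', ← cSecM_res, ← cSecM_res, h3, cSecM_zero]
    · intro U t
      refine ⟨liftSieve ((toAbF O).map ((homologyFunctor (ModSite.Mod O) q).map η)) t, ?_,
        fun g hg => hg⟩
      obtain ⟨S₁, hS₁, h₁⟩ := cSecM_locally_surj O K q U t
      refine J.transitive hS₁ _ (fun V g hg => ?_)
      obtain ⟨ψ, hψ⟩ := h₁ g hg
      obtain ⟨S₂, hS₂, h₂⟩ := hs V ψ
      refine J.superset_covering ?_ hS₂
      intro V' g' hg'
      obtain ⟨φ', hφ'⟩ := h₂ g' hg'
      refine ⟨cSecM O Y q V' φ', ?_⟩
      rw [← cSecM_postcomp, hφ', cSecM_res, hψ]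
      change _ = ((((toAbF O).obj ((homologyFunctor (ModSite.Mod O) q).obj K)).obj.map
        (g' ≫ g).op).hom t)
      rw [op_comp, Functor.map_comp]
      rfl
  exact isIso_of_reflects_iso _ (toAbF O)

end Groth.Agent.Helper24.HDLocal
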