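import Groth.Agent.Lib.Helper24.FrMod5
import Groth.Agent.Lib.Helper24.HDSheaf

/-!
# The comparison `H^q(U, K) → H^q(K)(U)` for objects of the derived category of `O`-modules

Module version of `HDSheaf`: `ZM O U = O ⊗ ℤ[U]` is the free `O`-module on an object, `HDUM K q U` is
`Hom(ZM O U, K[q])` in the derived category, `cSecM` compares it with sections of the cohomology
sheaf; it is natural, locally surjective and locally injective.
-/
open CategoryTheory Limits Opposite
universe w u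
set_option linter.unusedSectionVars false
namespace Groth.Agent.Helper24.HDMod

open Groth.Agent.Helper24.FrMod Groth.Agent.Helper17.MT Groth.Agent.Helper24.HDSheaf

variable {C : Type u} [SmallCategory C] {J : GrothendieckTopology C}
variable (O : Sheaf J CommRingCat.{u})

/-- the free `O`-module on an object -/
noncomputable abbrev ZM (U : C) : ModSite.Mod O := (Fr O).obj (CohCx.freeSheaf J U)

noncomputable abbrev ZMmap {U V : C} (g : V ⟶ U) : ZM O V ⟶ ZM O U :=
  (Fr O).map (CohCx.freeSheafMap J g)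

/-- morphisms out of the free module are sections -/
noncomputable def evalM (U : C) (F : ModSite.Mod O) (a : ZM O U ⟶ F) :
    ((toAbF O).obj F).obj.obj (op U) :=
  CohFree.evalGen J U _ ((frAdj O).homEquiv _ _ a)

noncomputable def ofSectM (U : C) (F : ModSite.Mod O) (s : ((toAbF O).obj F).obj.obj (op U)) :
    ZM O U ⟶ F :=
  ((frAdj O).homEquiv _ _).symm (CohFree.ofSect J U _ s)

lemma evalM_ofSectM (U : C) (F : ModSite.Mod O) (s : ((toAbF O).obj F).obj.obj (op U)) :
    evalM O U F (ofSectM O U F s) = s := by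
  unfold evalM ofSectM
  rw [Equiv.apply_symm_apply, CohFree.evalGen_ofSect]

lemma ofSectM_evalM (U : C) (F : ModSite.Mod O) (a : ZM O U ⟶ F) :
    ofSectM O U F (evalM O U F a) = a := by
  unfold evalM ofSectM
  rw [CohFree.ofSect_evalGen, Equiv.symm_apply_apply]

lemma evalM_injective (U : C) (F : ModSite.Mod O) : Function.Injective (evalM O U F) := by
  intro a b hab
  rw [← ofSectM_evalM O U F a, hab, ofSectM_evalM]

lemma evalM_comp (U : C) {F G : ModSite.Mod O} (a : ZM O U ⟶ F) (p : F ⟶ G) :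
    evalM O U G (a ≫ p) = (((toAbF O).map p).hom.app (op U)).hom (evalM O U F a) := by
  unfold evalM
  rw [Adjunction.homEquiv_naturality_right]
  rfl

lemma evalM_ZMmap_comp {U V : C} (g : V ⟶ U) (F : ModSite.Mod O) (a : ZM O U ⟶ F) :
    evalM O V F (ZMmap O g ≫ a) =
      (((toAbF O).obj F).obj.map g.op).hom (evalM O U F a) := by
  unfold evalM
  rw [Adjunction.homEquiv_naturality_left, CohFree.evalGen_freeSheafMap_comp]

lemma evalM_zero (U : C) (F : ModSite.Mod O) : evalM O U F 0 = 0 := by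
  unfold evalM
  have : (frAdj O).homEquiv (CohCx.freeSheaf J U) F 0 = 0 := by
    have := (frAdj O).homAddEquiv (CohCx.freeSheaf J U) F
    exact ((frAdj O).homAddEquiv (CohCx.freeSheaf J U) F).map_zero
  rw [this, map_zero]

/-- local lifting of morphisms out of free modules along epimorphisms -/
lemma exists_lift_locallyM {A' B : ModSite.Mod O} (p : A' ⟶ B) [Epi p] (U : C)
    (b : ZM O U ⟶ B) :
    ∃ S ∈ J U, ∀ {V : C} (g : V ⟶ U), S g →
      ∃ a : ZM O V ⟶ A', a ≫ p = ZMmap O g ≫ b := by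
  have : Epi ((toAbF O).map p) := inferInstance
  obtain ⟨S, hS, h⟩ := exists_lift_locally ((toAbF O).map p) U ((frAdj O).homEquiv _ _ b)
  refine ⟨S, hS, fun {V} g hg => ?_⟩
  obtain ⟨a, ha⟩ := h g hg
  refine ⟨((frAdj O).homEquiv _ _).symm a, ?_⟩
  apply ((frAdj O).homEquiv _ _).injective
  rw [Adjunction.homEquiv_naturality_right, Equiv.apply_symm_apply, ha,
    Adjunction.homEquiv_naturality_left]

variable [HasDerivedCategory.{w} (ModSite.Mod O)]

open DerivedCategory HomologicalComplex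

/-- `κ` is locally surjective -/
theorem locally_surjM (M : DerivedCategory (ModSite.Mod O)) (U : C)
    (s : ZM O U ⟶ (DerivedCategory.homologyFunctor _ 0).obj M) :
    ∃ S ∈ J U, ∀ {V : C} (g : V ⟶ U), S g →
      ∃ φ : Q.obj (sg (ZM O V)) ⟶ M,
        κ (ZM O V) M φ = ZMmap O g ≫ s := by
  let K := Q.objPreimage M
  let e : Q.obj K ≅ M := Q.objObjPreimageIso M
  let p : K.cycles 0 ⟶ (DerivedCategory.homologyFunctor _ 0).obj M :=
    K.homologyπ 0 ≫ hFFinv K ≫ (DerivedCategory.homologyFunctor _ 0).map e.hom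
  have : Epi p := by
    have : Epi (hFFinv K ≫ (DerivedCategory.homologyFunctor _ 0).map e.hom) := inferInstance
    exact epi_comp _ _
  obtain ⟨S, hS, h⟩ := exists_lift_locallyM O p U s
  refine ⟨S, hS, fun {V} g hg => ?_⟩
  obtain ⟨a, ha⟩ := h g hg
  have hz : (a ≫ K.iCycles 0) ≫ K.d 0 1 = 0 := by rw [Category.assoc, iCycles_d, comp_zero]
  refine ⟨Q.map (ζ (a ≫ K.iCycles 0) hz) ≫ e.hom, ?_⟩
  rw [κ_postcomp, κ_ζ, ← ha]
  have : K.liftCycles (a ≫ K.iCycles 0) 1 (by simp) hz = a := by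
    rw [← cancel_mono (K.iCycles 0), liftCycles_i]
  rw [this]
  simp only [p, Category.assoc]

/-- `κ` is locally injective -/
theorem locally_injM (M : DerivedCategory (ModSite.Mod O)) (U : C)
    (φ : Q.obj (sg (ZM O U)) ⟶ M) (hφ : κ (ZM O U) M φ = 0) :
    ∃ S ∈ J U, ∀ {V : C} (g : V ⟶ U), S g → Q.map (sgMap (ZMmap O g)) ≫ φ = 0 := by
  let K := Q.objPreimage M
  let e : Q.obj K ≅ M := Q.objObjPreimageIso M
  obtain ⟨Y', g₁, s₁, hs₁, hfac⟩ := left_fac (φ ≫ e.inv)
  obtain ⟨z, hz, rfl⟩ := eq_ζ g₁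
  let θ : Q.obj Y' ⟶ M := inv (Q.map s₁) ≫ e.hom
  have hθ : IsIso θ := inferInstance
  have hφ' : φ = Q.map (ζ z hz) ≫ θ := by
    have h0 := congrArg (fun m => m ≫ e.hom) hfac
    simp only [Category.assoc, Iso.inv_hom_id, Category.comp_id] at h0
    exact h0
  rw [hφ', κ_postcomp, κ_ζ] at hφ
  have h1 : Y'.liftCycles z 1 (by simp) hz ≫ Y'.homologyπ 0 = 0 := by
    have : IsIso (hFFinv Y' ≫ (DerivedCategory.homologyFunctor _ 0).map θ) := inferInstance
    rw [← cancel_mono (hFFinv Y' ≫ (DerivedCategory.homologyFunctor _ 0).map θ), zero_comp]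
    simpa only [Category.assoc] using hφ
  obtain ⟨A', p, hp, y, hy⟩ := exists_boundary z hz h1
  obtain ⟨S, hS, h⟩ := exists_lift_locallyM O p U (𝟙 _)
  refine ⟨S, hS, fun {V} g hg => ?_⟩
  obtain ⟨a, ha⟩ := h g hg
  rw [Category.comp_id] at ha
  rw [hφ', ← Category.assoc, ← Functor.map_comp, ζ_precomp]
  have : ZMmap O g ≫ z = (a ≫ y) ≫ Y'.d (-1) 0 := by
    rw [← ha, Category.assoc, hy, Category.assoc]
  have h2 : Q.map (ζ (ZMmap O g ≫ z) (by rw [Category.assoc, hz, comp_zero])) = 0 := by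
    have h3 := Q_map_ζ_eq_zero (K := Y') (a ≫ y)
    convert h3 using 3
  rw [h2, zero_comp]

/-- `H⁰(K⟦q⟧) ≅ H^q(K)` -/
noncomputable def shIM (q : ℤ) :
    shiftFunctor (DerivedCategory (ModSite.Mod O)) q ⋙
      DerivedCategory.homologyFunctor (ModSite.Mod O) 0 ≅
    DerivedCategory.homologyFunctor (ModSite.Mod O) q :=
  (DerivedCategory.homologyFunctor (ModSite.Mod O) 0).shiftIso q 0 q (by simp)

/-- `H^q(U, K)` for an object of the derived category of `O`-modules -/
abbrev HDUM (K : DerivedCategory (ModSite.Mod O)) (q : ℤ) (U : C) : Type w :=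
  (DerivedCategory.singleFunctor (ModSite.Mod O) 0).obj (ZM O U) ⟶
    (shiftFunctor (DerivedCategory (ModSite.Mod O)) q).obj K

/-- restriction -/
noncomputable abbrev HDUMres (K : DerivedCategory (ModSite.Mod O)) (q : ℤ) {U V : C} (g : V ⟶ U)
    (φ : HDUM O K q U) : HDUM O K q V :=
  (DerivedCategory.singleFunctor (ModSite.Mod O) 0).map (ZMmap O g) ≫ φ

/-- explicit type change -/
def toQM {K : DerivedCategory (ModSite.Mod O)} {q : ℤ} {U : C} (φ : HDUM O K q U) :
    Q.obj (sg (ZM O U)) ⟶ (shiftFunctor _ q).obj K := φ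

/-- explicit type change -/
def ofQM {K : DerivedCategory (ModSite.Mod O)} {q : ℤ} {U : C}
    (φ : Q.obj (sg (ZM O U)) ⟶ (shiftFunctor _ q).obj K) : HDUM O K q U := φ

lemma toQM_ofQM {K : DerivedCategory (ModSite.Mod O)} {q : ℤ} {U : C}
    (φ : Q.obj (sg (ZM O U)) ⟶ (shiftFunctor _ q).obj K) :
    toQM O (ofQM O φ : HDUM O K q U) = φ := rfl

lemma toQM_zero {K : DerivedCategory (ModSite.Mod O)} {q : ℤ} {U : C} :
    toQM O (0 : HDUM O K q U) = 0 := rfl

lemma toQM_res {K : DerivedCategory (ModSite.Mod O)} {q : ℤ} {U V : C} (g : V ⟶ U)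
    (φ : HDUM O K q U) :
    toQM O (HDUMres O K q g φ) = Q.map (sgMap (ZMmap O g)) ≫ toQM O φ := rfl

lemma toQM_postcomp {K K' : DerivedCategory (ModSite.Mod O)} (f : K ⟶ K') {q : ℤ} {U : C}
    (φ : HDUM O K q U) :
    toQM O (φ ≫ (shiftFunctor _ q).map f : HDUM O K' q U) =
      toQM O φ ≫ (shiftFunctor _ q).map f := rfl

lemma κ_zeroM (X : ModSite.Mod O) (M : DerivedCategory (ModSite.Mod O)) :
    κ X M 0 = 0 := by
  have := κ_add (X := X) (M := M) 0 0
  rw [add_zero] at this
  exact left_eq_add.mp this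

/-- the comparison map as a morphism out of the free module -/
noncomputable def cMorM (K : DerivedCategory (ModSite.Mod O)) (q : ℤ) (U : C)
    (φ : HDUM O K q U) : ZM O U ⟶ (DerivedCategory.homologyFunctor (ModSite.Mod O) q).obj K :=
  κ (ZM O U) ((shiftFunctor _ q).obj K) (toQM O φ) ≫ (shIM O q).hom.app K

/-- the comparison map `H^q(U, K) → H^q(K)(U)` -/
noncomputable def cSecM (K : DerivedCategory (ModSite.Mod O)) (q : ℤ) (U : C)
    (φ : HDUM O K q U) :
    ((toAbF O).obj ((DerivedCategory.homologyFunctor (ModSite.Mod O) q).obj K)).obj.obj (op U) :=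
  evalM O U _ (cMorM O K q U φ)

lemma cSecM_zero (K : DerivedCategory (ModSite.Mod O)) (q : ℤ) (U : C) :
    cSecM O K q U 0 = 0 := by
  unfold cSecM cMorM
  rw [toQM_zero, κ_zeroM, zero_comp, evalM_zero]

lemma cMorM_res (K : DerivedCategory (ModSite.Mod O)) (q : ℤ) {U V : C} (g : V ⟶ U)
    (φ : HDUM O K q U) :
    cMorM O K q V (HDUMres O K q g φ) = ZMmap O g ≫ cMorM O K q U φ := by
  unfold cMorM
  rw [toQM_res, κ_precomp, Category.assoc]

lemma cSecM_res (K : DerivedCategory (ModSite.Mod O)) (q : ℤ) {U V : C} (g : V ⟶ U)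
    (φ : HDUM O K q U) :
    cSecM O K q V (HDUMres O K q g φ) =
      (((toAbF O).obj ((DerivedCategory.homologyFunctor (ModSite.Mod O) q).obj K)).obj.map g.op).hom
        (cSecM O K q U φ) := by
  unfold cSecM
  rw [cMorM_res, evalM_ZMmap_comp]

lemma cMorM_postcomp {K K' : DerivedCategory (ModSite.Mod O)} (f : K ⟶ K') (q : ℤ) (U : C)
    (φ : HDUM O K q U) :
    cMorM O K' q U (φ ≫ (shiftFunctor _ q).map f) =
      cMorM O K q U φ ≫ (DerivedCategory.homologyFunctor _ q).map f := by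
  unfold cMorM
  rw [toQM_postcomp, κ_postcomp, Category.assoc, Category.assoc]
  congr 1
  exact (shIM O q).hom.naturality f

lemma cSecM_postcomp {K K' : DerivedCategory (ModSite.Mod O)} (f : K ⟶ K') (q : ℤ) (U : C)
    (φ : HDUM O K q U) :
    cSecM O K' q U (φ ≫ (shiftFunctor _ q).map f) =
      (((toAbF O).map ((DerivedCategory.homologyFunctor _ q).map f)).hom.app (op U)).hom
        (cSecM O K q U φ) := by
  unfold cSecM
  rw [cMorM_postcomp, evalM_comp]

/-- local surjectivity of the comparison map -/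
theorem cSecM_locally_surj (K : DerivedCategory (ModSite.Mod O)) (q : ℤ) (U : C)
    (s : ((toAbF O).obj ((DerivedCategory.homologyFunctor (ModSite.Mod O) q).obj K)).obj.obj (op U)) :
    ∃ S ∈ J U, ∀ {V : C} (g : V ⟶ U), S g →
      ∃ φ : HDUM O K q V, cSecM O K q V φ =
        (((toAbF O).obj ((DerivedCategory.homologyFunctor (ModSite.Mod O) q).obj K)).obj.map g.op).hom s := by
  obtain ⟨S, hS, h⟩ := locally_surjM O ((shiftFunctor _ q).obj K) U
    (ofSectM O U _ s ≫ (shIM O q).inv.app K)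
  refine ⟨S, hS, fun {V} g hg => ?_⟩
  obtain ⟨φ, hφ⟩ := h g hg
  refine ⟨ofQM O φ, ?_⟩
  unfold cSecM cMorM
  rw [toQM_ofQM, hφ, Category.assoc, Category.assoc, Iso.inv_hom_id_app, Category.comp_id,
    evalM_ZMmap_comp, evalM_ofSectM]

/-- local injectivity of the comparison map -/
theorem cSecM_locally_inj (K : DerivedCategory (ModSite.Mod O)) (q : ℤ) (U : C)
    (φ : HDUM O K q U) (hφ : cSecM O K q U φ = 0) :
    ∃ S ∈ J U, ∀ {V : C} (g : V ⟶ U), S g → HDUMres O K q g φ = 0 := by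
  have h1 : cMorM O K q U φ = 0 := by
    apply evalM_injective O U
    rw [evalM_zero]
    exact hφ
  have h2 : κ (ZM O U) ((shiftFunctor _ q).obj K) (toQM O φ) = 0 := by
    unfold cMorM at h1
    rw [← cancel_mono ((shIM O q).hom.app K), h1, zero_comp]
  exact locally_injM O ((shiftFunctor _ q).obj K) U (toQM O φ) h2

end Groth.Agent.Helper24.HDMod
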