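import Groth.Agent.Lib.Helper24.RlimSeq

/-!
# More consequences of `CohCx.IsRlimVia`: compatibility of the projections and a uniqueness criterion
-/

set_option autoImplicit false
universe v' u'
open CategoryTheory CategoryTheory.Limits Opposite

namespace Groth.Agent.Helper24.RlimSeq

variable {T : Type u'} [Category.{v'} T] [Preadditive T] [HasZeroObject T] [HasShift T ℤ]
    [∀ n : ℤ, (shiftFunctor T n).Additive] [Pretriangulated T]
    {K : ℕ → T} {t : ∀ n, K (n + 1) ⟶ K n} [HasProduct K] {L : T} {a : ∀ n, L ⟶ K n}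

theorem rlim_compat (hL : CohCx.IsRlimVia K t L a) (n : ℕ) : a (n + 1) ≫ t n = a n := by
  obtain ⟨c, hc⟩ := hL
  have h0 : Pi.lift a ≫ (Pi.lift fun n => Pi.π K n - Pi.π K (n + 1) ≫ t n) = 0 :=
    Pretriangulated.comp_distTriang_mor_zero₁₂ _ hc
  have h1 : (Pi.lift a ≫ (Pi.lift fun n => Pi.π K n - Pi.π K (n + 1) ≫ t n)) ≫ Pi.π K n = 0 := by
    rw [h0, zero_comp]
  rw [Category.assoc, Pi.lift_π, Preadditive.comp_sub, Pi.lift_π, ← Category.assoc, Pi.lift_π] at h1
  exact (sub_eq_zero.1 h1).symm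

theorem rlim_compat_transition (hL : CohCx.IsRlimVia K t L a) (n : ℕ) :
    ∀ k : ℕ, a (n + k) ≫ CohCx.transition K t n k = a n
  | 0 => by
    change a n ≫ 𝟙 _ = a n
    rw [Category.comp_id]
  | k + 1 => by
    change a (n + k + 1) ≫ t (n + k) ≫ CohCx.transition K t n k = a n
    rw [← Category.assoc, rlim_compat hL, rlim_compat_transition hL n k]

/-- a map to the shifted derived limit vanishes as soon as it vanishes after projection to one
stage `n₀`, the transition maps into that stage are injective on `Hom(X, -⟦m⟧)` and `lim¹`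
vanishes one degree lower -/
theorem rlim_unique' (hL : CohCx.IsRlimVia K t L a) (X : T) (m : ℤ)
    (h : CohCx.LimOneIsZero (fun n => X ⟶ (K n)⟦m - 1⟧)
      (fun n => Preadditive.rightComp _ ((t n)⟦m - 1⟧')))
    (n₀ : ℕ)
    (hinj : ∀ k : ℕ, Function.Injective
      (Preadditive.rightComp _ ((CohCx.transition K t n₀ k)⟦m⟧') :
        (X ⟶ (K (n₀ + k))⟦m⟧) → (X ⟶ (K n₀)⟦m⟧)))
    (y : X ⟶ L⟦m⟧) (hy : y ≫ (a n₀)⟦m⟧' = 0) : y = 0 := by
  have hdown : ∀ n k : ℕ, y ≫ (a (n + k))⟦m⟧' = 0 → y ≫ (a n)⟦m⟧' = 0 := by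
    intro n k hk
    rw [← rlim_compat_transition hL n k, Functor.map_comp, ← Category.assoc, hk, zero_comp]
  have hup : ∀ k : ℕ, y ≫ (a (n₀ + k))⟦m⟧' = 0 := by
    intro k
    apply hinj k
    change (y ≫ (a (n₀ + k))⟦m⟧') ≫ (CohCx.transition K t n₀ k)⟦m⟧' = 0 ≫ _
    rw [Category.assoc, ← Functor.map_comp, rlim_compat_transition hL n₀ k, hy, zero_comp]
  refine rlim_unique hL X m h y (fun n => ?_)
  rcases le_total n n₀ with hle | hle
  · obtain ⟨k, rfl⟩ := Nat.exists_eq_add_of_le hle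
    exact hdown n k hy
  · obtain ⟨k, rfl⟩ := Nat.exists_eq_add_of_le hle
    exact hup k

end Groth.Agent.Helper24.RlimSeq
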