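import Groth.Agent.Lib.Helper24.HDMod
import Groth.Agent.Lib.Helper24.RlimSeq2

/-!
# Sections of the cohomology sheaves of a derived limit of `O`-modules: injectivity criterion
(module version of the statement proved for abelian sheaves in `S0880`)
-/
open CategoryTheory Limits Opposite
universe w u
set_option linter.unusedSectionVars false
set_option autoImplicit false
namespace Groth.Agent.Helper24.HDMod

open Groth.Agent.Helper24.FrMod Groth.Agent.Helper17.MT Groth.Agent.Helper24.HDSheaf
  Groth.Agent.Helper24.RlimSeq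

variable {C : Type u} [SmallCategory C] {J : GrothendieckTopology C}
variable (O : Sheaf J CommRingCat.{u}) [HasDerivedCategory.{w} (ModSite.Mod O)]

theorem injective_sections_rlimM
    (K : ℕ → DerivedCategory (ModSite.Mod O)) (t : ∀ n, K (n + 1) ⟶ K n) [HasProduct K]
    (L : DerivedCategory (ModSite.Mod O)) (a : ∀ n, L ⟶ K n) (hL : CohCx.IsRlimVia K t L a)
    (V : C) (m : ℤ) (nV : ℕ)
    (h : ∀ T ∈ J V, ∃ (ι : Type u) (Y : ι → C) (f : ∀ i, Y i ⟶ V), (∀ i, T.arrows (f i)) ∧
      Sieve.ofArrows Y f ∈ J V ∧ ∀ i,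
        CohCx.LimOneIsZero (fun n => HDUM O (K n) (m - 1) (Y i))
          (fun n => Preadditive.rightComp _ ((shiftFunctor _ (m - 1)).map (t n))) ∧
        ∀ k : ℕ, Function.Injective
          (Preadditive.rightComp _ ((shiftFunctor _ m).map (CohCx.transition K t nV k)) :
            HDUM O (K (nV + k)) m (Y i) → HDUM O (K nV) m (Y i))) :
    Function.Injective (((toAbF O).map
      ((DerivedCategory.homologyFunctor _ m).map (a nV))).hom.app (op V)) := by
  rw [← AddCommGrpCat.mono_iff_injective, AddCommGrpCat.mono_iff_injective,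
    injective_iff_map_eq_zero]
  intro γ hγ
  let HL := (toAbF O).obj ((DerivedCategory.homologyFunctor (ModSite.Mod O) m).obj L)
  let HK := (toAbF O).obj ((DerivedCategory.homologyFunctor (ModSite.Mod O) m).obj (K nV))
  let T : Sieve V :=
    { arrows := fun W g => ∃ φ : HDUM O L m W,
        cSecM O L m W φ = (HL.obj.map g.op).hom γ ∧
          (φ ≫ (shiftFunctor _ m).map (a nV) : HDUM O (K nV) m W) = 0
      downward_closed := by
        rintro W W' g ⟨φ, h1, h2⟩ k
        refine ⟨HDUMres O L m k φ, ?_, ?_⟩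
        · rw [cSecM_res, h1, op_comp, Functor.map_comp]
          rfl
        · change ((DerivedCategory.singleFunctor _ 0).map (ZMmap O k) ≫ φ) ≫ _ = 0
          rw [Category.assoc, h2, comp_zero] }
  have hT : T ∈ J V := by
    obtain ⟨S₁, hS₁, h1⟩ := cSecM_locally_surj O L m V γ
    refine J.transitive hS₁ T (fun W g hg => ?_)
    obtain ⟨φ, hφ⟩ := h1 g hg
    have h2 : cSecM O (K nV) m W (φ ≫ (shiftFunctor _ m).map (a nV)) = 0 := by
      rw [cSecM_postcomp, hφ]
      have hnat : (((toAbF O).map ((DerivedCategory.homologyFunctor _ m).map (a nV))).hom.app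
          (op W)).hom ((HL.obj.map g.op).hom γ) =
          (HK.obj.map g.op).hom
            ((((toAbF O).map ((DerivedCategory.homologyFunctor _ m).map (a nV))).hom.app
              (op V)).hom γ) :=
        ConcreteCategory.congr_hom
          (((toAbF O).map ((DerivedCategory.homologyFunctor _ m).map (a nV))).hom.naturality g.op) γ
      rw [hnat]
      erw [hγ]
      rw [map_zero]
    obtain ⟨S₂, hS₂, h3⟩ := cSecM_locally_inj O (K nV) m W _ h2
    refine J.superset_covering ?_ hS₂
    intro W' k hk
    refine ⟨HDUMres O L m k φ, ?_, ?_⟩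
    · rw [cSecM_res, hφ, op_comp, Functor.map_comp]
      rfl
    · have h4 := h3 k hk
      change (DerivedCategory.singleFunctor _ 0).map (ZMmap O k) ≫
        (φ ≫ (shiftFunctor _ m).map (a nV)) = 0 at h4
      change ((DerivedCategory.singleFunctor _ 0).map (ZMmap O k) ≫ φ) ≫ _ = 0
      rw [Category.assoc]
      exact h4
  obtain ⟨ι, Y, f, hf, hcov, hY⟩ := h T hT
  have hzero : ∀ i, (HL.obj.map (f i).op).hom γ = 0 := by
    intro i
    obtain ⟨φ, h1, h2⟩ := hf i
    obtain ⟨hlim, hinj⟩ := hY i
    have hφ : φ = 0 :=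
      rlim_unique' hL ((DerivedCategory.singleFunctor _ 0).obj (ZM O (Y i))) m hlim nV
        hinj φ h2
    rw [← h1, hφ, cSecM_zero]
  have hsep : Presheaf.IsSeparated J HL.obj := Sheaf.isSeparated HL
  have := hsep V (Sieve.ofArrows Y f) hcov γ 0 (by
    rintro W g ⟨Z, k, g', ⟨i⟩, rfl⟩
    rw [op_comp, Functor.map_comp]
    change (HL.obj.map k.op).hom ((HL.obj.map (f i).op).hom γ) =
      (HL.obj.map k.op).hom ((HL.obj.map (f i).op).hom 0)
    rw [hzero i, map_zero, map_zero, map_zero])
  exact this

end Groth.Agent.Helper24.HDMod
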