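import Mathlib
import Groth.Prelude.Def_FreeSh
import Groth.Prelude.Def_CohSite

open CategoryTheory Limits Opposite

universe u
noncomputable section
namespace Groth.Agent.Helper24.LerayFree

variable {C D : Type u} [SmallCategory C] [SmallCategory D]
  (J : GrothendieckTopology C) (K : GrothendieckTopology D) (u : D ⥤ C) [u.IsContinuous K J]

/-- the pullback/pushforward adjunction on abelian sheaves -/
abbrev adj : u.sheafPullback AddCommGrpCat.{u} K J ⊣ CohSite.push J K u :=
  u.sheafAdjunctionContinuous AddCommGrpCat.{u} K J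

variable (V : D)

/-- sections of `u_* F` over `V` are sections of `F` over `u V` -/
def toPush (F : Sheaf J AddCommGrpCat.{u}) (s : F.obj.obj (op (u.obj V))) :
    ((CohSite.push J K u).obj F).obj.obj (op V) := s

/-- sections of `u_* F` over `V` are sections of `F` over `u V` -/
def ofPush (F : Sheaf J AddCommGrpCat.{u}) (s : ((CohSite.push J K u).obj F).obj.obj (op V)) :
    F.obj.obj (op (u.obj V)) := s

lemma ofPush_toPush (F : Sheaf J AddCommGrpCat.{u}) (s : F.obj.obj (op (u.obj V))) :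
    ofPush J K u V F (toPush J K u V F s) = s := rfl

lemma toPush_ofPush (F : Sheaf J AddCommGrpCat.{u}) (s) :
    toPush J K u V F (ofPush J K u V F s) = s := rfl

lemma push_map_app {F G : Sheaf J AddCommGrpCat.{u}} (g : F ⟶ G) (s) :
    (((CohSite.push J K u).map g).hom.app (op V)).hom s =
      toPush J K u V G ((g.hom.app (op (u.obj V))).hom (ofPush J K u V F s)) := rfl

lemma evalGen_comp (U : C) {F G : Sheaf J AddCommGrpCat.{u}} (φ : CohCx.freeSheaf J U ⟶ F) (g : F ⟶ G) :
    CohFree.evalGen J U G (φ ≫ g) = (g.hom.app (op U)).hom (CohFree.evalGen J U F φ) := rfl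

lemma evalGen_injective (U : C) (F : Sheaf J AddCommGrpCat.{u}) :
    Function.Injective (CohFree.evalGen J U F) :=
  (CohFree.homEquivSect J U F).injective

/-- the canonical section of `u⁻¹ ℤ_V` over `u V` -/
def sec : ((u.sheafPullback AddCommGrpCat.{u} K J).obj (CohCx.freeSheaf K V)).obj.obj (op (u.obj V)) :=
  ofPush J K u V _ (CohFree.evalGen K V _ ((adj J K u).unit.app (CohCx.freeSheaf K V)))

/-- `ℤ_{uV} ⟶ u⁻¹ ℤ_V` -/
def α : CohCx.freeSheaf J (u.obj V) ⟶ (u.sheafPullback AddCommGrpCat.{u} K J).obj (CohCx.freeSheaf K V) :=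
  CohFree.ofSect J (u.obj V) _ (sec J K u V)

/-- the adjoint of `β` -/
def β' : CohCx.freeSheaf K V ⟶ (CohSite.push J K u).obj (CohCx.freeSheaf J (u.obj V)) :=
  CohFree.ofSect K V ((CohSite.push J K u).obj (CohCx.freeSheaf J (u.obj V)))
    (toPush J K u V _ (CohFree.gen J (u.obj V)))

/-- `u⁻¹ ℤ_V ⟶ ℤ_{uV}` -/
def β : (u.sheafPullback AddCommGrpCat.{u} K J).obj (CohCx.freeSheaf K V) ⟶ CohCx.freeSheaf J (u.obj V) :=
  ((adj J K u).homEquiv _ _).symm (β' J K u V)

lemma evalGen_α : CohFree.evalGen J (u.obj V) _ (α J K u V) = sec J K u V :=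
  CohFree.evalGen_ofSect _ _ _ _

lemma evalGen_β' : CohFree.evalGen K V _ (β' J K u V) = toPush J K u V _ (CohFree.gen J (u.obj V)) :=
  CohFree.evalGen_ofSect _ _ _ _

lemma unit_β : (adj J K u).unit.app (CohCx.freeSheaf K V) ≫ (CohSite.push J K u).map (β J K u V) =
    β' J K u V := by
  have h := (adj J K u).homEquiv_unit (f := β J K u V)
  exact h.symm.trans (Equiv.apply_symm_apply _ _)

lemma α_β : α J K u V ≫ β J K u V = 𝟙 _ := by
  apply evalGen_injective
  rw [evalGen_comp, evalGen_α]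
  have h2 := congr_arg (CohFree.evalGen K V _) (unit_β J K u V)
  rw [evalGen_comp, evalGen_β', push_map_app] at h2
  exact h2

lemma β_α : β J K u V ≫ α J K u V = 𝟙 _ := by
  apply ((adj J K u).homEquiv _ _).injective
  have hL : (adj J K u).homEquiv _ _ (β J K u V ≫ α J K u V) =
      β' J K u V ≫ (CohSite.push J K u).map (α J K u V) := by
    rw [Adjunction.homEquiv_unit, CategoryTheory.Functor.map_comp, ← Category.assoc, unit_β]
  have hR : (adj J K u).homEquiv _ _ (𝟙 ((u.sheafPullback AddCommGrpCat.{u} K J).obj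
      (CohCx.freeSheaf K V))) = (adj J K u).unit.app (CohCx.freeSheaf K V) :=
    (adj J K u).homEquiv_id _
  rw [hL, hR]
  apply evalGen_injective
  rw [evalGen_comp, evalGen_β', push_map_app, ofPush_toPush]
  show toPush J K u V _ (CohFree.evalGen J (u.obj V) _ (α J K u V)) = _
  rw [evalGen_α]
  rfl

/-- `u⁻¹ ℤ_V ≅ ℤ_{uV}` -/
def pullFreeIso : (u.sheafPullback AddCommGrpCat.{u} K J).obj (CohCx.freeSheaf K V) ≅
    CohCx.freeSheaf J (u.obj V) where
  hom := β J K u V
  inv := α J K u V
  hom_inv_id := β_α J K u V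
  inv_hom_id := α_β J K u V

end Groth.Agent.Helper24.LerayFree
end
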