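import Mathlib
import Groth.Agent.Lib.Helper24.LerayFree

open CategoryTheory Limits Opposite

universe u
noncomputable section
namespace Groth.Agent.Helper24.LerayFree

variable {C D : Type u} [SmallCategory C] [SmallCategory D]
  (J : GrothendieckTopology C) (K : GrothendieckTopology D) (u : D ⥤ C) [u.IsContinuous K J]

lemma push_obj_map_apply (F : Sheaf J AddCommGrpCat.{u}) {V' V : D} (h : V' ⟶ V)
    (s : F.obj.obj (op (u.obj V))) :
    (((CohSite.push J K u).obj F).obj.map h.op).hom (toPush J K u V F s) =
      toPush J K u V' F ((F.obj.map (u.map h).op).hom s) := rfl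

lemma β'_naturality {V' V : D} (h : V' ⟶ V) :
    CohCx.freeSheafMap K h ≫ β' J K u V =
      β' J K u V' ≫ (CohSite.push J K u).map (CohCx.freeSheafMap J (u.map h)) := by
  apply evalGen_injective
  rw [CohFree.evalGen_freeSheafMap_comp, evalGen_β', evalGen_comp, evalGen_β', push_map_app,
    ofPush_toPush, push_obj_map_apply, CohFree.freeSheafMap_gen]

lemma pullFreeIso_naturality {V' V : D} (h : V' ⟶ V) :
    (u.sheafPullback AddCommGrpCat.{u} K J).map (CohCx.freeSheafMap K h) ≫
        (pullFreeIso J K u V).hom =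
      (pullFreeIso J K u V').hom ≫ CohCx.freeSheafMap J (u.map h) := by
  apply ((adj J K u).homEquiv _ _).injective
  rw [Adjunction.homEquiv_naturality_left, Adjunction.homEquiv_naturality_right]
  show _ ≫ (adj J K u).homEquiv _ _ (β J K u V) = (adj J K u).homEquiv _ _ (β J K u V') ≫ _
  have h1 : ∀ W : D, (adj J K u).homEquiv _ _ (β J K u W) = β' J K u W := fun W =>
    Equiv.apply_symm_apply _ _
  rw [h1, h1]
  exact β'_naturality J K u h

instance pullA_additive : (u.sheafPullback AddCommGrpCat.{u} K J).Additive :=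
  (adj J K u).left_adjoint_additive

instance pullA_preservesColimits :
    PreservesColimitsOfSize.{0, 0} (u.sheafPullback AddCommGrpCat.{u} K J) :=
  (adj J K u).leftAdjoint_preservesColimits

/-- the pullback of `coker (ℤ_{V'} ⟶ ℤ_V)` is `coker (ℤ_{uV'} ⟶ ℤ_{uV})` -/
def pullCokerIso {V' V : D} (h : V' ⟶ V) :
    (u.sheafPullback AddCommGrpCat.{u} K J).obj (cokernel (CohCx.freeSheafMap K h)) ≅
      cokernel (CohCx.freeSheafMap J (u.map h)) :=
  PreservesCokernel.iso (u.sheafPullback AddCommGrpCat.{u} K J) (CohCx.freeSheafMap K h) ≪≫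
    cokernel.mapIso _ _ (pullFreeIso J K u V') (pullFreeIso J K u V)
      (pullFreeIso_naturality J K u h)

end Groth.Agent.Helper24.LerayFree
end
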