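import Mathlib
import Groth.Prelude.Def_CohCx
import Groth.Agent.Lib.Helper29.DAdjA
import Groth.Agent.Lib.Helper29.KInjE
import Groth.Agent.Lib.Helper24.LerayFree2
import Groth.Agent.Lib.Helper24.TopDesc
import Groth.Agent.Lib.Helper24.HDSheaf

/-!
# Hypercohomology of a pushforward of a K-injective complex
-/

open CategoryTheory Limits Opposite TopologicalSpace DerivedCategory
universe w w' v v' u u'
set_option linter.unusedSectionVars false
set_option autoImplicit false
noncomputable section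
namespace Groth.Agent.Helper24.HDPush

open Groth.Agent.Helper29

section General

variable {A : Type u} [Category.{v} A] [Abelian A] {B : Type u'} [Category.{v'} B] [Abelian B]
  {F : A ⥤ B} {G : B ⥤ A} (adj : F ⊣ G) [F.Additive] [G.Additive]
  [PreservesFiniteLimits F] [PreservesFiniteColimits F]
  [HasDerivedCategory.{w} A] [HasDerivedCategory.{w'} B]

/-- the adjunction map `Hom(Z, Q(G I)) → Hom(F Z, Q I)` -/
def pushHom (I : CochainComplex B ℤ) (Z : DerivedCategory A) :
    (Z ⟶ Q.obj ((G.mapHomologicalComplex (ComplexShape.up ℤ)).obj I)) →+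
      (F.mapDerivedCategory.obj Z ⟶ Q.obj I) where
  toFun u := F.mapDerivedCategory.map u ≫ DAdjA.cMap adj I
  map_zero' := by rw [Functor.map_zero, zero_comp]
  map_add' u u' := by rw [Functor.map_add, Preadditive.add_comp]

lemma pushHom_apply (I : CochainComplex B ℤ) (Z : DerivedCategory A)
    (u : Z ⟶ Q.obj ((G.mapHomologicalComplex (ComplexShape.up ℤ)).obj I)) :
    pushHom adj I Z u = F.mapDerivedCategory.map u ≫ DAdjA.cMap adj I := rfl

lemma pushHom_bijective (I : CochainComplex B ℤ) [I.IsKInjective] (Z : DerivedCategory A) :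
    Function.Bijective (pushHom adj I Z) := by
  constructor
  · intro u u' h
    obtain ⟨u₀, -, hu₀⟩ := DAdjA.existsUnique_lift adj Z I (pushHom adj I Z u)
    rw [hu₀ u rfl, hu₀ u' h.symm]
  · intro v
    obtain ⟨u₀, hu, -⟩ := DAdjA.existsUnique_lift adj Z I v
    exact ⟨u₀, hu⟩

lemma pushHom_precomp (I : CochainComplex B ℤ) {Z Z' : DerivedCategory A} (a : Z' ⟶ Z)
    (u : Z ⟶ Q.obj ((G.mapHomologicalComplex (ComplexShape.up ℤ)).obj I)) :
    pushHom adj I Z' (a ≫ u) = F.mapDerivedCategory.map a ≫ pushHom adj I Z u := by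
  rw [pushHom_apply, pushHom_apply, Functor.map_comp, Category.assoc]

end General

section Top

open Groth.Agent.Helper24.TopDesc Groth.Agent.Helper24.LerayFree

variable {X Y : TopCat.{u}} (f : X ⟶ Y)
  [HasDerivedCategory.{w} (CohTop.Ab X)] [HasDerivedCategory.{w'} (CohTop.Ab Y)]

/-- `ℤ_U` placed in degree zero of the derived category -/
abbrev Φ (X : TopCat.{u}) [HasDerivedCategory.{w} (CohTop.Ab X)] (U : Opens X) :
    DerivedCategory (CohTop.Ab X) :=
  (DerivedCategory.singleFunctor (CohTop.Ab X) 0).obj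
    (CohCx.freeSheaf (Opens.grothendieckTopology X) U)

/-- restriction maps -/
abbrev Φmap (X : TopCat.{u}) [HasDerivedCategory.{w} (CohTop.Ab X)] {U' U : Opens X}
    (h : U' ⟶ U) : Φ X U' ⟶ Φ X U :=
  (DerivedCategory.singleFunctor (CohTop.Ab X) 0).map
    (CohCx.freeSheafMap (Opens.grothendieckTopology X) h)

/-- `f⁻¹ ℤ_V ≅ ℤ_{f⁻¹V}` in the derived category -/
def θ (V : Opens Y) :
    (CohTop.pull f).mapDerivedCategory.obj (Φ Y V) ≅ Φ X ((Opens.map f).obj V) :=
  ((CohTop.pull f).mapDerivedCategorySingleFunctor 0).app _ ≪≫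
    (DerivedCategory.singleFunctor (CohTop.Ab X) 0).mapIso
      (pullFreeIso (Opens.grothendieckTopology X) (Opens.grothendieckTopology Y) (Opens.map f) V)

lemma θ_naturality {V' V : Opens Y} (h : V' ⟶ V) :
    (CohTop.pull f).mapDerivedCategory.map (Φmap Y h) ≫ (θ f V).hom =
      (θ f V').hom ≫ Φmap X ((Opens.map f).map h) := by
  unfold θ
  dsimp only [Iso.trans_hom, Iso.app_hom, Functor.mapIso_hom]
  have h1 := ((CohTop.pull f).mapDerivedCategorySingleFunctor 0).hom.naturality
    (CohCx.freeSheafMap (Opens.grothendieckTopology Y) h)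
  dsimp only [Functor.comp_map] at h1
  rw [reassoc_of% h1, Category.assoc, ← Functor.map_comp, ← Functor.map_comp]
  congr 2
  exact pullFreeIso_naturality (Opens.grothendieckTopology X) (Opens.grothendieckTopology Y)
    (Opens.map f) h

/-- the adjunction `f⁻¹ ⊣ f_*`, typed with the prelude's names -/
def ppAdj : CohTop.pull f ⊣ CohTop.push f :=
  TopCat.Sheaf.pullbackPushforwardAdjunction AddCommGrpCat.{u} f

/-- `H^0(V, Q(f_* I)) → H^0(f⁻¹V, Q I)` -/
def hdHom (I : CochainComplex (CohTop.Ab X) ℤ) (V : Opens Y) :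
    (Φ Y V ⟶ Q.obj (((CohTop.push f).mapHomologicalComplex (ComplexShape.up ℤ)).obj I)) →+
      (Φ X ((Opens.map f).obj V) ⟶ Q.obj I) :=
  (Preadditive.leftComp _ (θ f V).inv).comp
    (pushHom (ppAdj f) I (Φ Y V))

lemma hdHom_apply (I : CochainComplex (CohTop.Ab X) ℤ) (V : Opens Y)
    (φ : Φ Y V ⟶ Q.obj (((CohTop.push f).mapHomologicalComplex (ComplexShape.up ℤ)).obj I)) :
    hdHom f I V φ = (θ f V).inv ≫
      pushHom (ppAdj f) I (Φ Y V) φ := rfl

lemma hdHom_bijective (I : CochainComplex (CohTop.Ab X) ℤ) [I.IsKInjective] (V : Opens Y) :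
    Function.Bijective (hdHom f I V) := by
  have h1 := pushHom_bijective (ppAdj f)
    I (Φ Y V)
  have h2 : Function.Bijective (fun g : (CohTop.pull f).mapDerivedCategory.obj (Φ Y V) ⟶ Q.obj I =>
      (θ f V).inv ≫ g) := by
    constructor
    · intro a b hab
      exact (cancel_epi (θ f V).inv).1 hab
    · intro c
      exact ⟨(θ f V).hom ≫ c, by simp⟩
  exact h2.comp h1

lemma hdHom_res (I : CochainComplex (CohTop.Ab X) ℤ) {V' V : Opens Y} (h : V' ⟶ V)
    (φ : Φ Y V ⟶ Q.obj (((CohTop.push f).mapHomologicalComplex (ComplexShape.up ℤ)).obj I)) :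
    hdHom f I V' (Φmap Y h ≫ φ) = Φmap X ((Opens.map f).map h) ≫ hdHom f I V φ := by
  rw [hdHom_apply, hdHom_apply, pushHom_precomp, ← Category.assoc, ← Category.assoc]
  congr 1
  rw [Iso.eq_comp_inv, Category.assoc, θ_naturality, Iso.inv_hom_id_assoc]

end Top

end Groth.Agent.Helper24.HDPush
end
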