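import Mathlib
import Groth.Prelude.Def_CohCx
import Groth.Agent.Lib.Helper24.HDSheaf

/-!
# Hypercohomology of objects of `D^{≥ 0}`: negative vanishing and the sheaf of `H^0`
-/

open CategoryTheory Limits Opposite TopologicalSpace DerivedCategory
universe w u
set_option linter.unusedSectionVars false
set_option autoImplicit false
noncomputable section
namespace Groth.Agent.Helper24.HDPush

open Groth.Agent.Helper24.HDSheaf

section Site

variable {C : Type u} [SmallCategory C] {J : GrothendieckTopology C}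
  [HasDerivedCategory.{w} (Sheaf J AddCommGrpCat.{u})]

/-- negative hypercohomology of an object of `D^{≥ 0}` vanishes -/
theorem subsingleton_HDU_of_isGE (L : DerivedCategory (Sheaf J AddCommGrpCat.{u})) [L.IsGE 0]
    (i : ℤ) (hi : i < 0) (U : C) : Subsingleton (CohCx.HDU L i U) := by
  have h1 : TStructure.t.IsGE ((shiftFunctor (DerivedCategory (Sheaf J AddCommGrpCat.{u})) i).obj L)
      (-i) := TStructure.t.isGE_shift L 0 i (-i) (by lia)
  constructor
  intro φ ψ
  have hφ : φ = 0 := TStructure.t.zero_of_isLE_of_isGE φ 0 (-i) (by lia) inferInstance h1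
  have hψ : ψ = 0 := TStructure.t.zero_of_isLE_of_isGE ψ 0 (-i) (by lia) inferInstance h1
  rw [hφ, hψ]

lemma ofSect_res (H : Sheaf J AddCommGrpCat.{u}) {U V : C} (g : V ⟶ U) (s : H.obj.obj (op U)) :
    CohFree.ofSect J V H ((H.obj.map g.op).hom s) =
      CohCx.freeSheafMap J g ≫ CohFree.ofSect J U H s := by
  apply (CohFree.homEquivSect J V H).injective
  rw [CohFree.homEquivSect_apply, CohFree.homEquivSect_apply, CohFree.evalGen_freeSheafMap_comp,
    CohFree.evalGen_ofSect, CohFree.evalGen_ofSect]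

/-- for `L` in `D^{≥ 0}`, `U ↦ H^0(U, L)` is (the presheaf of sections of) a sheaf -/
theorem exists_sheaf_HDU_zero (L : DerivedCategory (Sheaf J AddCommGrpCat.{u})) [L.IsGE 0] :
    ∃ (H : Sheaf J AddCommGrpCat.{u}) (ψ : ∀ U : C, H.obj.obj (op U) →+ CohCx.HDU L 0 U),
      (∀ U, Function.Bijective (ψ U)) ∧
      ∀ {U V : C} (g : V ⟶ U) (s : H.obj.obj (op U)),
        ψ V ((H.obj.map g.op).hom s) = CohCx.HDUres L 0 g (ψ U s) := by
  let t := (TStructure.t : Triangulated.TStructure (DerivedCategory (Sheaf J AddCommGrpCat.{u})))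
  let T := (t.truncLE 0).obj L
  have hT1 : T.IsLE 0 := inferInstanceAs (t.IsLE ((t.truncLE 0).obj L) 0)
  have hT2 : T.IsGE 0 := inferInstanceAs (t.IsGE ((t.truncLE 0).obj L) 0)
  obtain ⟨H, ⟨e⟩⟩ := exists_iso_singleFunctor_obj_of_isGE_of_isLE T 0
  let c : (DerivedCategory.singleFunctor (Sheaf J AddCommGrpCat.{u}) 0).obj H ⟶
      (shiftFunctor (DerivedCategory (Sheaf J AddCommGrpCat.{u})) (0 : ℤ)).obj L :=
    e.inv ≫ (t.truncLEι 0).app L ≫ (shiftFunctorZero _ ℤ).inv.app L
  let ψ : ∀ U : C, H.obj.obj (op U) →+ CohCx.HDU L 0 U := fun U =>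
    { toFun := fun s => (DerivedCategory.singleFunctor _ 0).map (CohFree.ofSect J U H s) ≫ c
      map_zero' := by
        have : CohFree.ofSect J U H 0 = 0 := (CohFree.homEquivSect J U H).symm.map_zero
        rw [this, Functor.map_zero, zero_comp]
      map_add' := fun s s' => by
        have : CohFree.ofSect J U H (s + s') = CohFree.ofSect J U H s + CohFree.ofSect J U H s' :=
          (CohFree.homEquivSect J U H).symm.map_add s s'
        rw [this, Functor.map_add, Preadditive.add_comp] }
  have hψ : ∀ (U : C) (s : H.obj.obj (op U)),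
      ψ U s = (DerivedCategory.singleFunctor _ 0).map (CohFree.ofSect J U H s) ≫ c := fun U s => rfl
  refine ⟨H, ψ, fun U => ⟨?_, ?_⟩, ?_⟩
  · intro s s' h
    rw [hψ, hψ] at h
    have h1 : (DerivedCategory.singleFunctor _ 0).map (CohFree.ofSect J U H s) ≫ e.inv ≫
        (t.truncLEι 0).app L = (DerivedCategory.singleFunctor _ 0).map (CohFree.ofSect J U H s') ≫
        e.inv ≫ (t.truncLEι 0).app L := by
      have := congrArg (fun m => m ≫ (shiftFunctorZero _ ℤ).hom.app L) h
      simpa [c] using this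
    have h2 : (DerivedCategory.singleFunctor _ 0).map (CohFree.ofSect J U H s) ≫ e.inv =
        (DerivedCategory.singleFunctor _ 0).map (CohFree.ofSect J U H s') ≫ e.inv := by
      apply t.to_truncLE_obj_ext
      simpa using h1
    have h3 := (cancel_mono e.inv).1 h2
    have h4 := (DerivedCategory.singleFunctor (Sheaf J AddCommGrpCat.{u}) 0).map_injective h3
    have := congrArg (CohFree.evalGen J U H) h4
    rwa [CohFree.evalGen_ofSect, CohFree.evalGen_ofSect] at this
  · intro φ
    let φ' : (DerivedCategory.singleFunctor _ 0).obj (CohCx.freeSheaf J U) ⟶ L :=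
      φ ≫ (shiftFunctorZero _ ℤ).hom.app L
    let m := t.liftTruncLE φ' 0 ≫ e.hom
    obtain ⟨m₀, hm₀⟩ := (DerivedCategory.singleFunctor (Sheaf J AddCommGrpCat.{u}) 0).map_surjective m
    refine ⟨CohFree.evalGen J U H m₀, ?_⟩
    rw [hψ, CohFree.ofSect_evalGen, hm₀]
    simp [m, c, φ']
  · intro U V g s
    rw [hψ, hψ, ofSect_res, Functor.map_comp, Category.assoc]
    rfl

end Site

section Top

variable {Y : TopCat.{u}} [HasDerivedCategory.{w} (CohTop.Ab Y)]

/-- an object whose negative hypercohomology vanishes on a basis lies in `D^{≥ 0}` -/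
theorem isGE_of_vanishing_on_basis (L : DerivedCategory (CohTop.Ab Y)) (B : Set (Opens Y))
    (hB : Opens.IsBasis B)
    (h : ∀ V ∈ B, ∀ i : ℤ, i < 0 → Subsingleton (CohCx.HDU L i V)) : L.IsGE 0 := by
  rw [DerivedCategory.isGE_iff]
  intro i hi
  change IsZero (CohCx.HD L i)
  have hsec : ∀ (V : Opens Y) (s : (CohCx.HD L i).obj.obj (op V)), s = 0 := by
    intro V s
    obtain ⟨S, hS, hS'⟩ := cSec_locally_surj L i V s
    -- the sieve of opens on which `s` vanishes
    let S'' : Sieve V :=
      { arrows := fun W g => ((CohCx.HD L i).obj.map g.op).hom s = 0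
        downward_closed := by
          intro W W' g hg k
          change ((CohCx.HD L i).obj.map (k ≫ g).op).hom s = 0
          rw [op_comp, Functor.map_comp]
          change ((CohCx.HD L i).obj.map k.op).hom (((CohCx.HD L i).obj.map g.op).hom s) = 0
          rw [hg, map_zero] }
    have hS'' : S'' ∈ Opens.grothendieckTopology Y V := by
      intro x hx
      obtain ⟨V', g, hg, hxV'⟩ := hS x hx
      obtain ⟨W, hWB, hxW, hWV'⟩ := Opens.isBasis_iff_nbhd.1 hB hxV'
      refine ⟨W, homOfLE hWV' ≫ g, ?_, hxW⟩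
      obtain ⟨φ, hφ⟩ := hS' g hg
      change ((CohCx.HD L i).obj.map (homOfLE hWV' ≫ g).op).hom s = 0
      rw [op_comp, Functor.map_comp]
      change ((CohCx.HD L i).obj.map (homOfLE hWV').op).hom (((CohCx.HD L i).obj.map g.op).hom s) = 0
      rw [← hφ, ← cSec_res]
      have := h W hWB i hi
      rw [Subsingleton.elim (CohCx.HDUres L i (homOfLE hWV') φ) 0, map_zero]
    have hsep := ((isSheaf_iff_isSheaf_of_type _ _).mp
      ((Presheaf.isSheaf_iff_isSheaf_forget (Opens.grothendieckTopology Y) (CohCx.HD L i).obj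
        (forget AddCommGrpCat)).mp (CohCx.HD L i).property)).isSeparated
    refine (hsep S'' hS'').ext (fun W g hg => ?_)
    have h0 : ((CohCx.HD L i).obj.map g.op).hom (0 : (CohCx.HD L i).obj.obj (op V)) = 0 := map_zero _
    exact (hg : ((CohCx.HD L i).obj.map g.op).hom s = 0).trans h0.symm
  rw [IsZero.iff_id_eq_zero]
  ext V s
  exact hsec V.unop s

end Top

end Groth.Agent.Helper24.HDPush
end
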