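import Mathlib
import Groth.Prelude.Def_CohCx
import Groth.Agent.Lib.Helper24.HDPush1
import Groth.Agent.Lib.Helper24.HDPush2

/-!
# Negative vanishing of hypercohomology along a map and the sheaf `V ↦ H^0(f⁻¹V, K)`
-/

open CategoryTheory Limits Opposite TopologicalSpace DerivedCategory
universe w w' u
set_option linter.unusedSectionVars false
set_option autoImplicit false
noncomputable section
namespace Groth.Agent.Helper24.HDPush

open Groth.Agent.Helper29

variable {X Y : TopCat.{u}} (f : X ⟶ Y)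
  [HasDerivedCategory.{w} (CohTop.Ab X)] [HasDerivedCategory.{w'} (CohTop.Ab Y)]

/-- the pushforward of a complex -/
abbrev pushCx (I : CochainComplex (CohTop.Ab X) ℤ) : CochainComplex (CohTop.Ab Y) ℤ :=
  ((CohTop.push f).mapHomologicalComplex (ComplexShape.up ℤ)).obj I

/-- `Q(f_* I)⟦i⟧ ≅ Q(f_*(I⟦i⟧))` -/
def aIso (I : CochainComplex (CohTop.Ab X) ℤ) (i : ℤ) :
    (shiftFunctor (DerivedCategory (CohTop.Ab Y)) i).obj (Q.obj (pushCx f I)) ≅
      Q.obj (pushCx f ((shiftFunctor (CochainComplex (CohTop.Ab X) ℤ) i).obj I)) :=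
  (((DerivedCategory.Q : CochainComplex (CohTop.Ab Y) ℤ ⥤ _).commShiftIso i).app
      (pushCx f I)).symm ≪≫
    (DerivedCategory.Q : CochainComplex (CohTop.Ab Y) ℤ ⥤ _).mapIso
      ((((CohTop.push f).mapHomologicalComplex (ComplexShape.up ℤ)).commShiftIso i).app I).symm

/-- `Q(I⟦i⟧) ≅ K⟦i⟧` for `K ≅ Q I` -/
def bIso {K : DerivedCategory (CohTop.Ab X)} {I : CochainComplex (CohTop.Ab X) ℤ}
    (e : K ≅ Q.obj I) (i : ℤ) :
    Q.obj ((shiftFunctor (CochainComplex (CohTop.Ab X) ℤ) i).obj I) ≅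
      (shiftFunctor (DerivedCategory (CohTop.Ab X)) i).obj K :=
  ((DerivedCategory.Q : CochainComplex (CohTop.Ab X) ℤ ⥤ _).commShiftIso i).app I ≪≫
    (shiftFunctor (DerivedCategory (CohTop.Ab X)) i).mapIso e.symm

/-- `H^i(V, Q(f_* I)) → H^i(f⁻¹V, K)` for `K ≅ Q I` -/
def hdE {K : DerivedCategory (CohTop.Ab X)} {I : CochainComplex (CohTop.Ab X) ℤ}
    (e : K ≅ Q.obj I) (i : ℤ) (V : Opens Y) :
    CohCx.HDU (Q.obj (pushCx f I)) i V →+ CohCx.HDU K i ((Opens.map f).obj V) :=
  (Preadditive.rightComp _ (bIso e i).hom).comp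
    ((hdHom f ((shiftFunctor (CochainComplex (CohTop.Ab X) ℤ) i).obj I) V).comp
      (Preadditive.rightComp _ (aIso f I i).hom))

lemma hdE_apply {K : DerivedCategory (CohTop.Ab X)} {I : CochainComplex (CohTop.Ab X) ℤ}
    (e : K ≅ Q.obj I) (i : ℤ) (V : Opens Y) (φ : CohCx.HDU (Q.obj (pushCx f I)) i V) :
    hdE f e i V φ =
      hdHom f ((shiftFunctor (CochainComplex (CohTop.Ab X) ℤ) i).obj I) V (φ ≫ (aIso f I i).hom) ≫
        (bIso e i).hom := rfl

lemma hdE_bijective {K : DerivedCategory (CohTop.Ab X)} {I : CochainComplex (CohTop.Ab X) ℤ}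
    [I.IsKInjective] (e : K ≅ Q.obj I) (i : ℤ) (V : Opens Y) :
    Function.Bijective (hdE f e i V) := by
  have h1 : Function.Bijective (fun φ : CohCx.HDU (Q.obj (pushCx f I)) i V =>
      φ ≫ (aIso f I i).hom) := by
    constructor
    · intro a b hab
      exact (cancel_mono (aIso f I i).hom).1 hab
    · intro c
      exact ⟨c ≫ (aIso f I i).inv, by simp⟩
  have h2 := hdHom_bijective f ((shiftFunctor (CochainComplex (CohTop.Ab X) ℤ) i).obj I) V
  have h3 : Function.Bijective (fun φ : Φ X ((Opens.map f).obj V) ⟶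
      Q.obj ((shiftFunctor (CochainComplex (CohTop.Ab X) ℤ) i).obj I) => φ ≫ (bIso e i).hom) := by
    constructor
    · intro a b hab
      exact (cancel_mono (bIso e i).hom).1 hab
    · intro c
      exact ⟨c ≫ (bIso e i).inv, by simp⟩
  exact h3.comp (h2.comp h1)

lemma hdE_res {K : DerivedCategory (CohTop.Ab X)} {I : CochainComplex (CohTop.Ab X) ℤ}
    (e : K ≅ Q.obj I) (i : ℤ) {V' V : Opens Y} (g : V' ⟶ V)
    (φ : CohCx.HDU (Q.obj (pushCx f I)) i V) :
    hdE f e i V' (CohCx.HDUres _ i g φ) =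
      CohCx.HDUres K i ((Opens.map f).map g) (hdE f e i V φ) := by
  rw [hdE_apply, hdE_apply]
  change hdHom f _ V' ((Φmap Y g ≫ φ) ≫ (aIso f I i).hom) ≫ (bIso e i).hom =
    Φmap X ((Opens.map f).map g) ≫ _
  rw [Category.assoc, hdHom_res, Category.assoc]

/-- main theorem: negative vanishing on a basis propagates, and `V ↦ H^0(f⁻¹V, K)` is a sheaf -/
theorem main0883 {X Y : TopCat.{u}} (f : X ⟶ Y)
    [HasDerivedCategory.{u} (CohTop.Ab X)] [HasDerivedCategory.{w'} (CohTop.Ab Y)]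
    (B : Set (Opens Y)) (hB : Opens.IsBasis B)
    (K : DerivedCategory (CohTop.Ab X))
    (h : ∀ V ∈ B, ∀ i : ℤ, i < 0 → Subsingleton (CohCx.HDU K i ((Opens.map f).obj V))) :
    (∀ (V : Opens Y) (i : ℤ), i < 0 → Subsingleton (CohCx.HDU K i ((Opens.map f).obj V))) ∧
    Presheaf.IsSheaf (Opens.grothendieckTopology Y) ((Opens.map f).op ⋙ CohCx.HDUPresheaf K 0) := by
  obtain ⟨I, r, hI, hr, -, -⟩ := KInjE.exists_kInjective_resolution (Q.objPreimage K)
  have : IsIso (Q.map r) := by rw [isIso_Q_map_iff_quasiIso]; exact hr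
  let e : K ≅ Q.obj I := (Q.objObjPreimageIso K).symm ≪≫ asIso (Q.map r)
  let L : DerivedCategory (CohTop.Ab Y) := Q.obj (pushCx f I)
  have hL : L.IsGE 0 := by
    apply isGE_of_vanishing_on_basis L B hB
    intro V hV i hi
    have := h V hV i hi
    exact (Equiv.ofBijective _ (hdE_bijective f e i V)).subsingleton
  refine ⟨fun V i hi => ?_, ?_⟩
  · have := subsingleton_HDU_of_isGE L i hi V
    exact (Equiv.ofBijective _ (hdE_bijective f e i V)).symm.subsingleton
  · obtain ⟨H, ψ, hψ, hψres⟩ := exists_sheaf_HDU_zero L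
    let E : ∀ V : Opens Y, H.obj.obj (op V) ≃+ CohCx.HDU K 0 ((Opens.map f).obj V) := fun V =>
      AddEquiv.ofBijective ((hdE f e 0 V).comp (ψ V)) ((hdE_bijective f e 0 V).comp (hψ V))
    let iso : H.obj ≅ (Opens.map f).op ⋙ CohCx.HDUPresheaf K 0 :=
      NatIso.ofComponents (fun V => (E V.unop).toAddCommGrpIso) (by
        intro V V' g
        ext s
        change hdE f e 0 V'.unop (ψ V'.unop ((H.obj.map g).hom s)) =
          CohCx.HDUres K 0 ((Opens.map f).map g.unop) (hdE f e 0 V.unop (ψ V.unop s))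
        rw [← hdE_res]
        congr 1
        exact hψres g.unop s)
    exact (Presheaf.isSheaf_of_iso_iff iso).1 H.property

end Groth.Agent.Helper24.HDPush
end
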