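import Mathlib
import Groth.Prelude.Def_CohCx
import Groth.Agent.Lib.Helper24.HDPush3
import Groth.Agent.Lib.Helper9.Leray1
import Groth.Agent.S0931

/-!
# The cohomology sheaves of `R f_* K` are the sheafifications of `V ↦ H^p(f⁻¹V, K)`
-/

open CategoryTheory Limits Opposite TopologicalSpace DerivedCategory
universe w w' u
set_option linter.unusedSectionVars false
set_option autoImplicit false
noncomputable section
namespace Groth.Agent.Helper24.HDPush

open Groth.Agent.Helper29

/-- `V ↦ H^i(V, Q(f_* I))` is isomorphic to `V ↦ H^i(f⁻¹V, K)` for `K ≅ Q I`, `I` K-injective -/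
def hdEIso {X Y : TopCat.{u}} (f : X ⟶ Y)
    [HasDerivedCategory.{w} (CohTop.Ab X)] [HasDerivedCategory.{w} (CohTop.Ab Y)]
    {K : DerivedCategory (CohTop.Ab X)} {I : CochainComplex (CohTop.Ab X) ℤ}
    [I.IsKInjective] (e : K ≅ Q.obj I) (i : ℤ) :
    CohCx.HDUPresheaf (Q.obj (pushCx f I)) i ≅ (Opens.map f).op ⋙ CohCx.HDUPresheaf K i :=
  NatIso.ofComponents
    (fun V => (AddEquiv.ofBijective (hdE f e i V.unop)
      (hdE_bijective f e i V.unop)).toAddCommGrpIso) (by
        intro V V' g
        ext s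
        change hdE f e i V'.unop (CohCx.HDUres _ i g.unop s) =
          CohCx.HDUres K i ((Opens.map f).map g.unop) (hdE f e i V.unop s)
        rw [← hdE_res])

/-- the cohomology sheaves of `R f_* K`, `K` bounded below -/
theorem main8351 {X Y : TopCat.{u}} (f : X ⟶ Y)
    [HasDerivedCategory.{u} (CohTop.Ab X)] [HasDerivedCategory.{u} (CohTop.Ab Y)]
    (K : CochainComplex.Plus (CohTop.Ab X)) (p : ℤ) :
    Nonempty ((DerivedCategory.Plus.homologyFunctor (CohTop.Ab Y) p).obj
        ((CohTop.push f).rightDerivedFunctorPlus.obj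
          (DerivedCategory.Plus.Qh.obj ((HomotopyCategory.Plus.quotient (CohTop.Ab X)).obj K))) ≅
      (presheafToSheaf (Opens.grothendieckTopology Y) AddCommGrpCat.{u}).obj
        ((Opens.map f).op ⋙ CohCx.HDUPresheaf (DerivedCategory.Q.obj K.obj) p)) := by
  obtain ⟨n, hn⟩ := K.property
  haveI : K.obj.IsStrictlyGE n := hn
  obtain ⟨L, i, hi, hi', hL, hL'⟩ :=
    CochainComplex.Plus.modelCategoryQuillen.exists_mono_quasiIso_injective K.obj (n - 1) n
      (by omega)
  let L' : CochainComplex.Plus (CohTop.Ab X) := ⟨L, n - 1, hL'⟩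
  let i' : K ⟶ L' := ObjectProperty.homMk i
  haveI : ∀ m, Injective (L'.obj.X m) := hL
  haveI h1 : IsIso ((CohTop.push f).rightDerivedFunctorPlusUnit.app
      ((HomotopyCategory.Plus.quotient _).obj L')) := inferInstance
  have hq : HomotopyCategory.Plus.quasiIso _ ((HomotopyCategory.Plus.quotient _).map i') := by
    show HomotopyCategory.quasiIso _ _ ((HomotopyCategory.quotient _ _).map i)
    rw [HomotopyCategory.quotient_map_mem_quasiIso_iff, HomologicalComplex.mem_quasiIso_iff]
    exact hi'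
  haveI h2 : IsIso (DerivedCategory.Plus.Qh.map ((HomotopyCategory.Plus.quotient _).map i')) :=
    Localization.inverts DerivedCategory.Plus.Qh (HomotopyCategory.Plus.quasiIso _) _ hq
  let e1 := asIso ((CohTop.push f).rightDerivedFunctorPlus.map
    (DerivedCategory.Plus.Qh.map ((HomotopyCategory.Plus.quotient _).map i')))
  let e2 := (asIso ((CohTop.push f).rightDerivedFunctorPlusUnit.app
      ((HomotopyCategory.Plus.quotient _).obj L'))).symm
  let e3 := (DerivedCategory.Plus.homologyFunctor (CohTop.Ab Y) p).mapIso (e1 ≪≫ e2)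
  haveI : L.IsKInjective := by
    haveI := hL'
    exact CochainComplex.isKInjective_of_injective L (n - 1)
  haveI : IsIso (Q.map i) := by rw [isIso_Q_map_iff_quasiIso]; exact hi'
  let e : Q.obj K.obj ≅ Q.obj L := asIso (Q.map i)
  obtain ⟨e4⟩ := Groth.Agent.S0931.result (Q.obj (pushCx f L)) p
  let e5 := (presheafToSheaf (Opens.grothendieckTopology Y) AddCommGrpCat.{u}).mapIso
    (hdEIso f e p)
  let e6 : (DerivedCategory.Plus.homologyFunctor (CohTop.Ab Y) p).obj
      (((CohTop.push f).mapHomotopyCategoryPlus ⋙ DerivedCategory.Plus.Qh).obj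
        ((HomotopyCategory.Plus.quotient _).obj L')) ≅ CohCx.HD (Q.obj (pushCx f L)) p :=
    (DerivedCategory.homologyFunctor (CohTop.Ab Y) p).mapIso
      ((quotientCompQhIso (CohTop.Ab Y)).app (pushCx f L))
  exact ⟨e3 ≪≫ e6 ≪≫ e4.symm ≪≫ e5⟩

end Groth.Agent.Helper24.HDPush
end
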