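import Groth.Agent.Lib.Helper24.RlimTruncMod
import Groth.Agent.Lib.Helper24.RlimConst

set_option autoImplicit false
universe w u
open CategoryTheory CategoryTheory.Limits Opposite

namespace Groth.Agent.Helper24.RlimConst

section Sets

theorem exists_compatible_of_surjective_ge : ∀ (N : ℕ) (A : ℕ → Type u)
    (t : ∀ n, A (n + 1) → A n), (∀ n, N ≤ n → Function.Surjective (t n)) → ∀ φ : A N,
    ∃ x : ∀ n, A n, x N = φ ∧ ∀ n, t n (x (n + 1)) = x n
  | 0, A, t, h, φ => by
    choose s hs using fun n => h n (Nat.zero_le n)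
    let x : ∀ n, A n := fun n => Nat.rec (motive := fun n => A n) φ (fun n xn => s n xn) n
    exact ⟨x, rfl, fun n => hs n (x n)⟩
  | N + 1, A, t, h, φ => by
    obtain ⟨x', hx', hc'⟩ := exists_compatible_of_surjective_ge N (fun n => A (n + 1))
      (fun n => t (n + 1)) (fun n hn => h (n + 1) (by omega)) φ
    let x : ∀ n, A n := fun n => Nat.casesOn (motive := fun n => A n) n (t 0 (x' 0)) x'
    refine ⟨x, hx', fun n => ?_⟩
    cases n with
    | zero => rfl
    | succ n => exact hc' n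

end Sets

section Sheaf

variable {C : Type u} [SmallCategory C] {J : GrothendieckTopology C}

theorem mono_of_injective_on (B : Set C)
    (hB : ∀ U : C, ∃ (ι : Type u) (Y : ι → C) (f : ∀ i, Y i ⟶ U),
      Sieve.ofArrows Y f ∈ J U ∧ ∀ i, Y i ∈ B)
    {F G : Sheaf J AddCommGrpCat.{u}} (φ : F ⟶ G)
    (h : ∀ V ∈ B, Function.Injective (φ.hom.app (op V))) : Mono φ := by
  have : Mono φ.hom := by
    refine @NatTrans.mono_of_mono_app _ _ _ _ _ _ φ.hom (fun W => ?_)
    rw [AddCommGrpCat.mono_iff_injective, injective_iff_map_eq_zero]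
    intro s hs
    obtain ⟨ι, Y, f, hcov, hY⟩ := hB W.unop
    have hsep : Presheaf.IsSeparated J F.obj := Sheaf.isSeparated F
    have hinj : ∀ i, Function.Injective (φ.hom.app (op (Y i))) := fun i => h (Y i) (hY i)
    refine hsep W.unop (Sieve.ofArrows Y f) hcov s 0 ?_
    rintro V g ⟨Z, k, g', ⟨i⟩, rfl⟩
    have h1 : (ConcreteCategory.hom (F.obj.map (f i).op)) s = 0 := by
      apply hinj i
      have hn := ConcreteCategory.congr_hom (φ.hom.naturality (f i).op) s
      simp only [ConcreteCategory.comp_apply] at hn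
      refine hn.trans ?_
      have hs' : (ConcreteCategory.hom (φ.hom.app (op (unop W)))) s = 0 := hs
      rw [hs', map_zero, map_zero]
    rw [op_comp, Functor.map_comp, ConcreteCategory.comp_apply, ConcreteCategory.comp_apply, h1,
      map_zero, map_zero, map_zero]
  exact Sheaf.Hom.mono_of_presheaf_mono _ _ φ

theorem epi_of_locally_surjective_on (B : Set C)
    (hB : ∀ U : C, ∃ (ι : Type u) (Y : ι → C) (f : ∀ i, Y i ⟶ U),
      Sieve.ofArrows Y f ∈ J U ∧ ∀ i, Y i ∈ B)
    {F G : Sheaf J AddCommGrpCat.{u}} (φ : F ⟶ G)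
    (h : ∀ V ∈ B, ∀ s : G.obj.obj (op V), Presheaf.imageSieve φ.hom s ∈ J V) : Epi φ := by
  rw [← Sheaf.isLocallySurjective_iff_epi' AddCommGrpCat.{u} φ]
  refine ⟨fun {U} s => ?_⟩
  obtain ⟨ι, Y, f, hcov, hY⟩ := hB U
  have hi : ∀ i, (Presheaf.imageSieve φ.hom s).pullback (f i) ∈ J (Y i) := by
    intro i
    refine J.superset_covering ?_ (h (Y i) (hY i) ((ConcreteCategory.hom (G.obj.map (f i).op)) s))
    rintro W k ⟨r, hr⟩
    refine ⟨r, ?_⟩
    rw [hr, op_comp, Functor.map_comp, ConcreteCategory.comp_apply]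
  refine J.transitive hcov _ (fun W g hg => ?_)
  obtain ⟨Z, k, g', ⟨i⟩, rfl⟩ := hg
  rw [Sieve.pullback_comp]
  exact J.pullback_stable k (hi i)

end Sheaf

end Groth.Agent.Helper24.RlimConst
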