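import Mathlib

/-!
# The five lemma for cocones: colimits of shape `J` (with `colim_J` exact) and exact sequences
-/

set_option autoImplicit false
universe w w' v u
open CategoryTheory CategoryTheory.Limits

namespace Groth.Agent.Helper24.HoCo

section Five

variable {ℬ : Type u} [Category.{v} ℬ] [Abelian ℬ]

open ComposableArrows in
/-- the five lemma, in unbundled form -/
theorem five_lemma {A₁ A₂ A₃ A₄ A₅ B₁ B₂ B₃ B₄ B₅ : ℬ}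
    (f₁ : A₁ ⟶ A₂) (f₂ : A₂ ⟶ A₃) (f₃ : A₃ ⟶ A₄) (f₄ : A₄ ⟶ A₅)
    (g₁ : B₁ ⟶ B₂) (g₂ : B₂ ⟶ B₃) (g₃ : B₃ ⟶ B₄) (g₄ : B₄ ⟶ B₅)
    (a₁ : A₁ ⟶ B₁) (a₂ : A₂ ⟶ B₂) (a₃ : A₃ ⟶ B₃) (a₄ : A₄ ⟶ B₄) (a₅ : A₅ ⟶ B₅)
    (c₁ : f₁ ≫ a₂ = a₁ ≫ g₁) (c₂ : f₂ ≫ a₃ = a₂ ≫ g₂) (c₃ : f₃ ≫ a₄ = a₃ ≫ g₃)
    (c₄ : f₄ ≫ a₅ = a₄ ≫ g₄)
    (wf₁ : f₁ ≫ f₂ = 0) (wf₂ : f₂ ≫ f₃ = 0) (wf₃ : f₃ ≫ f₄ = 0)
    (wg₁ : g₁ ≫ g₂ = 0) (wg₂ : g₂ ≫ g₃ = 0) (wg₃ : g₃ ≫ g₄ = 0)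
    (hf₁ : (ShortComplex.mk f₁ f₂ wf₁).Exact) (hf₂ : (ShortComplex.mk f₂ f₃ wf₂).Exact)
    (hf₃ : (ShortComplex.mk f₃ f₄ wf₃).Exact)
    (hg₁ : (ShortComplex.mk g₁ g₂ wg₁).Exact) (hg₂ : (ShortComplex.mk g₂ g₃ wg₂).Exact)
    (hg₃ : (ShortComplex.mk g₃ g₄ wg₃).Exact)
    (h₁ : Epi a₁) (h₂ : IsIso a₂) (h₄ : IsIso a₄) (h₅ : Mono a₅) : IsIso a₃ := by
  have hR₁ : (mk₄ f₁ f₂ f₃ f₄).Exact :=
    exact_of_δ₀ (exact₂_mk _ wf₁ hf₁) (exact_of_δ₀ (exact₂_mk _ wf₂ hf₂) (exact₂_mk _ wf₃ hf₃))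
  have hR₂ : (mk₄ g₁ g₂ g₃ g₄).Exact :=
    exact_of_δ₀ (exact₂_mk _ wg₁ hg₁) (exact_of_δ₀ (exact₂_mk _ wg₂ hg₂) (exact₂_mk _ wg₃ hg₃))
  exact Abelian.isIso_of_epi_of_isIso_of_isIso_of_mono hR₁ hR₂
    (homMk₄ a₁ a₂ a₃ a₄ a₅ c₁ c₂ c₃ c₄) h₁ h₂ h₄ h₅

end Five

section Cocone

variable {ℬ : Type u} [Category.{v} ℬ] [Abelian ℬ] {J : Type w} [Category.{w'} J]
  [HasColimitsOfShape J ℬ]

lemma isIso_desc_of_isColimit {G : J ⥤ ℬ} {c : Cocone G} (h : IsColimit c) :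
    IsIso (colimit.desc G c) :=
  inferInstanceAs (IsIso ((colimit.isColimit G).coconePointUniqueUpToIso h).hom)

/-- a cocone on a diagram of zero objects with zero point is a colimit cocone -/
def isColimitOfIsZero {𝒞 : Type*} [Category 𝒞] [HasZeroMorphisms 𝒞] {G : J ⥤ 𝒞} (c : Cocone G)
    (hG : ∀ j, IsZero (G.obj j)) (hc : IsZero c.pt) : IsColimit c where
  desc s := 0
  fac s j := (hG j).eq_of_src _ _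
  uniq s m _ := hc.eq_of_src _ _

lemma isZero_pt_of_isColimit {𝒞 : Type*} [Category 𝒞] [HasZeroMorphisms 𝒞] {G : J ⥤ 𝒞}
    {c : Cocone G} (h : IsColimit c) (hG : ∀ j, IsZero (G.obj j)) : IsZero c.pt := by
  rw [IsZero.iff_id_eq_zero]
  exact h.hom_ext (fun j => (hG j).eq_of_src _ _)

lemma exact_of_pointwise (S : ShortComplex (J ⥤ ℬ))
    (h : ∀ j, (S.map ((evaluation J ℬ).obj j)).Exact) : S.Exact := by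
  rw [ShortComplex.exact_iff_isZero_homology]
  apply Functor.isZero
  intro j
  have := (h j)
  rw [ShortComplex.exact_iff_isZero_homology] at this
  exact this.of_iso (S.mapHomologyIso ((evaluation J ℬ).obj j)).symm

variable [HasExactColimitsOfShape J ℬ]

instance : PreservesFiniteColimits (colim : (J ⥤ ℬ) ⥤ ℬ) := ⟨fun _ => inferInstance⟩

/-- the five lemma for cocones -/
theorem isColimit_of_five {G₁ G₂ G₃ G₄ G₅ : J ⥤ ℬ}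
    (α₁ : G₁ ⟶ G₂) (α₂ : G₂ ⟶ G₃) (α₃ : G₃ ⟶ G₄) (α₄ : G₄ ⟶ G₅)
    (c₁ : Cocone G₁) (c₂ : Cocone G₂) (c₃ : Cocone G₃) (c₄ : Cocone G₄) (c₅ : Cocone G₅)
    (p₁ : c₁.pt ⟶ c₂.pt) (p₂ : c₂.pt ⟶ c₃.pt) (p₃ : c₃.pt ⟶ c₄.pt) (p₄ : c₄.pt ⟶ c₅.pt)
    (hp₁ : ∀ j, c₁.ι.app j ≫ p₁ = α₁.app j ≫ c₂.ι.app j)
    (hp₂ : ∀ j, c₂.ι.app j ≫ p₂ = α₂.app j ≫ c₃.ι.app j)
    (hp₃ : ∀ j, c₃.ι.app j ≫ p₃ = α₃.app j ≫ c₄.ι.app j)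
    (hp₄ : ∀ j, c₄.ι.app j ≫ p₄ = α₄.app j ≫ c₅.ι.app j)
    (w₁ : ∀ j, α₁.app j ≫ α₂.app j = 0) (w₂ : ∀ j, α₂.app j ≫ α₃.app j = 0)
    (w₃ : ∀ j, α₃.app j ≫ α₄.app j = 0)
    (e₁ : ∀ j, (ShortComplex.mk _ _ (w₁ j)).Exact) (e₂ : ∀ j, (ShortComplex.mk _ _ (w₂ j)).Exact)
    (e₃ : ∀ j, (ShortComplex.mk _ _ (w₃ j)).Exact)
    (v₁ : p₁ ≫ p₂ = 0) (v₂ : p₂ ≫ p₃ = 0) (v₃ : p₃ ≫ p₄ = 0)
    (x₁ : (ShortComplex.mk _ _ v₁).Exact) (x₂ : (ShortComplex.mk _ _ v₂).Exact)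
    (x₃ : (ShortComplex.mk _ _ v₃).Exact)
    (h₁ : IsColimit c₁) (h₂ : IsColimit c₂) (h₄ : IsColimit c₄) (h₅ : IsColimit c₅) :
    Nonempty (IsColimit c₃) := by
  have W₁ : α₁ ≫ α₂ = 0 := by ext j; exact w₁ j
  have W₂ : α₂ ≫ α₃ = 0 := by ext j; exact w₂ j
  have W₃ : α₃ ≫ α₄ = 0 := by ext j; exact w₃ j
  have E₁ : (ShortComplex.mk α₁ α₂ W₁).Exact := exact_of_pointwise _ (fun j => e₁ j)
  have E₂ : (ShortComplex.mk α₂ α₃ W₂).Exact := exact_of_pointwise _ (fun j => e₂ j)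
  have E₃ : (ShortComplex.mk α₃ α₄ W₃).Exact := exact_of_pointwise _ (fun j => e₃ j)
  have C₁ := E₁.map (colim : (J ⥤ ℬ) ⥤ ℬ)
  have C₂ := E₂.map (colim : (J ⥤ ℬ) ⥤ ℬ)
  have C₃ := E₃.map (colim : (J ⥤ ℬ) ⥤ ℬ)
  have i₁ := isIso_desc_of_isColimit h₁
  have i₂ := isIso_desc_of_isColimit h₂
  have i₄ := isIso_desc_of_isColimit h₄
  have i₅ := isIso_desc_of_isColimit h₅
  have k₁ : colim.map α₁ ≫ colimit.desc G₂ c₂ = colimit.desc G₁ c₁ ≫ p₁ :=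
    colimit.hom_ext (fun j => by simp [hp₁])
  have k₂ : colim.map α₂ ≫ colimit.desc G₃ c₃ = colimit.desc G₂ c₂ ≫ p₂ :=
    colimit.hom_ext (fun j => by simp [hp₂])
  have k₃ : colim.map α₃ ≫ colimit.desc G₄ c₄ = colimit.desc G₃ c₃ ≫ p₃ :=
    colimit.hom_ext (fun j => by simp [hp₃])
  have k₄ : colim.map α₄ ≫ colimit.desc G₅ c₅ = colimit.desc G₄ c₄ ≫ p₄ :=
    colimit.hom_ext (fun j => by simp [hp₄])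
  have key : IsIso (colimit.desc G₃ c₃) :=
    five_lemma (colim.map α₁) (colim.map α₂) (colim.map α₃) (colim.map α₄) p₁ p₂ p₃ p₄
      (colimit.desc G₁ c₁) (colimit.desc G₂ c₂) (colimit.desc G₃ c₃) (colimit.desc G₄ c₄)
      (colimit.desc G₅ c₅) k₁ k₂ k₃ k₄ _ _ _ v₁ v₂ v₃ C₁ C₂ C₃ x₁ x₂ x₃
      inferInstance i₂ i₄ inferInstance
  exact ⟨@IsColimit.ofPointIso _ _ _ _ _ _ _ (colimit.isColimit G₃) key⟩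

end Cocone

end Groth.Agent.Helper24.HoCo
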