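import Groth.Agent.Lib.Helper24.RFSumG
import Groth.Agent.S0800
import Groth.Agent.S11319
import Groth.Agent.Lib.Helper29.ShModGA

/-!
# Direct images along quasi-compact quasi-separated morphisms and direct sums
-/

set_option autoImplicit false
universe u
open CategoryTheory CategoryTheory.Limits AlgebraicGeometry

namespace Groth.Agent.Helper24.RFSumSch

open Groth.Agent.Helper13.ToAbExact Groth.Agent.Helper13.RpushCmp Groth.Agent.Helper9.Leray

variable {X S : Scheme.{u}} (f : X ⟶ S) [QuasiCompact f] [QuasiSeparated f] {ι : Type u}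

lemma preservesCoprod_RpushAb (p : ℕ) :
    PreservesColimitsOfShape (Discrete ι) (Coh.RpushAb f p) := by
  haveI := Groth.Agent.S0800.result f p (Finset (Discrete ι))
  refine ⟨fun {K} => ?_⟩
  haveI := Groth.Agent.Helper24.RFSum.preservesColimit_discrete (Coh.RpushAb f p)
    (K.obj ∘ Discrete.mk)
  exact preservesColimit_of_iso_diagram _ (Discrete.natIsoFunctor (F := K)).symm

lemma preservesCoprod_pushAb : PreservesColimitsOfShape (Discrete ι) (Coh.pushAb f) := by
  haveI := preservesCoprod_RpushAb f 0 (ι := ι)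
  exact preservesColimitsOfShape_of_natIso (Coh.pushAb f).rightDerivedZeroIsoSelf

instance (Y : Scheme.{u}) : (toAbF Y).Faithful :=
  inferInstanceAs ((SheafOfModules.toSheaf Y.ringCatSheaf).Faithful)

lemma preservesCoprod_push :
    PreservesColimitsOfShape (Discrete ι) (Scheme.Modules.pushforward f) := by
  haveI := preservesCoprod_pushAb f (ι := ι)
  haveI : PreservesColimitsOfSize.{u, u} (toAbF X) :=
    inferInstanceAs (PreservesColimitsOfSize.{u, u} (SheafOfModules.toSheaf X.ringCatSheaf))
  haveI : PreservesColimitsOfSize.{u, u} (toAbF S) :=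
    inferInstanceAs (PreservesColimitsOfSize.{u, u} (SheafOfModules.toSheaf S.ringCatSheaf))
  haveI : PreservesColimitsOfShape (Discrete ι) (toAbF X ⋙ Coh.pushAb f) := inferInstance
  haveI : PreservesColimitsOfShape (Discrete ι) (Scheme.Modules.pushforward f ⋙ toAbF S) :=
    preservesColimitsOfShape_of_natIso (pushToAb f).symm
  haveI : (toAbF S).ReflectsIsomorphisms := inferInstance
  haveI : ReflectsColimitsOfShape (Discrete ι) (toAbF S) :=
    reflectsColimitsOfShape_of_reflectsIsomorphisms
  exact preservesColimitsOfShape_of_reflects_of_preserves (Scheme.Modules.pushforward f) (toAbF S)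

lemma isZero_of_isZero_toAb (Y : Scheme.{u}) (M : Y.Modules) (h : IsZero (Coh.toAb M)) :
    IsZero M := by
  rw [IsZero.iff_id_eq_zero]
  apply (toAbF Y).map_injective
  rw [Functor.map_zero]
  exact h.eq_of_src _ _

theorem acyc_sigma [EnoughInjectives X.Modules] (J : ι → X.Modules)
    (hJ : ∀ i, Injective (J i)) : Acyc (Scheme.Modules.pushforward f) (∐ J) := by
  intro p hp
  obtain ⟨e⟩ := Groth.Agent.S11319.result f (∐ J) p
  apply isZero_of_isZero_toAb
  refine IsZero.of_iso ?_ e
  haveI := preservesCoprod_RpushAb f p (ι := ι)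
  haveI : PreservesColimitsOfSize.{u, u} (toAbF X) :=
    inferInstanceAs (PreservesColimitsOfSize.{u, u} (SheafOfModules.toSheaf X.ringCatSheaf))
  haveI : PreservesColimitsOfShape (Discrete ι) (toAbF X ⋙ Coh.RpushAb f p) := inferInstance
  have hcol : IsColimit (Cofan.mk ((toAbF X ⋙ Coh.RpushAb f p).obj (∐ J))
      (fun i => (toAbF X ⋙ Coh.RpushAb f p).map (Sigma.ι J i))) :=
    isColimitCofanMkObjOfIsColimit _ _ _ (coproductIsCoproduct J)
  have hzi : ∀ i, IsZero ((toAbF X ⋙ Coh.RpushAb f p).obj (J i)) := fun i => by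
    obtain ⟨ei⟩ := Groth.Agent.S11319.result f (J i) p
    refine IsZero.of_iso ?_ ei.symm
    obtain ⟨q, rfl⟩ : ∃ q, p = q + 1 := ⟨p - 1, by omega⟩
    haveI := hJ i
    exact Functor.map_isZero _
      (Functor.isZero_rightDerived_obj_injective_succ (Scheme.Modules.pushforward f) q (J i))
  change IsZero ((toAbF X ⋙ Coh.RpushAb f p).obj (∐ J))
  rw [IsZero.iff_id_eq_zero]
  exact Cofan.IsColimit.hom_ext hcol _ _ (fun i => (hzi i).eq_of_src _ _)

end Groth.Agent.Helper24.RFSumSch
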