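import Mathlib
import Groth.Prelude.Def_Coh
import Groth.Agent.Lib.Helper13.RpushCmp
import Groth.Agent.Lib.Helper24.RFSumSch
import Groth.Agent.S0800

universe u
set_option linter.unusedSectionVars false
open CategoryTheory CategoryTheory.Limits Opposite

namespace Groth.Agent.Helper24.HoCo

open AlgebraicGeometry TopologicalSpace Groth.Agent.Helper13.ToAbExact
  Groth.Agent.Helper13.DeltaPsh Groth.Agent.Helper13.RpushCmp

variable {X Y : Scheme.{u}} (f : X ⟶ Y)

/-- natural version of helper13's `RpushCmp.main`. -/
theorem RpushToAb_natIso [HasInjectiveResolutions X.Modules] (n : ℕ) :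
    Nonempty (Coh.Rpush f n ⋙ toAbF Y ≅ toAbF X ⋙ Coh.RpushAb f n) := by
  haveI : EnoughInjectives X.Modules := enoughInjectives_of_hasInjectiveResolutions
  obtain ⟨Δm⟩ := Groth.Agent.S16463.result (Scheme.Modules.pushforward f)
  obtain ⟨Δa⟩ := Groth.Agent.S16463.result (Coh.pushAb f)
  let T := postcomp Δm.toCohDeltaFunctor (toAbF Y)
  let T' := precomp (toAbF X) Δa.toCohDeltaFunctor
  have hT : T.IsUniversal := by
    apply Groth.Agent.S6773.result
    apply effaceable_of_injective
    intro k I hI
    exact Functor.map_isZero (toAbF Y)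
      (Functor.isZero_rightDerived_obj_injective_succ (Scheme.Modules.pushforward f) k I)
  have hT' : T'.IsUniversal := by
    apply Groth.Agent.S6773.result
    apply effaceable_of_injective
    intro k I hI
    have hfl : TopCat.Sheaf.IsFlasque (X := X.toTopCat) (Coh.toAb I) :=
      Groth.Agent.Helper13.ModFlasque.isFlasque_toAb I
    exact Groth.Agent.Helper24.Flasque.Rpush_succ_isZero f.base k (Coh.toAb I) hfl
  let e0 : T.F 0 ≅ T'.F 0 :=
    Functor.isoWhiskerRight (Scheme.Modules.pushforward f).rightDerivedZeroIsoSelf (toAbF Y) ≪≫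
      pushToAb f ≪≫
      Functor.isoWhiskerLeft (toAbF X) (Coh.pushAb f).rightDerivedZeroIsoSelf.symm
  exact iso_of_universal T T' hT hT' e0 n

/-- `R^p f_*` on `O_X`-modules commutes with small filtered colimits for `f` qcqs. -/
theorem preservesFiltered_Rpush [HasInjectiveResolutions X.Modules] [QuasiCompact f]
    [QuasiSeparated f] (p : ℕ) (J : Type u) [SmallCategory J] [IsFiltered J] :
    PreservesColimitsOfShape J ((Scheme.Modules.pushforward f).rightDerived p) := by
  obtain ⟨e⟩ := RpushToAb_natIso f p
  haveI := Groth.Agent.S0800.result f p J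
  haveI : PreservesColimitsOfSize.{u, u} (toAbF X) :=
    inferInstanceAs (PreservesColimitsOfSize.{u, u} (SheafOfModules.toSheaf X.ringCatSheaf))
  haveI : PreservesColimitsOfSize.{u, u} (toAbF Y) :=
    inferInstanceAs (PreservesColimitsOfSize.{u, u} (SheafOfModules.toSheaf Y.ringCatSheaf))
  haveI : PreservesColimitsOfShape J (toAbF X ⋙ Coh.RpushAb f p) := inferInstance
  haveI : PreservesColimitsOfShape J (Coh.Rpush f p ⋙ toAbF Y) :=
    preservesColimitsOfShape_of_natIso e.symm
  haveI : (toAbF Y).ReflectsIsomorphisms := inferInstance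
  haveI : ReflectsColimitsOfShape J (toAbF Y) :=
    reflectsColimitsOfShape_of_reflectsIsomorphisms
  exact preservesColimitsOfShape_of_reflects_of_preserves (Coh.Rpush f p) (toAbF Y)

end Groth.Agent.Helper24.HoCo
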