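import Groth.Agent.Lib.Helper24.RlimConst3

set_option autoImplicit false
set_option linter.unusedSectionVars false
universe w u
open CategoryTheory CategoryTheory.Limits Opposite

namespace Groth.Agent.Helper24.RlimConst

open Groth.Agent.Helper24.FrMod Groth.Agent.Helper17.MT Groth.Agent.Helper24.HDSheaf
  Groth.Agent.Helper24.RlimSeq Groth.Agent.Helper24.HDMod Groth.Agent.Helper24.RlimTrunc
  Groth.Agent.Helper24.ModGroth

variable {C : Type u} [SmallCategory C] {J : GrothendieckTopology C}

section Sheaf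

theorem imageSieve_comp_iso {F G G' : Sheaf J AddCommGrpCat.{u}} (φ : F ⟶ G) (τ : G ⟶ G')
    [IsIso τ] (V : C) (h : ∀ s' : G.obj.obj (op V), Presheaf.imageSieve φ.hom s' ∈ J V)
    (s : G'.obj.obj (op V)) : Presheaf.imageSieve (φ ≫ τ).hom s ∈ J V := by
  have hτ : ∀ (W : C) (x : G'.obj.obj (op W)),
      (ConcreteCategory.hom (τ.hom.app (op W))) ((ConcreteCategory.hom ((inv τ).hom.app (op W))) x)
        = x := by
    intro W x
    have h1 : (inv τ).hom.app (op W) ≫ τ.hom.app (op W) = 𝟙 _ := by
      rw [← NatTrans.comp_app, ← ObjectProperty.FullSubcategory.comp_hom, IsIso.inv_hom_id]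
      rfl
    have := ConcreteCategory.congr_hom h1 x
    rw [ConcreteCategory.comp_apply] at this
    exact this
  refine J.superset_covering ?_ (h ((ConcreteCategory.hom ((inv τ).hom.app (op V))) s))
  rintro W f ⟨r, hr⟩
  refine ⟨r, ?_⟩
  have hn := ConcreteCategory.congr_hom (τ.hom.naturality f.op)
    ((ConcreteCategory.hom ((inv τ).hom.app (op V))) s)
  simp only [ConcreteCategory.comp_apply] at hn
  rw [hτ] at hn
  rw [ObjectProperty.FullSubcategory.comp_hom, NatTrans.comp_app, ConcreteCategory.comp_apply, hr]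
  exact hn

end Sheaf

variable (O : Sheaf J CommRingCat.{u}) [HasDerivedCategory.{w} (ModSite.Mod O)]

open DerivedCategory

theorem isIso_homology_rlim (A : ObjectProperty (ModSite.Mod O)) [WSerre.IsWeakSerre A] (B : Set C)
    (hB : ∀ U : C, ∃ (ι : Type u) (Y : ι → C) (g : ∀ i, Y i ⟶ U), Sieve.ofArrows Y g ∈ J U ∧ ∀ i, Y i ∈ B)
    (hA : ∀ V ∈ B, ∃ d : ℕ, ∀ T ∈ J V, ∃ (ι : Type u) (Y : ι → C) (g : ∀ i, Y i ⟶ V),
      (∀ i, T.arrows (g i)) ∧ Sieve.ofArrows Y g ∈ J V ∧
      ∀ (i : ι) (F : ModSite.Mod O), A F → ∀ k : ℕ, d < k → Subsingleton (ModSite.HU O F k (Y i)))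
    (K : ℕ → DerivedCategory (ModSite.Mod O)) (t : ∀ n, K (n + 1) ⟶ K n) [HasProduct K]
    (hK : ∀ n, WSerre.cohInPlus A (K n))
    (hconst : ∀ j : ℤ, ∃ n₀ : ℕ, ∀ n, n₀ ≤ n →
      IsIso ((DerivedCategory.homologyFunctor (ModSite.Mod O) j).map (t n)))
    (L : DerivedCategory (ModSite.Mod O)) (a : ∀ n, L ⟶ K n) (hL : CohCx.IsRlimVia K t L a) (j : ℤ)
    (n : ℕ) (hn : ∀ k, n ≤ k → IsIso ((homologyFunctor (ModSite.Mod O) j).map (t k))) :
    IsIso ((DerivedCategory.homologyFunctor (ModSite.Mod O) j).map (a n)) := by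
  choose n₀ hn₀ using hconst
  -- for each V ∈ B : a stage N = n + k with the two properties
  have key : ∀ V ∈ B, ∃ k : ℕ,
      Function.Injective (((toAbF O).map ((homologyFunctor _ j).map (a (n + k)))).hom.app (op V)) ∧
      ∀ s, Presheaf.imageSieve ((toAbF O).map ((homologyFunctor _ j).map (a (n + k)))).hom s ∈ J V := by
    intro V hV
    obtain ⟨d, hd⟩ := hA V hV
    let k : ℕ := ∑ i ∈ Finset.range (d + 4), n₀ (j - d - 2 + i)
    have hN : ∀ q : ℤ, j - d - 2 ≤ q → q ≤ j + 1 → ∀ m, n + k ≤ m →
        IsIso ((homologyFunctor (ModSite.Mod O) q).map (t m)) := by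
      intro q hq1 hq2 m hm
      apply hn₀ q m
      obtain ⟨i, hi⟩ : ∃ i : ℕ, q = j - d - 2 + i := ⟨(q - (j - d - 2)).toNat, by omega⟩
      have hi' : i ∈ Finset.range (d + 4) := by
        rw [Finset.mem_range]
        omega
      have := Finset.single_le_sum (f := fun i : ℕ => n₀ (j - d - 2 + i))
        (fun _ _ => Nat.zero_le _) hi'
      rw [hi]
      change n₀ (j - d - 2 + i) ≤ k at this
      omega
    exact ⟨k, injective_sections_aN O A K t hK L a hL V d hd j (n + k) hN,
      imageSieve_aN_mem O A K t hK L a hL V d hd j (n + k) hN⟩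
  have hτ : ∀ k, IsIso ((toAbF O).map ((homologyFunctor (ModSite.Mod O) j).map
      (CohCx.transition K t n k))) := by
    intro k
    have := isIso_homology_transition O j n hn k
    infer_instance
  have hfac : ∀ k, (toAbF O).map ((homologyFunctor (ModSite.Mod O) j).map (a n)) =
      (toAbF O).map ((homologyFunctor (ModSite.Mod O) j).map (a (n + k))) ≫
      (toAbF O).map ((homologyFunctor (ModSite.Mod O) j).map (CohCx.transition K t n k)) := by
    intro k
    rw [← Functor.map_comp, ← Functor.map_comp, rlim_compat_transition hL n k]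
  have hmono : Mono ((toAbF O).map ((homologyFunctor (ModSite.Mod O) j).map (a n))) := by
    refine mono_of_injective_on B hB _ (fun V hV => ?_)
    obtain ⟨k, hk1, _⟩ := key V hV
    rw [hfac k, ObjectProperty.FullSubcategory.comp_hom, NatTrans.comp_app]
    have := hτ k
    have hiso : IsIso (((toAbF O).map ((homologyFunctor (ModSite.Mod O) j).map
        (CohCx.transition K t n k))).hom.app (op V)) := by
      have : IsIso ((sheafToPresheaf J AddCommGrpCat.{u}).map ((toAbF O).map
        ((homologyFunctor (ModSite.Mod O) j).map (CohCx.transition K t n k)))) := inferInstance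
      exact NatIso.isIso_app_of_isIso ((sheafToPresheaf J AddCommGrpCat.{u}).map ((toAbF O).map
        ((homologyFunctor (ModSite.Mod O) j).map (CohCx.transition K t n k)))) (op V)
    have hinj2 : Function.Injective (((toAbF O).map ((homologyFunctor (ModSite.Mod O) j).map
        (CohCx.transition K t n k))).hom.app (op V)) :=
      ((ConcreteCategory.isIso_iff_bijective _).1 hiso).1
    intro x y hxy
    simp only [ConcreteCategory.comp_apply] at hxy
    exact hk1 (hinj2 hxy)
  have hepi : Epi ((toAbF O).map ((homologyFunctor (ModSite.Mod O) j).map (a n))) := by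
    refine epi_of_locally_surjective_on B hB _ (fun V hV s => ?_)
    obtain ⟨k, _, hk2⟩ := key V hV
    rw [hfac k]
    have := hτ k
    exact imageSieve_comp_iso _ _ V hk2 s
  have hiso : IsIso ((toAbF O).map ((homologyFunctor (ModSite.Mod O) j).map (a n))) :=
    isIso_of_mono_of_epi _
  exact isIso_of_reflects_iso _ (toAbF O)

end Groth.Agent.Helper24.RlimConst
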