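import Groth.Agent.Lib.Helper24.RFQc1
import Groth.Agent.Lib.Helper24.RlimConst4
import Groth.Agent.Lib.Helper24.DProd3
import Groth.Agent.Lib.Helper24.RFSumSch
import Groth.Agent.Lib.Helper13.QCohKer
import Groth.Agent.Lib.Helper13.QCohExt
import Groth.Agent.Lib.Helper29.LRAdj
import Groth.Agent.S0030
import Groth.Agent.S0031
import Groth.Agent.S1007

/-!
# `Rf_*` on `D_QCoh` for a quasi-compact quasi-separated morphism with a vanishing bound
-/

set_option autoImplicit false
universe u
open CategoryTheory CategoryTheory.Limits AlgebraicGeometry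

attribute [local instance] HasDerivedCategory.standard

namespace Groth.Agent.Helper24.RFQc

open DerivedCategory DerivedCategory.TStructure Groth.Agent.Helper24.RlimTrunc
  Groth.Agent.Helper29.LRAdj TopologicalSpace

section QC

variable (Y : Scheme.{u})

/-- quasi-coherent modules -/
def qc : ObjectProperty Y.Modules := fun M => Coh.IsQCoh M

lemma isQuasicoherent_tilde_punit (R : CommRingCat.{u}) :
    ((tilde.functor R).obj (ModuleCat.of R PUnit)).IsQuasicoherent := inferInstance

lemma qc_of_isZero {M : Y.Modules} (h : IsZero M) : qc Y M := by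
  change M.IsQuasicoherent
  apply Groth.Agent.Helper13.QCohLocal.isQuasicoherent_of_restrict_fromSpec
  intro U
  have hz : IsZero (M.restrict U.2.fromSpec) :=
    Functor.map_isZero (Scheme.Modules.restrictFunctor U.2.fromSpec) h
  have hz' : IsZero ((tilde.functor Γ(Y, U.1)).obj (ModuleCat.of Γ(Y, U.1) PUnit)) :=
    Functor.map_isZero _ (ModuleCat.isZero_of_subsingleton _)
  haveI := isQuasicoherent_tilde_punit Γ(Y, U.1)
  exact Groth.Agent.Helper13.QCohLocal.isQuasicoherent_of_iso (hz'.iso hz)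

instance : (qc Y).ContainsZero := by
  obtain ⟨Z, hZ⟩ : ∃ Z : Y.Modules, IsZero Z := ⟨_, (HasZeroObject.zero (C := Y.Modules)).choose_spec⟩
  exact ⟨⟨Z, hZ, qc_of_isZero Y hZ⟩⟩

instance : (qc Y).IsClosedUnderIsomorphisms :=
  ⟨fun e h => (SheafOfModules.isQuasicoherent Y.ringCatSheaf).prop_of_iso e h⟩

variable {Y} in
lemma qc_kernel {M N : Y.Modules} (f : M ⟶ N) (hM : qc Y M) (hN : qc Y N) (k : KernelFork f)
    (hk : IsLimit k) : qc Y k.pt := by
  haveI : M.IsQuasicoherent := hM
  haveI : N.IsQuasicoherent := hN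
  exact (qc Y).prop_of_iso (IsLimit.conePointUniqueUpToIso (kernelIsKernel f) hk)
    (Groth.Agent.Helper13.QCohLocal.isQuasicoherent_kernel f)

variable {Y} in
lemma qc_cokernel {M N : Y.Modules} (f : M ⟶ N) (hM : qc Y M) (hN : qc Y N)
    (k : CokernelCofork f) (hk : IsColimit k) : qc Y k.pt := by
  haveI : M.IsQuasicoherent := hM
  haveI : N.IsQuasicoherent := hN
  exact (qc Y).prop_of_iso (IsColimit.coconePointUniqueUpToIso (cokernelIsCokernel f) hk)
    (Groth.Agent.Helper13.QCohLocal.isQuasicoherent_cokernel f)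

instance : (qc Y).IsClosedUnderKernels := ⟨by
  rintro _ ⟨f, k, hk, hf⟩
  exact qc_kernel f hf.1 hf.2 k hk⟩

instance : (qc Y).IsClosedUnderCokernels := ⟨by
  rintro _ ⟨f, k, hk, hf⟩
  exact qc_cokernel f hf.1 hf.2 k hk⟩

instance : (qc Y).IsClosedUnderExtensions :=
  ⟨fun hS h1 h3 => Groth.Agent.Helper13.QCohExt.main _ hS h1 h3⟩

instance : WSerre.IsWeakSerre (qc Y) where

end QC

section Trunc

variable {Y : Scheme.{u}}

/-- cohomology of truncations -/
lemma qc_homology_truncGE (E : DCoh.D Y) (hE : DCoh.IsQCohD E) (a q : ℤ) :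
    qc Y ((homologyFunctor Y.Modules q).obj ((t.truncGE a).obj E)) := by
  by_cases h : q < a
  · exact qc_of_isZero Y (isZero_homology_truncGE E a q h)
  · have := isIso_homologyMap_truncGEπ E a q (by omega)
    exact (qc Y).prop_of_iso (asIso ((homologyFunctor Y.Modules q).map ((t.truncGEπ a).app E)))
      (hE q)

lemma isLE_truncGE (E : DCoh.D Y) (a b : ℤ) [E.IsLE b] : ((t.truncGE a).obj E).IsLE b := by
  rw [isLE_iff]
  intro i hi
  by_cases h : i < a
  · exact isZero_homology_truncGE E a i h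
  · have := isIso_homologyMap_truncGEπ E a i (by omega)
    exact IsZero.of_iso (isZero_of_isLE E b i hi)
      (asIso ((homologyFunctor Y.Modules i).map ((t.truncGEπ a).app E))).symm

end Trunc

section Main

variable {X S : Scheme.{u}} (f : X ⟶ S) [QuasiCompact f] [QuasiSeparated f] [DCoh.HasRpush f]

/-- the unit of `Rf_*` -/
noncomputable abbrev βf : DCoh.pushKh f ⟶ DerivedCategory.Qh ⋙ DCoh.Rpush f :=
  (DCoh.pushKh f).totalRightDerivedUnit DerivedCategory.Qh
    (HomotopyCategory.quasiIso X.Modules (ComplexShape.up ℤ))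

lemma qc_rightDerived (G : X.Modules) (hG : qc X G) (p : ℕ) :
    qc S (((Scheme.Modules.pushforward f).rightDerived p).obj G) := by
  haveI : Coh.IsQCoh G := hG
  exact Groth.Agent.S0030.result f G p

/-- `Rf_*` of a bounded object of `D_QCoh` has quasi-coherent cohomology -/
theorem qc_homology_Rpush_of_bounded (E : DCoh.D X) (hE : DCoh.IsQCohD E) (a b : ℤ) [E.IsGE a]
    [E.IsLE b] (i : ℤ) : qc S ((homologyFunctor S.Modules i).obj ((DCoh.Rpush f).obj E)) := by
  by_cases hab : a ≤ b
  · obtain ⟨n, hn⟩ : ∃ n : ℕ, a + n = b := ⟨(b - a).toNat, by omega⟩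
    have h2 : E.IsLE (a + n) := by rw [hn]; infer_instance
    exact prop_homology_of_bounded (Scheme.Modules.pushforward f) (DCoh.Rpush f) (βf f) (qc S)
      (fun G => qc X G) (fun e h => (qc X).prop_of_iso e h) (qc_rightDerived f) n E a
      inferInstance h2 (fun q _ _ => hE q) i
  · have hz : IsZero E := t.isZero E b a (by omega)
    haveI : (DCoh.Rpush f).Additive := Groth.Agent.Helper24.RFProd.additive (DCoh.pushKh f) _ (βf f)
    exact qc_of_isZero S (Functor.map_isZero _ (Functor.map_isZero _ hz))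

variable (N : ℕ)
  (hN : ∀ G : X.Modules, qc X G → ∀ p : ℕ, N ≤ p →
    IsZero (((Scheme.Modules.pushforward f).rightDerived p).obj G))

include hN in
theorem isIso_homology_Rpush_transition (E : DCoh.D X) (hE : DCoh.IsQCohD E) (j : ℤ) (k : ℕ)
    (hk : (N : ℤ) - j - 1 ≤ k) :
    IsIso ((homologyFunctor S.Modules j).map ((DCoh.Rpush f).map (CohCx.truncTowerMap E k))) :=
  isIso_homology_map_transition (Scheme.Modules.pushforward f) (DCoh.Rpush f) (βf f) E
    (-((k + 1 : ℕ) : ℤ)) (-(k : ℤ)) (by push_cast; omega) N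
    (fun p hp => hN _ (hE _) p hp) j (by push_cast; omega)

omit [QuasiCompact f] [QuasiSeparated f] in
lemma isGE_Rpush (E : DCoh.D X) (a : ℤ) [E.IsGE a] : ((DCoh.Rpush f).obj E).IsGE a := by
  rw [isGE_iff]
  intro i hi
  exact Groth.Agent.Helper24.RFBound.isZero_homology_of_isGE (Scheme.Modules.pushforward f)
    (DCoh.Rpush f) (βf f) E a i hi

omit [QuasiCompact f] [QuasiSeparated f] in
lemma preservesLimits_Rpush : PreservesLimitsOfSize.{0, 0} (DCoh.Rpush f) :=
  (adj' f).rightAdjoint_preservesLimits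

instance hasProduct_truncTower (E : DCoh.D X) : HasProduct (CohCx.truncTower E) :=
  Groth.Agent.Helper24.DProd.hasProduct_of_isGE (CohCx.truncTower E) (fun n => -(n : ℤ))
    (fun n => inferInstanceAs (((t.truncGE (-(n : ℤ))).obj E).IsGE (-(n : ℤ))))

omit [QuasiCompact f] [QuasiSeparated f] in
lemma hasProduct_Rpush_truncTower (E : DCoh.D X) :
    HasProduct (fun n => (DCoh.Rpush f).obj (CohCx.truncTower E n)) :=
  Groth.Agent.Helper24.DProd.hasProduct_of_isGE _ (fun n => -(n : ℤ))
    (fun n => by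
      haveI : (CohCx.truncTower E n).IsGE (-(n : ℤ)) :=
        inferInstanceAs (((t.truncGE (-(n : ℤ))).obj E).IsGE (-(n : ℤ)))
      exact isGE_Rpush f _ _)

include hN in
/-- `H^j(Rf_* E) ⟶ H^j(Rf_* τ_{≥ -n} E)` is an isomorphism for `n ≥ N - j - 1`, `E` in `D^-_QCoh` -/
theorem isIso_homology_Rpush_toTruncTower (E : DCoh.D X) (hE : DCoh.IsQCohD E) (b : ℤ) [E.IsLE b]
    (j : ℤ) (n : ℕ) (hn : (N : ℤ) - j - 1 ≤ n) :
    IsIso ((homologyFunctor S.Modules j).map ((DCoh.Rpush f).map (CohCx.toTruncTower E n))) := by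
  haveI := hasProduct_Rpush_truncTower f E
  haveI := preservesLimits_Rpush f
  have hL : CohCx.IsRlimVia (CohCx.truncTower E) (CohCx.truncTowerMap E) E (CohCx.toTruncTower E) :=
    Groth.Agent.S1007.result X E hE
  have hRL := isRlimVia_map (Scheme.Modules.pushforward f) (DCoh.Rpush f) (βf f)
    (CohCx.truncTower E) (CohCx.truncTowerMap E) E (CohCx.toTruncTower E) hL
  let A' : ObjectProperty (ModSite.Mod S.sheaf) := qc S
  haveI : WSerre.IsWeakSerre A' := inferInstanceAs (WSerre.IsWeakSerre (qc S))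
  let K' : ℕ → DerivedCategory (ModSite.Mod S.sheaf) :=
    fun n => (DCoh.Rpush f).obj (CohCx.truncTower E n)
  haveI : HasProduct K' := hasProduct_Rpush_truncTower f E
  refine Groth.Agent.Helper24.RlimConst.isIso_homology_rlim S.sheaf A'
    {V : S.Opens | IsAffineOpen V} (Groth.Agent.S1007.affine_cover S) ?_ K'
    (fun n => (DCoh.Rpush f).map (CohCx.truncTowerMap E n)) ?_ ?_ ((DCoh.Rpush f).obj E)
    (fun n => (DCoh.Rpush f).map (CohCx.toTruncTower E n)) hRL j n ?_
  · intro V hV
    refine ⟨0, fun T hT => ?_⟩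
    obtain ⟨ι', Y', f', hf', hcov', hB'⟩ := Groth.Agent.Helper24.RlimTrunc.exists_cover_in
      (J := Opens.grothendieckTopology S) {V : S.Opens | IsAffineOpen V}
      (Groth.Agent.S1007.affine_cover S) V T hT
    refine ⟨ι', Y', f', hf', hcov', fun i' F hF k hk => ?_⟩
    obtain ⟨k', rfl⟩ : ∃ k', k = k' + 1 := ⟨k - 1, by omega⟩
    haveI : Coh.IsQCoh (F : S.Modules) := hF
    exact Groth.Agent.Helper13.AffineVanish.HU_subsingleton_of_isAffineOpen (F : S.Modules)
      (Y' i') (hB' i') k'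
  · intro m
    haveI : (CohCx.truncTower E m).IsGE (-(m : ℤ)) :=
      inferInstanceAs (((t.truncGE (-(m : ℤ))).obj E).IsGE (-(m : ℤ)))
    haveI : (CohCx.truncTower E m).IsLE b := isLE_truncGE E _ b
    exact ⟨fun i => qc_homology_Rpush_of_bounded f (CohCx.truncTower E m)
      (fun q => qc_homology_truncGE E hE _ q) (-(m : ℤ)) b i, ⟨-(m : ℤ), isGE_Rpush f _ _⟩⟩
  · intro j'
    exact ⟨((N : ℤ) - j' - 1).toNat, fun k hk =>
      isIso_homology_Rpush_transition f N hN E hE j' k (by omega)⟩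
  · intro k hk
    exact isIso_homology_Rpush_transition f N hN E hE j k (by omega)

end Main

end Groth.Agent.Helper24.RFQc
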