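import Groth.Agent.Lib.Helper24.HoCo8
import Groth.Agent.Lib.Helper24.HoCo9
import Groth.Agent.Lib.Helper24.RFQc2
import Groth.Agent.Lib.Helper29.HomColim
import Groth.Agent.Lib.Helper29.LRAdj

/-!
# `H^i ∘ Rf_*` commutes with filtered colimits of uniformly bounded below complexes
-/

set_option autoImplicit false
universe w'' w₀ w v u
open CategoryTheory CategoryTheory.Limits AlgebraicGeometry

namespace Groth.Agent.Helper24.HoCo

open DerivedCategory

section General

variable {A : Type u} [Category.{v} A] [Abelian A] [HasDerivedCategory.{w} A]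
  {J : Type w''} [Category.{w₀} J] [HasColimitsOfShape J A] [HasExactColimitsOfShape J A]

/-- the image in `D(A)` of a colimit cocone of complexes is a homological colimit cocone, when
colimits of the given shape are exact -/
theorem hoColim_Q (C : J ⥤ CochainComplex A ℤ) (c : Cocone C) (hc : IsColimit c) :
    HoColim (Q.mapCocone c) := by
  intro k
  have h1 : IsColimit ((HomologicalComplex.homologyFunctor A (ComplexShape.up ℤ) k).mapCocone c) :=
    isColimitOfPreserves _ hc
  exact ⟨IsColimit.mapCoconeEquiv (homologyFunctorFactors A k).symm h1⟩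

end General

attribute [local instance] HasDerivedCategory.standard

open Groth.Agent.Helper24.RFQc Groth.Agent.Helper29.LRAdj

theorem isColimit_homology_Rpush {X Y : Scheme.{u}} (f : X ⟶ Y) [QuasiCompact f]
    [QuasiSeparated f] [DCoh.HasRpush f] {J : Type u} [SmallCategory J] [IsFiltered J]
    (C : J ⥤ CochainComplex X.Modules ℤ) (c : Cocone C) (hc : IsColimit c) (n : ℤ)
    (hC : ∀ j : J, (DCoh.toD X (C.obj j)).IsGE n) (i : ℤ) :
    Nonempty (IsColimit ((DerivedCategory.Q ⋙ DCoh.Rpush f ⋙
      DerivedCategory.homologyFunctor Y.Modules i).mapCocone c)) := by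
  have hF : ∀ p : ℕ, PreservesColimitsOfShape J ((Scheme.Modules.pushforward f).rightDerived p) :=
    fun p => preservesFiltered_Rpush f p J
  have hh : HoColim (Q.mapCocone c) := hoColim_Q C c hc
  exact isColimit_homology_map (Scheme.Modules.pushforward f) (DCoh.Rpush f) (βf f) hF n (C ⋙ Q)
    (Q.mapCocone c) hC hh i

end Groth.Agent.Helper24.HoCo
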