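import Groth.Agent.Lib.Helper24.HoCo10

/-!
# The unit `f_* K ⟶ Rf_* K` at a filtered colimit of uniformly bounded below complexes
-/

set_option autoImplicit false
universe w'' w₀ w v v' u u'
open CategoryTheory CategoryTheory.Limits AlgebraicGeometry

namespace Groth.Agent.Helper24.HoCo

section General

variable {𝒞 : Type u} [Category.{v} 𝒞] {𝒟 : Type u'} [Category.{v'} 𝒟]
  {J : Type w''} [Category.{w₀} J]

/-- a natural transformation which is invertible on a diagram is invertible on its colimit when
both functors preserve that colimit -/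
theorem isIso_app_pt_of_isColimit {F₁ F₂ : 𝒞 ⥤ 𝒟} (τ : F₁ ⟶ F₂) {C : J ⥤ 𝒞} (c : Cocone C)
    (h₁ : IsColimit (F₁.mapCocone c)) (h₂ : IsColimit (F₂.mapCocone c))
    (hτ : ∀ j, IsIso (τ.app (C.obj j))) : IsIso (τ.app c.pt) := by
  let α : C ⋙ F₁ ≅ C ⋙ F₂ :=
    NatIso.ofComponents (fun j => @asIso _ _ _ _ (τ.app (C.obj j)) (hτ j))
      (fun {j j'} u => τ.naturality (C.map u))
  let e := IsColimit.coconePointsIsoOfNatIso h₁ h₂ α
  have he : e.hom = τ.app c.pt := by
    apply h₁.hom_ext
    intro j
    have h := IsColimit.comp_coconePointsIsoOfNatIso_hom h₁ h₂ α j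
    refine h.trans ?_
    exact (τ.naturality (c.ι.app j)).symm
  rw [← he]
  infer_instance

end General

attribute [local instance] HasDerivedCategory.standard

open DerivedCategory Groth.Agent.Helper24.RFQc Groth.Agent.Helper29.LRAdj

variable {X Y : Scheme.{u}} (f : X ⟶ Y) [QuasiCompact f] [QuasiSeparated f]

/-- `f_*` commutes with small filtered colimits for `f` qcqs -/
theorem preservesFiltered_push (J : Type u) [SmallCategory J] [IsFiltered J] :
    PreservesColimitsOfShape J (Scheme.Modules.pushforward f) := by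
  haveI := preservesFiltered_Rpush f 0 J
  exact preservesColimitsOfShape_of_natIso (Scheme.Modules.pushforward f).rightDerivedZeroIsoSelf

/-- `H^i(f_* K)` in terms of the homology of complexes -/
noncomputable def pushKhHomologyIso (i : ℤ) :
    HomotopyCategory.quotient X.Modules (ComplexShape.up ℤ) ⋙ DCoh.pushKh f ⋙
      homologyFunctor Y.Modules i ≅
    (Scheme.Modules.pushforward f).mapHomologicalComplex (ComplexShape.up ℤ) ⋙
      HomologicalComplex.homologyFunctor Y.Modules (ComplexShape.up ℤ) i :=
  (Functor.isoWhiskerRight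
      ((Scheme.Modules.pushforward f).mapHomotopyCategoryFactors (ComplexShape.up ℤ))
      (Qh ⋙ homologyFunctor Y.Modules i) : _ ≅
      (Scheme.Modules.pushforward f).mapHomologicalComplex (ComplexShape.up ℤ) ⋙
        (HomotopyCategory.quotient Y.Modules (ComplexShape.up ℤ) ⋙ Qh) ⋙
          homologyFunctor Y.Modules i) ≪≫
    Functor.isoWhiskerLeft
      ((Scheme.Modules.pushforward f).mapHomologicalComplex (ComplexShape.up ℤ))
      (Functor.isoWhiskerRight (quotientCompQhIso Y.Modules) (homologyFunctor Y.Modules i)) ≪≫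
    Functor.isoWhiskerLeft
      ((Scheme.Modules.pushforward f).mapHomologicalComplex (ComplexShape.up ℤ))
      (homologyFunctorFactors Y.Modules i)

variable [DCoh.HasRpush f]

theorem isIso_unit_colimit {J : Type u} [SmallCategory J] [IsFiltered J]
    (C : J ⥤ CochainComplex X.Modules ℤ) (c : Cocone C) (hc : IsColimit c) (n : ℤ)
    (hC : ∀ j : J, (DCoh.toD X (C.obj j)).IsGE n)
    (hac : ∀ j : J, IsIso ((βf f).app
      ((HomotopyCategory.quotient X.Modules (ComplexShape.up ℤ)).obj (C.obj j)))) :
    IsIso ((βf f).app ((HomotopyCategory.quotient X.Modules (ComplexShape.up ℤ)).obj c.pt)) := by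
  rw [DerivedCategory.isIso_iff]
  intro i
  let F₁ := HomotopyCategory.quotient X.Modules (ComplexShape.up ℤ) ⋙ DCoh.pushKh f ⋙
      homologyFunctor Y.Modules i
  let F₂ := HomotopyCategory.quotient X.Modules (ComplexShape.up ℤ) ⋙ (Qh ⋙ DCoh.Rpush f) ⋙
      homologyFunctor Y.Modules i
  let τ : F₁ ⟶ F₂ := Functor.whiskerLeft _ (Functor.whiskerRight (βf f) _)
  haveI := preservesFiltered_push f J
  have h₁ : IsColimit (F₁.mapCocone c) :=
    IsColimit.mapCoconeEquiv (pushKhHomologyIso f i).symm (isColimitOfPreserves _ hc)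
  obtain ⟨h₂'⟩ := isColimit_homology_Rpush f C c hc n hC i
  have h₂ : IsColimit (F₂.mapCocone c) :=
    IsColimit.mapCoconeEquiv
      (Functor.isoWhiskerRight (quotientCompQhIso X.Modules).symm
        (DCoh.Rpush f ⋙ homologyFunctor Y.Modules i)) h₂'
  exact isIso_app_pt_of_isColimit τ c h₁ h₂ (fun j => by
    haveI := hac j
    change IsIso ((homologyFunctor Y.Modules i).map ((βf f).app _))
    infer_instance)

end Groth.Agent.Helper24.HoCo
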