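import Groth.Agent.Lib.Helper24.RFQc4
import Groth.Agent.Lib.Helper5.QCS2
import Groth.Agent.S6593

/-!
# `Rf_*` commutes with direct sums on `D_QCoh` (with a vanishing bound)
-/

set_option autoImplicit false
universe u
open CategoryTheory CategoryTheory.Limits AlgebraicGeometry

attribute [local instance] HasDerivedCategory.standard

namespace Groth.Agent.Helper24.RFQc

open DerivedCategory DerivedCategory.TStructure Groth.Agent.Helper24.RlimTrunc
  Groth.Agent.Helper29.LRAdj TopologicalSpace Groth.Agent.Helper24.WayOut Pretriangulated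
  Groth.Agent.Helper5.QCS

section Sigma

variable {Y : Scheme.{u}} {ι : Type u}

instance hasCoproductsOfShape_D : HasCoproductsOfShape ι (DCoh.D Y) :=
  Groth.Agent.Helper10.DSigma.hasCoproductsOfShape_derivedCategory

lemma isZero_sigma {C : Type*} [Category C] [HasZeroMorphisms C] (M : ι → C) [HasCoproduct M]
    (h : ∀ i, IsZero (M i)) : IsZero (∐ M) := by
  rw [IsZero.iff_id_eq_zero]
  exact Sigma.hom_ext _ _ (fun i => (h i).eq_of_src _ _)

lemma isZero_homology_sigma (K : ι → DCoh.D Y) (n : ℤ)
    (h : ∀ i, IsZero ((homologyFunctor Y.Modules n).obj (K i))) :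
    IsZero ((homologyFunctor Y.Modules n).obj (∐ K)) :=
  IsZero.of_iso (isZero_sigma _ h) (HDSigmaIso K n)

end Sigma

variable {X S : Scheme.{u}} (f : X ⟶ S) [DCoh.HasRpush f]
variable [QuasiCompact f] [QuasiSeparated f] (N : ℕ)
  (hN : ∀ G : X.Modules, qc X G → ∀ p : ℕ, N ≤ p →
    IsZero (((Scheme.Modules.pushforward f).rightDerived p).obj G))

include hN in
/-- `Rf_*` commutes with direct sums on `D_QCoh` -/
theorem isIso_sigmaDesc_Rpush {ι : Type u} (K : ι → DCoh.D X) (hK : ∀ i, DCoh.IsQCohD (K i)) :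
    IsIso (Sigma.desc (fun i => (DCoh.Rpush f).map (Sigma.ι K i))) := by
  rw [DerivedCategory.isIso_iff]
  intro m
  let a : ℤ := m + 1 - N
  let T : ι → Triangle (DCoh.D X) := fun i => (t.triangleLTGE a).obj (K i)
  have hT : ∀ i, T i ∈ distTriang _ := fun i => t.triangleLTGE_distinguished a (K i)
  have hSig := Groth.Agent.S6593.result T hT
  obtain ⟨c', hRSig⟩ := Groth.Agent.Helper29.TriR.exists_distinguished
    (DCoh.pushKh f) (DCoh.Rpush f) (βf f) _ hSig
  -- the direct sum of the truncations `τ_{< a}`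
  have hLE : ∀ i, ((t.truncLT a).obj (K i)).IsLE (a - 1) := fun i =>
    t.isLE_truncLT_obj (K i) a (a - 1) (by omega)
  have hLqc : DCoh.IsQCohD (∐ fun i => (t.truncLT a).obj (K i)) :=
    isQCohD_sigma _ (fun i q => qc_homology_truncLT (K i) (hK i) a q)
  haveI : (∐ fun i => (t.truncLT a).obj (K i)).IsLE (a - 1) := by
    rw [isLE_iff]
    intro q hq
    exact isZero_homology_sigma _ q (fun i => by
      haveI := hLE i
      exact isZero_of_isLE _ (a - 1) q hq)
  have z1 := isZero_homology_Rpush_of_isLE f N hN _ hLqc (a - 1) m (by omega)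
  have z2 := isZero_homology_Rpush_of_isLE f N hN _ hLqc (a - 1) (m + 1) (by omega)
  have i1 : IsIso ((homologyFunctor S.Modules m).map
      ((DCoh.Rpush f).map (Limits.Sigma.map (fun i => (T i).mor₂)))) :=
    isIso_shift_map_mor₂ (homologyFunctor S.Modules 0) _ hRSig m (m + 1) rfl z1 z2
  -- the direct sum of the images of the triangles
  have hRT : ∀ i, ∃ c, Triangle.mk ((DCoh.Rpush f).map (T i).mor₁) ((DCoh.Rpush f).map (T i).mor₂) c ∈
      distTriang _ := fun i => Groth.Agent.Helper29.TriR.exists_distinguished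
    (DCoh.pushKh f) (DCoh.Rpush f) (βf f) _ (hT i)
  choose ci hci using hRT
  let T' : ι → Triangle (DCoh.D S) := fun i =>
    Triangle.mk ((DCoh.Rpush f).map (T i).mor₁) ((DCoh.Rpush f).map (T i).mor₂) (ci i)
  have hSig' := Groth.Agent.S6593.result T' hci
  have z1' : IsZero ((homologyFunctor S.Modules m).obj
      (∐ fun i => (DCoh.Rpush f).obj ((t.truncLT a).obj (K i)))) :=
    isZero_homology_sigma _ m (fun i => by
      haveI := hLE i
      exact isZero_homology_Rpush_of_isLE f N hN _
        (fun q => qc_homology_truncLT (K i) (hK i) a q) (a - 1) m (by omega))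
  have z2' : IsZero ((homologyFunctor S.Modules (m + 1)).obj
      (∐ fun i => (DCoh.Rpush f).obj ((t.truncLT a).obj (K i)))) :=
    isZero_homology_sigma _ (m + 1) (fun i => by
      haveI := hLE i
      exact isZero_homology_Rpush_of_isLE f N hN _
        (fun q => qc_homology_truncLT (K i) (hK i) a q) (a - 1) (m + 1) (by omega))
  have i2 : IsIso ((homologyFunctor S.Modules m).map
      (Limits.Sigma.map (fun i => (T' i).mor₂))) :=
    isIso_shift_map_mor₂ (homologyFunctor S.Modules 0) _ hSig' m (m + 1) rfl z1' z2'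
  -- the bounded below family
  haveI : HasFiniteBiproducts X.Modules := Abelian.hasFiniteBiproducts
  haveI : HasFiniteBiproducts S.Modules := Abelian.hasFiniteBiproducts
  haveI : PreservesColimitsOfShape (Discrete ι) (Scheme.Modules.pushforward f) :=
    Groth.Agent.Helper24.RFSumSch.preservesCoprod_push f
  have i3 : IsIso (Sigma.desc (fun i => (DCoh.Rpush f).map
      (Sigma.ι (fun i => (t.truncGE a).obj (K i)) i))) :=
    Groth.Agent.Helper24.RFSumG.isIso_sigmaDesc (Scheme.Modules.pushforward f) (DCoh.Rpush f)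
      (βf f) (fun J hJ => Groth.Agent.Helper24.RFSumSch.acyc_sigma f J hJ)
      (fun i => (t.truncGE a).obj (K i)) a (fun i => inferInstance)
  -- the commutative square
  have sq : Sigma.desc (fun i => (DCoh.Rpush f).map (Sigma.ι K i)) ≫
      (DCoh.Rpush f).map (Limits.Sigma.map (fun i => (T i).mor₂)) =
      Limits.Sigma.map (fun i => (T' i).mor₂) ≫
        Sigma.desc (fun i => (DCoh.Rpush f).map
          (Sigma.ι (fun i => (t.truncGE a).obj (K i)) i)) := by
    refine Sigma.hom_ext _ _ (fun i => ?_)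
    have e1 : Sigma.ι K i ≫ Limits.Sigma.map (fun i => (T i).mor₂) =
        (T i).mor₂ ≫ Sigma.ι (fun i => (t.truncGE a).obj (K i)) i := Sigma.ι_map _ _
    have e2 : (DCoh.Rpush f).map (Sigma.ι K i) ≫
        (DCoh.Rpush f).map (Limits.Sigma.map (fun i => (T i).mor₂)) =
        (T' i).mor₂ ≫ (DCoh.Rpush f).map (Sigma.ι (fun i => (t.truncGE a).obj (K i)) i) :=
      (((DCoh.Rpush f).map_comp _ _).symm.trans (congrArg (DCoh.Rpush f).map e1)).trans
        ((DCoh.Rpush f).map_comp _ _)
    have e3 : Sigma.ι (fun i => (DCoh.Rpush f).obj (K i)) i ≫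
        Limits.Sigma.map (fun i => (T' i).mor₂) =
        (T' i).mor₂ ≫ Sigma.ι (fun i => (DCoh.Rpush f).obj ((t.truncGE a).obj (K i))) i :=
      Sigma.ι_map _ _
    have e4 : Sigma.ι (fun i => (DCoh.Rpush f).obj ((t.truncGE a).obj (K i))) i ≫
        Sigma.desc (fun i => (DCoh.Rpush f).map
          (Sigma.ι (fun i => (t.truncGE a).obj (K i)) i)) =
        (DCoh.Rpush f).map (Sigma.ι (fun i => (t.truncGE a).obj (K i)) i) := Sigma.ι_desc _ _
    have e5 : Sigma.ι (fun i => (DCoh.Rpush f).obj (K i)) i ≫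
        Sigma.desc (fun i => (DCoh.Rpush f).map (Sigma.ι K i)) =
        (DCoh.Rpush f).map (Sigma.ι K i) := Sigma.ι_desc _ _
    exact (Category.assoc _ _ _).symm.trans ((congrArg (· ≫ (DCoh.Rpush f).map
      (Limits.Sigma.map (fun i => (T i).mor₂))) e5).trans (e2.trans
      ((congrArg ((T' i).mor₂ ≫ ·) e4.symm).trans ((Category.assoc _ _ _).symm.trans
      ((congrArg (· ≫ Sigma.desc (fun i => (DCoh.Rpush f).map
          (Sigma.ι (fun i => (t.truncGE a).obj (K i)) i))) e3.symm).trans
        (Category.assoc _ _ _))))))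
  have sq' : (homologyFunctor S.Modules m).map
      (Sigma.desc (fun i => (DCoh.Rpush f).map (Sigma.ι K i))) ≫
      (homologyFunctor S.Modules m).map
        ((DCoh.Rpush f).map (Limits.Sigma.map (fun i => (T i).mor₂))) =
      (homologyFunctor S.Modules m).map (Limits.Sigma.map (fun i => (T' i).mor₂)) ≫
      (homologyFunctor S.Modules m).map (Sigma.desc (fun i => (DCoh.Rpush f).map
        (Sigma.ι (fun i => (t.truncGE a).obj (K i)) i))) :=
    ((homologyFunctor S.Modules m).map_comp _ _).symm.trans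
      ((congrArg (homologyFunctor S.Modules m).map sq).trans
        ((homologyFunctor S.Modules m).map_comp _ _))
  have i4 : IsIso ((homologyFunctor S.Modules m).map (Sigma.desc (fun i => (DCoh.Rpush f).map
      (Sigma.ι (fun i => (t.truncGE a).obj (K i)) i)))) := inferInstance
  have i5 : IsIso ((homologyFunctor S.Modules m).map
      (Sigma.desc (fun i => (DCoh.Rpush f).map (Sigma.ι K i))) ≫
      (homologyFunctor S.Modules m).map
        ((DCoh.Rpush f).map (Limits.Sigma.map (fun i => (T i).mor₂)))) := by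
    rw [sq']
    exact IsIso.comp_isIso' i2 i4
  exact @IsIso.of_isIso_comp_right _ _ _ _ _ _ _ i1 i5

end Groth.Agent.Helper24.RFQc
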