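import Groth.Agent.Lib.Helper24.HoCo11
import Groth.Agent.Lib.Helper24.RFQc5
import Groth.Agent.Lib.Helper5.QCS1

/-!
# Colimits of quasi-coherent modules; `H^i ∘ Rf_*` and filtered homological colimits in `D_QCoh`
over a quasi-compact base
-/

set_option autoImplicit false
universe w'' w₀ w v v' u u'
open CategoryTheory CategoryTheory.Limits AlgebraicGeometry

namespace Groth.Agent.Helper24.HoCo

section General

variable {𝒞 : Type u} [Category.{v} 𝒞] {𝒟 : Type u'} [Category.{v'} 𝒟]
  {J : Type w''} [Category.{w₀} J]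

/-- transport of a colimit cocone along a natural transformation which is invertible on the
diagram and on the point -/
noncomputable def isColimitMapCoconeOfNatTrans {F₁ F₂ : 𝒞 ⥤ 𝒟} (τ : F₁ ⟶ F₂) {C : J ⥤ 𝒞}
    (c : Cocone C) (hτ : ∀ j, IsIso (τ.app (C.obj j))) (hpt : IsIso (τ.app c.pt))
    (h₂ : IsColimit (F₂.mapCocone c)) : IsColimit (F₁.mapCocone c) := by
  let α : C ⋙ F₁ ≅ C ⋙ F₂ :=
    NatIso.ofComponents (fun j => @asIso _ _ _ _ (τ.app (C.obj j)) (hτ j))
      (fun {j j'} u => τ.naturality (C.map u))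
  refine IsColimit.ofIsoColimit ((IsColimit.precomposeHomEquiv α _).symm h₂) ?_
  refine (Cocone.ext (@asIso _ _ _ _ (τ.app c.pt) hpt) (fun j => ?_)).symm
  exact τ.naturality (c.ι.app j)

end General

section QCoh

open Groth.Agent.Helper5.QCS

variable {J : Type u} [SmallCategory J]

theorem essImage_tilde_colimit {R : CommRingCat.{u}} (E : J ⥤ (Spec R).Modules)
    (hE : ∀ j, IsIso (E.obj j).fromTildeΓ) (c : Cocone E) (hc : IsColimit c) :
    IsIso c.pt.fromTildeΓ := by
  rw [isIso_fromTildeΓ_iff]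
  let N : J ⥤ ModuleCat.{u} R := E ⋙ moduleSpecΓFunctor
  let α : N ⋙ tilde.functor R ⟶ E := Functor.whiskerLeft E (tilde.adjunction (R := R)).counit
  haveI : ∀ j, IsIso (α.app j) := fun j => by
    change IsIso (E.obj j).fromTildeΓ
    exact hE j
  haveI : IsIso α := NatIso.isIso_of_isIso_app α
  haveI : PreservesColimitsOfSize.{u, u} (tilde.functor R) :=
    (tilde.adjunction (R := R)).leftAdjoint_preservesColimits
  have h₁ : IsColimit ((tilde.functor R).mapCocone (colimit.cocone N)) :=
    isColimitOfPreserves _ (colimit.isColimit N)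
  have h₂ : IsColimit ((Cocone.precompose α).obj c) :=
    (IsColimit.precomposeHomEquiv (asIso α) c).symm hc
  exact ⟨colimit N, ⟨IsColimit.coconePointUniqueUpToIso h₁ h₂⟩⟩

/-- small colimits of quasi-coherent modules are quasi-coherent -/
theorem isQuasicoherent_colimit {X : Scheme.{u}} (K : J ⥤ X.Modules)
    (hK : ∀ j, (K.obj j).IsQuasicoherent) (c : Cocone K) (hc : IsColimit c) :
    c.pt.IsQuasicoherent := by
  apply Groth.Agent.Helper13.QCohLocal.isQuasicoherent_of_restrict_fromSpec
  intro U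
  haveI : IsOpenImmersion U.2.fromSpec := IsAffineOpen.isOpenImmersion_fromSpec U.2
  let G := Scheme.Modules.restrictFunctor U.2.fromSpec
  haveI : G.IsLeftAdjoint := (Scheme.Modules.restrictAdjunction U.2.fromSpec).isLeftAdjoint
  have hE : ∀ j, ((K ⋙ G).obj j).IsQuasicoherent := fun j =>
    haveI := hK j
    inferInstanceAs (((K.obj j).restrict U.2.fromSpec).IsQuasicoherent)
  have h3 : IsIso (G.mapCocone c).pt.fromTildeΓ :=
    essImage_tilde_colimit (K ⋙ G) (fun j => (isQuasicoherent_iff_isIso_fromTildeΓ _).mp (hE j))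
      (G.mapCocone c) (isColimitOfPreserves G hc)
  exact (isQuasicoherent_iff_isIso_fromTildeΓ _).mpr h3

end QCoh

end Groth.Agent.Helper24.HoCo
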