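import Groth.Agent.Lib.Helper24.HoCo12

/-!
# `H^i ∘ Rf_*` and filtered homological colimits in `D_QCoh` over a quasi-compact base
-/

set_option autoImplicit false
universe u
open CategoryTheory CategoryTheory.Limits AlgebraicGeometry

attribute [local instance] HasDerivedCategory.standard

namespace Groth.Agent.Helper24.HoCo

open DerivedCategory DerivedCategory.TStructure Groth.Agent.Helper24.RlimTrunc
  Groth.Agent.Helper29.LRAdj TopologicalSpace Groth.Agent.Helper24.WayOut Pretriangulated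
  Groth.Agent.Helper24.RFQc

variable {X S : Scheme.{u}} (f : X ⟶ S) [QuasiCompact f] [QuasiSeparated f] [DCoh.HasRpush f]
  (N : ℕ)
  (hN : ∀ G : X.Modules, qc X G → ∀ p : ℕ, N ≤ p →
    IsZero (((Scheme.Modules.pushforward f).rightDerived p).obj G))

include hN in
/-- `H^i(Rf_* E) ⟶ H^i(Rf_* τ_{≥ a} E)` is an isomorphism for `a ≤ i + 1 - N` on `D_QCoh` -/
theorem isIso_homology_Rpush_truncGEπ (E : DCoh.D X) (hE : DCoh.IsQCohD E) (a i : ℤ)
    (h : a + N ≤ i + 1) :
    IsIso ((homologyFunctor S.Modules i).map ((DCoh.Rpush f).map ((t.truncGEπ a).app E))) := by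
  have hT := t.triangleLTGE_distinguished a E
  obtain ⟨c', hT'⟩ := Groth.Agent.Helper29.TriR.exists_distinguished
    (DCoh.pushKh f) (DCoh.Rpush f) (βf f) _ hT
  haveI : ((t.truncLT a).obj E).IsLE (a - 1) := t.isLE_truncLT_obj E a (a - 1) (by omega)
  have hqc : DCoh.IsQCohD ((t.truncLT a).obj E) := fun q => qc_homology_truncLT E hE a q
  have z1 := isZero_homology_Rpush_of_isLE f N hN _ hqc (a - 1) i (by omega)
  have z2 := isZero_homology_Rpush_of_isLE f N hN _ hqc (a - 1) (i + 1) (by omega)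
  exact isIso_shift_map_mor₂ (homologyFunctor S.Modules 0) _ hT' i (i + 1) rfl z1 z2

include hN in
/-- the quasi-compact base case -/
theorem isColimit_homology_Rpush_of_qc {J : Type u} [SmallCategory J] [IsFiltered J]
    (E : J ⥤ DCoh.D X) (c : Cocone E) (hc : HoColim c) (hE : ∀ j, DCoh.IsQCohD (E.obj j))
    (i : ℤ) :
    Nonempty (IsColimit ((DCoh.Rpush f ⋙ homologyFunctor S.Modules i).mapCocone c)) := by
  let a : ℤ := i + 1 - N
  have hpt : DCoh.IsQCohD c.pt := fun k => by
    obtain ⟨h⟩ := hc k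
    exact isQuasicoherent_colimit (E ⋙ homologyFunctor X.Modules k) (fun j => hE j k) _ h
  have hF := fun p : ℕ => preservesFiltered_Rpush f p J
  obtain ⟨h₂⟩ := isColimit_homology_map (Scheme.Modules.pushforward f) (DCoh.Rpush f) (βf f) hF a
    (E ⋙ t.truncGE a) ((t.truncGE a).mapCocone c) (fun j => inferInstanceAs (((t.truncGE a).obj (E.obj j)).IsGE a))
    (hoColim_truncGE c a hc) i
  let τ : 𝟭 _ ⋙ DCoh.Rpush f ⋙ homologyFunctor S.Modules i ⟶
      t.truncGE a ⋙ DCoh.Rpush f ⋙ homologyFunctor S.Modules i :=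
    Functor.whiskerRight (t.truncGEπ a) (DCoh.Rpush f ⋙ homologyFunctor S.Modules i)
  exact ⟨isColimitMapCoconeOfNatTrans τ c
    (fun j => isIso_homology_Rpush_truncGEπ f N hN (E.obj j) (hE j) a i (by omega))
    (isIso_homology_Rpush_truncGEπ f N hN c.pt hpt a i (by omega)) h₂⟩

end Groth.Agent.Helper24.HoCo
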