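import Groth.Agent.Lib.Helper24.RFQc6

/-!
# `Rf_*` commutes with direct sums on `D_QCoh` (general base)
-/

set_option autoImplicit false
universe u
open CategoryTheory CategoryTheory.Limits AlgebraicGeometry

attribute [local instance] HasDerivedCategory.standard

namespace Groth.Agent.Helper24.RFQc

open DerivedCategory DerivedCategory.TStructure Groth.Agent.Helper29.LRAdj TopologicalSpace
  Groth.Agent.Helper24.WayOut Groth.Agent.Helper5.QCS Groth.Agent.Helper13.ToAbExact Opposite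

variable {Y : Scheme.{u}}

lemma bijective_toAb_of_isIso_app {M N : Y.Modules} (ψ : M ⟶ N) (W W' : Y.Opens) (hW : W' = W)
    (h : IsIso (ψ.app W')) : Function.Bijective (((toAbF Y).map ψ).hom.app (op W)) := by
  subst hW
  exact (ConcreteCategory.isIso_iff_bijective (ψ.app W')).1 h

/-- a morphism of modules is an isomorphism if it is so on the affine opens -/
lemma isIso_of_restrict_affine {M N : Y.Modules} (ψ : M ⟶ N)
    (h : ∀ V : Y.affineOpens, IsIso ((Scheme.Modules.restrictFunctor V.1.ι).map ψ)) : IsIso ψ := by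
  have hiso : IsIso ((toAbF Y).map ψ) := by
    apply Groth.Agent.Helper24.RlimTrunc.isIso_of_locally_bijective
    intro U
    obtain ⟨ι, W, g, hcov, hW⟩ := Groth.Agent.S1007.affine_cover Y U
    refine ⟨ι, W, g, hcov, fun i => ?_⟩
    have h1 := h ⟨W i, hW i⟩
    have h2 : IsIso (((Scheme.Modules.restrictFunctor (W i).ι).map ψ).app ⊤) := inferInstance
    have h3 : IsIso (ψ.app ((W i).ι ''ᵁ ⊤)) := h2
    exact bijective_toAb_of_isIso_app ψ (W i) _ (W i).ι_image_top h3
  exact isIso_of_reflects_iso ψ (toAbF Y)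

variable {X S : Scheme.{u}} (f : X ⟶ S) [QuasiCompact f] [QuasiSeparated f] [DCoh.HasRpush f]

/-- `Rf_*` commutes with direct sums on `D_QCoh` -/
theorem isIso_sigmaDesc_Rpush_general {ι : Type u} (K : ι → DCoh.D X)
    (hK : ∀ i, DCoh.IsQCohD (K i)) :
    IsIso (Sigma.desc (fun i => (DCoh.Rpush f).map (Sigma.ι K i))) := by
  rw [DerivedCategory.isIso_iff]
  intro m
  apply isIso_of_restrict_affine
  intro V
  haveI : CompactSpace ↥(V.1 : Scheme.{u}) := isCompact_iff_compactSpace.mp V.2.isCompact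
  haveI : DCoh.HasRpush (f ∣_ V.1) :=
    Groth.Agent.Helper11.KI.hasRightDerivedFunctor.{u + 1} (DCoh.pushKh (f ∣_ V.1))
  obtain ⟨θ⟩ := Groth.Agent.Helper29.OpenRes.main6508 f V.1
  obtain ⟨N, hN⟩ := exists_bound (f ∣_ V.1)
  suffices h : IsIso ((DCoh.restrictD V.1.ι).map
      (Sigma.desc (fun i => (DCoh.Rpush f).map (Sigma.ι K i)))) by
    have h' : IsIso ((DCoh.restrictD V.1.ι ⋙ homologyFunctor (V.1 : Scheme.{u}).Modules m).map
        (Sigma.desc (fun i => (DCoh.Rpush f).map (Sigma.ι K i)))) := by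
      change IsIso ((homologyFunctor (V.1 : Scheme.{u}).Modules m).map
        ((DCoh.restrictD V.1.ι).map (Sigma.desc (fun i => (DCoh.Rpush f).map (Sigma.ι K i)))))
      infer_instance
    exact (NatIso.isIso_map_iff
      (mapDerivedCategoryHomologyIso (Scheme.Modules.restrictFunctor V.1.ι) m) _).1 h'
  haveI : HasFiniteBiproducts S.Modules := Abelian.hasFiniteBiproducts
  haveI : HasFiniteBiproducts X.Modules := Abelian.hasFiniteBiproducts
  haveI : PreservesColimitsOfShape (Discrete ι) (DCoh.restrictD V.1.ι) :=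
    preservesCoproducts_mapDerivedCategory (Scheme.Modules.restrictFunctor V.1.ι)
  haveI : PreservesColimitsOfShape (Discrete ι) (DCoh.restrictD (f ⁻¹ᵁ V.1).ι) :=
    preservesCoproducts_mapDerivedCategory (Scheme.Modules.restrictFunctor (f ⁻¹ᵁ V.1).ι)
  have hRV : IsIso (sigmaComparison (DCoh.Rpush (f ∣_ V.1))
      (fun i => (DCoh.restrictD (f ⁻¹ᵁ V.1).ι).obj (K i))) :=
    isIso_sigmaDesc_Rpush (f ∣_ V.1) N hN _ (fun i => isQCohD_restrictD _ (K i) (hK i))
  haveI : PreservesColimit (Discrete.functor ((DCoh.restrictD (f ⁻¹ᵁ V.1).ι).obj ∘ K))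
      (DCoh.Rpush (f ∣_ V.1)) := @PreservesCoproduct.of_iso_comparison _ _ _ _ _ _ _ _ _ hRV
  haveI : PreservesColimit (Discrete.functor K ⋙ DCoh.restrictD (f ⁻¹ᵁ V.1).ι)
      (DCoh.Rpush (f ∣_ V.1)) :=
    preservesColimit_of_iso_diagram _ (Discrete.compNatIsoDiscrete K _).symm
  haveI : PreservesColimit (Discrete.functor K)
      (DCoh.restrictD (f ⁻¹ᵁ V.1).ι ⋙ DCoh.Rpush (f ∣_ V.1)) := inferInstance
  haveI : PreservesColimit (Discrete.functor K) (DCoh.Rpush f ⋙ DCoh.restrictD V.1.ι) :=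
    preservesColimit_of_natIso _ θ.symm
  have hc1 : IsColimit (Cofan.mk ((DCoh.Rpush f ⋙ DCoh.restrictD V.1.ι).obj (∐ K))
      (fun i => (DCoh.Rpush f ⋙ DCoh.restrictD V.1.ι).map (Sigma.ι K i))) :=
    isColimitCofanMkObjOfIsColimit _ _ _ (coproductIsCoproduct K)
  have hc0 : IsColimit (Cofan.mk ((DCoh.restrictD V.1.ι).obj (∐ fun i => (DCoh.Rpush f).obj (K i)))
      (fun i => (DCoh.restrictD V.1.ι).map (Sigma.ι (fun i => (DCoh.Rpush f).obj (K i)) i))) :=
    isColimitCofanMkObjOfIsColimit _ _ _ (coproductIsCoproduct _)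
  refine Groth.Agent.Helper24.RFSum.isIso_of_isColimit_cofans (fun i => Iso.refl _) _ hc0 _ hc1 _
    (fun i => ?_)
  rw [← Functor.map_comp, Sigma.ι_desc]
  exact (Category.id_comp _).symm

end Groth.Agent.Helper24.RFQc
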