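import Groth.Agent.Lib.Helper24.HoCo13
import Groth.Agent.Lib.Helper24.RFQc7

/-!
# `H^i ∘ Rf_*` and filtered homological colimits in `D_QCoh` (general base)
-/

set_option autoImplicit false
universe u
open CategoryTheory CategoryTheory.Limits AlgebraicGeometry

attribute [local instance] HasDerivedCategory.standard

namespace Groth.Agent.Helper24.HoCo

open DerivedCategory DerivedCategory.TStructure Groth.Agent.Helper29.LRAdj TopologicalSpace
  Groth.Agent.Helper24.WayOut Groth.Agent.Helper24.RFQc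

variable {Y : Scheme.{u}} {J : Type u} [SmallCategory J]

/-- a cocone of modules is a colimit cocone if it is so on the affine opens -/
theorem isColimit_of_restrict_affine (K : J ⥤ Y.Modules) (c : Cocone K)
    (h : ∀ V : Y.affineOpens,
      Nonempty (IsColimit ((Scheme.Modules.restrictFunctor V.1.ι).mapCocone c))) :
    Nonempty (IsColimit c) := by
  suffices hφ : IsIso ((colimit.isColimit K).desc c) from
    ⟨IsColimit.ofPointIso (colimit.isColimit K)⟩
  apply isIso_of_restrict_affine
  intro V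
  obtain ⟨hV⟩ := h V
  have h1 : IsColimit ((Scheme.Modules.restrictFunctor V.1.ι).mapCocone (colimit.cocone K)) :=
    isColimitOfPreserves _ (colimit.isColimit K)
  have he : (Scheme.Modules.restrictFunctor V.1.ι).map ((colimit.isColimit K).desc c) =
      (IsColimit.coconePointUniqueUpToIso h1 hV).hom := by
    apply h1.hom_ext
    intro j
    rw [IsColimit.comp_coconePointUniqueUpToIso_hom]
    change (Scheme.Modules.restrictFunctor V.1.ι).map (colimit.ι K j) ≫
      (Scheme.Modules.restrictFunctor V.1.ι).map ((colimit.isColimit K).desc c) =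
      (Scheme.Modules.restrictFunctor V.1.ι).map (c.ι.app j)
    rw [← Functor.map_comp]
    congr 1
    exact (colimit.isColimit K).fac c j
  rw [he]
  infer_instance

lemma hoColim_restrictD (V : Y.Opens) {J : Type u} [SmallCategory J] {E : J ⥤ DCoh.D Y}
    (c : Cocone E) (hc : HoColim c) : HoColim ((DCoh.restrictD V.ι).mapCocone c) := by
  intro k
  obtain ⟨h⟩ := hc k
  have h' : IsColimit ((homologyFunctor Y.Modules k ⋙
      Scheme.Modules.restrictFunctor V.ι).mapCocone c) :=
    isColimitOfPreserves (Scheme.Modules.restrictFunctor V.ι) h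
  exact ⟨IsColimit.mapCoconeEquiv
    (mapDerivedCategoryHomologyIso (Scheme.Modules.restrictFunctor V.ι) k).symm h'⟩

variable {X S : Scheme.{u}} (f : X ⟶ S) [QuasiCompact f] [QuasiSeparated f] [DCoh.HasRpush f]

/-- `H^i ∘ Rf_*` commutes with filtered homological colimits in `D_QCoh` -/
theorem isColimit_homology_Rpush_of_qc_general [IsFiltered J]
    (E : J ⥤ DCoh.D X) (c : Cocone E) (hc : HoColim c) (hE : ∀ j, DCoh.IsQCohD (E.obj j))
    (i : ℤ) :
    Nonempty (IsColimit ((DCoh.Rpush f ⋙ homologyFunctor S.Modules i).mapCocone c)) := by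
  apply isColimit_of_restrict_affine
  intro V
  haveI : CompactSpace ↥(V.1 : Scheme.{u}) := isCompact_iff_compactSpace.mp V.2.isCompact
  haveI : DCoh.HasRpush (f ∣_ V.1) :=
    Groth.Agent.Helper11.KI.hasRightDerivedFunctor.{u + 1} (DCoh.pushKh (f ∣_ V.1))
  obtain ⟨θ⟩ := Groth.Agent.Helper29.OpenRes.main6508 f V.1
  obtain ⟨N, hN⟩ := exists_bound (f ∣_ V.1)
  obtain ⟨h1⟩ := isColimit_homology_Rpush_of_qc (f ∣_ V.1) N hN
    (E ⋙ DCoh.restrictD (f ⁻¹ᵁ V.1).ι) ((DCoh.restrictD (f ⁻¹ᵁ V.1).ι).mapCocone c)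
    (hoColim_restrictD _ c hc) (fun j => isQCohD_restrictD _ (E.obj j) (hE j)) i
  have h2 : IsColimit (((DCoh.Rpush f ⋙ DCoh.restrictD V.1.ι) ⋙
      homologyFunctor (V.1 : Scheme.{u}).Modules i).mapCocone c) :=
    IsColimit.mapCoconeEquiv
      (Functor.isoWhiskerRight θ.symm (homologyFunctor (V.1 : Scheme.{u}).Modules i))
      (show IsColimit (((DCoh.restrictD (f ⁻¹ᵁ V.1).ι ⋙ DCoh.Rpush (f ∣_ V.1)) ⋙
        homologyFunctor (V.1 : Scheme.{u}).Modules i).mapCocone c) from h1)
  have h3 : IsColimit ((DCoh.Rpush f ⋙ homologyFunctor S.Modules i ⋙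
      Scheme.Modules.restrictFunctor V.1.ι).mapCocone c) :=
    IsColimit.mapCoconeEquiv (Functor.isoWhiskerLeft (DCoh.Rpush f)
      (mapDerivedCategoryHomologyIso (Scheme.Modules.restrictFunctor V.1.ι) i)) h2
  exact ⟨h3⟩

/-- the statement for complexes -/
theorem isColimit_homology_Rpush_qc_complexes [IsFiltered J]
    (C : J ⥤ CochainComplex X.Modules ℤ) (c : Cocone C) (hc : IsColimit c)
    (hC : ∀ j : J, DCoh.IsQCohD (DCoh.toD X (C.obj j))) (i : ℤ) :
    Nonempty (IsColimit ((DerivedCategory.Q ⋙ DCoh.Rpush f ⋙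
      DerivedCategory.homologyFunctor S.Modules i).mapCocone c)) :=
  isColimit_homology_Rpush_of_qc_general f (C ⋙ Q) (Q.mapCocone c) (hoColim_Q C c hc) hC i

end Groth.Agent.Helper24.HoCo
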