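import Groth.Agent.Lib.Helper24.HoCo1

/-!
# Homological functors, diagrams of distinguished triangles and colimits
-/

set_option autoImplicit false
universe w w' v u
open CategoryTheory CategoryTheory.Limits Pretriangulated

namespace Groth.Agent.Helper24.HoCo

section Homological

variable {𝒯 : Type*} [Category 𝒯] [Preadditive 𝒯] [HasZeroObject 𝒯] [HasShift 𝒯 ℤ]
  [∀ n : ℤ, (shiftFunctor 𝒯 n).Additive] [Pretriangulated 𝒯]
  {ℬ : Type u} [Category.{v} ℬ] [Abelian ℬ] (Ψ : 𝒯 ⥤ ℬ) [Ψ.IsHomological]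
  {J : Type w} [Category.{w'} J] [HasColimitsOfShape J ℬ] [HasExactColimitsOfShape J ℬ]

/-- for a diagram of distinguished triangles with a cocone whose point is distinguished: if a
homological functor commutes with the colimit on the outer terms (and their shifts), then it
commutes with the colimit on the middle terms -/
theorem isColimit_map_obj₂ (D : J ⥤ Triangle 𝒯) (c : Cocone D)
    (hD : ∀ j, D.obj j ∈ distTriang 𝒯) (hc : c.pt ∈ distTriang 𝒯)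
    (h₁ : IsColimit (Ψ.mapCocone ((Triangle.π₃ ⋙ shiftFunctor 𝒯 (-1 : ℤ)).mapCocone c)))
    (h₂ : IsColimit (Ψ.mapCocone (Triangle.π₁.mapCocone c)))
    (h₄ : IsColimit (Ψ.mapCocone (Triangle.π₃.mapCocone c)))
    (h₅ : IsColimit (Ψ.mapCocone ((Triangle.π₁ ⋙ shiftFunctor 𝒯 (1 : ℤ)).mapCocone c))) :
    Nonempty (IsColimit (Ψ.mapCocone (Triangle.π₂.mapCocone c))) := by
  let α₁ : (D ⋙ Triangle.π₃ ⋙ shiftFunctor 𝒯 (-1 : ℤ)) ⋙ Ψ ⟶ (D ⋙ Triangle.π₁) ⋙ Ψ :=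
    { app := fun j => Ψ.map (D.obj j).invRotate.mor₁
      naturality := fun j j' u => by
        show Ψ.map (((D.map u).hom₃)⟦(-1 : ℤ)⟧') ≫ Ψ.map (D.obj j').invRotate.mor₁ =
          Ψ.map (D.obj j).invRotate.mor₁ ≫ Ψ.map (D.map u).hom₁
        rw [← Ψ.map_comp, ← Ψ.map_comp]
        exact congrArg Ψ.map (((invRotate 𝒯).map (D.map u)).comm₁).symm }
  let α₂ : (D ⋙ Triangle.π₁) ⋙ Ψ ⟶ (D ⋙ Triangle.π₂) ⋙ Ψ :=
    { app := fun j => Ψ.map (D.obj j).mor₁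
      naturality := fun j j' u => by
        show Ψ.map (D.map u).hom₁ ≫ Ψ.map (D.obj j').mor₁ =
          Ψ.map (D.obj j).mor₁ ≫ Ψ.map (D.map u).hom₂
        rw [← Ψ.map_comp, ← Ψ.map_comp]
        exact congrArg Ψ.map (D.map u).comm₁.symm }
  let α₃ : (D ⋙ Triangle.π₂) ⋙ Ψ ⟶ (D ⋙ Triangle.π₃) ⋙ Ψ :=
    { app := fun j => Ψ.map (D.obj j).mor₂
      naturality := fun j j' u => by
        show Ψ.map (D.map u).hom₂ ≫ Ψ.map (D.obj j').mor₂ =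
          Ψ.map (D.obj j).mor₂ ≫ Ψ.map (D.map u).hom₃
        rw [← Ψ.map_comp, ← Ψ.map_comp]
        exact congrArg Ψ.map (D.map u).comm₂.symm }
  let α₄ : (D ⋙ Triangle.π₃) ⋙ Ψ ⟶ (D ⋙ Triangle.π₁ ⋙ shiftFunctor 𝒯 (1 : ℤ)) ⋙ Ψ :=
    { app := fun j => Ψ.map (D.obj j).mor₃
      naturality := fun j j' u => by
        show Ψ.map (D.map u).hom₃ ≫ Ψ.map (D.obj j').mor₃ =
          Ψ.map (D.obj j).mor₃ ≫ Ψ.map (((D.map u).hom₁)⟦(1 : ℤ)⟧')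
        rw [← Ψ.map_comp, ← Ψ.map_comp]
        exact congrArg Ψ.map (D.map u).comm₃.symm }
  have hDi : ∀ j, (D.obj j).invRotate ∈ distTriang 𝒯 := fun j => inv_rot_of_distTriang _ (hD j)
  have hDr : ∀ j, (D.obj j).rotate ∈ distTriang 𝒯 := fun j => rot_of_distTriang _ (hD j)
  have hci := inv_rot_of_distTriang _ hc
  have hcr := rot_of_distTriang _ hc
  refine isColimit_of_five α₁ α₂ α₃ α₄
    (Ψ.mapCocone ((Triangle.π₃ ⋙ shiftFunctor 𝒯 (-1 : ℤ)).mapCocone c))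
    (Ψ.mapCocone (Triangle.π₁.mapCocone c)) (Ψ.mapCocone (Triangle.π₂.mapCocone c))
    (Ψ.mapCocone (Triangle.π₃.mapCocone c))
    (Ψ.mapCocone ((Triangle.π₁ ⋙ shiftFunctor 𝒯 (1 : ℤ)).mapCocone c))
    (Ψ.map c.pt.invRotate.mor₁) (Ψ.map c.pt.mor₁) (Ψ.map c.pt.mor₂) (Ψ.map c.pt.mor₃)
    (fun j => ?_) (fun j => ?_) (fun j => ?_) (fun j => ?_)
    (fun j => ?_) (fun j => ?_) (fun j => ?_)
    (fun j => ?_) (fun j => ?_) (fun j => ?_)
    ?_ ?_ ?_ ?_ ?_ ?_ h₁ h₂ h₄ h₅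
  · show Ψ.map (((c.ι.app j).hom₃)⟦(-1 : ℤ)⟧') ≫ Ψ.map c.pt.invRotate.mor₁ =
      Ψ.map (D.obj j).invRotate.mor₁ ≫ Ψ.map (c.ι.app j).hom₁
    rw [← Ψ.map_comp, ← Ψ.map_comp]
    exact congrArg Ψ.map (((invRotate 𝒯).map (c.ι.app j)).comm₁).symm
  · show Ψ.map (c.ι.app j).hom₁ ≫ Ψ.map c.pt.mor₁ = Ψ.map (D.obj j).mor₁ ≫ Ψ.map (c.ι.app j).hom₂
    rw [← Ψ.map_comp, ← Ψ.map_comp]
    exact congrArg Ψ.map (c.ι.app j).comm₁.symm
  · show Ψ.map (c.ι.app j).hom₂ ≫ Ψ.map c.pt.mor₂ = Ψ.map (D.obj j).mor₂ ≫ Ψ.map (c.ι.app j).hom₃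
    rw [← Ψ.map_comp, ← Ψ.map_comp]
    exact congrArg Ψ.map (c.ι.app j).comm₂.symm
  · show Ψ.map (c.ι.app j).hom₃ ≫ Ψ.map c.pt.mor₃ =
      Ψ.map (D.obj j).mor₃ ≫ Ψ.map (((c.ι.app j).hom₁)⟦(1 : ℤ)⟧')
    rw [← Ψ.map_comp, ← Ψ.map_comp]
    exact congrArg Ψ.map (c.ι.app j).comm₃.symm
  · exact ((shortComplexOfDistTriangle _ (hDi j)).map Ψ).zero
  · exact ((shortComplexOfDistTriangle _ (hD j)).map Ψ).zero
  · exact ((shortComplexOfDistTriangle _ (hDr j)).map Ψ).zero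
  · exact Ψ.map_distinguished_exact _ (hDi j)
  · exact Ψ.map_distinguished_exact _ (hD j)
  · exact Ψ.map_distinguished_exact _ (hDr j)
  · exact ((shortComplexOfDistTriangle _ hci).map Ψ).zero
  · exact ((shortComplexOfDistTriangle _ hc).map Ψ).zero
  · exact ((shortComplexOfDistTriangle _ hcr).map Ψ).zero
  · exact Ψ.map_distinguished_exact _ hci
  · exact Ψ.map_distinguished_exact _ hc
  · exact Ψ.map_distinguished_exact _ hcr

end Homological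

end Groth.Agent.Helper24.HoCo
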