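import Groth.Agent.Lib.Helper24.HoCo2
import Groth.Agent.Lib.Helper24.WayOut1

/-!
# Objects of a derived category concentrated in one degree; homological colimit cocones
-/

set_option autoImplicit false
universe w w' w₁ v₁ u₁ v u
open CategoryTheory CategoryTheory.Limits Pretriangulated

namespace Groth.Agent.Helper24.HoCo

open DerivedCategory DerivedCategory.TStructure Groth.Agent.Helper24.WayOut
  Groth.Agent.Helper24.RlimTrunc

variable {𝒜 : Type u₁} [Category.{v₁} 𝒜] [Abelian 𝒜] [HasDerivedCategory.{w₁} 𝒜]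

section Heart

variable (a : ℤ)

/-- maps from an object concentrated in degree `a` to `S_a N` are detected by `H^a` -/
lemma hom_ext_single {X : DerivedCategory 𝒜} [X.IsGE a] [X.IsLE a] {N : 𝒜}
    (g₁ g₂ : X ⟶ (singleFunctor 𝒜 a).obj N)
    (h : (homologyFunctor 𝒜 a).map g₁ = (homologyFunctor 𝒜 a).map g₂) : g₁ = g₂ := by
  obtain ⟨M, ⟨e⟩⟩ := exists_iso_singleFunctor_obj_of_isGE_of_isLE X a
  rw [← cancel_epi e.inv]
  obtain ⟨f₁, hf₁⟩ := (singleFunctor 𝒜 a).map_surjective (e.inv ≫ g₁)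
  obtain ⟨f₂, hf₂⟩ := (singleFunctor 𝒜 a).map_surjective (e.inv ≫ g₂)
  rw [← hf₁, ← hf₂]
  congr 1
  have n₁ := (singleFunctorCompHomologyFunctorIso 𝒜 a).hom.naturality f₁
  have n₂ := (singleFunctorCompHomologyFunctorIso 𝒜 a).hom.naturality f₂
  have hh : (singleFunctor 𝒜 a ⋙ homologyFunctor 𝒜 a).map f₁ =
      (singleFunctor 𝒜 a ⋙ homologyFunctor 𝒜 a).map f₂ := by
    show (homologyFunctor 𝒜 a).map ((singleFunctor 𝒜 a).map f₁) =
      (homologyFunctor 𝒜 a).map ((singleFunctor 𝒜 a).map f₂)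
    rw [hf₁, hf₂, Functor.map_comp, Functor.map_comp, h]
  rw [hh] at n₁
  have := n₁.symm.trans n₂
  simpa using this

/-- auxiliary: the isomorphism `X ≅ S_a (H^a X)` attached to `X ≅ S_a M` -/
noncomputable def ηOf {X : DerivedCategory 𝒜} {M : 𝒜} (e : X ≅ (singleFunctor 𝒜 a).obj M) :
    X ≅ (singleFunctor 𝒜 a).obj ((homologyFunctor 𝒜 a).obj X) :=
  e ≪≫ (singleFunctor 𝒜 a).mapIso (((singleFunctorCompHomologyFunctorIso 𝒜 a).app M).symm ≪≫
      (homologyFunctor 𝒜 a).mapIso e.symm)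

lemma ηOf_spec {X : DerivedCategory 𝒜} {M : 𝒜} (e : X ≅ (singleFunctor 𝒜 a).obj M) :
    (homologyFunctor 𝒜 a).map (ηOf a e).hom ≫
      (singleFunctorCompHomologyFunctorIso 𝒜 a).hom.app ((homologyFunctor 𝒜 a).obj X) = 𝟙 _ := by
  have n₁ := (singleFunctorCompHomologyFunctorIso 𝒜 a).hom.naturality
    ((singleFunctorCompHomologyFunctorIso 𝒜 a).inv.app M ≫ (homologyFunctor 𝒜 a).map e.inv)
  have h1 : (homologyFunctor 𝒜 a).map (ηOf a e).hom =
      (homologyFunctor 𝒜 a).map e.hom ≫ (singleFunctor 𝒜 a ⋙ homologyFunctor 𝒜 a).map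
        ((singleFunctorCompHomologyFunctorIso 𝒜 a).inv.app M ≫
          (homologyFunctor 𝒜 a).map e.inv) :=
    (homologyFunctor 𝒜 a).map_comp e.hom _
  rw [h1, Category.assoc, n₁]
  simp only [Functor.id_obj, Functor.id_map, Iso.hom_inv_id_app_assoc]
  rw [← Functor.map_comp, Iso.hom_inv_id, CategoryTheory.Functor.map_id]

/-- an object concentrated in degree `a` is `S_a` of its `H^a` -/
noncomputable def η (X : DerivedCategory 𝒜) [X.IsGE a] [X.IsLE a] :
    X ≅ (singleFunctor 𝒜 a).obj ((homologyFunctor 𝒜 a).obj X) :=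
  ηOf a (exists_iso_singleFunctor_obj_of_isGE_of_isLE X a).choose_spec.some

lemma η_spec (X : DerivedCategory 𝒜) [X.IsGE a] [X.IsLE a] :
    (homologyFunctor 𝒜 a).map (η a X).hom ≫
      (singleFunctorCompHomologyFunctorIso 𝒜 a).hom.app ((homologyFunctor 𝒜 a).obj X) = 𝟙 _ :=
  ηOf_spec a _

lemma η_naturality {X Y : DerivedCategory 𝒜} [X.IsGE a] [X.IsLE a] [Y.IsGE a] [Y.IsLE a]
    (f : X ⟶ Y) :
    f ≫ (η a Y).hom = (η a X).hom ≫
      (singleFunctor 𝒜 a).map ((homologyFunctor 𝒜 a).map f) := by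
  apply hom_ext_single a
  rw [← cancel_mono ((singleFunctorCompHomologyFunctorIso 𝒜 a).hom.app
    ((homologyFunctor 𝒜 a).obj Y))]
  have n₁ := (singleFunctorCompHomologyFunctorIso 𝒜 a).hom.naturality
    ((homologyFunctor 𝒜 a).map f)
  rw [Functor.map_comp, Functor.map_comp, Category.assoc, Category.assoc, η_spec]
  erw [n₁]
  rw [← Category.assoc, η_spec]
  simp

end Heart

end Groth.Agent.Helper24.HoCo
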