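import Groth.Agent.Lib.Helper24.HoCo3

/-!
# Homological colimit cocones in a derived category and homological functors
-/

set_option autoImplicit false
universe w w' w₁ v₁ u₁ v u
open CategoryTheory CategoryTheory.Limits Pretriangulated

namespace Groth.Agent.Helper24.HoCo

open DerivedCategory DerivedCategory.TStructure Groth.Agent.Helper24.WayOut
  Groth.Agent.Helper24.RlimTrunc

variable {𝒜 : Type u₁} [Category.{v₁} 𝒜] [Abelian 𝒜] [HasDerivedCategory.{w₁} 𝒜]
  {J : Type w} [Category.{w'} J]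

/-- a cocone in `D(𝒜)` all of whose cohomology cocones are colimit cocones -/
def HoColim {E : J ⥤ DerivedCategory 𝒜} (c : Cocone E) : Prop :=
  ∀ k : ℤ, Nonempty (IsColimit ((homologyFunctor 𝒜 k).mapCocone c))

section Stability

variable {E : J ⥤ DerivedCategory 𝒜} (c : Cocone E)

lemma isGE_pt (a : ℤ) (hE : ∀ j, (E.obj j).IsGE a) (hc : HoColim c) : c.pt.IsGE a := by
  rw [isGE_iff]
  intro i hi
  obtain ⟨h⟩ := hc i
  exact isZero_pt_of_isColimit h (fun j => by
    haveI := hE j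
    exact isZero_of_isGE (E.obj j) a i hi)

lemma isLE_pt (b : ℤ) (hE : ∀ j, (E.obj j).IsLE b) (hc : HoColim c) : c.pt.IsLE b := by
  rw [isLE_iff]
  intro i hi
  obtain ⟨h⟩ := hc i
  exact isZero_pt_of_isColimit h (fun j => by
    haveI := hE j
    exact isZero_of_isLE (E.obj j) b i hi)

lemma hoColim_truncLT (b : ℤ) (hc : HoColim c) : HoColim ((t.truncLT b).mapCocone c) := by
  intro k
  by_cases hk : k < b
  · haveI : ∀ X : DerivedCategory 𝒜, IsIso ((Functor.whiskerRight (t.truncLTι b)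
        (homologyFunctor 𝒜 k)).app X) := fun X => isIso_homologyMap_truncLTι X b k hk
    haveI : IsIso (Functor.whiskerRight (t.truncLTι b) (homologyFunctor 𝒜 k)) :=
      NatIso.isIso_of_isIso_app _
    obtain ⟨h⟩ := hc k
    exact ⟨IsColimit.mapCoconeEquiv
      (asIso (Functor.whiskerRight (t.truncLTι b) (homologyFunctor 𝒜 k))).symm h⟩
  · refine ⟨isColimitOfIsZero _ (fun j => ?_) ?_⟩
    · exact isZero_of_isLE ((t.truncLT b).obj (E.obj j)) (b - 1) k (by omega)
    · exact isZero_of_isLE ((t.truncLT b).obj c.pt) (b - 1) k (by omega)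

lemma hoColim_truncGE (b : ℤ) (hc : HoColim c) : HoColim ((t.truncGE b).mapCocone c) := by
  intro k
  by_cases hk : b ≤ k
  · haveI : ∀ X : DerivedCategory 𝒜, IsIso ((Functor.whiskerRight (t.truncGEπ b)
        (homologyFunctor 𝒜 k)).app X) := fun X => isIso_homologyMap_truncGEπ X b k hk
    haveI : IsIso (Functor.whiskerRight (t.truncGEπ b) (homologyFunctor 𝒜 k)) :=
      NatIso.isIso_of_isIso_app _
    obtain ⟨h⟩ := hc k
    exact ⟨IsColimit.mapCoconeEquiv
      (asIso (Functor.whiskerRight (t.truncGEπ b) (homologyFunctor 𝒜 k))) h⟩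
  · refine ⟨isColimitOfIsZero _ (fun j => ?_) ?_⟩
    · exact isZero_of_isGE ((t.truncGE b).obj (E.obj j)) b k (by omega)
    · exact isZero_of_isGE ((t.truncGE b).obj c.pt) b k (by omega)

lemma hoColim_shift (n : ℤ) (hc : HoColim c) :
    HoColim ((shiftFunctor (DerivedCategory 𝒜) n).mapCocone c) := by
  intro k
  obtain ⟨h⟩ := hc (n + k)
  exact ⟨IsColimit.mapCoconeEquiv ((homologyFunctor 𝒜 0).shiftIso n k (n + k) rfl).symm h⟩

end Stability

section Single

variable {ℬ : Type u} [Category.{v} ℬ] (Ψ : DerivedCategory 𝒜 ⥤ ℬ) (a : ℤ)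
  [PreservesColimitsOfShape J (singleFunctor 𝒜 a ⋙ Ψ)]
  {E : J ⥤ DerivedCategory 𝒜} (c : Cocone E)

/-- the case of objects concentrated in a single degree -/
theorem isColimit_map_of_single (hE : ∀ j, (E.obj j).IsGE a) (hE' : ∀ j, (E.obj j).IsLE a)
    (hpt : c.pt.IsGE a) (hpt' : c.pt.IsLE a)
    (hc : IsColimit ((homologyFunctor 𝒜 a).mapCocone c)) : Nonempty (IsColimit (Ψ.mapCocone c)) := by
  have hT : IsColimit ((singleFunctor 𝒜 a ⋙ Ψ).mapCocone ((homologyFunctor 𝒜 a).mapCocone c)) :=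
    isColimitOfPreserves (singleFunctor 𝒜 a ⋙ Ψ) hc
  let ν : E ⋙ Ψ ≅ (E ⋙ homologyFunctor 𝒜 a) ⋙ singleFunctor 𝒜 a ⋙ Ψ :=
    NatIso.ofComponents (fun j => Ψ.mapIso (@η _ _ _ _ a (E.obj j) (hE j) (hE' j)))
      (fun {j j'} u => by
        have := @η_naturality _ _ _ _ a _ _ (hE j) (hE' j) (hE j') (hE' j') (E.map u)
        show Ψ.map (E.map u) ≫ Ψ.map _ = Ψ.map _ ≫ Ψ.map ((singleFunctor 𝒜 a).map
          ((homologyFunctor 𝒜 a).map (E.map u)))
        rw [← Ψ.map_comp, ← Ψ.map_comp, this])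
  have h2 := (IsColimit.precomposeHomEquiv ν _).symm hT
  refine ⟨IsColimit.ofIsoColimit h2 (Cocones.ext (Ψ.mapIso (@η _ _ _ _ a c.pt hpt hpt')).symm
    (fun j => ?_))⟩
  have := @η_naturality _ _ _ _ a _ _ (hE j) (hE' j) hpt hpt' (c.ι.app j)
  show (Ψ.map _ ≫ Ψ.map ((singleFunctor 𝒜 a).map ((homologyFunctor 𝒜 a).map (c.ι.app j)))) ≫
    Ψ.map _ = Ψ.map (c.ι.app j)
  rw [← Ψ.map_comp, ← this, Ψ.map_comp, Category.assoc, ← Ψ.map_comp, Iso.hom_inv_id, Ψ.map_id,
    Category.comp_id]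

end Single

end Groth.Agent.Helper24.HoCo
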