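import Groth.Agent.Lib.Helper24.HoCo4

/-!
# Homological functors on `D(𝒜)` commuting with filtered colimits of modules commute with
homological colimit cocones of uniformly bounded below objects
-/

set_option autoImplicit false
universe w w' w₁ v₁ u₁ v u
open CategoryTheory CategoryTheory.Limits Pretriangulated

namespace Groth.Agent.Helper24.HoCo

open DerivedCategory DerivedCategory.TStructure Groth.Agent.Helper24.WayOut
  Groth.Agent.Helper24.RlimTrunc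

variable {𝒜 : Type u₁} [Category.{v₁} 𝒜] [Abelian 𝒜] [HasDerivedCategory.{w₁} 𝒜]
  {J : Type w} [Category.{w'} J]
  {ℬ : Type u} [Category.{v} ℬ] [Abelian ℬ] (Ψ : DerivedCategory 𝒜 ⥤ ℬ) [Ψ.IsHomological]
  [HasColimitsOfShape J ℬ] [HasExactColimitsOfShape J ℬ]
  (hΨ : ∀ a : ℤ, PreservesColimitsOfShape J (singleFunctor 𝒜 a ⋙ Ψ))

include hΨ in
/-- the bounded case -/
theorem isColimit_map_of_bounded : ∀ (N : ℕ) (a : ℤ) (E : J ⥤ DerivedCategory 𝒜) (c : Cocone E),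
    (∀ j, (E.obj j).IsGE a) → (∀ j, (E.obj j).IsLE (a + N)) → HoColim c →
    Nonempty (IsColimit (Ψ.mapCocone c)) := by
  intro N
  induction N with
  | zero =>
    intro a E c h1 h2 hc
    haveI := hΨ a
    have h2' : ∀ j, (E.obj j).IsLE a := fun j => by simpa using h2 j
    obtain ⟨h⟩ := hc a
    exact isColimit_map_of_single Ψ a c h1 h2' (isGE_pt c a h1 hc) (isLE_pt c a h2' hc) h
  | succ N ih =>
    intro a E c h1 h2 hc
    have h2' : ∀ j, (E.obj j).IsLE (a + N + 1) := fun j => by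
      have := h2 j
      rwa [show a + ((N + 1 : ℕ) : ℤ) = a + N + 1 by push_cast; ring] at this
    -- `τ_{< b}`
    have hLT1 : ∀ j, ((t.truncLT (a + N + 1)).obj (E.obj j)).IsGE a := fun j => by
      haveI := h1 j
      infer_instance
    have hLT2 : ∀ j, ((t.truncLT (a + N + 1)).obj (E.obj j)).IsLE (a + N) := fun j =>
      t.isLE_truncLT_obj _ (a + N + 1) (a + N) (by omega)
    have hcLT := hoColim_truncLT c (a + N + 1) hc
    obtain ⟨k₂⟩ := ih a (E ⋙ t.truncLT (a + N + 1)) ((t.truncLT (a + N + 1)).mapCocone c)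
      hLT1 hLT2 hcLT
    obtain ⟨k₅⟩ := ih (a - 1) ((E ⋙ t.truncLT (a + N + 1)) ⋙ shiftFunctor _ (1 : ℤ))
      ((shiftFunctor _ (1 : ℤ)).mapCocone ((t.truncLT (a + N + 1)).mapCocone c))
      (fun j => by
        haveI := hLT1 j
        exact t.isGE_shift ((t.truncLT (a + N + 1)).obj (E.obj j)) a 1 (a - 1) (by omega))
      (fun j => by
        haveI := hLT2 j
        exact t.isLE_shift ((t.truncLT (a + N + 1)).obj (E.obj j)) (a + N) 1 (a - 1 + N) (by omega))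
      (hoColim_shift _ 1 hcLT)
    -- `τ_{≥ b}`
    have hGE1 : ∀ j, ((t.truncGE (a + N + 1)).obj (E.obj j)).IsGE (a + N + 1) := fun j =>
      inferInstance
    have hGE2 : ∀ j, ((t.truncGE (a + N + 1)).obj (E.obj j)).IsLE (a + N + 1) := fun j => by
      haveI := h2' j
      infer_instance
    have hcGE := hoColim_truncGE c (a + N + 1) hc
    haveI := hΨ (a + N + 1)
    obtain ⟨q₄⟩ := hcGE (a + N + 1)
    obtain ⟨k₄⟩ := isColimit_map_of_single Ψ (a + N + 1) ((t.truncGE (a + N + 1)).mapCocone c)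
      hGE1 hGE2 (isGE_pt _ _ hGE1 hcGE) (isLE_pt _ _ hGE2 hcGE) q₄
    have hS1 : ∀ j, (((E ⋙ t.truncGE (a + N + 1)) ⋙ shiftFunctor _ (-1 : ℤ)).obj j).IsGE
        (a + N + 1 + 1) := fun j => by
      haveI := hGE1 j
      exact t.isGE_shift ((t.truncGE (a + N + 1)).obj (E.obj j)) (a + N + 1) (-1) (a + N + 1 + 1)
        (by omega)
    have hS2 : ∀ j, (((E ⋙ t.truncGE (a + N + 1)) ⋙ shiftFunctor _ (-1 : ℤ)).obj j).IsLE
        (a + N + 1 + 1) := fun j => by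
      haveI := hGE2 j
      exact t.isLE_shift ((t.truncGE (a + N + 1)).obj (E.obj j)) (a + N + 1) (-1) (a + N + 1 + 1)
        (by omega)
    have hcS := hoColim_shift _ (-1) hcGE
    haveI := hΨ (a + N + 1 + 1)
    obtain ⟨q₁⟩ := hcS (a + N + 1 + 1)
    obtain ⟨k₁⟩ := isColimit_map_of_single Ψ (a + N + 1 + 1)
      ((shiftFunctor _ (-1 : ℤ)).mapCocone ((t.truncGE (a + N + 1)).mapCocone c))
      hS1 hS2 (isGE_pt _ _ hS1 hcS) (isLE_pt _ _ hS2 hcS) q₁
    exact isColimit_map_obj₂ Ψ (E ⋙ t.triangleLTGE (a + N + 1))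
      ((t.triangleLTGE (a + N + 1)).mapCocone c)
      (fun j => t.triangleLTGE_distinguished _ _) (t.triangleLTGE_distinguished _ _) k₁ k₂ k₄ k₅

omit [HasColimitsOfShape J ℬ] [HasExactColimitsOfShape J ℬ] in
/-- `Ψ(τ_{<b} X) ⟶ Ψ(X)` is an isomorphism when `Ψ` vanishes on `D^{≥ b₀}` and `b₀ ≤ b` -/
lemma isIso_map_truncLTι (b₀ : ℤ)
    (hv : ∀ X : DerivedCategory 𝒜, X.IsGE b₀ → IsZero (Ψ.obj X)) (b : ℤ) (hb : b₀ ≤ b)
    (X : DerivedCategory 𝒜) : IsIso (Ψ.map ((t.truncLTι b).app X)) := by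
  have hT := t.triangleLTGE_distinguished b X
  have hTi := inv_rot_of_distTriang _ hT
  have e₁ := Ψ.map_distinguished_exact _ hTi
  have e₂ := Ψ.map_distinguished_exact _ hT
  have z₃ : IsZero (Ψ.obj ((t.truncGE b).obj X)) :=
    hv _ (t.isGE_of_ge ((t.truncGE b).obj X) b₀ b hb)
  have z₁ : IsZero (Ψ.obj (((t.truncGE b).obj X)⟦(-1 : ℤ)⟧)) := by
    haveI : (((t.truncGE b).obj X)⟦(-1 : ℤ)⟧).IsGE (b + 1) :=
      t.isGE_shift ((t.truncGE b).obj X) b (-1) (b + 1) (by omega)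
    exact hv _ (t.isGE_of_ge (((t.truncGE b).obj X)⟦(-1 : ℤ)⟧) b₀ (b + 1) (by omega))
  haveI : Mono (Ψ.map ((t.truncLTι b).app X)) := e₁.mono_g (z₁.eq_of_src _ _)
  haveI : Epi (Ψ.map ((t.truncLTι b).app X)) := e₂.epi_f (z₃.eq_of_tgt _ _)
  exact isIso_of_mono_of_epi _

include hΨ in
/-- the bounded below case -/
theorem isColimit_map_of_isGE (b₀ : ℤ)
    (hv : ∀ X : DerivedCategory 𝒜, X.IsGE b₀ → IsZero (Ψ.obj X)) (a : ℤ)
    (E : J ⥤ DerivedCategory 𝒜) (c : Cocone E) (hE : ∀ j, (E.obj j).IsGE a) (hc : HoColim c) :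
    Nonempty (IsColimit (Ψ.mapCocone c)) := by
  obtain ⟨N, hN⟩ : ∃ N : ℕ, b₀ ≤ a + N + 1 := ⟨(b₀ - a).toNat, by omega⟩
  haveI : ∀ X : DerivedCategory 𝒜, IsIso ((Functor.whiskerRight (t.truncLTι (a + N + 1)) Ψ).app X) :=
    fun X => isIso_map_truncLTι Ψ b₀ hv (a + N + 1) hN X
  haveI : IsIso (Functor.whiskerRight (t.truncLTι (a + N + 1)) Ψ) := NatIso.isIso_of_isIso_app _
  have hLT1 : ∀ j, ((t.truncLT (a + N + 1)).obj (E.obj j)).IsGE a := fun j => by
    haveI := hE j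
    infer_instance
  have hLT2 : ∀ j, ((t.truncLT (a + N + 1)).obj (E.obj j)).IsLE (a + N) := fun j =>
    t.isLE_truncLT_obj _ (a + N + 1) (a + N) (by omega)
  obtain ⟨k⟩ := isColimit_map_of_bounded Ψ hΨ N a (E ⋙ t.truncLT (a + N + 1))
    ((t.truncLT (a + N + 1)).mapCocone c) hLT1 hLT2 (hoColim_truncLT c _ hc)
  have k' : IsColimit ((t.truncLT (a + N + 1) ⋙ Ψ).mapCocone c) := k
  exact ⟨IsColimit.mapCoconeEquiv (Functor.leftUnitor Ψ) (IsColimit.mapCoconeEquiv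
    (asIso (Functor.whiskerRight (t.truncLTι (a + N + 1)) Ψ)) k')⟩

end Groth.Agent.Helper24.HoCo
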