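import Groth.Agent.Lib.Helper24.RFBound
import Groth.Agent.Lib.Helper24.RlimConst

/-!
# Unbounded right derived functors: dévissage with values in a weak Serre class,
transition maps of truncation towers, derived limits
-/

set_option autoImplicit false
universe w' w v' v u' u
open CategoryTheory CategoryTheory.Limits

namespace Groth.Agent.Helper24.RFQc

open Groth.Agent.Helper11 DerivedCategory Pretriangulated Groth.Agent.Helper24.RFBound
  Groth.Agent.Helper24.RlimConst Groth.Agent.Helper24.RlimTrunc DerivedCategory.TStructure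
  Groth.Agent.Helper24.WayOut

section Five

variable {ℬ : Type u} [Category.{v} ℬ] [Abelian ℬ] [HasDerivedCategory.{w} ℬ]
  (P : ObjectProperty ℬ) [WSerre.IsWeakSerre P]

/-- the middle term of a distinguished triangle has cohomology in a weak Serre class when the
outer terms do -/
theorem prop_homology_obj₂ (T : Triangle (DerivedCategory ℬ)) (hT : T ∈ distTriang _)
    (h₁ : ∀ q, P ((homologyFunctor ℬ q).obj T.obj₁)) (h₃ : ∀ q, P ((homologyFunctor ℬ q).obj T.obj₃))
    (q : ℤ) : P ((homologyFunctor ℬ q).obj T.obj₂) :=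
  weakSerre_five P _ _ _ _
    ((homologyFunctor ℬ 0).homologySequenceδ_comp T hT (q - 1) q (by omega))
    ((homologyFunctor ℬ 0).homologySequence_comp T hT q)
    ((homologyFunctor ℬ 0).comp_homologySequenceδ T hT q (q + 1) rfl)
    ((homologyFunctor ℬ 0).homologySequence_exact₁ T hT (q - 1) q (by omega))
    ((homologyFunctor ℬ 0).homologySequence_exact₂ T hT q)
    ((homologyFunctor ℬ 0).homologySequence_exact₃ T hT q (q + 1) rfl)
    (h₃ (q - 1)) (h₁ q) (h₃ q) (h₁ (q + 1))

end Five

variable {A : Type u} [Category.{v} A] [Abelian A] [IsGrothendieckAbelian.{v} A]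
  [HasDerivedCategory.{w} A]
  {B : Type u'} [Category.{v'} B] [Abelian B] [HasDerivedCategory.{w'} B]
  (F : A ⥤ B) [F.Additive]
  (R : DerivedCategory A ⥤ DerivedCategory B)
  (β : F.mapHomotopyCategory (ComplexShape.up ℤ) ⋙ Qh ⟶ Qh ⋙ R)
  [R.IsRightDerivedFunctor β (KI.WK A)]

section Bounded

variable (P' : ObjectProperty B) [WSerre.IsWeakSerre P']

include F β in
/-- objects concentrated in a single degree -/
theorem prop_homology_of_single (E : DerivedCategory A) (b : ℤ) [E.IsGE b] [E.IsLE b]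
    (hE : ∀ p : ℕ, P' ((F.rightDerived p).obj ((homologyFunctor A b).obj E)))
    (i : ℤ) : P' ((homologyFunctor B i).obj (R.obj E)) := by
  by_cases hi : i < b
  · exact P'.prop_of_isZero (isZero_homology_of_isGE F R β E b i hi)
  · obtain ⟨e⟩ := nonempty_iso_Q_Lb E b
    obtain ⟨e'⟩ := nonempty_iso_of_injective F R β (Lb ((homologyFunctor A b).obj E) b) b
    obtain ⟨p, hp⟩ : ∃ p : ℕ, b + p = i := ⟨(i - b).toNat, by omega⟩
    exact P'.prop_of_iso ((homologyFunctor B i).mapIso (R.mapIso e ≪≫ e') ≪≫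
      (homologyFunctorFactors B i).app _ ≪≫ homologyLbIso F _ b p i hp).symm (hE p)

include F β in
/-- bounded objects -/
theorem prop_homology_of_bounded (P : A → Prop) (hP : ∀ {G G' : A}, (G ≅ G') → P G → P G')
    (hF : ∀ G, P G → ∀ p : ℕ, P' ((F.rightDerived p).obj G)) :
    ∀ (n : ℕ) (E : DerivedCategory A) (a : ℤ), E.IsGE a → E.IsLE (a + n) →
      (∀ q, a ≤ q → q ≤ a + n → P ((homologyFunctor A q).obj E)) →
      ∀ i, P' ((homologyFunctor B i).obj (R.obj E)) := by
  intro n
  induction n with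
  | zero =>
    intro E a h1 h2 hE i
    haveI := h1
    haveI : E.IsLE a := by simpa using h2
    exact prop_homology_of_single F R β P' E a (hF _ (hE a le_rfl (by simp))) i
  | succ n ih =>
    intro E a h1 h2 hE i
    haveI := h1
    have hb : a + (n : ℤ) + 1 = a + ((n + 1 : ℕ) : ℤ) := by push_cast; ring
    haveI : E.IsLE (a + n + 1) := by rw [hb]; exact h2
    have hT := t.triangleLTGE_distinguished (a + n + 1) E
    obtain ⟨c', hT'⟩ := Groth.Agent.Helper29.TriR.exists_distinguished
      (F.mapHomotopyCategory (ComplexShape.up ℤ) ⋙ Qh) R β _ hT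
    refine prop_homology_obj₂ P' _ hT' (fun q => ?_) (fun q => ?_) i
    · -- `τ_{< b} E`
      have g1 : ((t.truncLT (a + n + 1)).obj E).IsGE a := inferInstance
      have g2 : ((t.truncLT (a + n + 1)).obj E).IsLE (a + n) := t.isLE_truncLT_obj E _ _ (by omega)
      refine ih _ a g1 g2 (fun q hq1 hq2 => ?_) q
      have := isIso_homologyMap_truncLTι E (a + n + 1) q (by omega)
      exact hP (asIso ((homologyFunctor A q).map ((t.truncLTι (a + n + 1)).app E))).symm
        (hE q hq1 (by push_cast; omega))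
    · -- `τ_{≥ b} E`
      have g1 : ((t.truncGE (a + n + 1)).obj E).IsGE (a + n + 1) := inferInstance
      have g2 : ((t.truncGE (a + n + 1)).obj E).IsLE (a + n + 1) := inferInstance
      have := isIso_homologyMap_truncGEπ E (a + n + 1) (a + n + 1) le_rfl
      have hPb : P ((homologyFunctor A (a + n + 1)).obj ((t.truncGE (a + n + 1)).obj E)) :=
        hP (asIso ((homologyFunctor A (a + n + 1)).map ((t.truncGEπ (a + n + 1)).app E)))
          (hE _ (by omega) (by push_cast; omega))
      exact prop_homology_of_single F R β P' _ (a + n + 1) (hF _ hPb) q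

end Bounded

section Transition

include F β in
/-- `H^j(RF(τ_{≥ a} E)) ⟶ H^j(RF(τ_{≥ a+1} E))` is an isomorphism for `j ≥ a + N` when
`R^pF(H^a(E)) = 0` for `p ≥ N` -/
theorem isIso_homology_map_transition (E : DerivedCategory A) (a b : ℤ) (hab : a + 1 = b) (N : ℕ)
    (hE : ∀ p : ℕ, N ≤ p → IsZero ((F.rightDerived p).obj ((homologyFunctor A a).obj E)))
    (j : ℤ) (hj : a + N ≤ j) :
    IsIso ((homologyFunctor B j).map (R.map ((t.natTransTruncGEOfLE a b (by omega)).app E))) := by
  have hT := t.triangleLTGE_distinguished b ((t.truncGE a).obj E)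
  obtain ⟨c', hT'⟩ := Groth.Agent.Helper29.TriR.exists_distinguished
    (F.mapHomotopyCategory (ComplexShape.up ℤ) ⋙ Qh) R β _ hT
  haveI h1 : (fib E a b).IsLE a := fib_isLE E a b hab
  haveI h2 : (fib E a b).IsGE a := fib_isGE E a b
  obtain ⟨e⟩ := exists_fib_iso E a b hab
  have e' : (homologyFunctor A a).obj (fib E a b) ≅ (homologyFunctor A a).obj E :=
    (homologyFunctor A a).mapIso e ≪≫ (singleFunctorCompHomologyFunctorIso A a).app _
  have hz : ∀ i, a + N ≤ i → IsZero ((homologyFunctor B i).obj (R.obj (fib E a b))) := fun i hi =>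
    isZero_homology_of_single F R β (fib E a b) a N
      (fun p hp => (hE p hp).of_iso ((F.rightDerived p).mapIso e')) i hi
  have i1 : IsIso ((homologyFunctor B j).map
      (R.map ((t.truncGEπ b).app ((t.truncGE a).obj E)))) :=
    isIso_shift_map_mor₂ (homologyFunctor B 0) _ hT' j (j + 1) rfl (hz j hj) (hz (j + 1) (by omega))
  have i2 : IsIso (cmp E a b) := isIso_cmp E a b hab
  have hc := natTrans_cmp E a b hab
  have i3 : IsIso ((homologyFunctor B j).map (R.map (cmp E a b))) := inferInstance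
  have hc' : (homologyFunctor B j).map (R.map ((t.natTransTruncGEOfLE a b (by omega)).app E)) ≫
      (homologyFunctor B j).map (R.map (cmp E a b)) =
      (homologyFunctor B j).map (R.map ((t.truncGEπ b).app ((t.truncGE a).obj E))) := by
    rw [← Functor.map_comp, ← Functor.map_comp, hc]
  have i4 : IsIso ((homologyFunctor B j).map
      (R.map ((t.natTransTruncGEOfLE a b (by omega)).app E)) ≫
      (homologyFunctor B j).map (R.map (cmp E a b))) := by
    rw [hc']
    exact i1
  exact @IsIso.of_isIso_comp_right _ _ _ _ _ _ _ i3 i4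

end Transition

section Rlim

variable (K : ℕ → DerivedCategory A) (tr : ∀ n, K (n + 1) ⟶ K n) [HasProduct K]
  [HasProduct fun n => R.obj (K n)] [PreservesLimit (Discrete.functor K) R]

include F β in
/-- `RF` preserves derived limits (with their structure maps) as soon as it preserves the product -/
theorem isRlimVia_map (L : DerivedCategory A) (a : ∀ n, L ⟶ K n)
    (hL : CohCx.IsRlimVia K tr L a) :
    CohCx.IsRlimVia (fun n => R.obj (K n)) (fun n => R.map (tr n)) (R.obj L)
      (fun n => R.map (a n)) := by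
  haveI : R.Additive := Groth.Agent.Helper24.RFProd.additive
    (F.mapHomotopyCategory (ComplexShape.up ℤ) ⋙ Qh) R β
  obtain ⟨c, hT⟩ := hL
  let φ : ∏ᶜ K ⟶ ∏ᶜ K := Pi.lift fun n => Pi.π K n - Pi.π K (n + 1) ≫ tr n
  obtain ⟨c', hT'⟩ : ∃ c' : R.obj (∏ᶜ K) ⟶ (R.obj L)⟦(1 : ℤ)⟧,
      Triangle.mk (R.map (Pi.lift a)) (R.map φ) c' ∈ distTriang _ :=
    Groth.Agent.Helper29.TriR.exists_distinguished
      (F.mapHomotopyCategory (ComplexShape.up ℤ) ⋙ Qh) R β _ hT
  let e : R.obj (∏ᶜ K) ≅ ∏ᶜ (fun n => R.obj (K n)) := PreservesProduct.iso R K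
  have he : ∀ n, e.hom ≫ Pi.π (fun n => R.obj (K n)) n = R.map (Pi.π K n) := fun n => by
    simp [e, PreservesProduct.iso_hom]
  let φ' : (∏ᶜ fun n => R.obj (K n)) ⟶ ∏ᶜ fun n => R.obj (K n) :=
    Pi.lift fun n => Pi.π (fun n => R.obj (K n)) n -
      Pi.π (fun n => R.obj (K n)) (n + 1) ≫ R.map (tr n)
  have hφ : R.map φ ≫ e.hom = e.hom ≫ φ' := by
    refine Pi.hom_ext _ _ (fun n => ?_)
    rw [Category.assoc, Category.assoc, he, ← Functor.map_comp, Pi.lift_π, Pi.lift_π,
      Functor.map_sub, Functor.map_comp, Preadditive.comp_sub, ← Category.assoc, he, he]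
  have ha : R.map (Pi.lift a) ≫ e.hom = Pi.lift (fun n => R.map (a n)) := by
    refine Pi.hom_ext _ _ (fun n => ?_)
    rw [Category.assoc, he, ← Functor.map_comp, Pi.lift_π, Pi.lift_π]
  refine ⟨e.inv ≫ c', isomorphic_distinguished _ hT' _
    (Triangle.isoMk _ _ (Iso.refl _) e.symm e.symm ?_ ?_ ?_)⟩
  · change Pi.lift (fun n => R.map (a n)) ≫ e.inv = 𝟙 _ ≫ R.map (Pi.lift a)
    rw [← ha, Category.assoc, e.hom_inv_id, Category.comp_id, Category.id_comp]
  · change φ' ≫ e.inv = e.inv ≫ R.map φ
    rw [← cancel_mono e.hom, Category.assoc, Category.assoc, e.inv_hom_id, Category.comp_id, hφ,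
      e.inv_hom_id_assoc]
  · change (e.inv ≫ c') ≫ (𝟙 (R.obj L))⟦(1 : ℤ)⟧' = e.inv ≫ c'
    rw [CategoryTheory.Functor.map_id, Category.comp_id]

end Rlim

end Groth.Agent.Helper24.RFQc
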