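import Groth.Agent.Lib.Helper24.HoCo5
import Groth.Agent.Lib.Helper24.RFQc1

/-!
# `H^i ∘ RF` is a homological functor; injective resolutions placed in degrees `≥ a`
-/

set_option autoImplicit false
universe w' w v' v u' u
open CategoryTheory CategoryTheory.Limits Pretriangulated

namespace Groth.Agent.Helper24.HoCo

open Groth.Agent.Helper11 DerivedCategory

section Homological

variable {A : Type u} [Category.{v} A] [Abelian A] [IsGrothendieckAbelian.{v} A]
  [HasDerivedCategory.{w} A]
  {B : Type u'} [Category.{v'} B] [Abelian B] [HasDerivedCategory.{w'} B]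
  (F : A ⥤ B) [F.Additive]
  (R : DerivedCategory A ⥤ DerivedCategory B)
  (β : F.mapHomotopyCategory (ComplexShape.up ℤ) ⋙ Qh ⟶ Qh ⋙ R)
  [R.IsRightDerivedFunctor β (KI.WK A)]

include F β in
theorem isHomological_comp_homology (i : ℤ) : (R ⋙ homologyFunctor B i).IsHomological := by
  haveI : R.Additive := Groth.Agent.Helper24.RFProd.additive
    (F.mapHomotopyCategory (ComplexShape.up ℤ) ⋙ Qh) R β
  haveI : (R ⋙ homologyFunctor B i).PreservesZeroMorphisms := inferInstance
  refine { exact := fun T hT => ?_ }
  obtain ⟨c', hT'⟩ := Groth.Agent.Helper29.TriR.exists_distinguished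
    (F.mapHomotopyCategory (ComplexShape.up ℤ) ⋙ Qh) R β T hT
  exact (homologyFunctor B i).map_distinguished_exact _ hT'

end Homological

section Res

open HomologicalComplex

variable {A : Type u} [Category.{v} A] [Abelian A] {M M' : A}
  (I : InjectiveResolution M) (I' : InjectiveResolution M') (a : ℤ)

/-- an injective resolution placed in degrees `≥ a` -/
noncomputable abbrev cx : CochainComplex A ℤ :=
  I.cocomplex.extend (ComplexShape.embeddingUpIntGE a)

/-- the quasi-isomorphism from `M` placed in degree `a` -/
noncomputable def ιa : (HomologicalComplex.single A (ComplexShape.up ℤ) a).obj M ⟶ cx I a :=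
  (HomologicalComplex.extendSingleIso (ComplexShape.embeddingUpIntGE a) M 0 a (by simp)).inv ≫
    HomologicalComplex.extendMap I.ι (ComplexShape.embeddingUpIntGE a)

instance : QuasiIso (ιa I a) := by dsimp only [ιa]; infer_instance

lemma ιa_f : (ιa I a).f a = (HomologicalComplex.singleObjXSelf (ComplexShape.up ℤ) a M).hom ≫
    I.ι.f 0 ≫ (I.cocomplex.extendXIso (ComplexShape.embeddingUpIntGE a)
      (show (ComplexShape.embeddingUpIntGE a).f 0 = a by simp)).inv := by
  dsimp only [ιa]
  rw [HomologicalComplex.comp_f, HomologicalComplex.extendMap_f _ _ (i := 0) (by simp),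
    HomologicalComplex.extendSingleIso_inv_f]
  simp

variable {I I'}

lemma ιa_naturality (f : M ⟶ M') (φ : I.cocomplex ⟶ I'.cocomplex)
    (hφ : I.ι ≫ φ = (CochainComplex.single₀ A).map f ≫ I'.ι) :
    ιa I a ≫ HomologicalComplex.extendMap φ (ComplexShape.embeddingUpIntGE a) =
      (HomologicalComplex.single A (ComplexShape.up ℤ) a).map f ≫ ιa I' a := by
  apply HomologicalComplex.from_single_hom_ext
  have h0 : I.ι.f 0 ≫ φ.f 0 = f ≫ I'.ι.f 0 := by
    have := congrArg (fun g => g.f 0) hφ
    simpa using this
  rw [HomologicalComplex.comp_f, HomologicalComplex.comp_f, ιa_f, ιa_f,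
    HomologicalComplex.extendMap_f _ _ (i := 0) (by simp), HomologicalComplex.single_map_f_self]
  simp only [Category.assoc, Iso.inv_hom_id_assoc]
  exact congrArg (fun z => _ ≫ z) ((Category.assoc _ _ _).symm.trans
    ((congrArg (fun z => z ≫ _) h0).trans (Category.assoc _ _ _)))

end Res

end Groth.Agent.Helper24.HoCo
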