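import Groth.Agent.Lib.Helper24.HoCo6

/-!
# `H^i (RF (M[-a])) ≅ R^{i-a}F (M)`, naturally in `M`
-/

set_option autoImplicit false
universe w' w v' v u' u
open CategoryTheory CategoryTheory.Limits Pretriangulated

namespace Groth.Agent.Helper24.HoCo

open Groth.Agent.Helper11 DerivedCategory Groth.Agent.Helper24.RFBound HomologicalComplex

section ExtendNat

variable {C : Type u} [Category.{v} C] [Abelian C] {D : Type u'} [Category.{v'} D] [Abelian D]
  (F : C ⥤ D) [F.Additive]
  {ι ι' : Type*} {c : ComplexShape ι} {c' : ComplexShape ι'} (e : c.Embedding c')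
  {K K' : HomologicalComplex C c} (φ : K ⟶ K')

lemma extXIso_naturality (i : Option ι) :
    F.map (extend.mapX φ i) ≫ (Groth.Agent.Helper24.GSS.extXIso F K' i).hom =
      (Groth.Agent.Helper24.GSS.extXIso F K i).hom ≫
        extend.mapX ((F.mapHomologicalComplex c).map φ) i :=
  match i with
  | none => (isZero_zero D).eq_of_tgt _ _
  | some i => by
      dsimp [Groth.Agent.Helper24.GSS.extXIso, extend.mapX]
      erw [Category.comp_id, Category.id_comp]
      rfl

lemma mapExtendIso_naturality :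
    (F.mapHomologicalComplex c').map (extendMap φ e) ≫
      (Groth.Agent.Helper24.GSS.mapExtendIso F e K').hom =
    (Groth.Agent.Helper24.GSS.mapExtendIso F e K).hom ≫
      extendMap ((F.mapHomologicalComplex c).map φ) e := by
  ext i'
  exact extXIso_naturality F φ (e.r i')

end ExtendNat

section Paste

variable {𝒞 : Type*} [Category 𝒞]

lemma paste2 {X₀ X₁ X₂ Y₀ Y₁ Y₂ : 𝒞} {u : X₀ ⟶ Y₀} {a' : Y₀ ⟶ Y₁} {b' : Y₁ ⟶ Y₂}
    {a : X₀ ⟶ X₁} {b : X₁ ⟶ X₂} {v : X₁ ⟶ Y₁} {w : X₂ ⟶ Y₂}
    (e₁ : u ≫ a' = a ≫ v) (e₂ : v ≫ b' = b ≫ w) : u ≫ a' ≫ b' = (a ≫ b) ≫ w := by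
  rw [← Category.assoc, e₁, Category.assoc, e₂, Category.assoc]

end Paste

section Main

variable {A : Type u} [Category.{v} A] [Abelian A] [IsGrothendieckAbelian.{v} A]
  [HasDerivedCategory.{w} A]
  {B : Type u'} [Category.{v'} B] [Abelian B] [HasDerivedCategory.{w'} B]
  (F : A ⥤ B) [F.Additive]
  (R : DerivedCategory A ⥤ DerivedCategory B)
  (β : F.mapHomotopyCategory (ComplexShape.up ℤ) ⋙ Qh ⟶ Qh ⋙ R)
  [R.IsRightDerivedFunctor β (KI.WK A)]
  (a : ℤ)

lemma isIso_Q_ιa (M : A) : IsIso (Q.map (ιa (injectiveResolution M) a)) := by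
  rw [isIso_Q_map_iff_quasiIso]
  infer_instance

/-- `Q (M[-a]) ≅ Q (Lb M a)` -/
noncomputable def qι (M : A) :
    Q.obj ((HomologicalComplex.single A (ComplexShape.up ℤ) a).obj M) ≅ Q.obj (Lb M a) :=
  @asIso _ _ _ _ (Q.map (ιa (injectiveResolution M) a)) (isIso_Q_ιa a M)

/-- `S_a M ≅ Q (Lb M a)` -/
noncomputable def e1 (M : A) : (singleFunctor A a).obj M ≅ Q.obj (Lb M a) :=
  (singleFunctorIsoCompQ A a).app M ≪≫ qι a M

/-- the chosen lift of a morphism to the resolutions -/
noncomputable def LbMap {M M' : A} (f : M ⟶ M') : Lb M a ⟶ Lb M' a :=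
  extendMap (InjectiveResolution.desc f (injectiveResolution M') (injectiveResolution M))
    (ComplexShape.embeddingUpIntGE a)

lemma sqA {M M' : A} (f : M ⟶ M') :
    (singleFunctor A a).map f ≫ (e1 a M').hom = (e1 a M).hom ≫ Q.map (LbMap a f) := by
  have n := (singleFunctorIsoCompQ A a).hom.naturality f
  have h := ιa_naturality a f _ (InjectiveResolution.desc_commutes f (injectiveResolution M')
    (injectiveResolution M))
  have h' : Q.map (ιa (injectiveResolution M) a) ≫ Q.map (LbMap a f) =
      (CochainComplex.singleFunctor A a ⋙ Q).map f ≫ Q.map (ιa (injectiveResolution M') a) := by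
    rw [← Q.map_comp]
    exact (congrArg Q.map h).trans (Q.map_comp _ _)
  show (singleFunctor A a).map f ≫ (singleFunctorIsoCompQ A a).hom.app M' ≫
      Q.map (ιa (injectiveResolution M') a) =
    ((singleFunctorIsoCompQ A a).hom.app M ≫ Q.map (ιa (injectiveResolution M) a)) ≫
      Q.map (LbMap a f)
  rw [← Category.assoc, n, Category.assoc, Category.assoc]
  exact congrArg (fun z => _ ≫ z) h'.symm

include F β in
lemma isIso_β_Lb (M : A) : IsIso (β.app ((KI.quo A).obj (Lb M a))) := by
  haveI : (Lb M a).IsKInjective := CochainComplex.isKInjective_of_injective (Lb M a) a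
  exact KI.isIso_unit.{w} _ R β (Lb M a)

/-- `RF (Q (Lb M a)) ≅ Q (F (Lb M a))` -/
noncomputable def e2 (M : A) : R.obj (Q.obj (Lb M a)) ≅
    Q.obj ((F.mapHomologicalComplex (ComplexShape.up ℤ)).obj (Lb M a)) :=
  (@asIso _ _ _ _ (β.app ((KI.quo A).obj (Lb M a))) (isIso_β_Lb F R β a M)).symm

lemma sqB {M M' : A} (Φ : Lb M a ⟶ Lb M' a) :
    R.map (Q.map Φ) ≫ (e2 F R β a M').hom =
      (e2 F R β a M).hom ≫ Q.map ((F.mapHomologicalComplex (ComplexShape.up ℤ)).map Φ) := by
  have n : Q.map ((F.mapHomologicalComplex (ComplexShape.up ℤ)).map Φ) ≫ (e2 F R β a M').inv =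
      (e2 F R β a M).inv ≫ R.map (Q.map Φ) := β.naturality ((KI.quo A).map Φ)
  rw [← cancel_epi (e2 F R β a M).inv, ← Category.assoc, ← n, Category.assoc, Iso.inv_hom_id,
    Iso.inv_hom_id_assoc, Category.comp_id]

variable (p : ℕ) (i : ℤ) (hi : a + p = i)

lemma sqDE {M M' : A} (f : M ⟶ M') :
    HomologicalComplex.homologyMap ((F.mapHomologicalComplex (ComplexShape.up ℤ)).map (LbMap a f)) i ≫
      (homologyLbIso F M' a p i hi).hom =
    (homologyLbIso F M a p i hi).hom ≫ (F.rightDerived p).map f := by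
  have s1 := mapExtendIso_naturality F (ComplexShape.embeddingUpIntGE a)
    (InjectiveResolution.desc f (injectiveResolution M') (injectiveResolution M))
  have s1' := congrArg (fun g => HomologicalComplex.homologyMap g i) s1
  simp only [HomologicalComplex.homologyMap_comp] at s1'
  have s2 := HomologicalComplex.extendHomologyIso_hom_naturality
    ((F.mapHomologicalComplex (ComplexShape.up ℕ)).map
      (InjectiveResolution.desc f (injectiveResolution M') (injectiveResolution M)))
    (ComplexShape.embeddingUpIntGE a) (j := p) (j' := i) hi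
  have s3 := InjectiveResolution.isoRightDerivedObj_inv_naturality f (injectiveResolution M)
    (injectiveResolution M') (InjectiveResolution.desc f (injectiveResolution M')
      (injectiveResolution M)) (InjectiveResolution.desc_commutes_zero f _ _) F p
  exact paste2 s1' (paste2 s2 s3.symm)

/-- `H^i (RF (S_a M)) ≅ R^pF (M)` for `a + p = i` -/
noncomputable def θ (M : A) :
    (homologyFunctor B i).obj (R.obj ((singleFunctor A a).obj M)) ≅ (F.rightDerived p).obj M :=
  (homologyFunctor B i).mapIso (R.mapIso (e1 a M) ≪≫ e2 F R β a M) ≪≫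
    (homologyFunctorFactors B i).app _ ≪≫ homologyLbIso F M a p i hi

lemma θ_naturality {M M' : A} (f : M ⟶ M') :
    (homologyFunctor B i).map (R.map ((singleFunctor A a).map f)) ≫ (θ F R β a p i hi M').hom =
      (θ F R β a p i hi M).hom ≫ (F.rightDerived p).map f := by
  have hA : R.map ((singleFunctor A a).map f) ≫ R.map (e1 a M').hom =
      R.map (e1 a M).hom ≫ R.map (Q.map (LbMap a f)) := by
    rw [← R.map_comp, ← R.map_comp, sqA]
  have h12 := paste2 hA (sqB F R β a (LbMap a f))
  have sq1 : (homologyFunctor B i).map (R.map ((singleFunctor A a).map f)) ≫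
      (homologyFunctor B i).map (R.map (e1 a M').hom ≫ (e2 F R β a M').hom) =
      (homologyFunctor B i).map (R.map (e1 a M).hom ≫ (e2 F R β a M).hom) ≫
        (homologyFunctor B i).map (Q.map ((F.mapHomologicalComplex (ComplexShape.up ℤ)).map
          (LbMap a f))) := by
    rw [← Functor.map_comp, ← Functor.map_comp, h12]
  have sq2 := (homologyFunctorFactors B i).hom.naturality
    ((F.mapHomologicalComplex (ComplexShape.up ℤ)).map (LbMap a f))
  exact paste2 sq1 (paste2 sq2 (sqDE F a p i hi f))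

/-- `S_a ⋙ RF ⋙ H^i ≅ R^pF` for `a + p = i` -/
noncomputable def θIso : singleFunctor A a ⋙ R ⋙ homologyFunctor B i ≅ F.rightDerived p :=
  NatIso.ofComponents (fun M => θ F R β a p i hi M) (fun f => θ_naturality F R β a p i hi f)

end Main

end Groth.Agent.Helper24.HoCo
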