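import Groth.Agent.Lib.Helper24.HoCo7

/-!
# `H^i ∘ RF` commutes with homological colimit cocones of uniformly bounded below objects when
the `R^pF` commute with colimits of the given shape
-/

set_option autoImplicit false
universe w'' w₀ w' w v' v u' u
open CategoryTheory CategoryTheory.Limits Pretriangulated

namespace Groth.Agent.Helper24.HoCo

open Groth.Agent.Helper11 DerivedCategory Groth.Agent.Helper24.RFBound

variable {A : Type u} [Category.{v} A] [Abelian A] [IsGrothendieckAbelian.{v} A]
  [HasDerivedCategory.{w} A]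
  {B : Type u'} [Category.{v'} B] [Abelian B] [HasDerivedCategory.{w'} B]
  (F : A ⥤ B) [F.Additive]
  (R : DerivedCategory A ⥤ DerivedCategory B)
  (β : F.mapHomotopyCategory (ComplexShape.up ℤ) ⋙ Qh ⟶ Qh ⋙ R)
  [R.IsRightDerivedFunctor β (KI.WK A)]
  {J : Type w''} [Category.{w₀} J]

include F β in
/-- `M ↦ H^i (RF (M[-a]))` commutes with colimits of shape `J` when the `R^pF` do -/
theorem preservesColimitsOfShape_single_comp
    (hF : ∀ p : ℕ, PreservesColimitsOfShape J (F.rightDerived p)) (a i : ℤ) :
    PreservesColimitsOfShape J (singleFunctor A a ⋙ R ⋙ homologyFunctor B i) := by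
  by_cases hi : i < a
  · refine ⟨fun {K} => ⟨fun {c} _ => ⟨isColimitOfIsZero _ (fun j => ?_) ?_⟩⟩⟩
    · exact isZero_homology_of_isGE F R β ((singleFunctor A a).obj (K.obj j)) a i hi
    · exact isZero_homology_of_isGE F R β ((singleFunctor A a).obj c.pt) a i hi
  · obtain ⟨p, hp⟩ : ∃ p : ℕ, a + p = i := ⟨(i - a).toNat, by omega⟩
    haveI := hF p
    exact preservesColimitsOfShape_of_natIso (θIso F R β a p i hp).symm

variable [HasColimitsOfShape J B] [HasExactColimitsOfShape J B]

include F β in
/-- the main abstract theorem -/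
theorem isColimit_homology_map (hF : ∀ p : ℕ, PreservesColimitsOfShape J (F.rightDerived p))
    (a : ℤ) (E : J ⥤ DerivedCategory A) (c : Cocone E) (hE : ∀ j, (E.obj j).IsGE a)
    (hc : HoColim c) (i : ℤ) :
    Nonempty (IsColimit ((R ⋙ homologyFunctor B i).mapCocone c)) := by
  haveI := isHomological_comp_homology F R β i
  exact isColimit_map_of_isGE (R ⋙ homologyFunctor B i)
    (fun a' => preservesColimitsOfShape_single_comp F R β hF a' i) (i + 1)
    (fun X hX => by
      haveI := hX
      exact isZero_homology_of_isGE F R β X (i + 1) i (by omega)) a E c hE hc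

end Groth.Agent.Helper24.HoCo
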