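import Mathlib

/-!
# Syzygies over a localization (helper24)
-/

set_option autoImplicit false
universe u

namespace Groth.Agent.Helper24.StalkInj

variable {A : Type*} [CommRing A] (S : Submonoid A) {B : Type*} [CommRing B] [Algebra A B]
  [IsLocalization S B]

/-- a syzygy of `f` over a localization of `A` becomes, after multiplication by a denominator,
a syzygy over `A` -/
theorem exists_syzygy_lift {n : ℕ} (f : Fin n → A) (c : Fin n → B)
    (hc : ∑ i, c i * algebraMap A B (f i) = 0) :
    ∃ (t : S) (a : Fin n → A), (∑ i, a i * f i = 0) ∧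
      ∀ i, algebraMap A B (t : A) * c i = algebraMap A B (a i) := by
  obtain ⟨t₁, ht₁⟩ := IsLocalization.exist_integer_multiples S (Finset.univ : Finset (Fin n)) c
  choose a₁ ha₁ using fun i => ht₁ i (Finset.mem_univ i)
  have h1 : algebraMap A B (∑ i, a₁ i * f i) = 0 := by
    rw [map_sum]
    have : ∀ i, algebraMap A B (a₁ i * f i) = algebraMap A B (t₁ : A) * (c i * algebraMap A B (f i)) := by
      intro i
      rw [map_mul, ha₁ i, Algebra.smul_def, mul_assoc]
    rw [Finset.sum_congr rfl (fun i _ => this i), ← Finset.mul_sum, hc, mul_zero]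
  obtain ⟨t₂, ht₂⟩ := (IsLocalization.map_eq_zero_iff S B _).1 h1
  refine ⟨t₂ * t₁, fun i => (t₂ : A) * a₁ i, ?_, ?_⟩
  · rw [← ht₂, Finset.mul_sum]
    exact Finset.sum_congr rfl (fun i _ => mul_assoc _ _ _)
  · intro i
    rw [Submonoid.coe_mul, map_mul, map_mul, ha₁ i, Algebra.smul_def, mul_assoc]

include S in
/-- if all the syzygies of `f` over `A` kill the family `m` of elements of a module over a
localization `B` of `A`, so do all the syzygies over `B` -/
theorem sum_smul_eq_zero_of_syzygy {n : ℕ} (f : Fin n → A) {N : Type*} [AddCommGroup N]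
    [Module B N] (m : Fin n → N)
    (H : ∀ a : Fin n → A, (∑ i, a i * f i = 0) → ∑ i, algebraMap A B (a i) • m i = 0)
    (c : Fin n → B) (hc : ∑ i, c i * algebraMap A B (f i) = 0) :
    ∑ i, c i • m i = 0 := by
  obtain ⟨t, a, ha, hta⟩ := exists_syzygy_lift S f c hc
  have h1 : algebraMap A B (t : A) • ∑ i, c i • m i = 0 := by
    rw [Finset.smul_sum, ← H a ha]
    refine Finset.sum_congr rfl (fun i _ => ?_)
    rw [smul_smul, hta i]
  have hu : IsUnit (algebraMap A B (t : A)) := IsLocalization.map_units B t
  exact (hu.smul_eq_zero).1 h1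

end Groth.Agent.Helper24.StalkInj
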