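import Mathlib
import Groth.Agent.Lib.Helper24.StalkInj1
import Groth.Prelude.Def_MeroDiv

/-!
# Spreading out a linear map on a finitely generated ideal of a stalk (helper24)
-/

set_option autoImplicit false
set_option maxHeartbeats 400000
universe u
open CategoryTheory AlgebraicGeometry TopologicalSpace Opposite

namespace Groth.Agent.Helper24.StalkInj

variable {X : Scheme.{u}} (I : X.Modules)

/-- the germ of a linear combination of sections -/
lemma germ_sum_smul {U : X.Opens} (x : X) (hx : x ∈ U) {n : ℕ} (a : Fin n → Γ(X, U))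
    (m : Fin n → Γ(I, U)) :
    I.presheaf.germ U x hx (∑ i, a i • m i) =
      ∑ i, X.presheaf.germ U x hx (a i) • I.presheaf.germ U x hx (m i) := by
  rw [map_sum]
  exact Finset.sum_congr rfl (fun i _ => Mero.germ_smul I U x hx (a i) (m i))

lemma mem_finset_inf {ι : Type*} (s : Finset ι) (W : ι → X.Opens) (x : X) :
    x ∈ s.inf W ↔ ∀ l ∈ s, x ∈ W l := by
  classical
  induction s using Finset.induction_on with
  | empty => simp
  | insert a s _ ih =>
    rw [Finset.inf_insert]
    constructor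
    · rintro ⟨h1, h2⟩ l hl
      rcases Finset.mem_insert.1 hl with rfl | hl
      · exact h1
      · exact ih.1 h2 l hl
    · intro h
      exact ⟨h a (Finset.mem_insert_self _ _),
        ih.2 (fun l hl => h l (Finset.mem_insert_of_mem hl))⟩

/-- **spreading out syzygies**: on an affine open `V₀` with Noetherian ring of functions, if all
the syzygies of `f` over `Γ(X, V₀)` kill the germs at `x` of the sections `m`, then on a smaller
neighbourhood of `x` all the syzygies of the germs of `f` over the local rings kill the germs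
of `m` -/
theorem exists_nbhd_syzygy {V₀ : X.Opens} (hV₀ : IsAffineOpen V₀) [IsNoetherianRing Γ(X, V₀)]
    (x : X) (hx : x ∈ V₀) {n : ℕ} (f : Fin n → Γ(X, V₀)) (m : Fin n → Γ(I, V₀))
    (Hx : ∀ a : Fin n → Γ(X, V₀), (∑ i, a i * f i = 0) →
      I.presheaf.germ V₀ x hx (∑ i, a i • m i) = 0) :
    ∃ V : X.Opens, V ≤ V₀ ∧ x ∈ V ∧ ∀ (y : X) (_ : y ∈ V) (hy0 : y ∈ V₀)
      (c : Fin n → X.presheaf.stalk y),
      (∑ i, c i * X.presheaf.germ V₀ y hy0 (f i) = 0) →
      ∑ i, c i • I.presheaf.germ V₀ y hy0 (m i) = 0 := by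
  classical
  let L : (Fin n → Γ(X, V₀)) →ₗ[Γ(X, V₀)] Γ(X, V₀) := Fintype.linearCombination Γ(X, V₀) f
  have hL : ∀ a, L a = ∑ i, a i * f i := fun a => by
    simp only [L, Fintype.linearCombination_apply, smul_eq_mul]
  have hK : (LinearMap.ker L).FG := IsNoetherian.noetherian _
  obtain ⟨p, k, hk⟩ := Submodule.fg_iff_exists_fin_generating_family.1 hK
  let s : Fin p → Γ(I, V₀) := fun l => ∑ i, k l i • m i
  have hkl : ∀ l, ∑ i, k l i * f i = 0 := by
    intro l
    have h1 : k l ∈ LinearMap.ker L := hk ▸ Submodule.subset_span ⟨l, rfl⟩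
    rw [← hL]
    exact h1
  have hs : ∀ l, I.presheaf.germ V₀ x hx (s l) = 0 := fun l => Hx (k l) (hkl l)
  have hW : ∀ l, ∃ W : X.Opens, x ∈ W ∧ ∀ (y : X) (_ : y ∈ W) (hy0 : y ∈ V₀),
      I.presheaf.germ V₀ y hy0 (s l) = 0 := by
    intro l
    obtain ⟨W, hxW, iW, iW', e⟩ := TopCat.Presheaf.germ_eq I.presheaf x hx hx (s l) 0
      (by rw [hs l, map_zero])
    refine ⟨W, hxW, fun y hy hy0 => ?_⟩
    have h1 := TopCat.Presheaf.germ_res_apply I.presheaf iW y hy (s l)
    rw [← h1, e, map_zero, map_zero]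
  choose W hxW hWz using hW
  refine ⟨(Finset.univ.inf W) ⊓ V₀, inf_le_right,
    ⟨(mem_finset_inf _ W x).2 (fun l _ => hxW l), hx⟩, ?_⟩
  intro y hy hy0 c hc
  have hyW : ∀ l, y ∈ W l := fun l => (mem_finset_inf _ W y).1 hy.1 l (Finset.mem_univ l)
  letI : Algebra Γ(X, V₀) (X.presheaf.stalk y) := X.presheaf.algebra_section_stalk ⟨y, hy0⟩
  haveI := hV₀.isLocalization_stalk ⟨y, hy0⟩
  refine sum_smul_eq_zero_of_syzygy (A := Γ(X, V₀)) (B := X.presheaf.stalk y)
    (hV₀.primeIdealOf ⟨y, hy0⟩).asIdeal.primeCompl f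
    (fun i => I.presheaf.germ V₀ y hy0 (m i)) ?_ c ?_
  swap
  · exact hc
  intro a ha
  have haK : a ∈ Submodule.span Γ(X, V₀) (Set.range k) := by
    rw [hk]
    show L a = 0
    rw [hL, ha]
  obtain ⟨r, rfl⟩ := (Submodule.mem_span_range_iff_exists_fun Γ(X, V₀)).1 haK
  have h2 : ∑ i, (∑ l, r l • k l) i • m i = ∑ l, r l • s l := by
    simp only [s, Finset.sum_apply, Pi.smul_apply, smul_eq_mul, Finset.sum_smul, Finset.smul_sum,
      mul_smul]
    exact Finset.sum_comm
  have h3 : I.presheaf.germ V₀ y hy0 (∑ l, r l • s l) = 0 := by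
    rw [germ_sum_smul]
    refine Finset.sum_eq_zero (fun l _ => ?_)
    rw [hWz l y (hyW l) hy0, smul_zero]
  rw [← h2, germ_sum_smul] at h3
  exact h3

end Groth.Agent.Helper24.StalkInj
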