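import Mathlib
import Groth.Agent.Lib.Helper24.StalkInj2
import Groth.Agent.Lib.Helper13.FreeMod

/-!
# Dividing sections of an injective module (helper24)

On a scheme `Y`, let `Q` be an injective module, `f'` a finite family of global functions and
`m'` a family of global sections of `Q` such that every syzygy of `f'` over every open kills
`m'`.  Then there is a global section `ε` of `Q` with `f' i • ε = m' i`.
-/

set_option autoImplicit false
set_option maxHeartbeats 400000
set_option linter.style.haveILetI false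
universe u
open CategoryTheory CategoryTheory.Limits AlgebraicGeometry TopologicalSpace Opposite

namespace Groth.Agent.Helper24.StalkInj

open Groth.Agent.Helper13.LocFree

variable {Y : Scheme.{u}} (Q : Y.Modules) {n : ℕ}

/-- restriction of a global section -/
noncomputable abbrev resTop (M : Y.Modules) (W : Y.Opens) (t : Γ(M, ⊤)) : Γ(M, W) :=
  M.presheaf.map (homOfLE (le_top : W ≤ ⊤)).op t

lemma resTop_top (M : Y.Modules) (t : Γ(M, ⊤)) : resTop M ⊤ t = t := by
  have : (homOfLE (le_top : (⊤ : Y.Opens) ≤ ⊤)) = 𝟙 _ := Subsingleton.elim _ _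
  show M.presheaf.map (homOfLE (le_top : (⊤ : Y.Opens) ≤ ⊤)).op t = t
  rw [this, op_id, M.presheaf.map_id]
  rfl

/-- the morphism `O^n ⟶ O` given by a family of global functions -/
noncomputable def phi (f' : Fin n → Γ(Y, ⊤)) : FlatMod.freeMod Y n ⟶ Coh.structureModule Y :=
  descSec (Coh.structureModule Y) (fun i => toO ⊤ (f' i))

theorem kernel_phi_comp_eq_zero (f' : Fin n → Γ(Y, ⊤)) (m' : Fin n → Γ(Q, ⊤))
    (P : ∀ (W : Y.Opens) (c : Fin n → Γ(Y, W)),
      (∑ i, c i * Y.presheaf.map (homOfLE (le_top : W ≤ ⊤)).op (f' i) = 0) →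
      ∑ i, c i • resTop Q W (m' i) = 0) :
    kernel.ι (phi f') ≫ descSec Q m' = 0 := by
  apply Scheme.Modules.hom_ext
  intro W
  refine ConcreteCategory.hom_ext _ _ (fun k => ?_)
  show (descSec Q m').app W ((kernel.ι (phi f')).app W k) = 0
  have h1 : (phi f').app W ((kernel.ι (phi f')).app W k) = 0 := by
    have h := kernel.condition (phi f')
    have h' := congrArg (fun ψ : kernel (phi f') ⟶ Coh.structureModule Y => ψ.app W k) h
    exact h'
  obtain ⟨c, hc⟩ : ∃ c : Fin n → Γ(Y, W), secOfCoord n W c = (kernel.ι (phi f')).app W k :=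
    ⟨coordOfSec n W _, secOfCoord_coordOfSec n W _⟩
  rw [← hc] at h1 ⊢
  rw [descSec_app_secOfCoord]
  unfold phi at h1
  rw [descSec_app_secOfCoord] at h1
  exact P W c h1

/-- **dividing sections of an injective module** -/
theorem exists_section_of_injective [Injective Q] (f' : Fin n → Γ(Y, ⊤)) (m' : Fin n → Γ(Q, ⊤))
    (P : ∀ (W : Y.Opens) (c : Fin n → Γ(Y, W)),
      (∑ i, c i * Y.presheaf.map (homOfLE (le_top : W ≤ ⊤)).op (f' i) = 0) →
      ∑ i, c i • resTop Q W (m' i) = 0) :
    ∃ ε : Γ(Q, ⊤), ∀ i, f' i • ε = m' i := by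
  have h0 := kernel_phi_comp_eq_zero Q f' m' P
  let ψ' : Abelian.coimage (phi f') ⟶ Q := cokernel.desc (kernel.ι (phi f')) (descSec Q m') h0
  let e : Coh.structureModule Y ⟶ Q := Injective.factorThru ψ' (Abelian.factorThruCoimage (phi f'))
  have he : phi f' ≫ e = descSec Q m' := by
    have h1 : Abelian.factorThruCoimage (phi f') ≫ e = ψ' := Injective.comp_factorThru _ _
    calc phi f' ≫ e = (Abelian.coimage.π (phi f') ≫ Abelian.factorThruCoimage (phi f')) ≫ e := by
          rw [Abelian.coimage.fac]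
      _ = Abelian.coimage.π (phi f') ≫ ψ' := by rw [Category.assoc, h1]
      _ = descSec Q m' := cokernel.π_desc _ _ _
  refine ⟨e.app ⊤ (toO ⊤ 1), fun i => ?_⟩
  have h2 : ι n i ≫ phi f' ≫ e = ι n i ≫ descSec Q m' := by rw [he]
  have h3 := congrArg (fun ψ : Coh.structureModule Y ⟶ Q => ψ.app ⊤ (toO ⊤ 1)) h2
  simp only [] at h3
  rw [ι_descSec, ← Category.assoc] at h3
  unfold phi at h3
  rw [ι_descSec] at h3
  have h4 : (homOfSec Q (m' i)).app ⊤ (toO ⊤ 1) = m' i := by
    rw [homOfSec_app_one]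
    exact resTop_top Q (m' i)
  have h5 : (homOfSec (Coh.structureModule Y) (toO ⊤ (f' i)) ≫ e).app ⊤ (toO ⊤ 1) =
      f' i • e.app ⊤ (toO ⊤ 1) := by
    show e.app ⊤ ((homOfSec (Coh.structureModule Y) (toO ⊤ (f' i))).app ⊤ (toO ⊤ 1)) = _
    rw [homOfSec_app_one]
    have h6 : resTop (Coh.structureModule Y) ⊤ (toO ⊤ (f' i)) = f' i • toO ⊤ 1 := by
      rw [resTop_top]
      exact (mul_one (f' i)).symm
    show e.app ⊤ (resTop (Coh.structureModule Y) ⊤ (toO ⊤ (f' i))) = _
    rw [h6, Scheme.Modules.Hom.app_smul]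
  rw [h5, h4] at h3
  exact h3

end Groth.Agent.Helper24.StalkInj
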