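import Mathlib
import Groth.Agent.Lib.Helper24.AffExt6
import Groth.Agent.Lib.Helper24.StalkInj3
import Groth.Agent.Lib.Helper13.Retract
import Groth.Agent.Lib.Helper13.QCohKer

/-!
# Cyclic quasi-coherent modules on an affine scheme (helper24)

On an affine scheme `Y` with `ρ : R ≃+* Γ(Y, ⊤)`, for a finitely generated ideal `𝔞 = (a₁, …, aₙ)`
of `R` the cokernel `T` of `O_Y^n ⟶ O_Y` given by the `ρ aᵢ` has `Γ(Y, T) ≅ R/𝔞`.
-/

set_option autoImplicit false
set_option maxHeartbeats 400000
set_option linter.style.haveILetI false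
universe u
open CategoryTheory CategoryTheory.Limits AlgebraicGeometry Opposite TopologicalSpace

namespace Groth.Agent.Helper24.InjExt

open Groth.Agent.Helper24.AffExt Groth.Agent.Helper24.StalkInj Groth.Agent.Helper13.LocFree

variable {Y : Scheme.{u}} [IsAffine Y] {R : Type u} [CommRing R] (ρ : R ≃+* Γ(Y, ⊤))

theorem exists_cyclic {n : ℕ} (a : Fin n → R) :
    ∃ (T : Y.Modules) (π : Coh.structureModule Y ⟶ T), Epi π ∧ T.IsQuasicoherent ∧
      Nonempty ((ΓR ρ).obj T ≅ ModuleCat.of R (R ⧸ Ideal.span (Set.range a))) := by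
  haveI : (Coh.structureModule Y).IsQuasicoherent :=
    Groth.Agent.Helper13.QCoh.isQuasicoherent_unit Y
  let f' : Fin n → Γ(Y, ⊤) := fun i => ρ (a i)
  let φ : FlatMod.freeMod Y n ⟶ Coh.structureModule Y := phi f'
  let T : Y.Modules := cokernel φ
  let π : Coh.structureModule Y ⟶ T := cokernel.π φ
  haveI hT : T.IsQuasicoherent := Groth.Agent.Helper13.QCohLocal.isQuasicoherent_cokernel φ
  refine ⟨T, π, inferInstance, hT, ?_⟩
  let q : R →ₗ[R] ↑((ΓR ρ).obj T) := ((ΓR ρ).map π).hom ∘ₗ (unitEquiv ρ).toLinearMap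
  have hq : Function.Surjective q := by
    haveI := ΓR_epi ρ π
    have h1 : Function.Surjective ((ΓR ρ).map π).hom :=
      (ModuleCat.epi_iff_surjective _).1 inferInstance
    exact h1.comp (unitEquiv ρ).surjective
  have hS : (ShortComplex.mk φ π (cokernel.condition φ)).Exact :=
    ShortComplex.exact_cokernel φ
  have hS' := ΓR_exact ρ _ hS
  rw [ShortComplex.moduleCat_exact_iff] at hS'
  have hφ : ∀ c : Fin n → Γ(Y, ⊤), φ.app ⊤ (secOfCoord n ⊤ c) = toO ⊤ (∑ i, c i * f' i) := by
    intro c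
    have h1 := descSec_app_secOfCoord (Coh.structureModule Y) (fun i => toO ⊤ (f' i)) ⊤ c
    refine h1.trans ?_
    refine Finset.sum_congr rfl (fun i _ => ?_)
    have h2 := resTop_top (Coh.structureModule Y) (toO ⊤ (f' i))
    unfold resTop at h2
    rw [h2]
    rfl
  have hker : LinearMap.ker q = Ideal.span (Set.range a) := by
    apply le_antisymm
    · intro r hr
      have h1 : ((ΓR ρ).map π).hom ((unitEquiv ρ) r) = 0 := hr
      obtain ⟨t, ht⟩ := hS' _ h1
      have ht' : φ.app ⊤ t = toO ⊤ (ρ r) := ht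
      rw [← secOfCoord_coordOfSec n ⊤ t, hφ] at ht'
      have h2 : ρ r = ∑ i, coordOfSec n ⊤ t i * ρ (a i) := ht'.symm
      have h3 : r = ∑ i, ρ.symm (coordOfSec n ⊤ t i) * a i := by
        apply ρ.injective
        rw [h2, map_sum]
        refine Finset.sum_congr rfl (fun i _ => ?_)
        rw [map_mul, ρ.apply_symm_apply]
      rw [h3]
      refine Ideal.sum_mem _ (fun i _ => ?_)
      exact Ideal.mul_mem_left _ _ (Ideal.subset_span ⟨i, rfl⟩)
    · rw [Ideal.span_le]
      rintro _ ⟨i, rfl⟩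
      show q (a i) = 0
      have h1 : toO ⊤ (ρ (a i)) = φ.app ⊤ (secOfCoord n ⊤ (fun j => if j = i then 1 else 0)) := by
        rw [hφ]
        congr 1
        rw [Finset.sum_eq_single i]
        · rw [if_pos rfl, one_mul]
        · intro j _ hj
          rw [if_neg hj, zero_mul]
        · intro h
          exact absurd (Finset.mem_univ i) h
      show π.app ⊤ (toO ⊤ (ρ (a i))) = 0
      rw [h1]
      have h2 := cokernel.condition φ
      have h3 := congrArg (fun ψ : FlatMod.freeMod Y n ⟶ T =>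
        ψ.app ⊤ (secOfCoord n ⊤ (fun j => if j = i then 1 else 0))) h2
      exact h3
  exact ⟨((Submodule.quotEquivOfEq _ _ hker.symm).trans
    (LinearMap.quotKerEquivOfSurjective q hq)).toModuleIso.symm⟩

end Groth.Agent.Helper24.InjExt
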