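import Mathlib
import Groth.Prelude.Def_DerSch
import Groth.Prelude.Def_MeroDiv
import Groth.Agent.Lib.Helper5.StalkCx1
import Groth.Agent.Lib.Helper13.QCohLoc

/-!
# A criterion for injectivity of an `O_X`-module concentrated at one point (helper24)

If the sections of `𝓔` vanish over opens not containing `x`, all restriction maps between opens
containing `x` are bijective, and the sections over an affine open neighbourhood `U₀` of `x` form an
injective `Γ(X, U₀)`-module, then `𝓔` is an injective `O_X`-module.
-/

set_option autoImplicit false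
set_option maxHeartbeats 400000
set_option linter.style.haveILetI false
universe u
open CategoryTheory CategoryTheory.Limits AlgebraicGeometry Opposite TopologicalSpace

namespace Groth.Agent.Helper24.InjQc

section Alg

/-- a module over a localization `R` of `A` which is injective over `A` is injective over `R` -/
theorem injective_of_isLocalization {A : Type u} [CommRing A] (S : Submonoid A) (R : Type u)
    [CommRing R] [Algebra A R] [IsLocalization S R] (M : Type u) [AddCommGroup M] [Module A M]
    [Module R M] [IsScalarTower A R M] (h : Module.Injective A M) : Module.Injective R M := by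
  apply Module.Baer.injective
  intro J g
  haveI := h
  obtain ⟨h', hh'⟩ := Module.Injective.extension_property A M (↥J) R
    ((Submodule.subtype J).restrictScalars A) (Submodule.subtype_injective J)
    (g.restrictScalars A)
  refine ⟨LinearMap.extendScalarsOfIsLocalization S R h', fun y hy => ?_⟩
  have := DFunLike.congr_fun hh' ⟨y, hy⟩
  exact this

end Alg

section SK

variable {X : Scheme.{u}} (x : X) (E : X.Modules)

theorem germ_injective_of
    (h1 : ∀ (V W : X.Opens) (i : V ⟶ W), x ∈ V → Function.Bijective (E.presheaf.map i.op))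
    (V : X.Opens) (hx : x ∈ V) : Function.Injective (E.presheaf.germ V x hx) := by
  intro s t hst
  obtain ⟨W, hxW, iU, iV, hW⟩ := TopCat.Presheaf.germ_eq E.presheaf x hx hx s t hst
  obtain rfl : iU = iV := Subsingleton.elim _ _
  exact (h1 W V iU hxW).1 hW

theorem germ_surjective_of
    (h1 : ∀ (V W : X.Opens) (i : V ⟶ W), x ∈ V → Function.Bijective (E.presheaf.map i.op))
    (V : X.Opens) (hx : x ∈ V) : Function.Surjective (E.presheaf.germ V x hx) := by
  intro m
  obtain ⟨W, hWV, hxW, s, rfl⟩ := TopCat.Presheaf.exists_le_germ_eq E.presheaf m hx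
  obtain ⟨t, ht⟩ := (h1 W V (homOfLE hWV) hxW).2 s
  refine ⟨t, ?_⟩
  rw [← ht, TopCat.Presheaf.germ_res_apply]

variable {E} in
/-- the section maps of the morphism induced by a map on stalks at `x` -/
noncomputable def secFun
    (h1 : ∀ (V W : X.Opens) (i : V ⟶ W), x ∈ V → Function.Bijective (E.presheaf.map i.op))
    {G : X.Modules} (ψx : (DerSch.stalkFunctor X x).obj G ⟶ (DerSch.stalkFunctor X x).obj E)
    (V : X.Opens) (g : Γ(G, V)) : Γ(E, V) :=
  open Classical in
  if hx : x ∈ V then
    (Equiv.ofBijective _ ⟨germ_injective_of x E h1 V hx, germ_surjective_of x E h1 V hx⟩).symm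
      (ψx.hom (G.presheaf.germ V x hx g))
  else 0

variable {E} in
lemma germ_secFun
    (h1 : ∀ (V W : X.Opens) (i : V ⟶ W), x ∈ V → Function.Bijective (E.presheaf.map i.op))
    {G : X.Modules} (ψx : (DerSch.stalkFunctor X x).obj G ⟶ (DerSch.stalkFunctor X x).obj E)
    (V : X.Opens) (hx : x ∈ V) (g : Γ(G, V)) :
    E.presheaf.germ V x hx (secFun x h1 ψx V g) = ψx.hom (G.presheaf.germ V x hx g) := by
  unfold secFun
  rw [dif_pos hx]
  exact Equiv.ofBijective_apply_symm_apply _ _ _

variable {E} in
/-- two sections of `E` over `V` agree as soon as their germs at `x` agree (when `x ∈ V`) -/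
lemma sec_ext_of (h0 : ∀ V : X.Opens, x ∉ V → Subsingleton Γ(E, V))
    (h1 : ∀ (V W : X.Opens) (i : V ⟶ W), x ∈ V → Function.Bijective (E.presheaf.map i.op))
    (V : X.Opens) (s t : Γ(E, V))
    (h : ∀ hx : x ∈ V, E.presheaf.germ V x hx s = E.presheaf.germ V x hx t) : s = t := by
  by_cases hx : x ∈ V
  · exact germ_injective_of x E h1 V hx (h hx)
  · haveI := h0 V hx
    exact Subsingleton.elim _ _

variable {E} in
lemma secFun_zero (h0 : ∀ V : X.Opens, x ∉ V → Subsingleton Γ(E, V))
    (h1 : ∀ (V W : X.Opens) (i : V ⟶ W), x ∈ V → Function.Bijective (E.presheaf.map i.op))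
    {G : X.Modules} (ψx : (DerSch.stalkFunctor X x).obj G ⟶ (DerSch.stalkFunctor X x).obj E)
    (V : X.Opens) : secFun x h1 ψx V 0 = 0 := by
  apply sec_ext_of x h0 h1
  intro hx
  rw [germ_secFun, map_zero, map_zero]
  exact map_zero ψx.hom

variable {E} in
lemma secFun_add (h0 : ∀ V : X.Opens, x ∉ V → Subsingleton Γ(E, V))
    (h1 : ∀ (V W : X.Opens) (i : V ⟶ W), x ∈ V → Function.Bijective (E.presheaf.map i.op))
    {G : X.Modules} (ψx : (DerSch.stalkFunctor X x).obj G ⟶ (DerSch.stalkFunctor X x).obj E)
    (V : X.Opens) (a b : Γ(G, V)) :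
    secFun x h1 ψx V (a + b) = secFun x h1 ψx V a + secFun x h1 ψx V b := by
  apply sec_ext_of x h0 h1
  intro hx
  rw [germ_secFun, map_add, map_add, germ_secFun, germ_secFun]
  exact map_add ψx.hom _ _

variable {E} in
lemma secFun_smul (h0 : ∀ V : X.Opens, x ∉ V → Subsingleton Γ(E, V))
    (h1 : ∀ (V W : X.Opens) (i : V ⟶ W), x ∈ V → Function.Bijective (E.presheaf.map i.op))
    {G : X.Modules} (ψx : (DerSch.stalkFunctor X x).obj G ⟶ (DerSch.stalkFunctor X x).obj E)
    (V : X.Opens) (r : Γ(X, V)) (a : Γ(G, V)) :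
    secFun x h1 ψx V (r • a) = r • secFun x h1 ψx V a := by
  apply sec_ext_of x h0 h1
  intro hx
  rw [germ_secFun, Mero.germ_smul, Mero.germ_smul, germ_secFun]
  exact map_smul ψx.hom _ _

variable {E} in
lemma secFun_res (h0 : ∀ V : X.Opens, x ∉ V → Subsingleton Γ(E, V))
    (h1 : ∀ (V W : X.Opens) (i : V ⟶ W), x ∈ V → Function.Bijective (E.presheaf.map i.op))
    {G : X.Modules} (ψx : (DerSch.stalkFunctor X x).obj G ⟶ (DerSch.stalkFunctor X x).obj E)
    {V W : X.Opens} (i : V ⟶ W) (a : Γ(G, W)) :
    secFun x h1 ψx V (G.presheaf.map i.op a) = E.presheaf.map i.op (secFun x h1 ψx W a) := by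
  apply sec_ext_of x h0 h1
  intro hx
  rw [germ_secFun, TopCat.Presheaf.germ_res_apply, TopCat.Presheaf.germ_res_apply,
    germ_secFun]

variable {E} in
/-- the morphism `G ⟶ E` induced by a linear map on the stalks at `x` -/
noncomputable def extHom (h0 : ∀ V : X.Opens, x ∉ V → Subsingleton Γ(E, V))
    (h1 : ∀ (V W : X.Opens) (i : V ⟶ W), x ∈ V → Function.Bijective (E.presheaf.map i.op))
    {G : X.Modules} (ψx : (DerSch.stalkFunctor X x).obj G ⟶ (DerSch.stalkFunctor X x).obj E) :
    G ⟶ E :=
  ⟨PresheafOfModules.homMk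
    { app := fun U => AddCommGrpCat.ofHom
        { toFun := secFun x h1 ψx U.unop
          map_zero' := secFun_zero x h0 h1 ψx U.unop
          map_add' := fun a b => secFun_add x h0 h1 ψx U.unop a b }
      naturality := fun {U V} i => by
        ext s
        exact secFun_res x h0 h1 ψx i.unop s }
    (fun U r s => secFun_smul x h0 h1 ψx U.unop r s)⟩

variable {E} in
lemma extHom_app (h0 : ∀ V : X.Opens, x ∉ V → Subsingleton Γ(E, V))
    (h1 : ∀ (V W : X.Opens) (i : V ⟶ W), x ∈ V → Function.Bijective (E.presheaf.map i.op))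
    {G : X.Modules} (ψx : (DerSch.stalkFunctor X x).obj G ⟶ (DerSch.stalkFunctor X x).obj E)
    (V : X.Opens) (g : Γ(G, V)) : (extHom x h0 h1 ψx).app V g = secFun x h1 ψx V g := rfl

/-- **Lemma SK**: a module concentrated at one point `x` (sections vanish away from `x`, and all
restrictions between neighbourhoods of `x` are bijective) with injective stalk at `x` is an injective
`O_X`-module. -/
theorem injective_of_concentrated (h0 : ∀ V : X.Opens, x ∉ V → Subsingleton Γ(E, V))
    (h1 : ∀ (V W : X.Opens) (i : V ⟶ W), x ∈ V → Function.Bijective (E.presheaf.map i.op))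
    (hinj : Module.Injective (X.presheaf.stalk x) (E.presheaf.stalk x)) : Injective E := by
  haveI : Injective ((DerSch.stalkFunctor X x).obj E) :=
    Module.injective_object_of_injective_module (R := X.presheaf.stalk x)
      (M := E.presheaf.stalk x)
  constructor
  intro F G φ u hu
  haveI : Mono ((DerSch.stalkFunctor X x).map u) := inferInstance
  refine ⟨extHom x h0 h1 (Injective.factorThru ((DerSch.stalkFunctor X x).map φ)
    ((DerSch.stalkFunctor X x).map u)), ?_⟩
  ext V f
  rw [Scheme.Modules.Hom.comp_app, ConcreteCategory.comp_apply, extHom_app]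
  apply sec_ext_of x h0 h1
  intro hx
  rw [germ_secFun]
  have h2 := Injective.comp_factorThru ((DerSch.stalkFunctor X x).map φ)
    ((DerSch.stalkFunctor X x).map u)
  have h3 := DerSch.stalkFunctor_map_germ x u V hx f
  have h4 := DerSch.stalkFunctor_map_germ x φ V hx f
  refine (congrArg _ h3.symm).trans ?_
  exact (ConcreteCategory.congr_hom h2 _).trans h4

end SK

end Groth.Agent.Helper24.InjQc
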