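import Mathlib
import Groth.Agent.Lib.Helper24.InjQc1
import Groth.Agent.S11661

/-!
# The sheaf associated with an injective hull of `A/p` is an injective `O`-module (helper24)
-/

set_option autoImplicit false
set_option maxHeartbeats 400000
set_option linter.style.haveILetI false
universe u
open CategoryTheory CategoryTheory.Limits AlgebraicGeometry Opposite TopologicalSpace

namespace Groth.Agent.Helper24.InjQc

section Tilde

variable {R : CommRingCat.{u}} (M : ModuleCat.{u} R) (x : PrimeSpectrum R)

/-- a section of `M^~`, as a dependent function -/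
def toFn (V : (Spec R).Opens) (s : Γ(tilde M, V)) :
    (structureSheafInType R M).obj.obj (op V) := s

lemma toFn_ext (V : (Spec R).Opens) (s t : Γ(tilde M, V))
    (h : ∀ y : V, (toFn M V s).1 y = (toFn M V t).1 y) : s = t :=
  Subtype.ext (funext h)

lemma toFn_res (V W : (Spec R).Opens) (i : V ⟶ W) (s : Γ(tilde M, W)) (y : V) :
    (toFn M V ((tilde M).presheaf.map i.op s)).1 y = (toFn M W s).1 ⟨y.1, i.le y.2⟩ := rfl

lemma toFn_toOpen (V : (Spec R).Opens) (m : M) (y : V) :
    (toFn M V ((tilde.toOpen M V).hom m)).1 y = LocalizedModule.mk m 1 := rfl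

/-- hypothesis (z): the localizations of `M` away from the closure of `x` vanish -/
def VanishAway : Prop :=
  ∀ y : PrimeSpectrum R, ¬ x.asIdeal ≤ y.asIdeal →
    Subsingleton (LocalizedModule y.asIdeal.primeCompl M)

variable {M x}

theorem subsingleton_sections (hz : VanishAway M x) (V : (Spec R).Opens) (hx : x ∉ V) :
    Subsingleton Γ(tilde M, V) := by
  constructor
  intro s t
  apply toFn_ext
  intro y
  have hy : ¬ x.asIdeal ≤ y.1.asIdeal := by
    intro hle
    have hsp : x ⤳ y.1 := (PrimeSpectrum.le_iff_specializes x y.1).mp hle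
    exact hx (hsp.mem_open V.2 y.2)
  haveI := hz y.1 hy
  exact Subsingleton.elim _ _

theorem smul_injective_of_bijective
    (hb : Function.Bijective (LocalizedModule.mkLinearMap x.asIdeal.primeCompl M))
    (u : R) (hu : u ∉ x.asIdeal) (a b : M) (h : u • a = u • b) : a = b := by
  apply hb.1
  rw [LocalizedModule.mkLinearMap_apply, LocalizedModule.mkLinearMap_apply, LocalizedModule.mk_eq]
  refine ⟨⟨u, hu⟩, ?_⟩
  rw [one_smul, one_smul]
  exact h

theorem toOpen_bijective (hz : VanishAway M x)
    (hb : Function.Bijective (LocalizedModule.mkLinearMap x.asIdeal.primeCompl M))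
    (V : (Spec R).Opens) (hx : x ∈ V) : Function.Bijective (tilde.toOpen M V).hom := by
  constructor
  · intro m m' h
    apply hb.1
    have h1 := congrArg (fun s => (toFn M V s).1 ⟨x, hx⟩) h
    exact h1
  · intro s
    obtain ⟨m, hm⟩ := hb.2 ((toFn M V s).1 ⟨x, hx⟩)
    refine ⟨m, ?_⟩
    apply toFn_ext
    intro y
    rw [toFn_toOpen]
    by_cases hy : x.asIdeal ≤ y.1.asIdeal
    · have hsp : x ⤳ y.1 := (PrimeSpectrum.le_iff_specializes x y.1).mp hy
      obtain ⟨g, hyg, i, f, hc⟩ := StructureSheaf.exists_const V (toFn M V s) y.1 y.2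
      have hxg : x ∈ PrimeSpectrum.basicOpen g :=
        hsp.mem_open (PrimeSpectrum.basicOpen g).2 hyg
      have h1 : (toFn M V s).1 ⟨x, hx⟩ = LocalizedModule.mk f ⟨g, hxg⟩ :=
        (congrArg (fun t => t.1 ⟨x, hxg⟩) hc).symm
      have h2 : (toFn M V s).1 y = LocalizedModule.mk f ⟨g, hyg⟩ :=
        (congrArg (fun t => t.1 ⟨y.1, hyg⟩) hc).symm
      rw [h2]
      rw [h1, LocalizedModule.mkLinearMap_apply, LocalizedModule.mk_eq] at hm
      obtain ⟨u, hu⟩ := hm
      rw [one_smul] at hu
      have h3 : g • m = f := by
        apply smul_injective_of_bijective hb u.1 u.2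
        exact hu
      rw [LocalizedModule.mk_eq]
      refine ⟨1, ?_⟩
      rw [one_smul, one_smul, one_smul]
      exact h3
    · haveI := hz y.1 hy
      exact Subsingleton.elim _ _

theorem res_bijective (hz : VanishAway M x)
    (hb : Function.Bijective (LocalizedModule.mkLinearMap x.asIdeal.primeCompl M))
    (V W : (Spec R).Opens) (i : V ⟶ W) (hx : x ∈ V) :
    Function.Bijective ((tilde M).presheaf.map i.op) := by
  have hV := toOpen_bijective hz hb V hx
  have hW := toOpen_bijective hz hb W (i.le hx)
  have hres : ∀ m : M, (tilde M).presheaf.map i.op ((tilde.toOpen M W).hom m) =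
      (tilde.toOpen M V).hom m := fun m => rfl
  constructor
  · intro s t hst
    obtain ⟨m, rfl⟩ := hW.2 s
    obtain ⟨m', rfl⟩ := hW.2 t
    rw [hres, hres] at hst
    rw [hV.1 hst]
  · intro t
    obtain ⟨m, rfl⟩ := hV.2 t
    exact ⟨(tilde.toOpen M W).hom m, hres m⟩

/-- the stalk of `M^~` at `x` is an injective module over the local ring when `M` is injective and
`M → M_x` is bijective -/
theorem stalk_injective
    (hb : Function.Bijective (LocalizedModule.mkLinearMap x.asIdeal.primeCompl M))
    (hM : Module.Injective R M) :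
    Module.Injective ((Spec R).presheaf.stalk x) ((tilde M).presheaf.stalk x) := by
  -- the stalk as an `R`-module is isomorphic to `M`
  have hbij : Function.Bijective (tilde.toStalk M x).hom := by
    have h1 := IsLocalizedModule.iso_symm_comp x.asIdeal.primeCompl (tilde.toStalk M x).hom
    have h2 : ⇑(tilde.toStalk M x).hom =
        ⇑(IsLocalizedModule.iso x.asIdeal.primeCompl (tilde.toStalk M x).hom) ∘
          ⇑(LocalizedModule.mkLinearMap x.asIdeal.primeCompl M) := by
      funext m
      have h3 := DFunLike.congr_fun h1 m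
      rw [LinearMap.comp_apply] at h3
      rw [Function.comp_apply, ← h3]
      exact ((IsLocalizedModule.iso x.asIdeal.primeCompl
        (tilde.toStalk M x).hom).apply_symm_apply _).symm
    rw [h2]
    exact (IsLocalizedModule.iso x.asIdeal.primeCompl
      (tilde.toStalk M x).hom).bijective.comp hb
  have hN : Module.Injective R ((tilde M).presheaf.stalk x) :=
    Module.Baer.injective (Module.Baer.of_equiv
      (LinearEquiv.ofBijective (tilde.toStalk M x).hom hbij) (Module.Baer.of_injective hM))
  have key : Module.Injective ((structurePresheafInCommRingCat R).stalk x)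
      ↑(TopCat.Presheaf.stalk (moduleStructurePresheaf R M).presheaf x) :=
    injective_of_isLocalization x.asIdeal.primeCompl
      ((structurePresheafInCommRingCat R).stalk x)
      ↑(TopCat.Presheaf.stalk (moduleStructurePresheaf R M).presheaf x) hN
  exact key

end Tilde

/-- for an injective hull `A/p → E` over a Noetherian ring, the sheaf `E^~` is an injective
`O`-module -/
theorem injective_tilde_of_hull (R : CommRingCat.{u}) [IsNoetherianRing R] (p : Ideal R)
    [hp : p.IsPrime] (E : ModuleCat.{u} R) (f : (R ⧸ p) →ₗ[R] E)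
    (hf : InjHull.IsInjectiveHull f) : Injective (tilde E) := by
  let x : PrimeSpectrum R := ⟨p, hp⟩
  have hz : VanishAway E x := by
    intro y hy
    apply (Groth.Agent.S11661.result R y.asIdeal.primeCompl p E f hf).1
    obtain ⟨a, hap, hay⟩ := Set.not_subset.mp hy
    exact ⟨a, hap, hay⟩
  have hb : Function.Bijective (LocalizedModule.mkLinearMap x.asIdeal.primeCompl E) := by
    refine ((Groth.Agent.S11661.result R p.primeCompl p E f hf).2 ?_).1
    rw [Set.disjoint_left]
    intro a ha ha'
    exact ha' ha
  exact injective_of_concentrated (X := Spec R) x (tilde E) (subsingleton_sections hz)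
    (fun V W i hx => res_bijective hz hb V W i hx) (stalk_injective hb hf.isInjective)

end Groth.Agent.Helper24.InjQc
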