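import Mathlib
import Groth.Agent.Lib.Helper24.InjQc2
import Groth.Agent.Lib.Helper1.InjHullIndec
import Groth.Agent.S0307
import Groth.Agent.S11157

/-!
# The sheaf associated with an injective module over a Noetherian ring is an injective
`O`-module (helper24)
-/

set_option autoImplicit false
set_option maxHeartbeats 400000
set_option linter.style.haveILetI false
universe u
open CategoryTheory CategoryTheory.Limits AlgebraicGeometry Opposite TopologicalSpace

namespace Groth.Agent.Helper24.InjQc

/-- an indecomposable injective module over a Noetherian ring is an injective hull of `R/p` for a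
prime `p` (the first half of the proof of S0306 by helper1) -/
theorem exists_hull_quotient (R : Type u) [CommRing R] [IsNoetherianRing R] (E : Type u)
    [AddCommGroup E] [Module R E] (hE : InjHull.IsIndecomposable R E)
    (hinj : Module.Injective R E) :
    ∃ (p : Ideal R) (_ : p.IsPrime) (f : (R ⧸ p) →ₗ[R] E), InjHull.IsInjectiveHull f := by
  have := hE.1
  obtain ⟨x, hx⟩ := exists_ne (0 : E)
  obtain ⟨P, hP, -⟩ := exists_le_isAssociatedPrime_of_isNoetherianRing R x hx
  obtain ⟨hPprime, y, hy⟩ := isAssociatedPrime_iff.mp hP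
  have hyann : ∀ r : R, r • y = 0 ↔ r ∈ P := by
    intro r
    rw [hy, Submodule.mem_colon_singleton, Submodule.mem_bot]
  have hy0 : y ≠ 0 := by
    intro h
    have h1 : (1 : R) ∈ P := (hyann 1).mp (by rw [h, smul_zero])
    exact hPprime.ne_top ((Ideal.eq_top_iff_one _).mpr h1)
  have hN : Submodule.span R {y} ≠ ⊥ := by
    rw [Ne, Submodule.span_singleton_eq_bot]
    exact hy0
  have hess := Groth.Agent.Helper1.essIn_top_of_indecomposable hE hinj _ hN
  obtain ⟨f, hf, -⟩ := Groth.Agent.Helper1.isInjectiveHull_of_cyclic hinj P y hyann (by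
    intro z hz
    obtain ⟨r, hr, hr0⟩ := hess z Submodule.mem_top hz
    obtain ⟨a, ha⟩ := Submodule.mem_span_singleton.mp hr
    refine ⟨r, a, ha.symm, fun haP => hr0 ?_⟩
    rw [← ha]
    exact (hyann a).mpr haP)
  exact ⟨P, hPprime, f, hf⟩

/-- **T_A**: over a Noetherian ring, the sheaf associated with an injective module is an injective
`O`-module -/
theorem injective_tilde (R : CommRingCat.{u}) [IsNoetherianRing R] (I : ModuleCat.{u} R)
    (hI : Module.Injective R I) : Injective (tilde I) := by
  classical
  obtain ⟨ι, E, hint, hE⟩ := Groth.Agent.S0307.result R I hI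
  let Z : ι → ModuleCat.{u} R := fun i => ModuleCat.of R (E i)
  have hZ : ∀ i, Injective ((tilde.functor R).obj (Z i)) := by
    intro i
    obtain ⟨p, hp, f, hf⟩ := exists_hull_quotient R (E i) (hE i).1 (hE i).2
    exact injective_tilde_of_hull R p (Z i) f hf
  have h1 : Injective (∐ fun i => (tilde.functor R).obj (Z i)) :=
    Groth.Agent.S11157.result (X := Spec R) _ hZ
  let e1 : ModuleCat.of R (DirectSum ι fun i => E i) ≅ I :=
    (LinearEquiv.ofBijective (DirectSum.coeLinearMap E) hint).toModuleIso
  let e2 : ∐ Z ≅ ModuleCat.of R (DirectSum ι fun i => Z i) := ModuleCat.coprodIsoDirectSum Z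
  let e3 : (tilde.functor R).obj (∐ Z) ≅ ∐ fun i => (tilde.functor R).obj (Z i) :=
    PreservesCoproduct.iso (tilde.functor R) Z
  exact Injective.of_iso (e3.symm ≪≫ (tilde.functor R).mapIso (e2 ≪≫ e1)) h1

end Groth.Agent.Helper24.InjQc
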