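import Mathlib
import Groth.Agent.Lib.Helper24.InjQc3
import Groth.Agent.Lib.Helper13.Qcqs
import Groth.Agent.Lib.Helper13.QCohFin
import Groth.Agent.Lib.Helper14.TildeExact
import Groth.Agent.Lib.Helper13.QCohStalk

/-!
# On a Noetherian scheme every quasi-coherent module embeds into a quasi-coherent injective
`O`-module (helper24)
-/

set_option autoImplicit false
set_option maxHeartbeats 400000
set_option linter.style.haveILetI false
universe u
open CategoryTheory CategoryTheory.Limits AlgebraicGeometry Opposite TopologicalSpace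

namespace Groth.Agent.Helper24.QcEmb

open Groth.Agent.Helper24.InjQc
open scoped ZeroObject

variable {X : Scheme.{u}}

/-- restriction along an open immersion preserves monomorphisms -/
instance preservesMono_restrictFunctor {Y : Scheme.{u}} (f : Y ⟶ X) [IsOpenImmersion f] :
    (Scheme.Modules.restrictFunctor f).PreservesMonomorphisms where
  preserves {M N} φ hφ := by
    rw [Groth.Agent.Helper13.QCoh.mono_iff_app_injective]
    intro W
    exact (Groth.Agent.Helper13.QCoh.mono_iff_app_injective φ).1 hφ (f ''ᵁ W)

/-- every module embeds into an injective module -/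
theorem exists_mono_injective (R : Type u) [CommRing R] (M : ModuleCat.{u} R) :
    ∃ (I : ModuleCat.{u} R) (ι : M ⟶ I), Mono ι ∧ Module.Injective R I := by
  obtain ⟨P⟩ := (inferInstance : CategoryTheory.EnoughInjectives (ModuleCat.{u} R)).presentation M
  exact ⟨P.J, P.f, P.mono, (Module.injective_iff_injective_object R P.J).2 P.injective⟩

/-- restriction between equal opens is injective -/
lemma map_injective_of_eq (J : X.Modules) {V W : X.Opens} (h : W = V) (i : W ⟶ V) :
    Function.Injective (J.presheaf.map i.op) := by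
  subst h
  obtain rfl : i = 𝟙 _ := Subsingleton.elim _ _
  intro a b hab
  have h1 : ∀ c : Γ(J, W), J.presheaf.map (𝟙 W).op c = c := by
    intro c
    have := J.presheaf.map_id (op W)
    exact ConcreteCategory.congr_hom this c
  rw [h1, h1] at hab
  exact hab

/-- **one step**: a quasi-coherent module maps to a quasi-coherent injective module, injectively on
the sections over the opens contained in a given affine open -/
theorem exists_step [IsLocallyNoetherian X] (J : X.Modules) [J.IsQuasicoherent] {U : X.Opens}
    (hU : IsAffineOpen U) :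
    ∃ (G : X.Modules) (g : J ⟶ G), G.IsQuasicoherent ∧ Injective G ∧
      ∀ V : X.Opens, V ≤ U → Function.Injective (g.app V) := by
  let A : CommRingCat.{u} := Γ(X, U)
  haveI : IsNoetherianRing A := IsLocallyNoetherian.component_noetherian ⟨U, hU⟩
  let f : Spec A ⟶ X := hU.fromSpec
  let JU : (Spec A).Modules := (Scheme.Modules.restrictFunctor f).obj J
  haveI : JU.IsQuasicoherent := inferInstance
  have hiso := Scheme.Modules.isIso_fromTildeΓ_of_isQuasicoherent (R := A) JU
  let M : ModuleCat.{u} A := (modulesSpecToSheaf.obj JU).presheaf.obj (.op ⊤)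
  let e : tilde M ≅ JU := @asIso _ _ _ _ (Scheme.Modules.fromTildeΓ (R := A) JU) hiso
  obtain ⟨I, ι, hι, hI⟩ := exists_mono_injective A M
  haveI : Injective (tilde I) := injective_tilde A I hI
  haveI : Mono (tilde.map ι) :=
    Groth.Agent.Helper14.tilde_map_mono ι ((ModuleCat.mono_iff_injective ι).1 inferInstance)
  let m : JU ⟶ tilde I := e.inv ≫ tilde.map ι
  haveI : Mono m := mono_comp _ _
  let G : X.Modules := (Scheme.Modules.pushforward f).obj (tilde I)
  let g : J ⟶ G := (Scheme.Modules.restrictAdjunction f).homEquiv J (tilde I) m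
  refine ⟨G, g, ?_, ?_, ?_⟩
  · exact Groth.Agent.Helper13.Qcqs.isQuasicoherent_pushforward_of_qcqs f (tilde I)
  · exact Injective.injective_of_adjoint (Scheme.Modules.restrictAdjunction f) (tilde I)
  · intro V hV
    have hg : g = (Scheme.Modules.restrictAdjunction f).unit.app J ≫
        (Scheme.Modules.pushforward f).map m :=
      Adjunction.homEquiv_unit _ _ _ _
    have h1 : Function.Injective (m.app (f ⁻¹ᵁ V)) :=
      (Groth.Agent.Helper13.QCoh.mono_iff_app_injective m).1 inferInstance _
    have h2 : Function.Injective (((Scheme.Modules.restrictAdjunction f).unit.app J).app V) := by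
      rw [Scheme.Modules.restrictAdjunction_unit_app_app]
      apply map_injective_of_eq
      rw [Scheme.Hom.image_preimage_eq_opensRange_inf, hU.opensRange_fromSpec]
      exact inf_eq_right.mpr hV
    rw [hg, Scheme.Modules.Hom.comp_app]
    exact h1.comp h2

/-- the same for a finite list of affine opens -/
theorem exists_list [IsLocallyNoetherian X] (J : X.Modules) [J.IsQuasicoherent] :
    ∀ l : List X.affineOpens, ∃ (G : X.Modules) (g : J ⟶ G), G.IsQuasicoherent ∧ Injective G ∧
      ∀ U ∈ l, ∀ V : X.Opens, V ≤ U.1 → Function.Injective (g.app V) := by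
  intro l
  induction l with
  | nil =>
    refine ⟨0, 0, Groth.Agent.Helper13.QCohFin.isQuasicoherent_of_isZero (isZero_zero _),
      inferInstance, ?_⟩
    intro U hU
    simp at hU
  | cons U l ih =>
    obtain ⟨G', g', hq', hi', hinj'⟩ := ih
    obtain ⟨G₁, g₁, hq₁, hi₁, hinj₁⟩ := exists_step J U.2
    haveI := hq'
    haveI := hq₁
    haveI := hi'
    haveI := hi₁
    refine ⟨G₁ ⊞ G', biprod.lift g₁ g',
      Groth.Agent.Helper13.QCohFin.isQuasicoherent_biprod G₁ G', inferInstance, ?_⟩
    intro U' hU' V hV a b hab
    rcases List.mem_cons.mp hU' with rfl | hmem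
    · apply hinj₁ V hV
      have h1 : g₁ = biprod.lift g₁ g' ≫ biprod.fst := (biprod.lift_fst _ _).symm
      rw [h1, Scheme.Modules.Hom.comp_app, ConcreteCategory.comp_apply,
        ConcreteCategory.comp_apply, hab]
    · apply hinj' U' hmem V hV
      have h1 : g' = biprod.lift g₁ g' ≫ biprod.snd := (biprod.lift_snd _ _).symm
      rw [h1, Scheme.Modules.Hom.comp_app, ConcreteCategory.comp_apply,
        ConcreteCategory.comp_apply, hab]

lemma app_res' {M N : X.Modules} (φ : M ⟶ N) {U W : X.Opens} (i : W ⟶ U) (s : Γ(M, U)) :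
    N.presheaf.map i.op (φ.app U s) = φ.app W (M.presheaf.map i.op s) := by
  have h := φ.mapPresheaf.naturality i.op
  exact (ConcreteCategory.congr_hom h s).symm

/-- **EMB**: on a Noetherian scheme, every quasi-coherent module embeds into a quasi-coherent
module which is an injective `O`-module -/
theorem exists_mono_qcoh_injective [IsNoetherian X] (J : X.Modules) [J.IsQuasicoherent] :
    ∃ (G : X.Modules) (g : J ⟶ G), G.IsQuasicoherent ∧ Injective G ∧ Mono g := by
  obtain ⟨t, ht⟩ := isCompact_univ.elim_finite_subcover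
    (fun U : X.affineOpens => ((U.1 : X.Opens) : Set X)) (fun U => U.1.2) (by
      intro x _
      obtain ⟨_, ⟨U, hU, rfl⟩, hxU, -⟩ := X.isBasis_affineOpens.exists_subset_of_mem_open
        (Set.mem_univ x) isOpen_univ
      exact Set.mem_iUnion.mpr ⟨⟨U, hU⟩, hxU⟩)
  obtain ⟨G, g, hq, hi, hinj⟩ := exists_list J t.toList
  refine ⟨G, g, hq, hi, ?_⟩
  rw [Groth.Agent.Helper13.QCoh.mono_iff_app_injective]
  intro V a b hab
  apply TopCat.Presheaf.section_ext ⟨J.presheaf, J.isSheaf⟩ V a b
  intro x hx
  obtain ⟨U, hUt, hxU⟩ : ∃ U ∈ t, x ∈ (U.1 : X.Opens) := by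
    have := ht (Set.mem_univ x)
    simpa using this
  have hW : V ⊓ U.1 ≤ V := inf_le_left
  have hxW : x ∈ V ⊓ U.1 := ⟨hx, hxU⟩
  have h1 : J.presheaf.map (homOfLE hW).op a = J.presheaf.map (homOfLE hW).op b := by
    apply hinj U (Finset.mem_toList.mpr hUt) (V ⊓ U.1) inf_le_right
    rw [← app_res', ← app_res', hab]
  have h2 := TopCat.Presheaf.germ_res_apply J.presheaf (homOfLE hW) x hxW a
  have h3 := TopCat.Presheaf.germ_res_apply J.presheaf (homOfLE hW) x hxW b
  exact h2.symm.trans ((congrArg _ h1).trans h3)

end Groth.Agent.Helper24.QcEmb
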