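import Mathlib
import Groth.Agent.Lib.Helper24.InjExt1
import Groth.Agent.Lib.Helper24.AffExt9
import Groth.Agent.Lib.Helper24.QcEmb1
import Groth.Agent.Lib.Helper13.FinTypeEpi
import Groth.Agent.Lib.Helper13.CohRoof

/-!
# Coherent modules with prescribed cyclic sections over an affine open (helper24)
-/

set_option autoImplicit false
set_option maxHeartbeats 400000
set_option linter.style.haveILetI false
universe u
open CategoryTheory CategoryTheory.Limits AlgebraicGeometry Opposite TopologicalSpace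

namespace Groth.Agent.Helper24.InjExt

open Groth.Agent.Helper24.AffExt Groth.Agent.Helper24.QcEmb

variable {X : Scheme.{u}} [IsLocallyNoetherian X] (U : X.Opens) (hU : IsAffineOpen U)

include hU in
theorem exists_coherent_extension (𝔞 : Ideal Γ(X, U)) :
    ∃ G : X.Modules, Coh.IsCoh G ∧
      Nonempty ((ΓR (ρOpen U)).obj (G.restrict U.ι) ≅
        ModuleCat.of Γ(X, U) (Γ(X, U) ⧸ 𝔞)) := by
  haveI : IsAffine (↑U : Scheme.{u}) := hU
  haveI : IsNoetherianRing Γ(X, U) := IsLocallyNoetherian.component_noetherian ⟨U, hU⟩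
  obtain ⟨n, a, ha⟩ := Submodule.fg_iff_exists_fin_generating_family.1
    (IsNoetherian.noetherian 𝔞)
  obtain ⟨T, π, hπ, hT, ⟨eT⟩⟩ := exists_cyclic (ρOpen U) a
  let L := Scheme.Modules.restrictFunctor U.ι
  let adj := Scheme.Modules.restrictAdjunction U.ι
  let ψ : L.obj (Coh.structureModule X) ⟶ T := (Scheme.Modules.restrictUnitIso U.ι).hom ≫ π
  haveI : Epi ψ := epi_comp _ _
  let N : X.Modules := (Scheme.Modules.pushforward U.ι).obj T
  let φ : Coh.structureModule X ⟶ N := adj.homEquiv _ _ ψ
  let G : X.Modules := Abelian.image φ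
  let p : Coh.structureModule X ⟶ G := Abelian.factorThruImage φ
  let i : G ⟶ N := Abelian.image.ι φ
  have hpi : p ≫ i = φ := Abelian.image.fac φ
  haveI : (Coh.structureModule X).IsQuasicoherent :=
    Groth.Agent.Helper13.QCoh.isQuasicoherent_unit X
  haveI hN : N.IsQuasicoherent :=
    Groth.Agent.Helper13.Qcqs.isQuasicoherent_pushforward_of_qcqs U.ι T
  haveI : (cokernel φ).IsQuasicoherent :=
    Groth.Agent.Helper13.QCohLocal.isQuasicoherent_cokernel φ
  haveI hG : G.IsQuasicoherent :=
    Groth.Agent.Helper13.QCohLocal.isQuasicoherent_kernel (cokernel.π φ)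
  have hft : SheafOfModules.IsFiniteType (R := X.ringCatSheaf) G := by
    haveI := (Groth.Agent.Helper13.CohRoof.isCoh_structureModule X).2
    exact Groth.Agent.Helper13.FinType.isFiniteType_of_epi p
  have hψ : L.map φ ≫ adj.counit.app T = ψ := by
    have h1 := adj.homEquiv_counit (X := Coh.structureModule X) (Y := T) (g := φ)
    rw [← h1]
    exact (adj.homEquiv _ _).symm_apply_apply ψ
  haveI : Epi (L.map φ) := by
    have h2 : L.map φ = ψ ≫ inv (adj.counit.app T) := by
      rw [← hψ, Category.assoc, IsIso.hom_inv_id, Category.comp_id]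
    rw [h2]
    infer_instance
  haveI : Mono (L.map i) := inferInstance
  haveI : Epi (L.map i) := by
    have h3 : L.map p ≫ L.map i = L.map φ := by rw [← L.map_comp, hpi]
    exact epi_of_epi_fac h3
  haveI : IsIso (L.map i) := isIso_of_mono_of_epi _
  let e : L.obj G ≅ T := asIso (L.map i) ≪≫ asIso (adj.counit.app T)
  refine ⟨G, ⟨hG, hft⟩, ⟨(ΓR (ρOpen U)).mapIso e ≪≫ eT ≪≫ ?_⟩⟩
  exact (Submodule.quotEquivOfEq _ _ ha).toModuleIso

end Groth.Agent.Helper24.InjExt
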