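import Mathlib
import Groth.Agent.Lib.Helper24.InjQc3
import Groth.Agent.Lib.Helper24.AffExt8
import Groth.Agent.Lib.Helper24.AffExt9
import Groth.Agent.Lib.Helper13.QCohPush

/-!
# A quasi-coherent module on a Noetherian affine scheme with injective module of global sections
is an injective `O`-module (helper24)
-/

set_option autoImplicit false
set_option maxHeartbeats 400000
set_option linter.style.haveILetI false
universe u
open CategoryTheory CategoryTheory.Limits AlgebraicGeometry Opposite TopologicalSpace

namespace Groth.Agent.Helper24.InjQc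

open Groth.Agent.Helper24.AffExt

/-- the case of `Spec A` -/
theorem injective_of_spec (A : CommRingCat.{u}) [IsNoetherianRing A] (E : (Spec A).Modules)
    [E.IsQuasicoherent] (h : Module.Injective A ((ΓR (ρSpec A)).obj E)) : Injective E := by
  have hiso := Scheme.Modules.isIso_fromTildeΓ_of_isQuasicoherent (R := A) E
  let M : ModuleCat.{u} A := (modulesSpecToSheaf.obj E).presheaf.obj (.op ⊤)
  have hM : Module.Injective A M :=
    Module.Baer.injective (Module.Baer.of_equiv (ΓRSpecIso E).toLinearEquiv
      (Module.Baer.of_injective h))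
  let e1 : tilde M ≅ E := @asIso _ _ _ _ (Scheme.Modules.fromTildeΓ (R := A) E) hiso
  exact Injective.of_iso e1 (injective_tilde A M hM)

attribute [local instance] RingHomInvPair.of_ringEquiv in
/-- **AFF**: the case of an affine scheme -/
theorem injective_of_affine {Y : Scheme.{u}} [IsAffine Y] {R : Type u} [CommRing R]
    [IsNoetherianRing R] (ρ : R ≃+* Γ(Y, ⊤)) (G : Y.Modules) [G.IsQuasicoherent]
    (h : Module.Injective R ((ΓR ρ).obj G)) : Injective G := by
  let A : CommRingCat.{u} := Γ(Y, ⊤)
  haveI : IsNoetherianRing A := isNoetherianRing_of_ringEquiv R ρ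
  let t : Y ⟶ Spec A := Y.toSpecΓ
  haveI : IsIso t := IsAffine.affine
  let G' : (Spec A).Modules := (Scheme.Modules.pushforward t).obj G
  haveI : G'.IsQuasicoherent :=
    Groth.Agent.Helper13.QCohPush.isQuasicoherent_pushforward t G
  have h2 : ∀ a : Γ(Y, ⊤), t.app ⊤ (ρSpec A a) = a := by
    intro a
    rw [ρSpec_apply]
    have h3 := Scheme.toSpecΓ_appTop Y
    show (t.appTop) ((Scheme.ΓSpecIso A).inv a) = a
    rw [h3]
    exact Iso.inv_hom_id_apply (C := CommRingCat) (Scheme.ΓSpecIso A) a
  have hG' : Module.Injective A ((ΓR (ρSpec A)).obj G') := by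
    refine Module.Injective.of_ringEquiv (M := ↑((ΓR ρ).obj G)) ρ
      { toFun := fun x => x
        invFun := fun x => x
        map_add' := fun _ _ => rfl
        map_smul' := ?_
        left_inv := fun _ => rfl
        right_inv := fun _ => rfl }
    intro r x
    show (ρ r • (show Γ(G, ⊤) from x) : Γ(G, ⊤)) =
      ((t.app ⊤ (ρSpec A (ρ r))) • (show Γ(G, t ⁻¹ᵁ ⊤) from x) : Γ(G, t ⁻¹ᵁ ⊤))
    rw [h2]
    rfl
  have h1 : Injective G' := injective_of_spec A G' hG'
  exact Functor.injective_of_map_injective (Scheme.Modules.pushforward t) h1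

end Groth.Agent.Helper24.InjQc
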