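import Mathlib
import Groth.Prelude.Def_DCoh4
import Groth.Agent.Lib.Helper24.InjExt2
import Groth.Agent.Lib.Helper24.InjQc4
import Groth.Agent.Lib.Helper24.AffExt9
import Groth.Agent.S11156
import Groth.Agent.S5788

/-!
# A quasi-coherent module on a locally Noetherian scheme is injective iff its first Ext sheaves
against coherent modules vanish (helper24)
-/

set_option autoImplicit false
set_option maxHeartbeats 400000
set_option linter.style.haveILetI false
universe u
open CategoryTheory CategoryTheory.Limits CategoryTheory.Abelian AlgebraicGeometry Opposite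

namespace Groth.Agent.Helper24.InjExt

open Groth.Agent.Helper24.AffExt Groth.Agent.Helper24.InjQc
open Groth.Agent.Helper24.RelExt Groth.Agent.Helper24.CohExt

variable {X : Scheme.{u}}

attribute [local instance] hasSheafHom'

/-- right derived functors of isomorphic functors -/
noncomputable def rightDerivedIsoOfIso {C D : Type*} [Category C] [Category D] [Abelian C]
    [Abelian D] [HasInjectiveResolutions C] {F G : C ⥤ D} [F.Additive] [G.Additive] (e : F ≅ G)
    (n : ℕ) : F.rightDerived n ≅ G.rightDerived n where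
  hom := NatTrans.rightDerived e.hom n
  inv := NatTrans.rightDerived e.inv n
  hom_inv_id := by rw [← NatTrans.rightDerived_comp, e.hom_inv_id, NatTrans.rightDerived_id]
  inv_hom_id := by rw [← NatTrans.rightDerived_comp, e.inv_hom_id, NatTrans.rightDerived_id]

/-- `D ⊗ -` has a right adjoint -/
theorem dHasSheafHom (G : X.Modules) : DCoh.HasSheafHom G :=
  ⟨Groth.Agent.Helper29.SHomA.homFun G,
    ⟨(Groth.Agent.Helper29.SHomA.adj G).ofNatIsoLeft
      (Groth.Agent.Helper29.SHomA.tensorLeftIso G).symm⟩⟩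

/-- the two sheaf Hom functors agree -/
noncomputable def dSHIso (G : X.Modules) [DCoh.HasSheafHom G] : DCoh.sheafHom G ≅ SH G :=
  Groth.Agent.Helper29.SHomA.dSheafHomIso G ≪≫ (Groth.Agent.Helper29.SHomA.sheafHomIso G).symm

theorem dAdditive (G : X.Modules) [DCoh.HasSheafHom G] : (DCoh.sheafHom G).Additive :=
  Functor.additive_of_iso (dSHIso G).symm

/-- the key vanishing: over an affine open `U`, `Ext¹_A(A/𝔞, Γ(F|_U))` vanishes when all first
Ext sheaves of `F` against coherent modules vanish -/
theorem subsingleton_ext_of_vanishing [IsLocallyNoetherian X] (F : X.Modules)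
    [F.IsQuasicoherent] (U : X.Opens) (hU : IsAffineOpen U)
    (h : ∀ G : X.Modules, Coh.IsCoh G → IsZero (((SH G).rightDerived 1).obj F))
    (𝔞 : Ideal Γ(X, U)) :
    Subsingleton (Abelian.Ext (ModuleCat.of Γ(X, U) (Γ(X, U) ⧸ 𝔞))
      ((ΓR (ρOpen U)).obj (F.restrict U.ι)) 1) := by
  haveI : IsAffine (↑U : Scheme.{u}) := hU
  haveI : IsLocallyNoetherian (↑U : Scheme.{u}) := inferInstance
  haveI : HasInjectiveResolutions (ModSite.Mod X.sheaf) :=
    inferInstanceAs (HasInjectiveResolutions X.Modules)
  haveI : HasInjectiveResolutions (ModSite.Mod (↑U : Scheme.{u}).sheaf) :=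
    inferInstanceAs (HasInjectiveResolutions (↑U : Scheme.{u}).Modules)
  obtain ⟨G, hG, ⟨eG⟩⟩ := exists_coherent_extension U hU 𝔞
  have hz := h G hG
  obtain ⟨e1⟩ := Groth.Agent.Helper24.ResHom.main11328 U G F 1
  have hGU := isCoh_restrict G hG U
  haveI : (F.restrict U.ι).IsQuasicoherent := inferInstance
  obtain ⟨e2⟩ := main_affine (ρOpen U) (G.restrict U.ι) (F.restrict U.ι) hGU 1
  have hz1 : IsZero ((Scheme.Modules.restrictFunctor U.ι).obj (((SH G).rightDerived 1).obj F)) :=
    Functor.map_isZero _ hz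
  have hz2 : IsZero (((SH (G.restrict U.ι)).rightDerived 1).obj (F.restrict U.ι)) :=
    IsZero.of_iso hz1 e1.symm
  have hz3 : IsZero (ExtM Γ(X, U) ((ΓR (ρOpen U)).obj (F.restrict U.ι)) 1
      ((ΓR (ρOpen U)).obj (G.restrict U.ι))) :=
    IsZero.of_iso (Functor.map_isZero _ hz2) e2.symm
  have hs : Subsingleton (Abelian.Ext ((ΓR (ρOpen U)).obj (G.restrict U.ι))
      ((ΓR (ρOpen U)).obj (F.restrict U.ι)) 1) := ModuleCat.subsingleton_of_isZero hz3
  exact (extLinEquiv eG (Iso.refl ((ΓR (ρOpen U)).obj (F.restrict U.ι))) 1).symm.subsingleton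

/-- **S11163** -/
theorem main11163 [IsLocallyNoetherian X] [HasInjectiveResolutions X.Modules] (F : X.Modules)
    (hF : Coh.IsQCoh F) :
    Injective F ↔ ∀ (G : X.Modules) [DCoh.HasSheafHom G] [(DCoh.sheafHom G).Additive],
      Coh.IsCoh G → IsZero (((DCoh.sheafHom G).rightDerived 1).obj F) := by
  constructor
  · intro hI G _ _ _
    exact Functor.isZero_rightDerived_obj_injective_succ (DCoh.sheafHom G) 0 F
  · intro h
    haveI : F.IsQuasicoherent := hF
    have h' : ∀ G : X.Modules, Coh.IsCoh G → IsZero (((SH G).rightDerived 1).obj F) := by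
      intro G hG
      haveI := dHasSheafHom G
      haveI := dAdditive G
      exact IsZero.of_iso (h G hG) ((rightDerivedIsoOfIso (dSHIso G) 1).app F).symm
    apply Groth.Agent.S11156.result F
    intro x
    obtain ⟨U, hU, hxU⟩ : ∃ U : X.Opens, IsAffineOpen U ∧ x ∈ U := by
      obtain ⟨_, ⟨U, hU, rfl⟩, hxU, -⟩ := X.isBasis_affineOpens.exists_subset_of_mem_open
        (Set.mem_univ x) isOpen_univ
      exact ⟨U, hU, hxU⟩
    refine ⟨U, hxU, ?_⟩
    haveI : IsNoetherianRing Γ(X, U) := IsLocallyNoetherian.component_noetherian ⟨U, hU⟩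
    haveI : IsAffine (↑U : Scheme.{u}) := hU
    haveI : (F.restrict U.ι).IsQuasicoherent := inferInstance
    apply injective_of_affine (ρOpen U) (F.restrict U.ι)
    rw [Module.injective_iff_injective_object]
    apply injective_iff_hasInjectiveDimensionLT_one.2
    apply (Groth.Agent.S5788.result Γ(X, U) ↑((ΓR (ρOpen U)).obj (F.restrict U.ι)) 0).2
    intro 𝔞
    exact subsingleton_ext_of_vanishing F U hU h' 𝔞

end Groth.Agent.Helper24.InjExt
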