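import Mathlib
import Groth.Agent.Lib.Helper24.InjQc2
import Groth.Agent.Lib.Helper13.Qcqs

/-!
# The direct image of `E^~` along `Spec O_{X,x} ⟶ X`, for `E` an injective hull of the residue field
(helper24)
-/

set_option autoImplicit false
set_option maxHeartbeats 400000
set_option linter.style.haveILetI false
universe u
open CategoryTheory CategoryTheory.Limits AlgebraicGeometry Opposite TopologicalSpace

namespace Groth.Agent.Helper24.InjHullPush

open Groth.Agent.Helper24.InjQc

variable {X : Scheme.{u}} (x : X)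

/-- the closed point of `Spec O_{X,x}` -/
noncomputable abbrev cp : PrimeSpectrum (X.presheaf.stalk x) :=
  IsLocalRing.closedPoint (X.presheaf.stalk x)

lemma cp_mem_iff (V : X.Opens) : cp x ∈ (X.fromSpecStalk x) ⁻¹ᵁ V ↔ x ∈ V := by
  have h : (X.fromSpecStalk x) (cp x) = x := Scheme.fromSpecStalk_closedPoint
  constructor
  · intro hV
    have h2 : (X.fromSpecStalk x) (cp x) ∈ V := hV
    rwa [h] at h2
  · intro hV
    show (X.fromSpecStalk x) (cp x) ∈ V
    rwa [h]

section Main

variable (E : Type u) [AddCommGroup E] [Module (X.presheaf.stalk x) E]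

/-- the module `E` over the local ring, bundled -/
noncomputable abbrev Mx : ModuleCat.{u} (X.presheaf.stalk x) := ModuleCat.of (X.presheaf.stalk x) E

/-- the direct image of `E^~` along `Spec O_{X,x} ⟶ X` -/
noncomputable abbrev J : X.Modules :=
  (Scheme.Modules.pushforward (X.fromSpecStalk x)).obj (tilde (Mx x E))

variable {E} [IsLocallyNoetherian X]
  (i : IsLocalRing.ResidueField (X.presheaf.stalk x) →ₗ[X.presheaf.stalk x] E)
  (hi : InjHull.IsInjectiveHull i)

include hi in
theorem vanishAway : VanishAway (Mx x E) (cp x) := by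
  intro y hy
  have h := (Groth.Agent.S11661.result (X.presheaf.stalk x) y.asIdeal.primeCompl
    (IsLocalRing.maximalIdeal (X.presheaf.stalk x)) E i hi).1
  apply h
  obtain ⟨a, hap, hay⟩ := Set.not_subset.mp hy
  exact ⟨a, hap, hay⟩

include hi in
theorem mk_bijective :
    Function.Bijective (LocalizedModule.mkLinearMap (cp x).asIdeal.primeCompl (Mx x E)) := by
  refine ((Groth.Agent.S11661.result (X.presheaf.stalk x)
    (IsLocalRing.maximalIdeal (X.presheaf.stalk x)).primeCompl
    (IsLocalRing.maximalIdeal (X.presheaf.stalk x)) E i hi).2 ?_).1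
  rw [Set.disjoint_left]
  intro a ha ha'
  exact ha' ha

include hi in
theorem h0 (V : X.Opens) (hx : x ∉ V) : Subsingleton Γ(J x E, V) :=
  subsingleton_sections (vanishAway x i hi) ((X.fromSpecStalk x) ⁻¹ᵁ V)
    (fun h => hx ((cp_mem_iff x V).1 h))

include hi in
theorem h1 (V W : X.Opens) (j : V ⟶ W) (hx : x ∈ V) :
    Function.Bijective ((J x E).presheaf.map j.op) :=
  res_bijective (vanishAway x i hi) (mk_bijective x i hi) _ _
    ((Opens.map (X.fromSpecStalk x).base).map j) ((cp_mem_iff x V).2 hx)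

end Main

section Theta

variable {E : Type u} [AddCommGroup E] [Module (X.presheaf.stalk x) E]

/-- the map `E → Γ(J, V)`, `e ↦ e/1` -/
noncomputable def sec (V : X.Opens) (e : E) : Γ(J x E, V) :=
  (tilde.toOpen (Mx x E) ((X.fromSpecStalk x) ⁻¹ᵁ V)).hom e

lemma sec_res {V W : X.Opens} (j : V ⟶ W) (e : E) :
    (J x E).presheaf.map j.op (sec x W e) = sec x V e := rfl

lemma sec_add (V : X.Opens) (a b : E) : sec x V (a + b) = sec x V a + sec x V b :=
  map_add (tilde.toOpen (Mx x E) ((X.fromSpecStalk x) ⁻¹ᵁ V)).hom a b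

lemma smul_spec_def' (W : (Spec (X.presheaf.stalk x)).Opens) (r : X.presheaf.stalk x)
    (s : Γ(tilde (Mx x E), W)) :
    r • s = ((Spec (X.presheaf.stalk x)).presheaf.map W.leTop.op)
      ((Scheme.ΓSpecIso (X.presheaf.stalk x)).inv r) • s := rfl

lemma app_eq (V : X.Opens) (hx : x ∈ V) (a : Γ(X, V)) :
    (X.fromSpecStalk x).app V a =
      ((Spec (X.presheaf.stalk x)).presheaf.map ((X.fromSpecStalk x) ⁻¹ᵁ V).leTop.op)
        ((Scheme.ΓSpecIso (X.presheaf.stalk x)).inv (X.presheaf.germ V x hx a)) := by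
  rw [Scheme.fromSpecStalk_app hx]
  rfl

lemma sec_smul (V : X.Opens) (hx : x ∈ V) (a : Γ(X, V)) (e : E) :
    sec x V (X.presheaf.germ V x hx a • e) = a • sec x V e := by
  have h1 : sec x V (X.presheaf.germ V x hx a • e) =
      ((X.presheaf.germ V x hx a) •
        ((tilde.toOpen (Mx x E) ((X.fromSpecStalk x) ⁻¹ᵁ V)).hom e) :
          Γ(tilde (Mx x E), (X.fromSpecStalk x) ⁻¹ᵁ V)) :=
    map_smul (tilde.toOpen (Mx x E) ((X.fromSpecStalk x) ⁻¹ᵁ V)).hom _ e
  refine h1.trans ?_
  refine (smul_spec_def' x _ _ _).trans ?_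
  rw [← app_eq x V hx a]
  rfl

end Theta

section Final

variable {E : Type u} [AddCommGroup E] [Module (X.presheaf.stalk x) E]

/-- the linear map `E → J_x`, `e ↦ (e/1)_x` -/
noncomputable def theta : E →ₗ[X.presheaf.stalk x] ((J x E).presheaf.stalk x) where
  toFun e := (J x E).presheaf.germ ⊤ x trivial (sec x ⊤ e)
  map_add' a b := by rw [sec_add, map_add]
  map_smul' r e := by
    obtain ⟨V, hxV, a, rfl⟩ := TopCat.Presheaf.exists_germ_eq X.presheaf r
    have h1 : ∀ e' : E, (J x E).presheaf.germ ⊤ x trivial (sec x ⊤ e') =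
        (J x E).presheaf.germ V x hxV (sec x V e') := fun e' =>
      (TopCat.Presheaf.germ_res_apply (J x E).presheaf (homOfLE le_top : V ⟶ ⊤) x hxV
        (sec x ⊤ e')).symm
    rw [h1, h1, sec_smul x V hxV a e, Mero.germ_smul]
    rfl

variable [IsLocallyNoetherian X]
  (i : IsLocalRing.ResidueField (X.presheaf.stalk x) →ₗ[X.presheaf.stalk x] E)
  (hi : InjHull.IsInjectiveHull i)

include hi in
theorem theta_bijective : Function.Bijective (theta x (E := E)) := by
  have hb1 : Function.Bijective (sec x (E := E) ⊤) :=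
    toOpen_bijective (vanishAway x i hi) (mk_bijective x i hi) _ ((cp_mem_iff x ⊤).2 trivial)
  have hb2 : Function.Bijective ((J x E).presheaf.germ ⊤ x trivial) :=
    ⟨germ_injective_of x (J x E) (h1 x i hi) ⊤ trivial,
      germ_surjective_of x (J x E) (h1 x i hi) ⊤ trivial⟩
  exact hb2.comp hb1

include hi in
theorem stalk_injective' :
    Module.Injective (X.presheaf.stalk x) ((J x E).presheaf.stalk x) :=
  Module.Baer.injective (Module.Baer.of_equiv
    (LinearEquiv.ofBijective (theta x (E := E)) (theta_bijective x i hi))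
    (Module.Baer.of_injective hi.isInjective))

include hi in
theorem injective_J : Injective (J x E) :=
  injective_of_concentrated x (J x E) (h0 x i hi) (h1 x i hi) (stalk_injective' x i hi)

omit [IsLocallyNoetherian X] in
theorem qcoh_J [IsLocallyNoetherian X] : Coh.IsQCoh (J x E) := by
  haveI : QuasiCompact (X.fromSpecStalk x) := inferInstance
  haveI : QuasiSeparated (X.fromSpecStalk x) := inferInstance
  exact Groth.Agent.Helper13.Qcqs.isQuasicoherent_pushforward_of_qcqs (X.fromSpecStalk x)
    (tilde (Mx x E))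

include hi in
theorem main11154 : Injective ((Scheme.Modules.pushforward (X.fromSpecStalk x)).obj
        (tilde (ModuleCat.of (X.presheaf.stalk x) E))) ∧
      Coh.IsQCoh ((Scheme.Modules.pushforward (X.fromSpecStalk x)).obj
        (tilde (ModuleCat.of (X.presheaf.stalk x) E))) :=
  ⟨injective_J x i hi, qcoh_J x⟩

end Final

end Groth.Agent.Helper24.InjHullPush
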