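import Mathlib
import Groth.Agent.Lib.Helper24.StalkInj3
import Groth.Agent.Lib.Helper17.IR1

/-!
# Stalks of injective modules on a locally Noetherian scheme are injective (helper24)
-/

set_option autoImplicit false
set_option maxHeartbeats 400000
set_option linter.style.haveILetI false
universe u
open CategoryTheory CategoryTheory.Limits AlgebraicGeometry TopologicalSpace Opposite

namespace Groth.Agent.Helper24.StalkInj

variable {X : Scheme.{u}} (I : X.Modules)

/-- finitely many germs of functions and of sections at `x` are defined on a common affine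
neighbourhood -/
theorem exists_common_germs (x : X) {n : ℕ} (a : Fin n → X.presheaf.stalk x)
    (b : Fin n → I.presheaf.stalk x) :
    ∃ (V : X.Opens) (_ : IsAffineOpen V) (hx : x ∈ V) (f : Fin n → Γ(X, V))
      (m : Fin n → Γ(I, V)),
      (∀ i, X.presheaf.germ V x hx (f i) = a i) ∧ (∀ i, I.presheaf.germ V x hx (m i) = b i) := by
  choose U hU f₀ hf₀ using fun i => TopCat.Presheaf.exists_germ_eq X.presheaf (a i)
  choose U' hU' m₀ hm₀ using fun i => TopCat.Presheaf.exists_germ_eq I.presheaf (b i)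
  let W : X.Opens := Finset.univ.inf U ⊓ Finset.univ.inf U'
  have hxW : x ∈ W := ⟨(mem_finset_inf _ U x).2 (fun i _ => hU i),
    (mem_finset_inf _ U' x).2 (fun i _ => hU' i)⟩
  obtain ⟨_, ⟨V₀, hV, rfl⟩, hxV, hVW⟩ :=
    X.isBasis_affineOpens.exists_subset_of_mem_open hxW W.2
  let V : X.Opens := V₀
  have hVW' : V ≤ W := hVW
  have hVU : ∀ i, V ≤ U i := fun i =>
    hVW'.trans (inf_le_left.trans (Finset.inf_le (Finset.mem_univ i)))
  have hVU' : ∀ i, V ≤ U' i := fun i =>
    hVW'.trans (inf_le_right.trans (Finset.inf_le (Finset.mem_univ i)))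
  refine ⟨V, hV, hxV, fun i => X.presheaf.map (homOfLE (hVU i)).op (f₀ i),
    fun i => I.presheaf.map (homOfLE (hVU' i)).op (m₀ i), ?_, ?_⟩
  · intro i
    rw [TopCat.Presheaf.germ_res_apply]
    exact hf₀ i
  · intro i
    rw [TopCat.Presheaf.germ_res_apply]
    exact hm₀ i


/-- sections version of the conclusion of `exists_nbhd_syzygy` -/
theorem sections_syzygy {V₀ V : X.Opens} (hV : V ≤ V₀) {n : ℕ} (f : Fin n → Γ(X, V₀))
    (m : Fin n → Γ(I, V₀))
    (HV : ∀ (y : X) (_ : y ∈ V) (hy0 : y ∈ V₀) (c : Fin n → X.presheaf.stalk y),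
      (∑ i, c i * X.presheaf.germ V₀ y hy0 (f i) = 0) →
      ∑ i, c i • I.presheaf.germ V₀ y hy0 (m i) = 0)
    (W' : X.Opens) (hW : W' ≤ V) (c' : Fin n → Γ(X, W'))
    (hc : ∑ i, c' i * X.presheaf.map (homOfLE (hW.trans hV)).op (f i) = 0) :
    ∑ i, c' i • I.presheaf.map (homOfLE (hW.trans hV)).op (m i) = 0 := by
  refine TopCat.Presheaf.section_ext ⟨I.presheaf, I.isSheaf⟩ W' _ _ (fun y hy => ?_)
  show I.presheaf.germ W' y hy (∑ i, c' i • I.presheaf.map (homOfLE (hW.trans hV)).op (m i)) =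
    I.presheaf.germ W' y hy 0
  rw [map_zero, germ_sum_smul]
  have hy0 : y ∈ V₀ := hV (hW hy)
  have h2 : ∑ i, X.presheaf.germ W' y hy (c' i) * X.presheaf.germ V₀ y hy0 (f i) = 0 := by
    have h2 := congrArg (X.presheaf.germ W' y hy) hc
    rw [map_sum, map_zero] at h2
    rw [← h2]
    refine Finset.sum_congr rfl (fun i _ => ?_)
    rw [map_mul, TopCat.Presheaf.germ_res_apply]
  have h1 := HV y (hW hy) hy0 (fun i => X.presheaf.germ W' y hy (c' i)) h2
  rw [← h1]
  refine Finset.sum_congr rfl (fun i _ => ?_)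
  rw [TopCat.Presheaf.germ_res_apply]

/-- scalar multiplication on the restriction of a module to an open subscheme -/
lemma restrict_smul_eq (V : X.Opens) (W : V.toScheme.Opens) (r : Γ(V.toScheme, W))
    (t : Γ(I.restrict V.ι, W)) :
    r • t = (((V.ι.appIso W).inv r : Γ(X, V.ι ''ᵁ W)) • (@id (Γ(I, V.ι ''ᵁ W)) t)) := rfl

/-- **dividing sections of an injective module on an open subset** -/
theorem exists_eps (hI : Injective I) {V₀ V : X.Opens} (hV : V ≤ V₀) {n : ℕ}
    (f : Fin n → Γ(X, V₀)) (m : Fin n → Γ(I, V₀))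
    (H : ∀ (W' : X.Opens) (hW : W' ≤ V) (c' : Fin n → Γ(X, W')),
      (∑ i, c' i * X.presheaf.map (homOfLE (hW.trans hV)).op (f i) = 0) →
      ∑ i, c' i • I.presheaf.map (homOfLE (hW.trans hV)).op (m i) = 0) :
    ∃ ε : Γ(I, V.ι ''ᵁ ⊤), ∀ i,
      X.presheaf.map (homOfLE ((V.ι_image_le ⊤).trans hV)).op (f i) • ε =
        I.presheaf.map (homOfLE ((V.ι_image_le ⊤).trans hV)).op (m i) := by
  haveI : Injective (I.restrict V.ι) := Groth.Agent.Helper17.IR.main11327 X V I hI
  have hle : V.ι ''ᵁ ⊤ ≤ V₀ := (V.ι_image_le ⊤).trans hV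
  let fV : Fin n → Γ(X, V.ι ''ᵁ ⊤) := fun i => X.presheaf.map (homOfLE hle).op (f i)
  let mV : Fin n → Γ(I, V.ι ''ᵁ ⊤) := fun i => I.presheaf.map (homOfLE hle).op (m i)
  let f' : Fin n → Γ(V.toScheme, ⊤) := fun i => (V.ι.appIso ⊤).hom (fV i)
  let m' : Fin n → Γ(I.restrict V.ι, ⊤) := fun i => mV i
  have hinv : ∀ i, (V.ι.appIso ⊤).inv (f' i) = fV i := fun i =>
    Iso.hom_inv_id_apply (V.ι.appIso ⊤) (fV i)
  have P : ∀ (W : V.toScheme.Opens) (c : Fin n → Γ(V.toScheme, W)),
      (∑ i, c i * V.toScheme.presheaf.map (homOfLE (le_top : W ≤ ⊤)).op (f' i) = 0) →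
      ∑ i, c i • resTop (I.restrict V.ι) W (m' i) = 0 := by
    intro W c hc
    have hW : V.ι ''ᵁ W ≤ V := V.ι_image_le W
    let c' : Fin n → Γ(X, V.ι ''ᵁ W) := fun i => (V.ι.appIso W).inv (c i)
    have hc' : ∑ i, c' i * X.presheaf.map (homOfLE (hW.trans hV)).op (f i) = 0 := by
      have h6 := congrArg (fun t => (V.ι.appIso W).inv t) hc
      simp only [map_sum, map_zero, map_mul] at h6
      rw [← h6]
      refine Finset.sum_congr rfl (fun i _ => ?_)
      congr 1
      have hnat : (V.ι.appIso W).inv (V.toScheme.presheaf.map (homOfLE (le_top : W ≤ ⊤)).op (f' i)) =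
          X.presheaf.map (V.ι.opensFunctor.op.map (homOfLE (le_top : W ≤ ⊤)).op)
            ((V.ι.appIso ⊤).inv (f' i)) :=
        ConcreteCategory.congr_hom
          (V.ι.appIso_inv_naturality (homOfLE (le_top : W ≤ ⊤)).op) (f' i)
      rw [hnat, hinv i]
      show _ = X.presheaf.map (V.ι.opensFunctor.op.map (homOfLE (le_top : W ≤ ⊤)).op)
        (X.presheaf.map (homOfLE hle).op (f i))
      rw [← ConcreteCategory.comp_apply, ← Functor.map_comp]
      rfl
    have h3 := H (V.ι ''ᵁ W) hW c' hc'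
    have h4 : ∀ i, resTop (I.restrict V.ι) W (m' i) =
        I.presheaf.map (homOfLE (hW.trans hV)).op (m i) := by
      intro i
      show I.presheaf.map (V.ι.opensFunctor.map (homOfLE (le_top : W ≤ ⊤))).op
        (I.presheaf.map (homOfLE hle).op (m i)) = _
      rw [← ConcreteCategory.comp_apply, ← Functor.map_comp]
      rfl
    refine Eq.trans (Finset.sum_congr rfl (fun i _ => ?_)) h3
    rw [h4 i]
    exact restrict_smul_eq I V W (c i) _
  obtain ⟨ε, hε⟩ := exists_section_of_injective (I.restrict V.ι) f' m' P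
  refine ⟨ε, fun i => ?_⟩
  have h1 : (V.ι.appIso ⊤).inv (f' i) • (@id (Γ(I, V.ι ''ᵁ ⊤)) ε) = mV i := hε i
  rw [hinv i] at h1
  exact h1

/-- **Baer's criterion holds for the stalks of an injective module on a locally Noetherian
scheme** -/
theorem baer_stalk [IsLocallyNoetherian X] (hI : Injective I) (x : X) :
    Module.Baer (X.presheaf.stalk x) (I.presheaf.stalk x) := by
  intro 𝔞 g
  obtain ⟨n, a, ha⟩ :=
    Submodule.fg_iff_exists_fin_generating_family.1 (IsNoetherian.noetherian 𝔞)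
  have ha_mem : ∀ i, a i ∈ 𝔞 := fun i => ha ▸ Submodule.subset_span ⟨i, rfl⟩
  obtain ⟨V₀, hV₀, hxV₀, f, m, hf, hm⟩ :=
    exists_common_germs I x a (fun i => g ⟨a i, ha_mem i⟩)
  haveI : IsNoetherianRing Γ(X, V₀) := IsLocallyNoetherian.component_noetherian ⟨V₀, hV₀⟩
  have Hx : ∀ c : Fin n → Γ(X, V₀), (∑ i, c i * f i = 0) →
      I.presheaf.germ V₀ x hxV₀ (∑ i, c i • m i) = 0 := by
    intro c hc
    rw [germ_sum_smul]
    have h1 : ∑ i, X.presheaf.germ V₀ x hxV₀ (c i) • I.presheaf.germ V₀ x hxV₀ (m i) =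
        g (∑ i, X.presheaf.germ V₀ x hxV₀ (c i) • (⟨a i, ha_mem i⟩ : 𝔞)) := by
      rw [map_sum]
      refine Finset.sum_congr rfl (fun i _ => ?_)
      rw [map_smul, hm i]
    rw [h1]
    have h2 : (∑ i, X.presheaf.germ V₀ x hxV₀ (c i) • (⟨a i, ha_mem i⟩ : 𝔞)) = 0 := by
      apply Subtype.ext
      rw [AddSubmonoidClass.coe_finsetSum]
      have h3 := congrArg (X.presheaf.germ V₀ x hxV₀) hc
      rw [map_sum, map_zero] at h3
      rw [Submodule.coe_zero, ← h3]
      refine Finset.sum_congr rfl (fun i _ => ?_)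
      rw [map_mul, hf i]
      rfl
    rw [h2, map_zero]
  obtain ⟨V₁, hV₁V₀, hxV₁, HV₁⟩ := exists_nbhd_syzygy I hV₀ x hxV₀ f m Hx
  obtain ⟨ε, hε⟩ := exists_eps I hI hV₁V₀ f m
    (fun W' hW c' hc => sections_syzygy I hV₁V₀ f m HV₁ W' hW c' hc)
  have hx' : x ∈ V₁.ι ''ᵁ ⊤ := by
    rw [Scheme.Opens.ι_image_top]
    exact hxV₁
  let e : I.presheaf.stalk x := I.presheaf.germ (V₁.ι ''ᵁ ⊤) x hx' ε
  have he : ∀ i, a i • e = g ⟨a i, ha_mem i⟩ := by
    intro i
    have h1 := congrArg (I.presheaf.germ (V₁.ι ''ᵁ ⊤) x hx') (hε i)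
    rw [Mero.germ_smul, TopCat.Presheaf.germ_res_apply, TopCat.Presheaf.germ_res_apply,
      hf i, hm i] at h1
    exact h1
  refine ⟨LinearMap.toSpanSingleton _ _ e, fun r hr => ?_⟩
  have hr' : r ∈ Submodule.span (X.presheaf.stalk x) (Set.range a) := by
    rw [ha]
    exact hr
  obtain ⟨c, hc⟩ := (Submodule.mem_span_range_iff_exists_fun _).1 hr'
  have h2 : (⟨r, hr⟩ : 𝔞) = ∑ i, c i • (⟨a i, ha_mem i⟩ : 𝔞) := by
    apply Subtype.ext
    rw [AddSubmonoidClass.coe_finsetSum]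
    exact hc.symm
  rw [h2, map_sum, LinearMap.toSpanSingleton_apply, ← hc, Finset.sum_smul]
  refine Finset.sum_congr rfl (fun i _ => ?_)
  rw [map_smul, ← he i, smul_eq_mul, mul_smul]

/-- **S11155**: the stalks of an injective module on a locally Noetherian scheme are injective
modules over the local rings -/
theorem main11155 [IsLocallyNoetherian X] (hI : Injective I) (x : X) :
    Module.Injective (X.presheaf.stalk x) (I.presheaf.stalk x) :=
  Module.Baer.injective (baer_stalk I hI x)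

end Groth.Agent.Helper24.StalkInj
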