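import Mathlib
import Groth.Agent.Lib.Helper24.InjQc4
import Groth.Agent.Lib.Helper13.FlatOverAffine
import Groth.Agent.Lib.Helper24.StalkInj4
import Groth.Agent.S11156

/-!
# Injectivity of a quasi-coherent module on a locally Noetherian scheme is detected on stalks
(helper24)
-/

set_option autoImplicit false
set_option maxHeartbeats 400000
set_option linter.style.haveILetI false
universe u
open CategoryTheory CategoryTheory.Limits AlgebraicGeometry Opposite TopologicalSpace

namespace Groth.Agent.Helper24.InjQc

open Groth.Agent.Helper24.AffExt Groth.Agent.Helper13.QCohLoc Groth.Agent.Helper13.FlatOver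

variable {X : Scheme.{u}} (F : X.Modules) [F.IsQuasicoherent]
  {U : X.Opens} (hU : IsAffineOpen U)

include hU in
/-- injectivity of the stalks at the points of an affine open `U` (with `Γ(X, U)` Noetherian)
implies injectivity of the module of sections over `U` -/
theorem injective_sections [IsNoetherianRing Γ(X, U)]
    (h : ∀ x : X, x ∈ U → Module.Injective (X.presheaf.stalk x) (F.presheaf.stalk x)) :
    Module.Injective Γ(X, U) Γ(F, U) := by
  have hmem : ∀ (P : Ideal Γ(X, U)) [P.IsMaximal], hU.fromSpec ⟨P, inferInstance⟩ ∈ U := by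
    intro P _
    have : hU.fromSpec ⟨P, inferInstance⟩ ∈ hU.fromSpec.opensRange := ⟨_, rfl⟩
    rwa [hU.opensRange_fromSpec] at this
  let pt : ∀ (P : Ideal Γ(X, U)) [P.IsMaximal], U :=
    fun P _ => ⟨hU.fromSpec ⟨P, inferInstance⟩, hmem P⟩
  letI algR : ∀ (P : Ideal Γ(X, U)) [P.IsMaximal],
      Algebra Γ(X, U) (X.presheaf.stalk (pt P : X)) :=
    fun P _ => X.presheaf.algebra_section_stalk (pt P)
  letI modB : ∀ (P : Ideal Γ(X, U)) [P.IsMaximal],
      Module Γ(X, U) (F.presheaf.stalk (pt P : X)) := fun P _ => modStalk F (pt P)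
  haveI hsc : ∀ (P : Ideal Γ(X, U)) [P.IsMaximal],
      IsScalarTower Γ(X, U) (X.presheaf.stalk (pt P : X)) (F.presheaf.stalk (pt P : X)) :=
    fun P _ => isScalarTower_stalk F (pt P)
  haveI hloc : ∀ (P : Ideal Γ(X, U)) [P.IsMaximal],
      IsLocalizedModule P.primeCompl (germLin F (pt P)) := by
    intro P _
    have h1 := isLocalizedModule_germ F hU (pt P)
    have h2 : hU.primeIdealOf (pt P) = ⟨P, inferInstance⟩ := primeIdealOf_fromSpec' hU _ _
    rw [h2] at h1
    exact h1
  haveI hlocR : ∀ (P : Ideal Γ(X, U)) [P.IsMaximal],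
      IsLocalization.AtPrime (X.presheaf.stalk (pt P : X)) P := by
    intro P _
    have h1 := hU.isLocalization_stalk (pt P)
    have h2 : hU.primeIdealOf (pt P) = ⟨P, inferInstance⟩ := primeIdealOf_fromSpec' hU _ _
    rw [h2] at h1
    exact h1
  refine @Module.injective_of_localization_maximal' Γ(X, U) _ Γ(F, U) _ _
    (fun P _ => X.presheaf.stalk (pt P : X)) (fun P _ => inferInstance)
    (fun P _ => inferInstance) (fun P _ => algR P) (fun P _ => hlocR P)
    (fun P _ => F.presheaf.stalk (pt P : X)) (fun P _ => inferInstance) (fun P _ => modB P)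
    (fun P _ => inferInstance) (fun P _ => hsc P)
    (fun P _ => germLin F (pt P)) (fun P _ => hloc P) inferInstance inferInstance ?_
  intro P hP
  exact h (pt P : X) (pt P).2

omit [F.IsQuasicoherent] in
/-- **S7768** -/
theorem main7768 [IsLocallyNoetherian X] (hF : Coh.IsQCoh F) :
    Injective F ↔ ∀ x : X, Module.Injective (X.presheaf.stalk x) (F.presheaf.stalk x) := by
  constructor
  · intro hI x
    exact Groth.Agent.Helper24.StalkInj.main11155 F hI x
  · intro h
    haveI : F.IsQuasicoherent := hF
    apply Groth.Agent.S11156.result F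
    intro x
    obtain ⟨U, hU, hxU⟩ : ∃ U : X.Opens, IsAffineOpen U ∧ x ∈ U := by
      obtain ⟨_, ⟨U, hU, rfl⟩, hxU, -⟩ := X.isBasis_affineOpens.exists_subset_of_mem_open
        (Set.mem_univ x) isOpen_univ
      exact ⟨U, hU, hxU⟩
    refine ⟨U, hxU, ?_⟩
    haveI : IsNoetherianRing Γ(X, U) := IsLocallyNoetherian.component_noetherian ⟨U, hU⟩
    have h1 := injective_sections F hU (fun y _ => h y)
    haveI : IsAffine (↑U : Scheme.{u}) := hU
    haveI : (F.restrict U.ι).IsQuasicoherent := inferInstance
    have h2 : Module.Injective Γ(X, U) ((ΓR (ρOpen U)).obj (F.restrict U.ι)) :=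
      Module.Baer.injective (Module.Baer.of_equiv (secEquivOpen U F)
        (Module.Baer.of_injective h1))
    exact injective_of_affine (ρOpen U) (F.restrict U.ι) h2

end Groth.Agent.Helper24.InjQc
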