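import Mathlib
set_option autoImplicit false
set_option linter.unusedSectionVars false

/-!
`ht I + dim R/I ≤ dim R` for an arbitrary ideal.
-/

namespace Groth.Agent.Helper24.KoszCM

variable {R : Type*} [CommRing R]

theorem height_add_ringKrullDim_quotient_le (I : Ideal R) :
    (I.height : WithBot ℕ∞) + ringKrullDim (R ⧸ I) ≤ ringKrullDim R := by
  rw [ringKrullDim_quotient]
  cases isEmpty_or_nonempty (PrimeSpectrum.zeroLocus (R := R) I) with
  | inl h =>
    rw [Order.krullDim_eq_bot, WithBot.add_bot]
    exact bot_le
  | inr h =>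
    rw [Order.krullDim_eq_iSup_coheight_of_nonempty]
    haveI : Nonempty (PrimeSpectrum R) := ⟨h.some.1⟩
    rw [ringKrullDim, Order.krullDim_eq_iSup_height_add_coheight_of_nonempty, ← WithBot.coe_add,
      WithBot.coe_le_coe, ENat.add_iSup]
    refine iSup_le (fun a => ?_)
    obtain ⟨P, hP⟩ := a
    refine le_trans ?_ (le_iSup (fun a : PrimeSpectrum R => Order.height a + Order.coheight a) P)
    have h1 : I.height ≤ Order.height P := by
      rw [← PrimeSpectrum.height_eq_orderHeight]
      exact Ideal.height_mono hP
    have h2 : Order.coheight (⟨P, hP⟩ : PrimeSpectrum.zeroLocus (R := R) I) ≤ Order.coheight P :=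
      Order.coheight_le_coheight_apply_of_strictMono Subtype.val (fun _ _ h => h) ⟨P, hP⟩
    exact add_le_add h1 h2

end Groth.Agent.Helper24.KoszCM
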