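import Mathlib
set_option autoImplicit false
set_option linter.unusedSectionVars false
open ExteriorAlgebra

/-!
Ring-level Koszul complex in the exterior-algebra model: the differential is contraction with a linear form.
Part 1: the differential, its value on decomposables, restriction to exterior powers.
-/

namespace Groth.Agent.Helper24.KoszEx

variable {R : Type*} [CommRing R] {M : Type*} [AddCommGroup M] [Module R M]

/-- the Koszul differential on the exterior algebra: contraction with `φ` -/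
noncomputable def dE (φ : M →ₗ[R] R) : ExteriorAlgebra R M →ₗ[R] ExteriorAlgebra R M :=
  CliffordAlgebra.contractLeft (Q := (0 : QuadraticForm R M)) φ

theorem dE_ι_mul (φ : M →ₗ[R] R) (m : M) (x : ExteriorAlgebra R M) :
    dE φ (ι R m * x) = φ m • x - ι R m * dE φ x :=
  CliffordAlgebra.contractLeft_ι_mul φ m x

theorem dE_algebraMap (φ : M →ₗ[R] R) (r : R) :
    dE φ (algebraMap R (ExteriorAlgebra R M) r) = 0 :=
  CliffordAlgebra.contractLeft_algebraMap _ φ r

theorem dE_one (φ : M →ₗ[R] R) : dE φ (1 : ExteriorAlgebra R M) = 0 :=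
  CliffordAlgebra.contractLeft_one _ φ

theorem dE_ι (φ : M →ₗ[R] R) (m : M) :
    dE φ (ι R m) = algebraMap R (ExteriorAlgebra R M) (φ m) :=
  CliffordAlgebra.contractLeft_ι _ φ m

theorem dE_dE (φ : M →ₗ[R] R) (x : ExteriorAlgebra R M) : dE φ (dE φ x) = 0 :=
  CliffordAlgebra.contractLeft_contractLeft φ x

theorem dE_zero (x : ExteriorAlgebra R M) : dE (0 : M →ₗ[R] R) x = 0 := by
  unfold dE
  rw [map_zero]
  rfl

/-- the product formula for the Koszul differential -/
theorem dE_ιMulti (φ : M →ₗ[R] R) : ∀ (p : ℕ) (e : Fin (p + 1) → M),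
    dE φ (ExteriorAlgebra.ιMulti R (p + 1) e) =
      ∑ i : Fin (p + 1), ((-1 : R) ^ (i : ℕ) * φ (e i)) •
        ExteriorAlgebra.ιMulti R p (fun j => e (i.succAbove j)) := by
  intro p
  induction p with
  | zero =>
    intro e
    rw [ιMulti_succ_apply, ιMulti_zero_apply, dE_ι_mul, dE_one, mul_zero, sub_zero]
    simp
  | succ p ih =>
    intro e
    rw [ιMulti_succ_apply, dE_ι_mul, ih, Finset.mul_sum]
    conv_rhs => rw [Fin.sum_univ_succ]
    have h0 : ((-1 : R) ^ ((0 : Fin (p + 1 + 1)) : ℕ) * φ (e 0)) •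
        ExteriorAlgebra.ιMulti R (p + 1) (fun j => e ((0 : Fin (p + 1 + 1)).succAbove j)) =
        φ (e 0) • ExteriorAlgebra.ιMulti R (p + 1) (Matrix.vecTail e) := by
      simp only [Fin.val_zero, pow_zero, one_mul, Fin.succAbove_zero]
      rfl
    rw [h0, sub_eq_add_neg, ← Finset.sum_neg_distrib]
    congr 1
    refine Finset.sum_congr rfl (fun i _ => ?_)
    rw [ιMulti_succ_apply (R := R) (v := fun j => e (i.succ.succAbove j))]
    have h1 : e (i.succ.succAbove 0) = e 0 := by
      rw [Fin.succ_succAbove_zero]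
    have h2 : Matrix.vecTail (fun j => e (i.succ.succAbove j)) =
        fun j => Matrix.vecTail e (i.succAbove j) := by
      funext j
      simp only [Matrix.vecTail, Function.comp_apply, Fin.succ_succAbove_succ]
    rw [h1, h2, mul_smul_comm, ← neg_smul]
    congr 1
    rw [Fin.val_succ, pow_succ]
    simp only [Matrix.vecTail, Function.comp_apply]
    ring

theorem dE_mem_zero (φ : M →ₗ[R] R) (x : ExteriorAlgebra R M) (hx : x ∈ ⋀[R]^0 M) :
    dE φ x = 0 := by
  rw [ExteriorAlgebra.exteriorPower, pow_zero, Submodule.mem_one] at hx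
  obtain ⟨r, rfl⟩ := hx
  exact dE_algebraMap φ r

theorem dE_mem (φ : M →ₗ[R] R) (p : ℕ) (x : ExteriorAlgebra R M) (hx : x ∈ ⋀[R]^(p + 1) M) :
    dE φ x ∈ ⋀[R]^p M := by
  have h : ⋀[R]^(p + 1) M ≤ (⋀[R]^p M).comap (dE φ) := by
    rw [← ιMulti_span_fixedDegree, Submodule.span_le]
    rintro _ ⟨e, rfl⟩
    show dE φ _ ∈ ⋀[R]^p M
    rw [dE_ιMulti]
    refine Submodule.sum_mem _ (fun i _ => Submodule.smul_mem _ _ ?_)
    exact ιMulti_range R p ⟨_, rfl⟩
  exact h hx

/-- the Koszul differential between exterior powers -/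
noncomputable def dP (φ : M →ₗ[R] R) (p : ℕ) : ↥(⋀[R]^(p + 1) M) →ₗ[R] ↥(⋀[R]^p M) :=
  ((dE φ).domRestrict (⋀[R]^(p + 1) M)).codRestrict (⋀[R]^p M) (fun x => dE_mem φ p x.1 x.2)

theorem dP_coe (φ : M →ₗ[R] R) (p : ℕ) (x : ↥(⋀[R]^(p + 1) M)) :
    ((dP φ p x : ↥(⋀[R]^p M)) : ExteriorAlgebra R M) = dE φ (x : ExteriorAlgebra R M) := rfl

/-- the prelude's `dGen` formula, stated without the prelude -/
theorem dP_ιMulti (φ : M →ₗ[R] R) (p : ℕ) (e : Fin (p + 1) → M) :
    dP φ p (exteriorPower.ιMulti R (p + 1) e) =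
      ∑ i : Fin (p + 1), ((-1 : R) ^ (i : ℕ) * φ (e i)) •
        exteriorPower.ιMulti R p (fun j => e (i.succAbove j)) := by
  apply Subtype.ext
  rw [dP_coe, exteriorPower.ιMulti_apply_coe, dE_ιMulti, Submodule.coe_sum]
  refine Finset.sum_congr rfl (fun i _ => ?_)
  rw [Submodule.coe_smul, exteriorPower.ιMulti_apply_coe]

/-- a linear map with the Koszul values on decomposables is the Koszul differential -/
theorem eq_dP (φ : M →ₗ[R] R) (p : ℕ) (D : ↥(⋀[R]^(p + 1) M) →ₗ[R] ↥(⋀[R]^p M))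
    (hD : ∀ e : Fin (p + 1) → M, D (exteriorPower.ιMulti R (p + 1) e) =
      ∑ i : Fin (p + 1), ((-1 : R) ^ (i : ℕ) * φ (e i)) •
        exteriorPower.ιMulti R p (fun j => e (i.succAbove j))) :
    D = dP φ p := by
  apply exteriorPower.linearMap_ext
  ext e
  simp only [LinearMap.compAlternatingMap_apply]
  rw [hD, dP_ιMulti]

end Groth.Agent.Helper24.KoszEx
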