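import Mathlib
import Groth.Agent.Lib.Helper24.KoszEx1
set_option autoImplicit false
set_option linter.unusedSectionVars false
open ExteriorAlgebra

/-!
Ring-level Koszul complex, part 2: naturality, the decomposition `Λ(M × R) = Λ(M) ⊕ e ∧ Λ(M)` and the
inductive step of acyclicity.
-/

namespace Groth.Agent.Helper24.KoszEx

variable {R : Type*} [CommRing R] {M : Type*} [AddCommGroup M] [Module R M]
  {N : Type*} [AddCommGroup N] [Module R N]

/-- naturality of the Koszul differential -/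
theorem dE_map (f : M →ₗ[R] N) (ψ : N →ₗ[R] R) (x : ExteriorAlgebra R M) :
    dE ψ (ExteriorAlgebra.map f x) = ExteriorAlgebra.map f (dE (ψ ∘ₗ f) x) := by
  induction x using CliffordAlgebra.left_induction with
  | algebraMap r =>
    rw [dE_algebraMap, map_zero, AlgHom.commutes, dE_algebraMap]
  | add x y hx hy =>
    rw [map_add, map_add, map_add, map_add, hx, hy]
  | ι_mul x m hx =>
    have h1 : ExteriorAlgebra.map f (CliffordAlgebra.ι (0 : QuadraticForm R M) m * x) =
        ι R (f m) * ExteriorAlgebra.map f x := by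
      rw [map_mul]
      congr 1
      exact map_apply_ι f m
    have h2 : dE (ψ ∘ₗ f) (CliffordAlgebra.ι (0 : QuadraticForm R M) m * x) =
        ψ (f m) • x - ι R m * dE (ψ ∘ₗ f) x := dE_ι_mul (ψ ∘ₗ f) m x
    rw [h1, h2, dE_ι_mul, hx, map_sub, map_smul, map_mul, map_apply_ι]

/-- the acyclicity statement in the (ungraded) exterior algebra model -/
def Acyc (φ : M →ₗ[R] R) : Prop :=
  ∀ x : ExteriorAlgebra R M, dE φ x = 0 →
    ∃ (y : ExteriorAlgebra R M) (r : R), x = dE φ y + algebraMap R (ExteriorAlgebra R M) r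

theorem Acyc.congr {φ : M →ₗ[R] R} (h : Acyc φ) (g : M ≃ₗ[R] N) :
    Acyc (φ ∘ₗ g.symm.toLinearMap) := by
  intro x hx
  have h1 : dE φ (ExteriorAlgebra.map g.symm.toLinearMap x) = 0 := by
    rw [dE_map, hx, map_zero]
  obtain ⟨y, r, hy⟩ := h _ h1
  refine ⟨ExteriorAlgebra.map g.toLinearMap y, r, ?_⟩
  have h2 : ExteriorAlgebra.map g.toLinearMap (ExteriorAlgebra.map g.symm.toLinearMap x) = x := by
    have := map_comp_map (R := R) g.symm.toLinearMap g.toLinearMap
    have h3 : g.toLinearMap ∘ₗ g.symm.toLinearMap = LinearMap.id := by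
      ext n; simp
    rw [h3, map_id] at this
    exact congr($this x)
  have h4 : (φ ∘ₗ g.symm.toLinearMap) ∘ₗ g.toLinearMap = φ := by
    ext m; simp
  rw [dE_map, h4, ← h2, hy, map_add, AlgHom.commutes]

theorem exists_algebraMap_of_subsingleton [Subsingleton M] (x : ExteriorAlgebra R M) :
    ∃ r : R, x = algebraMap R (ExteriorAlgebra R M) r := by
  induction x using CliffordAlgebra.left_induction with
  | algebraMap r => exact ⟨r, rfl⟩
  | add x y hx hy =>
    obtain ⟨r, rfl⟩ := hx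
    obtain ⟨r', rfl⟩ := hy
    exact ⟨r + r', (map_add _ _ _).symm⟩
  | ι_mul x m hx =>
    refine ⟨0, ?_⟩
    rw [Subsingleton.elim m 0, map_zero, zero_mul, map_zero]

theorem acyc_of_subsingleton [Subsingleton M] (φ : M →ₗ[R] R) : Acyc φ := by
  intro x _
  obtain ⟨r, rfl⟩ := exists_algebraMap_of_subsingleton x
  exact ⟨0, r, by rw [map_zero, zero_add]⟩

/-- the augmentation of a boundary lies in the image of the form -/
theorem algebraMapInv_dE_mem (φ : M →ₗ[R] R) (w : ExteriorAlgebra R M) :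
    algebraMapInv (dE φ w) ∈ LinearMap.range φ := by
  induction w using CliffordAlgebra.left_induction with
  | algebraMap r =>
    rw [dE_algebraMap, map_zero]
    exact Submodule.zero_mem _
  | add x y hx hy =>
    rw [map_add, map_add]
    exact Submodule.add_mem _ hx hy
  | ι_mul x m _ =>
    have h2 : dE φ (CliffordAlgebra.ι (0 : QuadraticForm R M) m * x) =
        φ m • x - ι R m * dE φ x := dE_ι_mul φ m x
    have h3 : algebraMapInv (ι R m : ExteriorAlgebra R M) = 0 := by
      simp [algebraMapInv]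
    rw [h2, map_sub, map_smul, map_mul, h3, zero_mul, sub_zero]
    refine ⟨algebraMapInv x • m, ?_⟩
    rw [map_smul, smul_eq_mul, smul_eq_mul, mul_comm]

section Step

variable (φ : M →ₗ[R] R) (a : R)

/-- the form on `M × R` -/
noncomputable def Φ : (M × R) →ₗ[R] R := φ.coprod (a • LinearMap.id)

/-- the inclusion of exterior algebras -/
noncomputable def jj : ExteriorAlgebra R M →ₐ[R] ExteriorAlgebra R (M × R) :=
  ExteriorAlgebra.map (LinearMap.inl R M R)

/-- the retraction -/
noncomputable def ρρ : ExteriorAlgebra R (M × R) →ₐ[R] ExteriorAlgebra R M :=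
  ExteriorAlgebra.map (LinearMap.fst R M R)

/-- the new generator -/
noncomputable def ee : ExteriorAlgebra R (M × R) := ι R ((0 : M), (1 : R))

theorem ρρ_jj (x : ExteriorAlgebra R M) : ρρ (jj x) = x := by
  have := map_comp_map (R := R) (LinearMap.inl R M R) (LinearMap.fst R M R)
  rw [LinearMap.fst_comp_inl, map_id] at this
  exact congr($this x)

theorem ρρ_ee : ρρ (ee : ExteriorAlgebra R (M × R)) = 0 := by
  unfold ρρ ee
  rw [map_apply_ι]
  simp

theorem ee_mul_ee : (ee : ExteriorAlgebra R (M × R)) * ee = 0 := ι_sq_zero _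

theorem jj_ι (m : M) : jj (ι R m) = ι R ((m, (0 : R)) : M × R) := by
  unfold jj
  rw [map_apply_ι]
  rfl

theorem ι_prod (m : M) (c : R) :
    ι R ((m, c) : M × R) = jj (ι R m) + c • ee := by
  rw [jj_ι]
  unfold ee
  rw [← map_smul, ← map_add]
  congr 1
  simp

theorem jjι_mul_ee (m : M) :
    jj (ι R m) * (ee : ExteriorAlgebra R (M × R)) = - (ee * jj (ι R m)) := by
  rw [jj_ι]
  unfold ee
  exact eq_neg_of_add_eq_zero_left (ι_add_mul_swap _ _)

theorem dE_Φ_jj (x : ExteriorAlgebra R M) : dE (Φ φ a) (jj x) = jj (dE φ x) := by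
  unfold jj
  rw [dE_map]
  congr 2
  unfold Φ
  ext m
  simp

theorem dE_Φ_ee_mul (y : ExteriorAlgebra R (M × R)) :
    dE (Φ φ a) (ee * y) = a • y - ee * dE (Φ φ a) y := by
  unfold ee
  rw [dE_ι_mul]
  congr 2
  unfold Φ
  simp

/-- existence of the decomposition -/
theorem exists_decomp (x : ExteriorAlgebra R (M × R)) :
    ∃ x0 x1 : ExteriorAlgebra R M, x = jj x0 + ee * jj x1 := by
  induction x using CliffordAlgebra.left_induction with
  | algebraMap r =>
    refine ⟨algebraMap R _ r, 0, ?_⟩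
    rw [AlgHom.commutes, map_zero, mul_zero, add_zero]
  | add x y hx hy =>
    obtain ⟨x0, x1, rfl⟩ := hx
    obtain ⟨y0, y1, rfl⟩ := hy
    refine ⟨x0 + y0, x1 + y1, ?_⟩
    rw [map_add, map_add, mul_add]
    abel
  | ι_mul x n hx =>
    obtain ⟨x0, x1, rfl⟩ := hx
    obtain ⟨m, c⟩ := n
    refine ⟨ι R m * x0, c • x0 - ι R m * x1, ?_⟩
    have h1 : CliffordAlgebra.ι (0 : QuadraticForm R (M × R)) (m, c) = jj (ι R m) + c • ee :=
      ι_prod m c
    rw [h1, map_mul, map_sub, map_smul, map_mul, add_mul, mul_add, mul_add, mul_sub]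
    have h2 : jj (ι R m) * (ee * jj x1) = - (ee * (jj (ι R m) * jj x1)) := by
      rw [← mul_assoc, jjι_mul_ee, neg_mul, mul_assoc]
    have h3 : c • (ee : ExteriorAlgebra R (M × R)) * (ee * jj x1) = 0 := by
      rw [smul_mul_assoc, ← mul_assoc, ee_mul_ee, zero_mul, smul_zero]
    rw [h2, h3, smul_mul_assoc, mul_smul_comm]
    abel

/-- uniqueness of the decomposition -/
theorem decomp_unique (x0 x1 : ExteriorAlgebra R M)
    (h : jj x0 + (ee : ExteriorAlgebra R (M × R)) * jj x1 = 0) : x0 = 0 ∧ x1 = 0 := by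
  have h0 : x0 = 0 := by
    have := congrArg (ρρ (R := R) (M := M)) h
    rwa [map_add, map_mul, ρρ_jj, ρρ_ee, zero_mul, add_zero, map_zero] at this
  refine ⟨h0, ?_⟩
  rw [h0, map_zero, zero_add] at h
  have h1 := congrArg (dE (LinearMap.snd R M R)) h
  unfold ee at h1
  rw [dE_ι_mul, map_zero] at h1
  have h2 : dE (LinearMap.snd R M R) (jj x1) = 0 := by
    unfold jj
    rw [dE_map, LinearMap.snd_comp_inl, dE_zero, map_zero]
  rw [h2, mul_zero, sub_zero] at h1
  have h3 : (LinearMap.snd R M R) ((0 : M), (1 : R)) = 1 := rfl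
  rw [h3, one_smul] at h1
  have := congrArg (ρρ (R := R) (M := M)) h1
  rwa [ρρ_jj, map_zero] at this

/-- the inductive step -/
theorem acyc_step (h : Acyc φ)
    (hreg : ∀ r : R, a * r ∈ LinearMap.range φ → r ∈ LinearMap.range φ) :
    Acyc (Φ φ a) := by
  intro x hx
  obtain ⟨x0, x1, rfl⟩ := exists_decomp x
  have e1 : dE (Φ φ a) (jj x0 + ee * jj x1) =
      jj (dE φ x0 + a • x1) + ee * jj (- dE φ x1) := by
    rw [map_add, dE_Φ_jj, dE_Φ_ee_mul, dE_Φ_jj, map_add, map_smul, map_neg, mul_neg]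
    abel
  rw [e1] at hx
  obtain ⟨hA, hB⟩ := decomp_unique _ _ hx
  have hB' : dE φ x1 = 0 := neg_eq_zero.mp hB
  obtain ⟨y1, r1, hy1⟩ := h x1 hB'
  have e2 : algebraMap R (ExteriorAlgebra R M) (a * r1) = dE φ (- x0 - a • y1) := by
    rw [map_sub, map_neg, map_smul, map_mul, ← Algebra.smul_def]
    have : a • x1 = a • dE φ y1 + a • algebraMap R (ExteriorAlgebra R M) r1 := by
      rw [hy1, smul_add]
    rw [eq_neg_of_add_eq_zero_left hA] at *
    rw [eq_sub_iff_add_eq, add_comm, ← this]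
    exact (eq_neg_of_add_eq_zero_right hA)
  have e3 : a * r1 ∈ LinearMap.range φ := by
    have := algebraMapInv_dE_mem φ (- x0 - a • y1)
    rw [← e2] at this
    rwa [algebraMap_leftInverse M (a * r1)] at this
  obtain ⟨m1, hm1⟩ := hreg r1 e3
  have e4 : x1 = dE φ (y1 + ι R m1) := by
    rw [map_add, dE_ι, hm1]
    exact hy1
  have e5 : dE φ (x0 + a • (y1 + ι R m1)) = 0 := by
    rw [map_add, map_smul, ← e4]
    exact hA
  obtain ⟨v, r0, hv⟩ := h _ e5
  refine ⟨jj v - ee * jj (y1 + ι R m1), r0, ?_⟩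
  rw [map_sub, dE_Φ_jj, dE_Φ_ee_mul, dE_Φ_jj, ← e4]
  have e6 : jj (dE φ v) = jj x0 + a • jj (y1 + ι R m1) -
      algebraMap R (ExteriorAlgebra R (M × R)) r0 := by
    have := congrArg (jj (R := R) (M := M)) hv
    rw [map_add, map_add, map_smul, AlgHom.commutes] at this
    rw [this]
    abel
  rw [e6]
  abel

end Step

end Groth.Agent.Helper24.KoszEx
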