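import Mathlib
import Groth.Agent.Lib.Helper24.KoszEx2
set_option autoImplicit false
set_option linter.unusedSectionVars false
open ExteriorAlgebra RingTheory.Sequence

/-!
Ring-level Koszul complex, part 3: acyclicity for a free module with a basis mapping to a weakly regular
sequence, and extraction of the graded statement.
-/

namespace Groth.Agent.Helper24.KoszEx

variable {R : Type*} [CommRing R]

/-- the form on `Fin n → R` with coefficients `a` -/
noncomputable def formOf {n : ℕ} (a : Fin n → R) : (Fin n → R) →ₗ[R] R :=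
  ∑ i, a i • LinearMap.proj i

theorem formOf_apply {n : ℕ} (a : Fin n → R) (v : Fin n → R) :
    formOf a v = ∑ i, a i * v i := by
  simp [formOf, LinearMap.sum_apply]

theorem range_formOf {n : ℕ} (a : Fin n → R) :
    LinearMap.range (formOf a) = Ideal.span (Set.range a) := by
  apply le_antisymm
  · rintro _ ⟨v, rfl⟩
    rw [formOf_apply]
    refine Submodule.sum_mem _ (fun i _ => ?_)
    exact Ideal.mul_mem_right _ _ (Ideal.subset_span ⟨i, rfl⟩)
  · rw [Ideal.span, Submodule.span_le]
    rintro _ ⟨i, rfl⟩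
    refine ⟨Pi.single i 1, ?_⟩
    rw [formOf_apply, Finset.sum_eq_single i]
    · simp
    · intro j _ hj
      simp [hj]
    · intro h
      exact absurd (Finset.mem_univ i) h

/-- the equivalence `(Fin n → R) × R ≃ (Fin (n+1) → R)` -/
noncomputable def snocEquiv (n : ℕ) : ((Fin n → R) × R) ≃ₗ[R] (Fin (n + 1) → R) where
  toFun p := (Fin.snoc p.1 p.2 : Fin (n + 1) → R)
  invFun v := (Fin.init v, v (Fin.last n))
  left_inv p := by
    ext <;> simp [Fin.init]
  right_inv v := by
    simp
  map_add' p q := by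
    ext i
    refine Fin.lastCases ?_ (fun j => ?_) i <;> simp
  map_smul' r p := by
    ext i
    refine Fin.lastCases ?_ (fun j => ?_) i <;> simp

theorem formOf_snoc {n : ℕ} (a : Fin (n + 1) → R) :
    Φ (formOf (Fin.init a)) (a (Fin.last n)) ∘ₗ (snocEquiv n).symm.toLinearMap = formOf a := by
  refine LinearMap.ext (fun v => ?_)
  show Φ (formOf (Fin.init a)) (a (Fin.last n))
    ((fun i : Fin n => v i.castSucc), v (Fin.last n)) = _
  unfold Φ
  rw [LinearMap.coprod_apply, formOf_apply, formOf_apply, Fin.sum_univ_castSucc]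
  simp [Fin.init]

theorem acyc_pi : ∀ (n : ℕ) (a : Fin n → R), IsWeaklyRegular R (List.ofFn a) → Acyc (formOf a) := by
  intro n
  induction n with
  | zero =>
    intro a _
    exact acyc_of_subsingleton _
  | succ n ih =>
    intro a ha
    have h1 : List.ofFn a = List.ofFn (Fin.init a) ++ [a (Fin.last n)] := by
      rw [List.ofFn_succ', List.concat_eq_append]
      rfl
    rw [h1, isWeaklyRegular_append_iff, isWeaklyRegular_singleton_iff,
      isSMulRegular_quotient_iff_mem_of_smul_mem] at ha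
    obtain ⟨ha1, ha2⟩ := ha
    have h2 : (Ideal.ofList (List.ofFn (Fin.init a)) • (⊤ : Submodule R R) : Submodule R R) =
        LinearMap.range (formOf (Fin.init a)) := by
      rw [range_formOf, Ideal.smul_eq_mul, Ideal.mul_top, Ideal.ofList]
      congr 1
      ext r
      exact List.mem_ofFn' _ _
    rw [h2] at ha2
    have h3 := acyc_step (formOf (Fin.init a)) (a (Fin.last n)) (ih _ ha1)
      (fun r hr => ha2 r hr)
    have h4 := h3.congr (snocEquiv n)
    rwa [formOf_snoc] at h4

variable {M : Type*} [AddCommGroup M] [Module R M]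

theorem formOf_basis {n : ℕ} (b : Module.Basis (Fin n) R M) (φ : M →ₗ[R] R) :
    formOf (fun k => φ (b k)) ∘ₗ b.equivFun.symm.symm.toLinearMap = φ := by
  ext m
  simp only [LinearEquiv.symm_symm, LinearMap.coe_comp, LinearEquiv.coe_coe, Function.comp_apply]
  rw [formOf_apply]
  conv_rhs => rw [← b.sum_equivFun m]
  rw [map_sum]
  refine Finset.sum_congr rfl (fun i _ => ?_)
  rw [map_smul, smul_eq_mul, mul_comm]

/-- acyclicity for a free module with a basis mapping to a weakly regular sequence -/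
theorem acyc_of_basis {n : ℕ} (b : Module.Basis (Fin n) R M) (φ : M →ₗ[R] R)
    (hreg : IsWeaklyRegular R (List.ofFn fun k => φ (b k))) : Acyc φ := by
  have h := (acyc_pi n (fun k => φ (b k)) hreg).congr b.equivFun.symm
  rwa [formOf_basis] at h

/-- the `k`-th graded component -/
noncomputable def pr (k : ℕ) : ExteriorAlgebra R M →+ ExteriorAlgebra R M :=
  GradedRing.proj (fun i : ℕ => ⋀[R]^i M) k

theorem pr_of_mem (k : ℕ) (x : ExteriorAlgebra R M) (hx : x ∈ ⋀[R]^k M) : pr k x = x := by
  unfold pr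
  rw [GradedRing.proj_apply]
  exact DirectSum.decompose_of_mem_same _ hx

theorem pr_of_mem_ne (k i : ℕ) (x : ExteriorAlgebra R M) (hx : x ∈ ⋀[R]^i M) (h : i ≠ k) :
    pr k x = 0 := by
  unfold pr
  rw [GradedRing.proj_apply]
  exact DirectSum.decompose_of_mem_ne _ hx h

theorem pr_dE (φ : M →ₗ[R] R) (y : ExteriorAlgebra R M) (k : ℕ) :
    pr k (dE φ y) = dE φ (pr (k + 1) y) := by
  induction y using DirectSum.Decomposition.inductionOn (fun i : ℕ => ⋀[R]^i M) with
  | zero => rw [map_zero, map_zero, map_zero, map_zero]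
  | homogeneous m =>
    rename_i i
    obtain ⟨m, hm⟩ := m
    show pr k (dE φ m) = dE φ (pr (k + 1) m)
    cases i with
    | zero =>
      rw [dE_mem_zero φ m hm, map_zero, pr_of_mem_ne (k + 1) 0 m hm (by omega), map_zero]
    | succ i =>
      by_cases h : i = k
      · subst h
        rw [pr_of_mem _ _ (dE_mem φ i m hm), pr_of_mem _ _ hm]
      · rw [pr_of_mem_ne k i _ (dE_mem φ i m hm) h,
          pr_of_mem_ne (k + 1) (i + 1) m hm (by omega), map_zero]
  | add m m' hm hm' => rw [map_add, map_add, map_add, map_add, hm, hm']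

/-- exactness of the graded Koszul complex from acyclicity -/
theorem exact_of_acyc (φ : M →ₗ[R] R) (h : Acyc φ) (q : ℕ) (x : ↥(⋀[R]^(q + 1) M))
    (hx : dP φ q x = 0) : ∃ y : ↥(⋀[R]^(q + 1 + 1) M), dP φ (q + 1) y = x := by
  have h1 : dE φ (x : ExteriorAlgebra R M) = 0 := by
    rw [← dP_coe, hx]
    rfl
  obtain ⟨y, r, hy⟩ := h _ h1
  have h2 := congrArg (pr (q + 1)) hy
  rw [pr_of_mem _ _ x.2, map_add, pr_dE] at h2
  have h3 : pr (q + 1) (algebraMap R (ExteriorAlgebra R M) r) = 0 := by
    refine pr_of_mem_ne (q + 1) 0 _ ?_ (by omega)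
    rw [ExteriorAlgebra.exteriorPower, pow_zero, Submodule.mem_one]
    exact ⟨r, rfl⟩
  rw [h3, add_zero] at h2
  have h4 : pr (q + 1 + 1) y ∈ ⋀[R]^(q + 1 + 1) M := by
    unfold pr
    rw [GradedRing.proj_apply]
    exact Submodule.coe_mem _
  refine ⟨⟨_, h4⟩, ?_⟩
  apply Subtype.ext
  rw [dP_coe]
  exact h2.symm

/-- **Koszul exactness**: for a free module with a basis mapping to a weakly regular sequence, linear maps
with the Koszul values on decomposables form an exact sequence in positive degrees. -/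
theorem koszul_exact {n : ℕ} (b : Module.Basis (Fin n) R M) (φ : M →ₗ[R] R)
    (hreg : IsWeaklyRegular R (List.ofFn fun k => φ (b k))) (q : ℕ)
    (D1 : ↥(⋀[R]^(q + 1 + 1) M) →ₗ[R] ↥(⋀[R]^(q + 1) M))
    (hD1 : ∀ e : Fin (q + 1 + 1) → M, D1 (exteriorPower.ιMulti R (q + 1 + 1) e) =
      ∑ i : Fin (q + 1 + 1), ((-1 : R) ^ (i : ℕ) * φ (e i)) •
        exteriorPower.ιMulti R (q + 1) (fun j => e (i.succAbove j)))
    (D0 : ↥(⋀[R]^(q + 1) M) →ₗ[R] ↥(⋀[R]^q M))
    (hD0 : ∀ e : Fin (q + 1) → M, D0 (exteriorPower.ιMulti R (q + 1) e) =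
      ∑ i : Fin (q + 1), ((-1 : R) ^ (i : ℕ) * φ (e i)) •
        exteriorPower.ιMulti R q (fun j => e (i.succAbove j)))
    (x : ↥(⋀[R]^(q + 1) M)) (hx : D0 x = 0) : ∃ y, D1 y = x := by
  rw [eq_dP φ q D0 hD0] at hx
  rw [eq_dP φ (q + 1) D1 hD1]
  exact exact_of_acyc φ (acyc_of_basis b φ hreg) q x hx

end Groth.Agent.Helper24.KoszEx
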