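import Groth.Prelude.Def_KoszulSh
import Groth.Prelude.Def_FlatMod2
import Groth.Agent.Lib.Helper13.Retract
import Groth.Agent.Lib.Helper13.ExtQCoh
import Groth.Agent.Lib.Helper13.QCohLoc
import Groth.Agent.Lib.Helper13.SecExact
import Groth.Agent.Lib.Helper24.KoszEx3
import Groth.Agent.Lib.Helper24.KoszMap1
set_option autoImplicit false
set_option linter.unusedSectionVars false
set_option linter.style.haveILetI false
universe u
open CategoryTheory CategoryTheory.Limits AlgebraicGeometry TopologicalSpace Opposite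
open KoszSh exteriorPower Groth.Agent.Helper24.KoszMap Groth.Agent.Helper13.QCohLoc

/-!
The Koszul complex of a regular section of a finite locally free module is acyclic (S15899).
-/

namespace Groth.Agent.Helper24.KoszEx

variable {X : Scheme.{u}} {E : X.Modules} {s : E ⟶ Coh.structureModule X}

theorem isQuasicoherent_of_isFinLocFreeOfRank (n : ℕ) (M : X.Modules)
    (h : FlatMod.IsFinLocFreeOfRank n M) : M.IsQuasicoherent := by
  apply Groth.Agent.Helper13.Ext.isQuasicoherent_of_forall_exists_restrict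
  intro x
  obtain ⟨U, hxU, ⟨e⟩⟩ := h x
  exact ⟨U, hxU, Groth.Agent.Helper13.QCohLocal.isQuasicoherent_of_iso e.symm⟩

/-- an open over which `E` has a basis mapping to a weakly regular sequence -/
def Good (n : ℕ) (s : E ⟶ Coh.structureModule X) (W : X.Opens) : Prop :=
  IsAffineOpen W ∧ ∃ b : Module.Basis (Fin n) Γ(X, W) Γ(E, W),
    RingTheory.Sequence.IsWeaklyRegular Γ(X, W) (List.ofFn fun k => secForm s W (b k))

theorem secForm_res {U V : X.Opens} (h : V ≤ U) (e : Γ(E, U)) :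
    secForm s V (E.presheaf.map (homOfLE h).op e) =
      X.presheaf.map (homOfLE h).op (secForm s U e) := by
  rw [secForm_apply, secForm_apply]
  have := app_res s h e
  unfold res at this
  rw [this]
  rfl

theorem good_basicOpen [E.IsQuasicoherent] (n : ℕ) {U : X.Opens} (hU : Good n s U) (g : Γ(X, U)) :
    Good n s (X.basicOpen g) := by
  obtain ⟨hUa, b, hreg⟩ := hU
  refine ⟨hUa.basicOpen g, ?_⟩
  letI := modBasicOpen E g
  haveI := isScalarTower_basicOpen E g
  haveI := isLocalizedModule_basicOpen E hUa g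
  haveI : IsLocalization.Away g Γ(X, X.basicOpen g) := hUa.isLocalization_basicOpen g
  refine ⟨Module.Basis.ofIsLocalizedModule Γ(X, X.basicOpen g) (Submonoid.powers g)
    (resBasicOpen E g) b, ?_⟩
  have h1 := hreg.of_isLocalization Γ(X, X.basicOpen g) (Submonoid.powers g)
  rw [List.map_ofFn] at h1
  convert h1 using 2
  funext k
  rw [Module.Basis.ofIsLocalizedModule_apply, Function.comp_apply, resBasicOpen_apply, secForm_res]
  rfl

theorem isNbhdBasis_good [E.IsQuasicoherent] (n : ℕ)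
    (hs : ∀ x : X, ∃ U : X.affineOpens, x ∈ U.1 ∧
      ∃ b : Module.Basis (Fin n) Γ(X, U.1) Γ(E, U.1),
        RingTheory.Sequence.IsWeaklyRegular Γ(X, U.1)
          (List.ofFn fun k => KoszSh.secForm s U.1 (b k))) :
    Groth.Agent.Helper13.SecExact.IsNbhdBasis {W : X.Opens | Good n s W} := by
  intro x U' hx
  obtain ⟨U, hxU, b, hreg⟩ := hs x
  obtain ⟨g, hg1, hg2⟩ := U.2.exists_basicOpen_le (V := U.1 ⊓ U') ⟨x, ⟨hxU, hx⟩⟩ hxU
  exact ⟨X.basicOpen g, good_basicOpen n ⟨U.2, b, hreg⟩ g, hg2, hg1.trans inf_le_right⟩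

theorem exact_on_good (C : Cx E s) (n q : ℕ) (W : X.Opens) (hW : Good n s W)
    (m : Γ(C.K.X (q + 1), W)) (hm : (C.K.d (q + 1) q).app W m = 0) :
    ∃ l : Γ(C.K.X (q + 1 + 1), W), (C.K.d (q + 1 + 1) (q + 1)).app W l = m := by
  obtain ⟨hWa, b, hreg⟩ := hW
  let W' : X.affineOpens := ⟨W, hWa⟩
  let D0 : ↥(⋀[Γ(X, W)]^(q + 1) Γ(E, W)) →ₗ[Γ(X, W)] ↥(⋀[Γ(X, W)]^q Γ(E, W)) :=
    (C.loc q W').toLinearMap ∘ₗ appLin (C.K.d (q + 1) q) W ∘ₗ (C.loc (q + 1) W').symm.toLinearMap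
  let D1 : ↥(⋀[Γ(X, W)]^(q + 1 + 1) Γ(E, W)) →ₗ[Γ(X, W)] ↥(⋀[Γ(X, W)]^(q + 1) Γ(E, W)) :=
    (C.loc (q + 1) W').toLinearMap ∘ₗ appLin (C.K.d (q + 1 + 1) (q + 1)) W ∘ₗ
      (C.loc (q + 1 + 1) W').symm.toLinearMap
  have hD0 : ∀ e : Fin (q + 1) → Γ(E, W), D0 (exteriorPower.ιMulti Γ(X, W) (q + 1) e) =
      ∑ i : Fin (q + 1), ((-1 : Γ(X, W)) ^ (i : ℕ) * secForm s W (e i)) •
        exteriorPower.ιMulti Γ(X, W) q (fun j => e (i.succAbove j)) := by
    intro e
    show (C.loc q W') ((C.K.d (q + 1) q).app W ((C.loc (q + 1) W').symm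
      (exteriorPower.ιMulti Γ(X, W) (q + 1) e))) = _
    rw [C.rule q W' e, LinearEquiv.apply_symm_apply]
    rfl
  have hD1 : ∀ e : Fin (q + 1 + 1) → Γ(E, W),
      D1 (exteriorPower.ιMulti Γ(X, W) (q + 1 + 1) e) =
      ∑ i : Fin (q + 1 + 1), ((-1 : Γ(X, W)) ^ (i : ℕ) * secForm s W (e i)) •
        exteriorPower.ιMulti Γ(X, W) (q + 1) (fun j => e (i.succAbove j)) := by
    intro e
    show (C.loc (q + 1) W') ((C.K.d (q + 1 + 1) (q + 1)).app W ((C.loc (q + 1 + 1) W').symm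
      (exteriorPower.ιMulti Γ(X, W) (q + 1 + 1) e))) = _
    rw [C.rule (q + 1) W' e, LinearEquiv.apply_symm_apply]
    rfl
  have hx : D0 ((C.loc (q + 1) W') m) = 0 := by
    show (C.loc q W') ((C.K.d (q + 1) q).app W ((C.loc (q + 1) W').symm
      ((C.loc (q + 1) W') m))) = 0
    rw [LinearEquiv.symm_apply_apply, hm, map_zero]
  obtain ⟨y, hy⟩ := koszul_exact b (secForm s W) hreg q D1 hD1 D0 hD0 _ hx
  refine ⟨(C.loc (q + 1 + 1) W').symm y, ?_⟩
  apply (C.loc (q + 1) W').injective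
  exact hy

theorem main15899 (n : ℕ) (E : X.Modules)
    (hE : FlatMod.IsFinLocFreeOfRank n E) (s : E ⟶ Coh.structureModule X)
    (hs : ∀ x : X, ∃ U : X.affineOpens, x ∈ U.1 ∧
      ∃ b : Module.Basis (Fin n) Γ(X, U.1) Γ(E, U.1),
        RingTheory.Sequence.IsWeaklyRegular Γ(X, U.1)
          (List.ofFn fun k => KoszSh.secForm s U.1 (b k)))
    (C : KoszSh.Cx E s) (q : ℕ) (hq : 1 ≤ q) :
    Limits.IsZero (C.K.homology q) := by
  haveI := isQuasicoherent_of_isFinLocFreeOfRank n E hE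
  obtain ⟨q', rfl⟩ : ∃ q', q = q' + 1 := ⟨q - 1, by omega⟩
  rw [← HomologicalComplex.exactAt_iff_isZero_homology]
  rw [HomologicalComplex.exactAt_iff' C.K (q' + 1 + 1) (q' + 1) q' (by simp) (by simp)]
  refine Groth.Agent.Helper13.SecExact.exact_of_sections _ {W : X.Opens | Good n s W}
    (isNbhdBasis_good n hs) ?_
  intro W hW m hm
  exact exact_on_good C n q' W hW m hm

end Groth.Agent.Helper24.KoszEx
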