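import Groth.Prelude.Def_KoszulSh
import Groth.Prelude.Def_FlatMod2
import Groth.Prelude.Def_CAlg
import Groth.Agent.Lib.Helper24.KoszCM1
import Groth.Agent.Lib.Helper24.KoszEx4
import Groth.Agent.Lib.Helper16.Alg.RegLocB
import Groth.Agent.Lib.Helper3.RegImm2
import Groth.Agent.Lib.Helper13.LocFree4
set_option autoImplicit false
set_option linter.unusedSectionVars false
set_option linter.style.haveILetI false
universe u
open CategoryTheory CategoryTheory.Limits AlgebraicGeometry TopologicalSpace Opposite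
open KoszSh RingTheory.Sequence

/-!
Local complete intersections in Cohen–Macaulay schemes are locally cut out by regular sequences, with Koszul
resolutions (S15902).
-/

namespace Groth.Agent.Helper24.KoszCM

theorem ofList_ofFn {R : Type*} [CommRing R] {c : ℕ} (g : Fin c → R) :
    Ideal.ofList (List.ofFn g) = Ideal.span (Set.range g) := by
  unfold Ideal.ofList
  congr 1
  ext r
  exact List.mem_ofFn' _ _

variable {X Y : Scheme.{u}}

theorem exists_regular_nbhd [IsLocallyNoetherian X]
    (hCM : ∀ x : X, LocCoh.IsCohenMacaulayLocalRing (X.presheaf.stalk x))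
    (i : Y ⟶ X) [IsClosedImmersion i] (c : ℕ)
    (hgen : ∀ y : Y, ∃ U : X.affineOpens, i.base y ∈ U.1 ∧ ∃ g : Fin c → Γ(X, U.1),
      i.ker.ideal U = Ideal.span (Set.range g))
    (hht : ∀ y : Y, (c : ℕ∞) ≤ (RingHom.ker (i.stalkMap y).hom).height) (y : Y) :
    ∃ U : X.affineOpens, i.base y ∈ U.1 ∧ ∃ f : Fin c → Γ(X, U.1),
      i.ker.ideal U = Ideal.span (Set.range f) ∧ IsWeaklyRegular Γ(X, U.1) (List.ofFn f) := by
  obtain ⟨U, hxU, g, hI⟩ := hgen y
  let _ := X.presheaf.algebra_section_stalk (U := U.1) ⟨i.base y, hxU⟩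
  have hloc := U.2.isLocalization_stalk ⟨i.base y, hxU⟩
  have hnoeth : IsNoetherianRing Γ(X, U.1) := IsLocallyNoetherian.component_noetherian U
  haveI hA : LocCoh.IsCohenMacaulayLocalRing (X.presheaf.stalk (i.base y)) := hCM (i.base y)
  have hg : ∀ a : Γ(X, U.1), algebraMap Γ(X, U.1) (X.presheaf.stalk (i.base y)) a =
      (X.presheaf.germ U.1 (i.base y) hxU).hom a := fun _ => rfl
  -- the kernel of the stalk map
  have hker : RingHom.ker (i.stalkMap y).hom =
      Ideal.ofList ((List.ofFn g).map (algebraMap Γ(X, U.1) (X.presheaf.stalk (i.base y)))) := by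
    rw [Groth.Agent.Helper3.RegImm2.ker_stalkMap_closedImmersion i y U hxU, hI, ← ofList_ofFn,
      Ideal.map_ofList]
    rfl
  -- regular in the stalk
  have hreg : IsRegular (X.presheaf.stalk (i.base y))
      ((List.ofFn g).map (algebraMap Γ(X, U.1) (X.presheaf.stalk (i.base y)))) := by
    rw [Groth.Agent.Helper16.RegLoc.isRegular_iff_dim]
    · have h1 := height_add_ringKrullDim_quotient_le (RingHom.ker (i.stalkMap y).hom)
      rw [hker] at h1
      have h2 : ((c : ℕ∞) : WithBot ℕ∞) ≤ ((Ideal.ofList ((List.ofFn g).map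
          (algebraMap Γ(X, U.1) (X.presheaf.stalk (i.base y))))).height : WithBot ℕ∞) := by
        rw [← hker]
        exact_mod_cast hht y
      rw [List.length_map, List.length_ofFn]
      refine le_trans ?_ h1
      rw [add_comm]
      exact add_le_add_left h2 _
    · intro r hr
      have h1 : r ∈ RingHom.ker (i.stalkMap y).hom := by
        rw [hker]
        exact Ideal.subset_span hr
      exact IsLocalRing.le_maximalIdeal (RingHom.ker_ne_top _) h1
  -- spread out
  obtain ⟨g₂, hg₂, hsp₂⟩ := Groth.Agent.Helper3.RegSpread.spread_regular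
    (U.2.primeIdealOf ⟨i.base y, hxU⟩).asIdeal (X.presheaf.stalk (i.base y)) (List.ofFn g) hreg.1
  have hV : IsAffineOpen (X.basicOpen (g₂ * 1)) := U.2.basicOpen _
  have hle : X.basicOpen (g₂ * 1) ≤ U.1 := X.basicOpen_le _
  haveI hloc' : IsLocalization.Away (g₂ * 1) Γ(X, X.basicOpen (g₂ * 1)) :=
    U.2.isLocalization_basicOpen _
  have h2 := hsp₂ 1 Γ(X, X.basicOpen (g₂ * 1))
  refine ⟨⟨X.basicOpen (g₂ * 1), hV⟩, ?_,
    fun k => algebraMap Γ(X, U.1) Γ(X, X.basicOpen (g₂ * 1)) (g k), ?_, ?_⟩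
  · rw [Scheme.mem_basicOpen X (g₂ * 1) (i.base y) hxU, mul_one]
    exact (IsLocalization.AtPrime.isUnit_to_map_iff (X.presheaf.stalk (i.base y))
      (U.2.primeIdealOf ⟨i.base y, hxU⟩).asIdeal g₂).mpr hg₂
  · have h3 := (i.ker.map_ideal (U := ⟨X.basicOpen (g₂ * 1), hV⟩) (V := U) hle).symm
    rw [h3, hI, Ideal.map_span, ← Set.range_comp]
    rfl
  · rw [List.map_ofFn] at h2
    exact h2

end Groth.Agent.Helper24.KoszCM
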