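import Groth.Agent.Lib.Helper24.KoszCM2
set_option autoImplicit false
set_option linter.unusedSectionVars false
set_option linter.style.haveILetI false
universe u
open CategoryTheory CategoryTheory.Limits AlgebraicGeometry TopologicalSpace Opposite
open KoszSh RingTheory.Sequence Groth.Agent.Helper13.LocFree

namespace Groth.Agent.Helper24.KoszCM

variable {X Y : Scheme.{u}}

theorem basisFreeMod_apply (n : ℕ) (V : X.Opens) (k : Fin n) :
    basisFreeMod n V k =
      (Sigma.ι (fun _ : Fin n => Coh.structureModule X) k).app V (OmegaSh.strSect X V 1) := by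
  classical
  unfold basisFreeMod
  rw [Module.Basis.coe_ofEquivFun]
  show secOfCoord n V (Pi.single k 1) = _
  unfold secOfCoord
  rw [Finset.sum_eq_single k]
  · rw [Pi.single_eq_same]
    rfl
  · intro j _ hj
    rw [Pi.single_eq_of_ne hj]
    exact map_zero _
  · intro h
    exact absurd (Finset.mem_univ k) h

theorem koszul_on_affine {W : X.Opens} (hW : IsAffineOpen W) (c : ℕ) (f : Fin c → Γ(X, W))
    (hreg : IsWeaklyRegular Γ(X, W) (List.ofFn f))
    (s : FlatMod.freeMod (↑W) c ⟶ Coh.structureModule (↑W))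
    (hs : ∀ k : Fin c, KoszSh.secForm s ⊤
      ((Sigma.ι (fun _ : Fin c => Coh.structureModule (↑W)) k).app ⊤
        (OmegaSh.strSect (↑W) ⊤ 1)) = W.topIso.inv (f k))
    (C : KoszSh.Cx (FlatMod.freeMod (↑W) c) s) (q : ℕ) (hq : 1 ≤ q) :
    IsZero (C.K.homology q) := by
  haveI : IsAffine (↑W : Scheme.{u}) := hW
  refine Groth.Agent.Helper24.KoszEx.main15899 c _ (isFinLocFreeOfRank_freeMod c) s ?_ C q hq
  intro x
  refine ⟨⟨⊤, isAffineOpen_top _⟩, trivial, basisFreeMod c ⊤, ?_⟩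
  have h1 : (fun k => secForm s ⊤ (basisFreeMod c ⊤ k)) = fun k => W.topIso.inv (f k) := by
    funext k
    rw [basisFreeMod_apply]
    exact hs k
  rw [h1]
  let e : Γ(X, W) ≃+* Γ(↑W, ⊤) := W.topIso.symm.commRingCatIsoToRingEquiv
  have h2 : List.Forall₂ (fun (r : Γ(X, W)) (t : Γ(↑W, ⊤)) => ∀ x, e.toAddEquiv (r • x) = t • e.toAddEquiv x)
      (List.ofFn f) ((List.ofFn f).map e) :=
    List.forall₂_map_right_iff.mpr (List.forall₂_same.mpr fun r _ x => map_mul e r x)
  have h3 := (AddEquiv.isWeaklyRegular_congr h2).mp hreg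
  rw [List.map_ofFn] at h3
  exact h3

theorem main15902 [IsLocallyNoetherian X]
    (hCM : ∀ x : X, LocCoh.IsCohenMacaulayLocalRing (X.presheaf.stalk x))
    (i : Y ⟶ X) [IsClosedImmersion i] (c : ℕ)
    (hgen : ∀ y : Y, ∃ U : X.affineOpens, i.base y ∈ U.1 ∧ ∃ g : Fin c → Γ(X, U.1),
      i.ker.ideal U = Ideal.span (Set.range g))
    (hht : ∀ y : Y, (c : ℕ∞) ≤ (RingHom.ker (i.stalkMap y).hom).height) :
    ∀ y : Y, ∃ U : X.affineOpens, i.base y ∈ U.1 ∧ ∃ f : Fin c → Γ(X, U.1),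
      i.ker.ideal U = Ideal.span (Set.range f) ∧
      RingTheory.Sequence.IsWeaklyRegular Γ(X, U.1) (List.ofFn f) ∧
      ∀ (s : FlatMod.freeMod (↑U.1) c ⟶ Coh.structureModule (↑U.1)),
        (∀ k : Fin c, KoszSh.secForm s ⊤
          ((Limits.Sigma.ι (fun _ : Fin c => Coh.structureModule (↑U.1)) k).app ⊤
            (OmegaSh.strSect (↑U.1) ⊤ 1)) = U.1.topIso.inv (f k)) →
        ∀ (C : KoszSh.Cx (FlatMod.freeMod (↑U.1) c) s) (q : ℕ), 1 ≤ q →
          Limits.IsZero (C.K.homology q) := by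
  intro y
  obtain ⟨U, hxU, f, hI, hreg⟩ := exists_regular_nbhd hCM i c hgen hht y
  exact ⟨U, hxU, f, hI, hreg, fun s hs C q hq => koszul_on_affine U.2 c f hreg s hs C q hq⟩

end Groth.Agent.Helper24.KoszCM
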