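import Mathlib
import Groth.Agent.Lib.Helper24.KoszEx3
set_option autoImplicit false
set_option linter.unusedSectionVars false
open ExteriorAlgebra TensorProduct

/-!
Ring-level consequences of Koszul acyclicity in degree one: `ker φ ⊆ I M`, and the conormal isomorphism
`M/IM ≅ I/I²` in base-change form.
-/

namespace Groth.Agent.Helper24.KoszEx

variable {R : Type*} [CommRing R] {M : Type*} [AddCommGroup M] [Module R M]

theorem ι_mem_one (m : M) : ι R m ∈ ⋀[R]^1 M := by
  rw [ExteriorAlgebra.exteriorPower, pow_one]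
  exact ⟨m, rfl⟩

theorem algebraMap_mem_zero (r : R) : algebraMap R (ExteriorAlgebra R M) r ∈ ⋀[R]^0 M := by
  rw [ExteriorAlgebra.exteriorPower, pow_zero, Submodule.mem_one]
  exact ⟨r, rfl⟩

theorem dE_mem_two (φ : M →ₗ[R] R) (z : ExteriorAlgebra R M) (hz : z ∈ ⋀[R]^2 M) :
    dE φ z ∈ Submodule.map (ι R) ((LinearMap.range φ : Ideal R) • (⊤ : Submodule R M)) := by
  have h : ⋀[R]^2 M ≤ (Submodule.map (ι R)
      ((LinearMap.range φ : Ideal R) • (⊤ : Submodule R M))).comap (dE φ) := by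
    rw [← ιMulti_span_fixedDegree, Submodule.span_le]
    rintro _ ⟨e, rfl⟩
    show dE φ _ ∈ Submodule.map (ι R) _
    rw [dE_ιMulti φ 1 e]
    refine Submodule.sum_mem _ (fun i _ => ?_)
    rw [ιMulti_succ_apply, ιMulti_zero_apply, mul_one, ← map_smul]
    refine Submodule.mem_map_of_mem (Submodule.smul_mem_smul ?_ Submodule.mem_top)
    exact Ideal.mul_mem_left _ _ ⟨e i, rfl⟩
  exact h hz

/-- `H_1 = 0`: the kernel of `φ` lies in `I M`, `I` the image of `φ`. -/
theorem ker_le_smul_of_acyc (φ : M →ₗ[R] R) (h : Acyc φ) (m : M) (hm : φ m = 0) :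
    m ∈ (LinearMap.range φ : Ideal R) • (⊤ : Submodule R M) := by
  have h1 : dE φ (ι R m) = 0 := by
    rw [dE_ι, hm, map_zero]
  obtain ⟨y, r, hy⟩ := h _ h1
  have h2 := congrArg (pr (R := R) (M := M) 1) hy
  rw [pr_of_mem _ _ (ι_mem_one m), map_add, pr_dE,
    pr_of_mem_ne 1 0 _ (algebraMap_mem_zero r) (by omega), add_zero] at h2
  have h3 : pr (R := R) (M := M) (1 + 1) y ∈ ⋀[R]^2 M := by
    unfold pr
    rw [GradedRing.proj_apply]
    exact Submodule.coe_mem _
  obtain ⟨m', hm', hm''⟩ := dE_mem_two φ _ h3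
  rw [← h2] at hm''
  rw [← (ExteriorAlgebra.ι_inj R m' m).mp hm'']
  exact hm'

section Tensor

variable {B : Type*} [CommRing B] [Algebra R B]

theorem exists_one_tmul (hB : Function.Surjective (algebraMap R B)) (x : B ⊗[R] M) :
    ∃ m : M, x = (1 : B) ⊗ₜ[R] m := by
  induction x using TensorProduct.induction_on with
  | zero => exact ⟨0, (tmul_zero _ _).symm⟩
  | tmul b m =>
    obtain ⟨a, rfl⟩ := hB b
    refine ⟨a • m, ?_⟩
    rw [Algebra.algebraMap_eq_smul_one, smul_tmul]
  | add x y hx hy =>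
    obtain ⟨m, rfl⟩ := hx
    obtain ⟨m', rfl⟩ := hy
    exact ⟨m + m', (tmul_add _ _ _).symm⟩

theorem one_tmul_eq_zero_of_mem (m : M)
    (hm : m ∈ (RingHom.ker (algebraMap R B)) • (⊤ : Submodule R M)) :
    (1 : B) ⊗ₜ[R] m = 0 := by
  refine Submodule.smul_induction_on hm (fun a ha n _ => ?_) (fun x y hx hy => ?_)
  · rw [← smul_tmul, ← Algebra.algebraMap_eq_smul_one, (RingHom.mem_ker).mp ha, zero_tmul]
  · rw [tmul_add, hx, hy, add_zero]

theorem mem_of_one_tmul_eq_zero (hB : Function.Surjective (algebraMap R B)) (m : M)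
    (hm : (1 : B) ⊗ₜ[R] m = 0) :
    m ∈ (RingHom.ker (algebraMap R B)) • (⊤ : Submodule R M) := by
  let f : R →ₐ[R] B := Algebra.ofId R B
  have hf : Function.Surjective f := hB
  let e := Ideal.quotientKerAlgEquivOfSurjective hf
  let E : ((R ⧸ RingHom.ker f) ⊗[R] M) ≃ₗ[R] B ⊗[R] M :=
    TensorProduct.congr e.toLinearEquiv (LinearEquiv.refl R M)
  have h1 : E ((1 : R ⧸ RingHom.ker f) ⊗ₜ[R] m) = (1 : B) ⊗ₜ[R] m := by
    show (e.toLinearEquiv 1) ⊗ₜ[R] m = _
    congr 1
    exact map_one e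
  have h2 : (1 : R ⧸ RingHom.ker f) ⊗ₜ[R] m = 0 := by
    apply E.injective
    rw [h1, hm, map_zero]
  have h3 := congrArg (quotTensorEquivQuotSMul M (RingHom.ker f)) h2
  rw [quotTensorEquivQuotSMul_mk_one_tmul, map_zero, Submodule.Quotient.mk_eq_zero] at h3
  exact h3

/-- the conormal isomorphism in base-change form -/
theorem baseChange_bijective_of_acyc (hB : Function.Surjective (algebraMap R B))
    (φ : M →ₗ[R] R) (h : Acyc φ)
    (hker : RingHom.ker (algebraMap R B) = (LinearMap.range φ : Ideal R))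
    {N : Type*} [AddCommGroup N] [Module R N] (ι' : N →ₗ[R] R)
    (τ : M →ₗ[R] N) (hτ : Function.Surjective τ) (hc : ∀ m, ι' (τ m) = φ m) :
    Function.Bijective (τ.baseChange B) := by
  constructor
  · rw [← LinearMap.ker_eq_bot, LinearMap.ker_eq_bot']
    intro x hx
    obtain ⟨m, rfl⟩ := exists_one_tmul hB x
    rw [LinearMap.baseChange_tmul] at hx
    have h1 := mem_of_one_tmul_eq_zero hB (τ m) hx
    have h2 : (RingHom.ker (algebraMap R B)) • (⊤ : Submodule R N) =
        Submodule.map τ ((RingHom.ker (algebraMap R B)) • (⊤ : Submodule R M)) := by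
      rw [Submodule.map_smul'', Submodule.map_top, LinearMap.range_eq_top.mpr hτ]
    rw [h2] at h1
    obtain ⟨m'', hm'', he⟩ := h1
    have h3 : φ (m - m'') = 0 := by
      rw [← hc, map_sub, he, sub_self, map_zero]
    have h4 := ker_le_smul_of_acyc φ h _ h3
    rw [← hker] at h4
    have h5 : m ∈ (RingHom.ker (algebraMap R B)) • (⊤ : Submodule R M) := by
      have := Submodule.add_mem _ h4 hm''
      rwa [sub_add_cancel] at this
    exact one_tmul_eq_zero_of_mem m h5
  · intro y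
    obtain ⟨n, rfl⟩ := exists_one_tmul hB y
    obtain ⟨m, rfl⟩ := hτ n
    exact ⟨(1 : B) ⊗ₜ[R] m, LinearMap.baseChange_tmul _ _ _⟩

end Tensor

end Groth.Agent.Helper24.KoszEx
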