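import Groth.Prelude.Def_KoszulSh
import Groth.Prelude.Def_FlatMod2
import Groth.Prelude.Def_ClSub2
import Groth.Agent.Lib.Helper24.KoszEx4
import Groth.Agent.Lib.Helper24.KoszEx5
import Groth.Agent.Lib.Helper21.Sep2
import Groth.Agent.Lib.Helper13.AffSurj
import Groth.Agent.Lib.Helper23.UnitsSeq
import Groth.Agent.Lib.Helper13.EffCartierPartB
import Groth.Agent.Lib.Helper13.LocFree
set_option autoImplicit false
set_option linter.unusedSectionVars false
set_option linter.style.haveILetI false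
set_option maxRecDepth 8000
universe u
open CategoryTheory CategoryTheory.Limits AlgebraicGeometry TopologicalSpace Opposite TensorProduct
open KoszSh Groth.Agent.Helper13.Pullback Groth.Agent.Helper21.Sep

/-!
For a regular section `s : E → O_X` with zero scheme `i : Y → X`, the map `i^*E → i^*I_Y` is an isomorphism
(S15826).
-/

namespace Groth.Agent.Helper24.KoszEx

variable {X Y : Scheme.{u}}

instance isQuasicoherent_idealMod' (J : X.IdealSheafData) : (ClSub.idealMod J).IsQuasicoherent :=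
  (SheafOfModules.isQuasicoherent X.ringCatSheaf).prop_of_iso
    (Groth.Agent.Helper13.EffCartier.idealModIso J).symm inferInstance

theorem secForm_idealModι (J : X.IdealSheafData) (U : X.Opens) (k : Γ(ClSub.idealMod J, U)) :
    secForm (ClSub.idealModι J) U k = Groth.Agent.Helper23.UnitsSeq.fn J k := rfl

theorem range_secForm_idealModι (i : Y ⟶ X) [IsClosedImmersion i] (W : X.affineOpens) :
    (LinearMap.range (secForm (ClSub.idealModι i.ker) W.1) : Ideal Γ(X, W.1)) =
      RingHom.ker (i.app W.1).hom := by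
  rw [← Scheme.Hom.ker_apply i W]
  ext a
  constructor
  · rintro ⟨k, rfl⟩
    rw [secForm_idealModι]
    exact Groth.Agent.Helper23.UnitsSeq.fn_mem_ideal i.ker W k
  · intro ha
    rw [← Scheme.IdealSheafData.ker_subschemeι_app i.ker W, RingHom.mem_ker] at ha
    obtain ⟨k, hk⟩ := Groth.Agent.Helper23.UnitsSeq.exists_fn_eq i.ker a ha
    exact ⟨k, hk⟩

theorem bijective_app_preimage {n : ℕ} {E : X.Modules} [E.IsQuasicoherent]
    (s : E ⟶ Coh.structureModule X) (i : Y ⟶ X) [IsClosedImmersion i]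
    (t : E ⟶ ClSub.idealMod i.ker) [Epi t] (hts : t ≫ ClSub.idealModι i.ker = s)
    (W : X.Opens) (hW : Good n s W) :
    Function.Bijective (((Scheme.Modules.pullback i).map t).app (i ⁻¹ᵁ W)) := by
  obtain ⟨hWa, b, hreg⟩ := hW
  have hV : IsAffineOpen (i ⁻¹ᵁ W) := hWa.preimage i
  have e : i ⁻¹ᵁ W ≤ i ⁻¹ᵁ W := le_rfl
  letI := (i.appLE W (i ⁻¹ᵁ W) e).hom.toAlgebra
  have hnat := fun x => sectionsPullbackEquiv_map i t hV hWa e x
  have hsurj : Function.Surjective (algebraMap Γ(X, W) Γ(Y, i ⁻¹ᵁ W)) := by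
    show Function.Surjective (i.appLE W (i ⁻¹ᵁ W) e).hom
    rw [← Scheme.Hom.app_eq_appLE]
    exact Scheme.Hom.app_surjective i W hWa
  have hker : RingHom.ker (algebraMap Γ(X, W) Γ(Y, i ⁻¹ᵁ W)) =
      (LinearMap.range (secForm s W) : Ideal Γ(X, W)) := by
    have h1 : RingHom.ker (algebraMap Γ(X, W) Γ(Y, i ⁻¹ᵁ W)) = RingHom.ker (i.app W).hom := by
      show RingHom.ker (i.appLE W (i ⁻¹ᵁ W) e).hom = _
      rw [← Scheme.Hom.app_eq_appLE]
    rw [h1, ← range_secForm_idealModι i ⟨W, hWa⟩]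
    ext a
    constructor
    · rintro ⟨k, rfl⟩
      obtain ⟨m, rfl⟩ := Groth.Agent.Helper13.AffSurj.surjective_app_of_epi t hWa k
      refine ⟨m, ?_⟩
      subst hts
      rfl
    · rintro ⟨m, rfl⟩
      refine ⟨t.app W m, ?_⟩
      subst hts
      rfl
  have hbc := baseChange_bijective_of_acyc (B := Γ(Y, i ⁻¹ᵁ W)) hsurj (secForm s W)
    (acyc_of_basis b (secForm s W) hreg) hker (secForm (ClSub.idealModι i.ker) W)
    (appLin t W) (Groth.Agent.Helper13.AffSurj.surjective_app_of_epi t hWa)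
    (fun m => by subst hts; rfl)
  have heq : ∀ x, ((Scheme.Modules.pullback i).map t).app (i ⁻¹ᵁ W) x =
      (sectionsPullbackEquiv i (ClSub.idealMod i.ker) hV hWa e).symm
        ((appLin t W).baseChange Γ(Y, i ⁻¹ᵁ W) (sectionsPullbackEquiv i E hV hWa e x)) := by
    intro x
    rw [← hnat x, LinearEquiv.symm_apply_apply]
  constructor
  · intro x y hxy
    rw [heq, heq] at hxy
    exact (sectionsPullbackEquiv i E hV hWa e).injective
      (hbc.1 ((sectionsPullbackEquiv i (ClSub.idealMod i.ker) hV hWa e).symm.injective hxy))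
  · intro y
    obtain ⟨z, hz⟩ := hbc.2 (sectionsPullbackEquiv i (ClSub.idealMod i.ker) hV hWa e y)
    refine ⟨(sectionsPullbackEquiv i E hV hWa e).symm z, ?_⟩
    rw [heq, LinearEquiv.apply_symm_apply, hz, LinearEquiv.symm_apply_apply]

theorem main15826 (n : ℕ) (E : X.Modules)
    (hE : FlatMod.IsFinLocFreeOfRank n E) (s : E ⟶ Coh.structureModule X)
    (hs : ∀ x : X, ∃ U : X.affineOpens, x ∈ U.1 ∧
      ∃ b : Module.Basis (Fin n) Γ(X, U.1) Γ(E, U.1),
        RingTheory.Sequence.IsWeaklyRegular Γ(X, U.1)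
          (List.ofFn fun k => KoszSh.secForm s U.1 (b k)))
    (i : Y ⟶ X) [IsClosedImmersion i] (t : E ⟶ ClSub.idealMod i.ker) [Epi t]
    (hts : t ≫ ClSub.idealModι i.ker = s) :
    IsIso ((Scheme.Modules.pullback i).map t) := by
  haveI : E.IsQuasicoherent := isQuasicoherent_of_isFinLocFreeOfRank n E hE
  have hB := isNbhdBasis_good n hs
  refine Groth.Agent.Helper13.LocFree.isIso_of_app_bijective_of_isBasis _
    (B := {V : Y.Opens | ∃ W : X.Opens, Good n s W ∧ V = i ⁻¹ᵁ W}) ?_ ?_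
  · rw [Opens.isBasis_iff_nbhd]
    intro V' y hy
    obtain ⟨U', hU', hUV⟩ := i.isClosedEmbedding.isInducing.isOpen_iff.mp V'.2
    have hy' : i.base y ∈ (⟨U', hU'⟩ : X.Opens) := by
      show y ∈ i.base ⁻¹' U'
      rw [hUV]
      exact hy
    obtain ⟨W, hW, hyW, hWU⟩ := hB (i.base y) ⟨U', hU'⟩ hy'
    refine ⟨i ⁻¹ᵁ W, ⟨W, hW, rfl⟩, hyW, ?_⟩
    intro z hz
    have : z ∈ i.base ⁻¹' U' := hWU hz
    rw [hUV] at this
    exact this
  · rintro V ⟨W, hW, rfl⟩
    exact bijective_app_preimage s i t hts W hW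

end Groth.Agent.Helper24.KoszEx
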