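import Groth.Prelude.Def_KoszulSh
import Groth.Agent.Lib.Helper24.KoszMap1
set_option autoImplicit false
set_option linter.unusedSectionVars false
universe u
open CategoryTheory CategoryTheory.Limits AlgebraicGeometry TopologicalSpace Opposite
open KoszSh exteriorPower

/-!
The map of Koszul complexes `K(E, s) → K(F, t)` induced by `f : E → F` with `f ≫ t = s`.
-/

namespace Groth.Agent.Helper24.KoszMap

variable {X : Scheme.{u}} {E F : X.Modules} {s : E ⟶ Coh.structureModule X}
  {t : F ⟶ Coh.structureModule X} (f : E ⟶ F) (C : Cx E s) (D : Cx F t)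

/-- induction principle: a property of sections of `K_p` over an affine open that is additive, holds at zero
and holds for scalar multiples of decomposables holds everywhere. -/
theorem induction_loc (p : ℕ) (U : X.affineOpens) (P : Γ(C.K.X p, U.1) → Prop)
    (h0 : P 0) (hadd : ∀ x y, P x → P y → P (x + y))
    (hsmul : ∀ (r : Γ(X, U.1)) (e : Fin p → Γ(E, U.1)), P (r • (C.loc p U).symm (ιMulti _ p e)))
    (x : Γ(C.K.X p, U.1)) : P x := by
  have hx : (C.loc p U) x ∈ Submodule.span Γ(X, U.1) (Set.range (ιMulti Γ(X, U.1) p (M := Γ(E, U.1)))) := by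
    rw [ιMulti_span]; trivial
  have key : ∀ y : ↥(⋀[Γ(X, U.1)]^p Γ(E, U.1)),
      y ∈ Submodule.span Γ(X, U.1) (Set.range (ιMulti Γ(X, U.1) p (M := Γ(E, U.1)))) →
      P ((C.loc p U).symm y) := by
    intro y hy
    induction hy using Submodule.closure_induction with
    | zero => rw [map_zero]; exact h0
    | add x y _ _ hx hy => rw [map_add]; exact hadd _ _ hx hy
    | smul_mem r x hx =>
      obtain ⟨e, rfl⟩ := hx
      rw [map_smul]
      exact hsmul r e
  have := key _ hx
  rwa [LinearEquiv.symm_apply_apply] at this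

/-- the affine-local component of the map of Koszul complexes -/
noncomputable def psi (p : ℕ) (U : X.affineOpens) :
    Γ(C.K.X p, U.1) →ₗ[Γ(X, U.1)] Γ(D.K.X p, U.1) :=
  (D.loc p U).symm.toLinearMap ∘ₗ exteriorPower.map p (appLin f U.1) ∘ₗ (C.loc p U).toLinearMap

theorem psi_ιMulti (p : ℕ) (U : X.affineOpens) (e : Fin p → Γ(E, U.1)) :
    psi f C D p U ((C.loc p U).symm (ιMulti _ p e)) =
      (D.loc p U).symm (ιMulti _ p (fun j => f.app U.1 (e j))) := by
  change (D.loc p U).symm (exteriorPower.map p (appLin f U.1)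
    ((C.loc p U) ((C.loc p U).symm (ιMulti _ p e)))) = _
  rw [LinearEquiv.apply_symm_apply, exteriorPower.map_apply_ιMulti]
  rfl

theorem psi_nat (p : ℕ) (U V : X.affineOpens) (h : V.1 ≤ U.1) (x : Γ(C.K.X p, U.1)) :
    psi f C D p V (res (C.K.X p) h x) = res (D.K.X p) h (psi f C D p U x) := by
  refine induction_loc C p U (fun x => psi f C D p V (res (C.K.X p) h x) =
    res (D.K.X p) h (psi f C D p U x)) ?_ ?_ ?_ x
  · show psi f C D p V (res (C.K.X p) h 0) = res (D.K.X p) h (psi f C D p U 0)
    rw [res_zero, map_zero, map_zero, res_zero]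
  · intro x y hx hy
    show psi f C D p V (res (C.K.X p) h (x + y)) = res (D.K.X p) h (psi f C D p U (x + y))
    rw [res_add, map_add, hx, hy, map_add, res_add]
  · intro r e
    show psi f C D p V (res (C.K.X p) h (r • _)) = res (D.K.X p) h (psi f C D p U (r • _))
    rw [res_smul, map_smul, map_smul, res_smul, psi_ιMulti]
    have h1 : res (C.K.X p) h ((C.loc p U).symm (ιMulti _ p e)) =
        (C.loc p V).symm (ιMulti _ p (fun j => E.val.map (homOfLE h).op (e j))) :=
      C.loc_res p U V h e
    have h2 : res (D.K.X p) h ((D.loc p U).symm (ιMulti _ p (fun j => f.app U.1 (e j)))) =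
        (D.loc p V).symm (ιMulti _ p
          (fun j => F.val.map (homOfLE h).op (f.app U.1 (e j)))) :=
      D.loc_res p U V h _
    rw [h1, h2, psi_ιMulti]
    congr 3
    funext j
    exact app_res f h (e j)

/-- the degree `p` component of the map of Koszul complexes -/
noncomputable def comp (p : ℕ) : C.K.X p ⟶ D.K.X p :=
  glue (C.K.X p) (D.K.X p) (psi f C D p) (psi_nat f C D p)

theorem comp_app (p : ℕ) (U : X.affineOpens) (x : Γ(C.K.X p, U.1)) :
    (comp f C D p).app U.1 x = psi f C D p U x :=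
  glue_app _ _ _ _ U x

theorem comp_ιMulti (p : ℕ) (U : X.affineOpens) (e : Fin p → Γ(E, U.1)) :
    (comp f C D p).app U.1 ((C.loc p U).symm (ιMulti _ p e)) =
      (D.loc p U).symm (ιMulti _ p (fun j => f.app U.1 (e j))) := by
  rw [comp_app, psi_ιMulti]

theorem secForm_comp (hf : f ≫ t = s) (U : X.Opens) (e : Γ(E, U)) :
    secForm t U (f.app U e) = secForm s U e := by
  subst hf
  rfl

theorem map_dGen (hf : f ≫ t = s) (p : ℕ) (U : X.affineOpens) (e : Fin (p + 1) → Γ(E, U.1)) :
    exteriorPower.map p (appLin f U.1) (dGen (secForm s U.1) p e) =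
      dGen (secForm t U.1) p (fun j => f.app U.1 (e j)) := by
  unfold dGen
  rw [map_sum]
  refine Finset.sum_congr rfl (fun i _ => ?_)
  rw [map_smul, exteriorPower.map_apply_ιMulti, secForm_comp f hf]
  rfl

/-- a morphism between terms is determined by its values on decomposables over affine opens -/
theorem hom_ext_loc {N : X.Modules} (p : ℕ) (α β : C.K.X p ⟶ N)
    (h : ∀ (U : X.affineOpens) (e : Fin p → Γ(E, U.1)),
      α.app U.1 ((C.loc p U).symm (ιMulti _ p e)) = β.app U.1 ((C.loc p U).symm (ιMulti _ p e))) :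
    α = β := by
  refine hom_ext_affine α β (fun U x => ?_)
  refine induction_loc C p U (fun x => α.app U.1 x = β.app U.1 x) ?_ ?_ ?_ x
  · show α.app U.1 0 = β.app U.1 0
    rw [map_zero, map_zero]
  · intro x y hx hy
    show α.app U.1 (x + y) = β.app U.1 (x + y)
    rw [map_add, map_add, hx, hy]
  · intro r e
    show α.app U.1 (r • _) = β.app U.1 (r • _)
    rw [Scheme.Modules.Hom.app_smul, Scheme.Modules.Hom.app_smul, h]

theorem comp_comm (hf : f ≫ t = s) (p : ℕ) :
    comp f C D (p + 1) ≫ D.K.d (p + 1) p = C.K.d (p + 1) p ≫ comp f C D p := by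
  refine hom_ext_loc C (p + 1) _ _ (fun U e => ?_)
  rw [Scheme.Modules.Hom.comp_app, Scheme.Modules.Hom.comp_app]
  show (D.K.d (p + 1) p).app U.1 ((comp f C D (p + 1)).app U.1 _) =
    (comp f C D p).app U.1 ((C.K.d (p + 1) p).app U.1 _)
  rw [comp_ιMulti, D.rule, C.rule, comp_app]
  change _ = (D.loc p U).symm (exteriorPower.map p (appLin f U.1)
    ((C.loc p U) ((C.loc p U).symm _)))
  rw [LinearEquiv.apply_symm_apply, map_dGen f hf]

/-- the map of Koszul complexes -/
noncomputable def chainMap (hf : f ≫ t = s) : C.K ⟶ D.K where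
  f p := comp f C D p
  comm' i j hij := by
    have hij' : j + 1 = i := hij
    subst hij'
    exact comp_comm f C D hf j

theorem main15900 (hf : f ≫ t = s) :
    ∃! φ : C.K ⟶ D.K, ∀ (p : ℕ) (U : X.affineOpens) (e : Fin p → Γ(E, U.1)),
      (φ.f p).app U.1 ((C.loc p U).symm (exteriorPower.ιMulti _ p e)) =
        (D.loc p U).symm (exteriorPower.ιMulti _ p (fun j => f.app U.1 (e j))) := by
  refine ⟨chainMap f C D hf, fun p U e => comp_ιMulti f C D p U e, fun φ hφ => ?_⟩
  apply HomologicalComplex.hom_ext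
  intro p
  refine hom_ext_loc C p _ _ (fun U e => ?_)
  rw [hφ]
  exact (comp_ιMulti f C D p U e).symm

end Groth.Agent.Helper24.KoszMap
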