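import Groth.Agent.Lib.Helper13.SecExact
import Groth.Agent.Lib.Helper13.KerSec
import Groth.Agent.Lib.Helper24.KoszMap1
set_option autoImplicit false
set_option linter.unusedSectionVars false
universe u
open CategoryTheory CategoryTheory.Limits AlgebraicGeometry TopologicalSpace Opposite

/-!
Comparing kernel and image subobjects of morphisms of `O_X`-modules through sections over a
neighbourhood basis of opens.
-/

namespace Groth.Agent.Helper24.KoszTw

open Groth.Agent.Helper13.SecExact Groth.Agent.Helper24.KoszMap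

variable {X : Scheme.{u}}

/-- sections agreeing on all members of a neighbourhood basis inside `W` agree -/
theorem eq_of_basis (G : X.Modules) (ℬ : Set X.Opens) (hB : IsNbhdBasis ℬ) (W : X.Opens)
    (s t : Γ(G, W)) (h : ∀ V ∈ ℬ, ∀ hle : V ≤ W, res G hle s = res G hle t) : s = t := by
  refine TopCat.Sheaf.eq_of_locally_eq' (⟨G.presheaf, G.isSheaf⟩ : TopCat.Sheaf Ab X)
    (fun i : {V : X.Opens // V ∈ ℬ ∧ V ≤ W} => i.1) W (fun i => homOfLE i.2.2) ?_ s t (fun i => ?_)
  · intro x hx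
    obtain ⟨V, hV, hxV, hVW⟩ := hB x W hx
    exact Opens.mem_iSup.mpr ⟨⟨V, hV, hVW⟩, hxV⟩
  · exact h i.1 i.2.1 i.2.2

/-- two morphisms agreeing on sections over a neighbourhood basis are equal -/
theorem hom_ext_basis {M N : X.Modules} (α β : M ⟶ N) (ℬ : Set X.Opens) (hB : IsNbhdBasis ℬ)
    (h : ∀ W ∈ ℬ, ∀ m : Γ(M, W), α.app W m = β.app W m) : α = β := by
  apply Scheme.Modules.hom_ext
  intro W
  ext m
  refine eq_of_basis N ℬ hB W _ _ (fun V hV hle => ?_)
  rw [← app_res, ← app_res]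
  exact h V hV _

theorem zero_app {M N : X.Modules} (W : X.Opens) (m : Γ(M, W)) :
    (0 : M ⟶ N).app W m = 0 := rfl

theorem kernelSubobject_le_of_sections {P A B : X.Modules} (f : P ⟶ A) (g : P ⟶ B)
    (ℬ : Set X.Opens) (hB : IsNbhdBasis ℬ)
    (h : ∀ W ∈ ℬ, ∀ y : Γ(P, W), f.app W y = 0 → g.app W y = 0) :
    kernelSubobject f ≤ kernelSubobject g := by
  have hz : kernel.ι f ≫ g = 0 := by
    refine hom_ext_basis _ _ ℬ hB (fun W hW m => ?_)
    rw [Scheme.Modules.Hom.comp_app, zero_app]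
    exact h W hW _ (Groth.Agent.Helper13.KerSec.kernel_ι_app_comp f W m)
  exact Subobject.mk_le_mk_of_comm (kernel.lift g (kernel.ι f) hz) (kernel.lift_ι _ _ _)

theorem kernelSubobject_eq_of_sections {P A B : X.Modules} (f : P ⟶ A) (g : P ⟶ B)
    (ℬ : Set X.Opens) (hB : IsNbhdBasis ℬ)
    (h : ∀ W ∈ ℬ, ∀ y : Γ(P, W), f.app W y = 0 ↔ g.app W y = 0) :
    kernelSubobject f = kernelSubobject g :=
  le_antisymm (kernelSubobject_le_of_sections f g ℬ hB (fun W hW y => (h W hW y).1))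
    (kernelSubobject_le_of_sections g f ℬ hB (fun W hW y => (h W hW y).2))

theorem imageSubobject_le_of_sections {A B P : X.Modules} (f : A ⟶ P) (g : B ⟶ P)
    (ℬ : Set X.Opens) (hB : IsNbhdBasis ℬ)
    (h : ∀ W ∈ ℬ, ∀ a : Γ(A, W), ∃ b : Γ(B, W), g.app W b = f.app W a) :
    imageSubobject f ≤ imageSubobject g := by
  have hz : f ≫ cokernel.π g = 0 := by
    refine hom_ext_basis _ _ ℬ hB (fun W hW a => ?_)
    obtain ⟨b, hb⟩ := h W hW a
    rw [Scheme.Modules.Hom.comp_app, zero_app]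
    show (cokernel.π g).app W (f.app W a) = 0
    rw [← hb]
    have h0 := cokernel.condition g
    have h1 := congrArg (fun ψ : B ⟶ cokernel g => ψ.app W b) h0
    exact h1
  let l : A ⟶ Abelian.image g := kernel.lift (cokernel.π g) f hz
  refine imageSubobject_le f (l ≫ (Abelian.imageIsoImage g).hom ≫ (imageSubobjectIso g).inv) ?_
  rw [Category.assoc, Category.assoc, imageSubobject_arrow', Abelian.imageIsoImage_hom_comp_image_ι]
  exact kernel.lift_ι _ _ _

theorem imageSubobject_eq_of_sections {A B P : X.Modules} (f : A ⟶ P) (g : B ⟶ P)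
    (ℬ : Set X.Opens) (hB : IsNbhdBasis ℬ)
    (h₁ : ∀ W ∈ ℬ, ∀ a : Γ(A, W), ∃ b : Γ(B, W), g.app W b = f.app W a)
    (h₂ : ∀ W ∈ ℬ, ∀ b : Γ(B, W), ∃ a : Γ(A, W), f.app W a = g.app W b) :
    imageSubobject f = imageSubobject g :=
  le_antisymm (imageSubobject_le_of_sections f g ℬ hB h₁)
    (imageSubobject_le_of_sections g f ℬ hB h₂)

end Groth.Agent.Helper24.KoszTw
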