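import Mathlib
import Groth.Agent.Lib.Helper24.KoszEx1
set_option autoImplicit false
set_option linter.unusedSectionVars false

/-!
Ring-level comparison of the Koszul differentials of two linear forms related by
`φs = c • (φt ∘ α)` for a linear equivalence `α`.
-/

namespace Groth.Agent.Helper24.KoszTw

open Groth.Agent.Helper24.KoszEx

variable {R : Type*} [CommRing R] {M : Type*} [AddCommGroup M] [Module R M]
  {N : Type*} [AddCommGroup N] [Module R N]

theorem dP_smul (c : R) (φ : M →ₗ[R] R) (p : ℕ) (x : ↥(⋀[R]^(p + 1) M)) :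
    dP (c • φ) p x = c • dP φ p x := by
  have h : c • dP φ p = dP (c • φ) p := by
    refine eq_dP (c • φ) p (c • dP φ p) (fun e => ?_)
    rw [LinearMap.smul_apply, dP_ιMulti, Finset.smul_sum]
    refine Finset.sum_congr rfl (fun i _ => ?_)
    rw [smul_smul, LinearMap.smul_apply, smul_eq_mul]
    congr 1
    ring
  rw [← h]
  rfl

theorem dP_map (f : M →ₗ[R] N) (ψ : N →ₗ[R] R) (p : ℕ) (x : ↥(⋀[R]^(p + 1) M)) :
    dP ψ p (exteriorPower.map (p + 1) f x) = exteriorPower.map p f (dP (ψ ∘ₗ f) p x) := by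
  let A : ↥(⋀[R]^(p + 1) M) →ₗ[R] ↥(⋀[R]^p N) := (dP ψ p) ∘ₗ (exteriorPower.map (p + 1) f)
  let B : ↥(⋀[R]^(p + 1) M) →ₗ[R] ↥(⋀[R]^p N) := (exteriorPower.map p f) ∘ₗ (dP (ψ ∘ₗ f) p)
  have h : A = B := by
    apply exteriorPower.linearMap_ext
    ext e
    simp only [LinearMap.compAlternatingMap_apply]
    apply congrArg Subtype.val
    show dP ψ p (exteriorPower.map (p + 1) f (exteriorPower.ιMulti R (p + 1) e)) =
      exteriorPower.map p f (dP (ψ ∘ₗ f) p (exteriorPower.ιMulti R (p + 1) e))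
    rw [exteriorPower.map_apply_ιMulti, dP_ιMulti, dP_ιMulti, map_sum]
    refine Finset.sum_congr rfl (fun i _ => ?_)
    rw [map_smul, exteriorPower.map_apply_ιMulti]
    rfl
  exact congr($h x)

/-- the key identity -/
theorem smul_dP_map (α : M →ₗ[R] N) (φs : M →ₗ[R] R) (φt : N →ₗ[R] R) (c : R)
    (hφ : φs = c • (φt ∘ₗ α)) (q : ℕ) (η : ↥(⋀[R]^(q + 1) M)) :
    c • dP φt q (exteriorPower.map (q + 1) α η) = exteriorPower.map q α (dP φs q η) := by
  rw [hφ, dP_smul, map_smul, dP_map]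

theorem eq_zero_of_smul_eq_zero_of_free {Z : Type*} [AddCommGroup Z] [Module R Z] [Module.Free R Z]
    (c : R) (hc : ∀ r : R, c * r = 0 → r = 0) (z : Z) (h : c • z = 0) : z = 0 := by
  let b := Module.Free.chooseBasis R Z
  apply b.repr.injective
  rw [map_zero]
  ext i
  have h1 : b.repr (c • z) i = 0 := by rw [h, map_zero]; rfl
  rw [map_smul, Finsupp.smul_apply, smul_eq_mul] at h1
  exact hc _ h1

/-- kernel comparison -/
theorem dP_eq_zero_iff (α : M ≃ₗ[R] N) (φs : M →ₗ[R] R) (φt : N →ₗ[R] R) (c : R)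
    (hφ : φs = c • (φt ∘ₗ (α : M →ₗ[R] N))) (hc : ∀ r : R, c * r = 0 → r = 0) [Module.Free R N]
    (q : ℕ) (η : ↥(⋀[R]^(q + 1) M)) :
    dP φt q (exteriorPower.map (q + 1) (α : M →ₗ[R] N) η) = 0 ↔ dP φs q η = 0 := by
  have key := smul_dP_map (α : M →ₗ[R] N) φs φt c hφ q η
  constructor
  · intro h
    rw [h, smul_zero] at key
    have hinj : Function.Injective (exteriorPower.map q (α : M →ₗ[R] N)) :=
      exteriorPower.map_injective (α.symm : N →ₗ[R] M) (by ext m; simp)
    apply hinj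
    rw [← key, map_zero]
  · intro h
    rw [h, map_zero] at key
    exact eq_zero_of_smul_eq_zero_of_free c hc _ key

end Groth.Agent.Helper24.KoszTw
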