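import Groth.Prelude.Def_KoszTw
import Groth.Agent.Lib.Helper13.TensorBasisSec
import Groth.Agent.Lib.Helper13.AmpleBasis
import Groth.Agent.Lib.Helper24.KoszTw1
set_option autoImplicit false
set_option linter.unusedSectionVars false
universe u
open CategoryTheory CategoryTheory.Limits AlgebraicGeometry TopologicalSpace Opposite
open Groth.Agent.Helper13.Tensor Groth.Agent.Helper13.Inv Groth.Agent.Helper13.StalkBasis
open Groth.Agent.Helper13.TensorBasisSec Groth.Agent.Helper13.Twist

/-!
Sections of `G ⊗ E` over an open on which `E` has a generating section.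
-/

namespace Groth.Agent.Helper24.KoszTw

variable {X : Scheme.{u}}

section Gen

variable (G E : X.Modules) {U : X.Opens} (e : Γ(E, U))

theorem isBasisAt_of_isGen (y : X) (hy : y ∈ U) (h : IsGen E e y hy) :
    IsBasisAt E (fun _ : Fin 1 => e) y hy := by
  unfold IsBasisAt
  have key : comb E (fun _ : Fin 1 => e) y hy =
      (fun r : X.presheaf.stalk y => r • E.presheaf.germ U y hy e) ∘
        (fun c : Fin 1 → X.presheaf.stalk y => c default) := by
    funext c
    unfold comb
    rw [Fintype.sum_unique]
    rfl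
  rw [key]
  refine h.comp ⟨fun a b hab => ?_, fun r => ⟨fun _ => r, rfl⟩⟩
  funext i
  rw [Subsingleton.elim i default]
  exact hab

theorem map_refl_apply (M : X.Modules) (m : Γ(M, U)) :
    M.presheaf.map (homOfLE (le_refl U)).op m = m := by
  have h : (homOfLE (le_refl U)).op = 𝟙 (op U) := rfl
  rw [h, M.presheaf.map_id]
  rfl

theorem tmul_gen_bijective (hgen : ∀ (y : X) (hy : y ∈ U), IsGen E e y hy) :
    Function.Bijective (fun m : Γ(G, U) => tmul G E m e) := by
  have hb : ∀ (x : X) (hx : x ∈ U), IsBasisAt E (fun _ : Fin 1 => e) x hx :=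
    fun x hx => isBasisAt_of_isGen E e x hx (hgen x hx)
  have h1 := tsum_injective G E (fun _ : Fin 1 => e) (le_refl U) hb
  have h2 := tsum_surjective G E (fun _ : Fin 1 => e) (le_refl U) hb
  have key : (fun m : Γ(G, U) => tmul G E m e) =
      (Groth.Agent.Helper13.TensorBasisSec.tsum G E (fun _ : Fin 1 => e) (le_refl U)) ∘
        (fun m => fun _ : Fin 1 => m) := by
    funext m
    unfold Groth.Agent.Helper13.TensorBasisSec.tsum
    rw [Function.comp_apply, Fintype.sum_unique, map_refl_apply]
  rw [key]
  have h12 : Function.Bijective (Groth.Agent.Helper13.TensorBasisSec.tsum G E (fun _ : Fin 1 => e)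
      (le_refl U)) := ⟨h1, h2⟩
  refine h12.comp ⟨fun a b hab => congrFun hab default, fun c => ⟨c default, ?_⟩⟩
  funext i
  rw [Subsingleton.elim i default]

/-- `m ↦ m ⊗ e` as a linear equivalence -/
noncomputable def tmulGen (hgen : ∀ (y : X) (hy : y ∈ U), IsGen E e y hy) :
    Γ(G, U) ≃ₗ[Γ(X, U)] Γ(CohB1.tensorMod G E, U) :=
  LinearEquiv.ofBijective
    { toFun := fun m => tmul G E m e
      map_add' := fun m m' => tmul_add_left G E m m' e
      map_smul' := fun r m => tmul_smul_left G E r m e }
    (tmul_gen_bijective G E e hgen)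

theorem tmulGen_apply (hgen : ∀ (y : X) (hy : y ∈ U), IsGen E e y hy) (m : Γ(G, U)) :
    tmulGen G E e hgen m = tmul G E m e := rfl

theorem app_bijective_of_isIso {M N : X.Modules} (φ : M ⟶ N) [IsIso φ] (W : X.Opens) :
    Function.Bijective (φ.app W) := by
  refine Function.bijective_iff_has_inverse.2 ⟨(inv φ).app W, fun m => ?_, fun n => ?_⟩
  · have h : φ ≫ inv φ = 𝟙 M := IsIso.hom_inv_id φ
    exact congrArg (fun ψ : M ⟶ M => ψ.app W m) h
  · have h : inv φ ≫ φ = 𝟙 N := IsIso.inv_hom_id φ
    exact congrArg (fun ψ : N ⟶ N => ψ.app W n) h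

theorem smul_gen_bijective (hgen : ∀ (y : X) (hy : y ∈ U), IsGen E e y hy) :
    Function.Bijective (fun r : Γ(X, U) => r • e) := by
  have h1 := tmul_gen_bijective (Coh.structureModule X) E e hgen
  have h2 := app_bijective_of_isIso (lidHom E) U
  have key : (fun r : Γ(X, U) => r • e) =
      ((lidHom E).app U) ∘ (fun m : Γ(Coh.structureModule X, U) => tmul _ E m e) := by
    funext r
    rw [Function.comp_apply]
    exact (lidHom_app_tmul E (Groth.Agent.Helper13.LocFree.toO U r) e).symm
  rw [key]
  exact h2.comp h1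

end Gen

section Free

variable (E : X.Modules) {n : ℕ} {U₀ : X.Opens} (s : Fin n → Γ(E, U₀))

theorem sections_free (hb : ∀ (y : X) (hy : y ∈ U₀), IsBasisAt E s y hy) {U : X.Opens} (hU : U ≤ U₀) :
    Module.Free Γ(X, U) Γ(E, U) := by
  let v : Fin n → Γ(E, U) := fun i => E.presheaf.map (homOfLE hU).op (s i)
  let Φ : (Fin n → Γ(X, U)) →ₗ[Γ(X, U)] Γ(E, U) := Fintype.linearCombination Γ(X, U) v
  have h1 := tsum_injective (Coh.structureModule X) E s hU hb
  have h2 := tsum_surjective (Coh.structureModule X) E s hU hb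
  have h3 := app_bijective_of_isIso (lidHom E) U
  have key : (Φ : (Fin n → Γ(X, U)) → Γ(E, U)) =
      ((lidHom E).app U) ∘
        (Groth.Agent.Helper13.TensorBasisSec.tsum (Coh.structureModule X) E s hU) := by
    funext c
    rw [Function.comp_apply, Fintype.linearCombination_apply]
    unfold Groth.Agent.Helper13.TensorBasisSec.tsum
    rw [map_sum]
    refine Finset.sum_congr rfl (fun i _ => ?_)
    exact (lidHom_app_tmul E (Groth.Agent.Helper13.LocFree.toO U (c i)) (v i)).symm
  have hΦ : Function.Bijective Φ := by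
    rw [key]
    have h12 : Function.Bijective
        (Groth.Agent.Helper13.TensorBasisSec.tsum (Coh.structureModule X) E s hU) := ⟨h1, h2⟩
    exact h3.comp h12
  exact Module.Free.of_equiv (LinearEquiv.ofBijective Φ hΦ)

end Free

end Groth.Agent.Helper24.KoszTw
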