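import Groth.Agent.Lib.Helper24.KoszTw3
import Groth.Agent.Lib.Helper24.KoszTw2
import Groth.Agent.Lib.Helper24.KoszMap2
set_option autoImplicit false
set_option linter.unusedSectionVars false
universe u
open CategoryTheory CategoryTheory.Limits AlgebraicGeometry TopologicalSpace Opposite
open Groth.Agent.Helper13.Tensor Groth.Agent.Helper13.Inv Groth.Agent.Helper13.StalkBasis
open Groth.Agent.Helper13.Twist Groth.Agent.Helper24.KoszMap Groth.Agent.Helper24.KoszEx
open KoszSh

/-!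
Local computations with Koszul data of `(F, s)` and `(F ⊗ L, t)` over an affine open on which `L` has a
generating section.
-/

namespace Groth.Agent.Helper24.KoszTw

variable {X : Scheme.{u}}

/-- the differential of a Koszul datum on sections over an affine open -/
theorem d_app_eq {E : X.Modules} {s : E ⟶ Coh.structureModule X} (C : Cx E s) (p : ℕ)
    (U : X.affineOpens) (y : Γ(C.K.X (p + 1), U.1)) :
    (C.K.d (p + 1) p).app U.1 y =
      (C.loc p U).symm (dP (secForm s U.1) p (C.loc (p + 1) U y)) := by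
  let D0 : ↥(⋀[Γ(X, U.1)]^(p + 1) Γ(E, U.1)) →ₗ[Γ(X, U.1)] ↥(⋀[Γ(X, U.1)]^p Γ(E, U.1)) :=
    (C.loc p U).toLinearMap ∘ₗ appLin (C.K.d (p + 1) p) U.1 ∘ₗ (C.loc (p + 1) U).symm.toLinearMap
  have hD0 : ∀ e : Fin (p + 1) → Γ(E, U.1), D0 (exteriorPower.ιMulti Γ(X, U.1) (p + 1) e) =
      ∑ i : Fin (p + 1), ((-1 : Γ(X, U.1)) ^ (i : ℕ) * secForm s U.1 (e i)) •
        exteriorPower.ιMulti Γ(X, U.1) p (fun j => e (i.succAbove j)) := by
    intro e
    show (C.loc p U) ((C.K.d (p + 1) p).app U.1 ((C.loc (p + 1) U).symm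
      (exteriorPower.ιMulti Γ(X, U.1) (p + 1) e))) = _
    rw [C.rule p U e, LinearEquiv.apply_symm_apply]
    rfl
  have h := eq_dP (secForm s U.1) p D0 hD0
  have h2 : D0 (C.loc (p + 1) U y) = dP (secForm s U.1) p (C.loc (p + 1) U y) := by rw [h]
  apply (C.loc p U).injective
  rw [LinearEquiv.apply_symm_apply, ← h2]
  show _ = (C.loc p U) ((C.K.d (p + 1) p).app U.1 ((C.loc (p + 1) U).symm (C.loc (p + 1) U y)))
  rw [LinearEquiv.symm_apply_apply]

section Core

variable {F L : X.Modules} {s : F ⟶ Coh.structureModule X} {lam : Coh.structureModule X ⟶ L}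
  {t : CohB1.tensorMod F L ⟶ Coh.structureModule X}
  (htri : _root_.KoszTw.TwistTriangle s lam t)
  (C : Cx F s) (D : Cx (CohB1.tensorMod F L) t)
  (U : X.affineOpens) (e : Γ(L, U.1)) (hgen : ∀ (y : X) (hy : y ∈ U.1), IsGen L e y hy)

/-- `f ↦ f ⊗ e` -/
noncomputable abbrev al : Γ(F, U.1) ≃ₗ[Γ(X, U.1)] Γ(CohB1.tensorMod F L, U.1) :=
  tmulGen F L e hgen

/-- the coefficient of `lam 1` with respect to the generator -/
noncomputable def cc : Γ(X, U.1) :=
  Classical.choose ((smul_gen_bijective L e hgen).2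
    (lam.app U.1 (Groth.Agent.Helper13.LocFree.toO U.1 1)))

theorem cc_spec : cc (lam := lam) U e hgen • e =
    lam.app U.1 (Groth.Agent.Helper13.LocFree.toO U.1 1) :=
  Classical.choose_spec ((smul_gen_bijective L e hgen).2
    (lam.app U.1 (Groth.Agent.Helper13.LocFree.toO U.1 1)))

theorem lam_app (r : Γ(X, U.1)) :
    lam.app U.1 (Groth.Agent.Helper13.LocFree.toO U.1 r) = (r * cc (lam := lam) U e hgen) • e := by
  have h1 : Groth.Agent.Helper13.LocFree.toO U.1 r =
      r • Groth.Agent.Helper13.LocFree.toO U.1 (1 : Γ(X, U.1)) := by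
    show r = r * 1
    rw [mul_one]
  rw [h1, Scheme.Modules.Hom.app_smul, ← cc_spec U e hgen, smul_smul]

include htri in
theorem secForm_eq : secForm s U.1 =
    cc (lam := lam) U e hgen • (secForm t U.1 ∘ₗ (al (F := F) U e hgen).toLinearMap) := by
  ext f
  have h := htri U.1 f e
  have h2 : t.app U.1 (SecTwist.tmul F L U.1 f e) =
      Groth.Agent.Helper13.LocFree.toO U.1 (secForm t U.1 (al (F := F) U e hgen f)) := rfl
  rw [h2, lam_app] at h
  have h3 := (smul_gen_bijective L e hgen).1 h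
  rw [LinearMap.smul_apply, LinearMap.comp_apply, smul_eq_mul, mul_comm]
  exact h3.symm

/-- `cc` is a nonzerodivisor when `lam` is a monomorphism -/
theorem cc_nzd [Mono lam] (r : Γ(X, U.1)) (h : cc (lam := lam) U e hgen * r = 0) : r = 0 := by
  have h1 := lam_app (lam := lam) U e hgen r
  rw [mul_comm, h, zero_smul] at h1
  have hinj := (Groth.Agent.Helper13.QCoh.mono_iff_app_injective lam).1 inferInstance U.1
  have h2 : lam.app U.1 (Groth.Agent.Helper13.LocFree.toO U.1 r) = lam.app U.1 0 := by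
    rw [h1, map_zero]
  exact hinj h2

/-- `e ⊗ ⋯ ⊗ e` -/
noncomputable def eps (p : ℕ) : Γ(CohB1.tensorPow L p, U.1) :=
  _root_.KoszTw.tprod L p U.1 (fun _ => e)

theorem eps_eq_lpow (p : ℕ) : eps U e p = lpow L e p := by
  induction p with
  | zero => rfl
  | succ p ih =>
    show SecTwist.tmul (CohB1.tensorPow L p) L U.1 (eps U e p) e =
      tmul (CohB1.tensorPow L p) L (lpow L e p) e
    rw [ih]
    rfl

include hgen in
theorem isGen_eps (p : ℕ) (y : X) (hy : y ∈ U.1) : IsGen (CohB1.tensorPow L p) (eps U e p) y hy := by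
  rw [eps_eq_lpow]
  exact Groth.Agent.Helper13.Ample.isGen_lpow L e y hy (hgen y hy) p

theorem tmul_zero_left (G E : X.Modules) {W : X.Opens} (n : Γ(E, W)) :
    tmul G E (0 : Γ(G, W)) n = 0 := by
  have h := tmul_smul_left G E (0 : Γ(X, W)) (0 : Γ(G, W)) n
  rwa [zero_smul, zero_smul] at h

theorem theta_app (p : ℕ) (θ : _root_.KoszTw.CxDecData C D p)
    (η : ↥(⋀[Γ(X, U.1)]^p Γ(F, U.1))) :
    θ.iso.hom.app U.1 ((D.loc p U).symm
        (exteriorPower.map p (al (F := F) U e hgen).toLinearMap η)) =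
      tmul (C.K.X p) (CohB1.tensorPow L p) ((C.loc p U).symm η) (eps U e p) := by
  let A : ↥(⋀[Γ(X, U.1)]^p Γ(F, U.1)) →ₗ[Γ(X, U.1)]
      Γ(CohB1.tensorMod (C.K.X p) (CohB1.tensorPow L p), U.1) :=
    appLin θ.iso.hom U.1 ∘ₗ (D.loc p U).symm.toLinearMap ∘ₗ
      exteriorPower.map p (al (F := F) U e hgen).toLinearMap
  let B : ↥(⋀[Γ(X, U.1)]^p Γ(F, U.1)) →ₗ[Γ(X, U.1)]
      Γ(CohB1.tensorMod (C.K.X p) (CohB1.tensorPow L p), U.1) :=
    (tmulBilin (C.K.X p) (CohB1.tensorPow L p) U.1).flip (eps U e p) ∘ₗ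
      (C.loc p U).symm.toLinearMap
  have h : A = B := by
    apply exteriorPower.linearMap_ext
    ext f
    simp only [LinearMap.compAlternatingMap_apply]
    show θ.iso.hom.app U.1 ((D.loc p U).symm (exteriorPower.map p
        (al (F := F) U e hgen).toLinearMap (exteriorPower.ιMulti _ p f))) =
      tmul _ _ ((C.loc p U).symm (exteriorPower.ιMulti _ p f)) (eps U e p)
    rw [exteriorPower.map_apply_ιMulti]
    exact θ.rule U f (fun _ => e)
  exact congr($h η)

theorem lhs93_app (q : ℕ) (θ : _root_.KoszTw.CxDecData C D (q + 1))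
    (η : ↥(⋀[Γ(X, U.1)]^(q + 1) Γ(F, U.1))) :
    (θ.iso.hom ≫ _root_.KoszTw.tensorMap (C.K.d (q + 1) q)
        (𝟙 (CohB1.tensorPow L (q + 1)))).app U.1
      ((D.loc (q + 1) U).symm
        (exteriorPower.map (q + 1) (al (F := F) U e hgen).toLinearMap η)) =
    tmul (C.K.X q) (CohB1.tensorPow L (q + 1))
      ((C.loc q U).symm (dP (secForm s U.1) q η)) (eps U e (q + 1)) := by
  rw [Scheme.Modules.Hom.comp_app]
  show (_root_.KoszTw.tensorMap (C.K.d (q + 1) q) (𝟙 (CohB1.tensorPow L (q + 1)))).app U.1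
    (θ.iso.hom.app U.1 _) = _
  rw [theta_app C D U e hgen (q + 1) θ η]
  have h := _root_.KoszTw.tensorMap_tmul (C.K.d (q + 1) q) (𝟙 (CohB1.tensorPow L (q + 1))) U.1
    ((C.loc (q + 1) U).symm η) (eps U e (q + 1))
  rw [d_app_eq, LinearEquiv.apply_symm_apply] at h
  exact h

theorem rhs93_app (q : ℕ) (η : ↥(⋀[Γ(X, U.1)]^(q + 1) Γ(F, U.1))) :
    (D.K.d (q + 1) q).app U.1 ((D.loc (q + 1) U).symm
        (exteriorPower.map (q + 1) (al (F := F) U e hgen).toLinearMap η)) =
      (D.loc q U).symm (dP (secForm t U.1) q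
        (exteriorPower.map (q + 1) (al (F := F) U e hgen).toLinearMap η)) := by
  rw [d_app_eq, LinearEquiv.apply_symm_apply]

/-- every section of `Λ^p (F ⊗ L)` comes from `Λ^p F` through `f ↦ f ⊗ e` -/
theorem exists_eta (p : ℕ) (y : Γ(D.K.X p, U.1)) :
    ∃ η : ↥(⋀[Γ(X, U.1)]^p Γ(F, U.1)),
      y = (D.loc p U).symm (exteriorPower.map p (al (F := F) U e hgen).toLinearMap η) := by
  let a := al (F := F) U e hgen
  refine ⟨exteriorPower.map p a.symm.toLinearMap (D.loc p U y), ?_⟩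
  apply (D.loc p U).injective
  rw [LinearEquiv.apply_symm_apply]
  show _ = exteriorPower.map p a.toLinearMap (exteriorPower.map p a.symm.toLinearMap _)
  rw [← LinearMap.comp_apply, ← exteriorPower.map_comp]
  have h : a.toLinearMap ∘ₗ a.symm.toLinearMap = LinearMap.id := by
    ext m
    simp
  rw [h, exteriorPower.map_id]
  rfl

include htri e hgen in
theorem kernel_iff93 [Mono lam] [Module.Free Γ(X, U.1) Γ(F, U.1)] (q : ℕ)
    (θ : _root_.KoszTw.CxDecData C D (q + 1)) (y : Γ(D.K.X (q + 1), U.1)) :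
    (θ.iso.hom ≫ _root_.KoszTw.tensorMap (C.K.d (q + 1) q)
        (𝟙 (CohB1.tensorPow L (q + 1)))).app U.1 y = 0 ↔
      (D.K.d (q + 1) q).app U.1 y = 0 := by
  obtain ⟨η, rfl⟩ := exists_eta D U e hgen (q + 1) y
  rw [lhs93_app, rhs93_app]
  let a := al (F := F) U e hgen
  haveI : Module.Free Γ(X, U.1) Γ(CohB1.tensorMod F L, U.1) := Module.Free.of_equiv a
  have hkey := dP_eq_zero_iff a (secForm s U.1) (secForm t U.1) (cc (lam := lam) U e hgen)
    (secForm_eq htri U e hgen) (cc_nzd U e hgen) q η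
  constructor
  · intro h
    have hinj := (tmul_gen_bijective (C.K.X q) (CohB1.tensorPow L (q + 1)) (eps U e (q + 1))
      (isGen_eps U e hgen (q + 1))).1
    have h0 : tmul (C.K.X q) (CohB1.tensorPow L (q + 1))
        ((C.loc q U).symm (dP (secForm s U.1) q η)) (eps U e (q + 1)) =
        tmul (C.K.X q) (CohB1.tensorPow L (q + 1)) 0 (eps U e (q + 1)) := by
      rw [h, tmul_zero_left]
    have h1 : (C.loc q U).symm (dP (secForm s U.1) q η) = 0 := hinj h0
    have h2 : dP (secForm s U.1) q η = 0 := by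
      have := congrArg (C.loc q U) h1
      rwa [LinearEquiv.apply_symm_apply, map_zero] at this
    rw [hkey.2 h2, map_zero]
  · intro h
    have h1 : dP (secForm t U.1) q
        (exteriorPower.map (q + 1) (al (F := F) U e hgen).toLinearMap η) = 0 := by
      have := congrArg (D.loc q U) h
      rwa [LinearEquiv.apply_symm_apply, map_zero] at this
    rw [hkey.1 h1, map_zero, tmul_zero_left]

end Core

end Groth.Agent.Helper24.KoszTw
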