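import Groth.Agent.Lib.Helper24.KoszTw4
set_option autoImplicit false
set_option linter.unusedSectionVars false
universe u
open CategoryTheory CategoryTheory.Limits AlgebraicGeometry TopologicalSpace Opposite
open Groth.Agent.Helper13.Tensor Groth.Agent.Helper13.Inv Groth.Agent.Helper13.StalkBasis
open Groth.Agent.Helper13.Twist Groth.Agent.Helper24.KoszMap Groth.Agent.Helper24.KoszEx
open Groth.Agent.Helper13.SecExact
open KoszSh

/-!
S16093: `θ` identifies `Ker δ_{q+1}` with `Ker (∂_{q+1} ⊗ 1)`.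
-/

namespace Groth.Agent.Helper24.KoszTw

variable {X : Scheme.{u}}

/-- affine opens on which `L` has a generating section -/
def GenOpen (L : X.Modules) (W : X.Opens) : Prop :=
  IsAffineOpen W ∧ ∃ e : Γ(L, W), ∀ (y : X) (hy : y ∈ W), IsGen L e y hy

/-- affine opens on which `L` has a generating section and `F` has free sections -/
def GenFreeOpen (F L : X.Modules) (W : X.Opens) : Prop :=
  GenOpen L W ∧ Module.Free Γ(X, W) Γ(F, W)

theorem isNbhdBasis_genOpen (L : X.Modules) (hL : PicF.IsInvertible L) :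
    IsNbhdBasis {W : X.Opens | GenOpen L W} := by
  intro x W₀ hx
  obtain ⟨V₁, hx₁, e₁, hg₁⟩ := (isInvertible_iff_exists_isGen L).1 hL x
  have hx' : x ∈ ((W₀ ⊓ V₁ : X.Opens) : Set X) := ⟨hx, hx₁⟩
  obtain ⟨_, ⟨U, hU, rfl⟩, hxU, hUW⟩ :=
    X.isBasis_affineOpens.exists_subset_of_mem_open hx' (W₀ ⊓ V₁).2
  have h1 : U ≤ V₁ := fun z hz => (hUW hz).2
  refine ⟨U, ⟨hU, L.presheaf.map (homOfLE h1).op e₁, fun y hy => ?_⟩, hxU, fun z hz => (hUW hz).1⟩
  exact (isGen_res L (homOfLE h1) e₁ y hy).2 (hg₁ y (h1 hy))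

theorem isNbhdBasis_genFreeOpen (F L : X.Modules) (hF : FlatMod.IsFinLocFree F)
    (hL : PicF.IsInvertible L) : IsNbhdBasis {W : X.Opens | GenFreeOpen F L W} := by
  intro x W₀ hx
  obtain ⟨V₂, n, s₂, hx₂, hb₂⟩ :=
    Groth.Agent.Helper13.TensorFinLocFree.exists_isBasisAt_of_isFinLocFree F hF x
  obtain ⟨U, ⟨hU, e, he⟩, hxU, hUW⟩ := isNbhdBasis_genOpen L hL x (W₀ ⊓ V₂) ⟨hx, hx₂⟩
  refine ⟨U, ⟨⟨hU, e, he⟩, ?_⟩, hxU, hUW.trans inf_le_left⟩
  exact sections_free F s₂ hb₂ (hUW.trans inf_le_right)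

theorem main16093 (F L : X.Modules)
    (hF : FlatMod.IsFinLocFree F) (hL : PicF.IsInvertible L)
    (s : F ⟶ Coh.structureModule X) (lam : Coh.structureModule X ⟶ L) [Mono lam]
    (t : CohB1.tensorMod F L ⟶ Coh.structureModule X) (htri : _root_.KoszTw.TwistTriangle s lam t)
    (C : KoszSh.Cx F s) (D : KoszSh.Cx (CohB1.tensorMod F L) t) (q : ℕ)
    (θ : _root_.KoszTw.CxDecData C D (q + 1)) :
    Limits.kernelSubobject (θ.iso.hom ≫ _root_.KoszTw.tensorMap (C.K.d (q + 1) q)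
        (𝟙 (CohB1.tensorPow L (q + 1)))) =
      Limits.kernelSubobject (D.K.d (q + 1) q) := by
  refine kernelSubobject_eq_of_sections _ _ {W : X.Opens | GenFreeOpen F L W}
    (isNbhdBasis_genFreeOpen F L hF hL) ?_
  rintro W ⟨⟨hW, e, hgen⟩, hfree⟩ y
  haveI : Module.Free Γ(X, W) Γ(F, W) := hfree
  exact kernel_iff93 htri C D ⟨W, hW⟩ e hgen q θ y

end Groth.Agent.Helper24.KoszTw
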