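import Groth.Agent.Lib.Helper24.KoszTw5
set_option autoImplicit false
set_option linter.unusedSectionVars false
universe u
open CategoryTheory CategoryTheory.Limits AlgebraicGeometry TopologicalSpace Opposite
open Groth.Agent.Helper13.Tensor Groth.Agent.Helper13.Inv Groth.Agent.Helper13.StalkBasis
open Groth.Agent.Helper13.Twist Groth.Agent.Helper24.KoszMap Groth.Agent.Helper24.KoszEx
open Groth.Agent.Helper13.SecExact
open KoszSh

/-!
S16094: `θ ⊗ 1` identifies `Im δ_{q+1} ⊗ λ(O_X)` with `Im (∂_{q+1} ⊗ 1)`.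
-/

namespace Groth.Agent.Helper24.KoszTw

variable {X : Scheme.{u}}

theorem unitorR_inv_app (M : X.Modules) (W : X.Opens) (m : Γ(M, W)) :
    (SecTwist.unitorR M).inv.app W m =
      tmul M (Coh.structureModule X) m (Groth.Agent.Helper13.LocFree.toO W 1) := by
  have hbij := app_bijective_of_isIso (SecTwist.unitorR M).hom W
  apply hbij.1
  have h1 : (SecTwist.unitorR M).hom.app W ((SecTwist.unitorR M).inv.app W m) = m := by
    have h : (SecTwist.unitorR M).inv ≫ (SecTwist.unitorR M).hom = 𝟙 M := Iso.inv_hom_id _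
    exact congrArg (fun ψ : M ⟶ M => ψ.app W m) h
  rw [h1]
  have h2 := SecTwist.unitorR_tmul M W m (1 : X.ringCatSheaf.obj.obj (op W))
  rw [one_smul] at h2
  exact h2.symm

section Core94

variable {F L : X.Modules} {s : F ⟶ Coh.structureModule X} {lam : Coh.structureModule X ⟶ L}
  {t : CohB1.tensorMod F L ⟶ Coh.structureModule X}
  (htri : _root_.KoszTw.TwistTriangle s lam t)
  (C : Cx F s) (D : Cx (CohB1.tensorMod F L) t)
  (U : X.affineOpens) (e : Γ(L, U.1)) (hgen : ∀ (y : X) (hy : y ∈ U.1), IsGen L e y hy)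

/-- the section `(η ⊗ e^{⊗ q}) ⊗ e` -/
noncomputable def gam (q : ℕ) (η : ↥(⋀[Γ(X, U.1)]^(q + 1) Γ(F, U.1))) :
    Γ(CohB1.tensorMod (CohB1.tensorMod (C.K.X (q + 1)) (CohB1.tensorPow L q)) L, U.1) :=
  tmul _ L (tmul (C.K.X (q + 1)) (CohB1.tensorPow L q) ((C.loc (q + 1) U).symm η) (eps U e q)) e

include hgen in
theorem gam_surjective (q : ℕ)
    (a : Γ(CohB1.tensorMod (CohB1.tensorMod (C.K.X (q + 1)) (CohB1.tensorPow L q)) L, U.1)) :
    ∃ η, gam C U e q η = a := by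
  obtain ⟨b, hb⟩ := (tmul_gen_bijective
    (CohB1.tensorMod (C.K.X (q + 1)) (CohB1.tensorPow L q)) L e hgen).2 a
  obtain ⟨c, hc⟩ := (tmul_gen_bijective (C.K.X (q + 1)) (CohB1.tensorPow L q) (eps U e q)
    (isGen_eps U e hgen q)).2 b
  refine ⟨C.loc (q + 1) U c, ?_⟩
  unfold gam
  rw [LinearEquiv.symm_apply_apply]
  simp only at hb hc
  rw [hc, hb]

theorem lhs94_app (q : ℕ) (η : ↥(⋀[Γ(X, U.1)]^(q + 1) Γ(F, U.1))) :
    (_root_.KoszTw.tensorMap (_root_.KoszTw.tensorMap (C.K.d (q + 1) q)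
        (𝟙 (CohB1.tensorPow L q))) (𝟙 L)).app U.1 (gam C U e q η) =
      tmul _ L (tmul (C.K.X q) (CohB1.tensorPow L q)
        ((C.loc q U).symm (dP (secForm s U.1) q η)) (eps U e q)) e := by
  unfold gam
  have h2 := _root_.KoszTw.tensorMap_tmul (C.K.d (q + 1) q) (𝟙 (CohB1.tensorPow L q)) U.1
    ((C.loc (q + 1) U).symm η) (eps U e q)
  rw [d_app_eq, LinearEquiv.apply_symm_apply] at h2
  have h1 := _root_.KoszTw.tensorMap_tmul (_root_.KoszTw.tensorMap (C.K.d (q + 1) q)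
    (𝟙 (CohB1.tensorPow L q))) (𝟙 L) U.1
    (tmul (C.K.X (q + 1)) (CohB1.tensorPow L q) ((C.loc (q + 1) U).symm η) (eps U e q)) e
  refine h1.trans ?_
  exact congrArg (fun z => tmul (CohB1.tensorMod (C.K.X q) (CohB1.tensorPow L q)) L z e) h2

include htri hgen in
theorem rhs94_app (q : ℕ) (θ : _root_.KoszTw.CxDecData C D q)
    (η : ↥(⋀[Γ(X, U.1)]^(q + 1) Γ(F, U.1))) :
    ((SecTwist.unitorR (D.K.X (q + 1))).inv ≫ _root_.KoszTw.tensorMap (D.K.d (q + 1) q) lam ≫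
        _root_.KoszTw.tensorMap θ.iso.hom (𝟙 L)).app U.1
      ((D.loc (q + 1) U).symm
        (exteriorPower.map (q + 1) (al (F := F) U e hgen).toLinearMap η)) =
      tmul _ L (tmul (C.K.X q) (CohB1.tensorPow L q)
        ((C.loc q U).symm (dP (secForm s U.1) q η)) (eps U e q)) e := by
  set y := (D.loc (q + 1) U).symm
    (exteriorPower.map (q + 1) (al (F := F) U e hgen).toLinearMap η) with hy
  rw [Scheme.Modules.Hom.comp_app, Scheme.Modules.Hom.comp_app]
  show (_root_.KoszTw.tensorMap θ.iso.hom (𝟙 L)).app U.1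
    ((_root_.KoszTw.tensorMap (D.K.d (q + 1) q) lam).app U.1
      ((SecTwist.unitorR (D.K.X (q + 1))).inv.app U.1 y)) = _
  rw [unitorR_inv_app]
  have h1 := _root_.KoszTw.tensorMap_tmul (D.K.d (q + 1) q) lam U.1 y
    (Groth.Agent.Helper13.LocFree.toO U.1 1)
  have h1' : (_root_.KoszTw.tensorMap (D.K.d (q + 1) q) lam).app U.1
      (tmul (D.K.X (q + 1)) (Coh.structureModule X) y (Groth.Agent.Helper13.LocFree.toO U.1 1)) =
      tmul (D.K.X q) L ((D.K.d (q + 1) q).app U.1 y)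
        (cc (lam := lam) U e hgen • e) := by
    rw [cc_spec]
    exact h1
  rw [h1']
  have h2 := _root_.KoszTw.tensorMap_tmul θ.iso.hom (𝟙 L) U.1 ((D.K.d (q + 1) q).app U.1 y)
    (cc (lam := lam) U e hgen • e)
  refine h2.trans ?_
  show tmul (CohB1.tensorMod (C.K.X q) (CohB1.tensorPow L q)) L
    (θ.iso.hom.app U.1 ((D.K.d (q + 1) q).app U.1 y)) (cc (lam := lam) U e hgen • e) = _
  rw [tmul_smul_right, ← tmul_smul_left, ← Scheme.Modules.Hom.app_smul, hy, rhs93_app,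
    ← map_smul,
    smul_dP_map (al (F := F) U e hgen).toLinearMap (secForm s U.1) (secForm t U.1)
      (cc (lam := lam) U e hgen) (secForm_eq htri U e hgen) q η,
    theta_app C D U e hgen q θ]

end Core94

theorem main16094 (F L : X.Modules) (hL : PicF.IsInvertible L)
    (s : F ⟶ Coh.structureModule X) (lam : Coh.structureModule X ⟶ L)
    (t : CohB1.tensorMod F L ⟶ Coh.structureModule X) (htri : _root_.KoszTw.TwistTriangle s lam t)
    (C : KoszSh.Cx F s) (D : KoszSh.Cx (CohB1.tensorMod F L) t) (q : ℕ)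
    (θ : _root_.KoszTw.CxDecData C D q) :
    Limits.imageSubobject (_root_.KoszTw.tensorMap (_root_.KoszTw.tensorMap (C.K.d (q + 1) q)
        (𝟙 (CohB1.tensorPow L q))) (𝟙 L)) =
      Limits.imageSubobject ((SecTwist.unitorR (D.K.X (q + 1))).inv ≫
        _root_.KoszTw.tensorMap (D.K.d (q + 1) q) lam ≫
        _root_.KoszTw.tensorMap θ.iso.hom (𝟙 L)) := by
  refine imageSubobject_eq_of_sections _ _ {W : X.Opens | GenOpen L W}
    (isNbhdBasis_genOpen L hL) ?_ ?_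
  · rintro W ⟨hW, e, hgen⟩ a
    obtain ⟨η, rfl⟩ := gam_surjective C ⟨W, hW⟩ e hgen q a
    refine ⟨(D.loc (q + 1) ⟨W, hW⟩).symm
      (exteriorPower.map (q + 1) (al (F := F) ⟨W, hW⟩ e hgen).toLinearMap η), ?_⟩
    rw [rhs94_app htri C D ⟨W, hW⟩ e hgen q θ η, lhs94_app C ⟨W, hW⟩ e q η]
  · rintro W ⟨hW, e, hgen⟩ b
    obtain ⟨η, rfl⟩ := exists_eta D ⟨W, hW⟩ e hgen (q + 1) b
    refine ⟨gam C ⟨W, hW⟩ e q η, ?_⟩
    rw [rhs94_app htri C D ⟨W, hW⟩ e hgen q θ η, lhs94_app C ⟨W, hW⟩ e q η]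

end Groth.Agent.Helper24.KoszTw
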