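import Groth.Agent.Lib.Helper24.KoszTw1
set_option autoImplicit false
set_option linter.unusedSectionVars false
universe u
open CategoryTheory CategoryTheory.Limits AlgebraicGeometry TopologicalSpace Opposite

/-!
Gluing a morphism of `O_X`-modules from a compatible family of linear maps on sections over an indexed
basis of opens.
-/

namespace Groth.Agent.Helper24.KoszTw

open Groth.Agent.Helper13.SecExact Groth.Agent.Helper24.KoszMap

variable {X : Scheme.{u}}

section GlueB

variable (M N : X.Modules) {ι : Type*} (B : ι → X.Opens) (hB : Opens.IsBasis (Set.range B))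
  (ψ : ∀ i : ι, Γ(M, B i) →ₗ[Γ(X, B i)] Γ(N, B i))
  (hψ : ∀ (i j : ι) (h : B j ≤ B i) (x : Γ(M, B i)), ψ j (res M h x) = res N h (ψ i x))

include hB in
theorem isNbhdBasis_of_isBasis : IsNbhdBasis (Set.range B) := by
  intro x U hx
  obtain ⟨W, hW, hxW, hWU⟩ := (Opens.isBasis_iff_nbhd.1 hB) hx
  exact ⟨W, hW, hxW, hWU⟩

include hψ in
theorem basisNatB_nat (i j : (InducedCategory (Opens X) B)ᵒᵖ)
    (g : i ⟶ j) (x : Γ(M, B i.unop)) :
    ψ j.unop (M.presheaf.map ((inducedFunctor B).op.map g) x) =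
      N.presheaf.map ((inducedFunctor B).op.map g) (ψ i.unop x) :=
  hψ i.unop j.unop (leOfHom g.unop.hom) x

/-- the family as a natural transformation on the basis -/
noncomputable def basisNatB :
    (inducedFunctor B).op ⋙ M.presheaf ⟶ (inducedFunctor B).op ⋙ N.presheaf where
  app i := AddCommGrpCat.ofHom (ψ i.unop).toAddMonoidHom
  naturality i j g := by
    ext x
    exact basisNatB_nat M N B ψ hψ i j g x

/-- the glued map of abelian presheaves -/
noncomputable def gluedHomB : M.presheaf ⟶ N.presheaf :=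
  TopCat.Sheaf.restrictHomEquivHom M.presheaf
    (⟨N.presheaf, N.isSheaf⟩ : TopCat.Sheaf Ab X) hB (basisNatB M N B ψ hψ)

theorem gluedHomB_app (i : ι) (x : Γ(M, B i)) :
    (gluedHomB M N B hB ψ hψ).app (op (B i)) x = ψ i x := by
  have h1 := TopCat.Sheaf.extend_hom_app M.presheaf
    (⟨N.presheaf, N.isSheaf⟩ : TopCat.Sheaf Ab X) hB (basisNatB M N B ψ hψ) i
  exact congr($h1 x)

theorem gluedHomB_naturality {W W' : X.Opens} (hle : W' ≤ W) (m : Γ(M, W)) :
    (gluedHomB M N B hB ψ hψ).app (op W') (res M hle m) =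
      res N hle ((gluedHomB M N B hB ψ hψ).app (op W) m) :=
  congr($((gluedHomB M N B hB ψ hψ).naturality (homOfLE hle).op) m)

theorem gluedHomB_smul (W : X.Opens) (r : Γ(X, W)) (m : Γ(M, W)) :
    (gluedHomB M N B hB ψ hψ).app (op W) (r • m) =
      r • (gluedHomB M N B hB ψ hψ).app (op W) m := by
  refine eq_of_basis N (Set.range B) (isNbhdBasis_of_isBasis B hB) W _ _ ?_
  rintro _ ⟨i, rfl⟩ hle
  rw [← gluedHomB_naturality, res_smul, res_smul, gluedHomB_app M N B hB ψ hψ i, map_smul,
    ← gluedHomB_app M N B hB ψ hψ i, gluedHomB_naturality]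

/-- the morphism of modules glued from a compatible family on a basis -/
noncomputable def glueB : M ⟶ N :=
  ⟨PresheafOfModules.homMk (gluedHomB M N B hB ψ hψ)
    (fun W r m => gluedHomB_smul M N B hB ψ hψ W.unop r m)⟩

theorem glueB_app (i : ι) (x : Γ(M, B i)) :
    (glueB M N B hB ψ hψ).app (B i) x = ψ i x :=
  gluedHomB_app M N B hB ψ hψ i x

end GlueB

end Groth.Agent.Helper24.KoszTw
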