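import Groth.Agent.Lib.Helper24.KoszTw7
import Groth.Agent.Lib.Helper24.KoszTw5
import Groth.Prelude.Def_ExtPow2
set_option autoImplicit false
set_option linter.unusedSectionVars false
universe u
open CategoryTheory CategoryTheory.Limits AlgebraicGeometry TopologicalSpace Opposite
open Groth.Agent.Helper13.Tensor Groth.Agent.Helper13.Inv Groth.Agent.Helper13.StalkBasis
open Groth.Agent.Helper13.Twist Groth.Agent.Helper24.KoszMap
open Groth.Agent.Helper13.SecExact
open exteriorPower

/-!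
S15827: `Λ^k (E ⊗ L) ≅ Λ^k E ⊗ L^{⊗ k}` for `L` of rank one.
-/

namespace Groth.Agent.Helper24.KoszTw

variable {X : Scheme.{u}}

theorem isInvertible_of_rank_one (L : X.Modules)
    (h : FlatMod.IsFinLocFreeOfRank 1 L) : PicF.IsInvertible L := fun x => by
  obtain ⟨U, hxU, ⟨e⟩⟩ := h x
  exact ⟨U, hxU, ⟨e ≪≫
    coproductUniqueIso (fun _ : Fin 1 => Coh.structureModule (U : Scheme.{u}))⟩⟩

/-- induction principle for sections identified with an exterior power -/
theorem induction_phi {G M : X.Modules} (k : ℕ) (U : X.affineOpens)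
    (φ : Γ(M, U.1) ≃ₗ[Γ(X, U.1)] ↥(⋀[Γ(X, U.1)]^k Γ(G, U.1)))
    (P : Γ(M, U.1) → Prop)
    (h0 : P 0) (hadd : ∀ x y, P x → P y → P (x + y))
    (hsmul : ∀ (r : Γ(X, U.1)) (e : Fin k → Γ(G, U.1)), P (r • φ.symm (ιMulti _ k e)))
    (x : Γ(M, U.1)) : P x := by
  have hx : φ x ∈ Submodule.span Γ(X, U.1) (Set.range (ιMulti Γ(X, U.1) k (M := Γ(G, U.1)))) := by
    rw [ιMulti_span]; trivial
  have key : ∀ y : ↥(⋀[Γ(X, U.1)]^k Γ(G, U.1)),
      y ∈ Submodule.span Γ(X, U.1) (Set.range (ιMulti Γ(X, U.1) k (M := Γ(G, U.1)))) →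
      P (φ.symm y) := by
    intro y hy
    induction hy using Submodule.closure_induction with
    | zero => rw [map_zero]; exact h0
    | add x y _ _ hx hy => rw [map_add]; exact hadd _ _ hx hy
    | smul_mem r x hx =>
      obtain ⟨e, rfl⟩ := hx
      rw [map_smul]
      exact hsmul r e
  have := key _ hx
  rwa [LinearEquiv.symm_apply_apply] at this

theorem ιMulti_smul_const {R : Type*} [CommRing R] {A : Type*} [AddCommGroup A] [Module R A]
    (k : ℕ) (u : R) (g : Fin k → A) :
    ιMulti R k (fun a => u • g a) = u ^ k • ιMulti R k g := by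
  have h := (ιMulti R k (M := A)).map_smul_univ (fun _ => u) g
  rw [Finset.prod_const, Finset.card_univ, Fintype.card_fin] at h
  exact h

section Iso

variable (E L M N : X.Modules) (k : ℕ)
  (φM : ∀ U : X.affineOpens,
    Γ(M, U.1) ≃ₗ[Γ(X, U.1)] ↥(⋀[Γ(X, U.1)]^k Γ(CohB1.tensorMod E L, U.1)))
  (hφM : ∀ (U V : X.affineOpens) (h : V.1 ≤ U.1) (n : Fin k → Γ(CohB1.tensorMod E L, U.1)),
    res M h ((φM U).symm (ιMulti _ k n)) =
      (φM V).symm (ιMulti _ k (fun j => res (CohB1.tensorMod E L) h (n j))))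
  (φN : ∀ U : X.affineOpens, Γ(N, U.1) ≃ₗ[Γ(X, U.1)] ↥(⋀[Γ(X, U.1)]^k Γ(E, U.1)))
  (hφN : ∀ (U V : X.affineOpens) (h : V.1 ≤ U.1) (f : Fin k → Γ(E, U.1)),
    res N h ((φN U).symm (ιMulti _ k f)) =
      (φN V).symm (ιMulti _ k (fun j => res E h (f j))))

/-- the local comparison map attached to a generator of `L` -/
noncomputable def psiE (U : X.affineOpens) (e : Γ(L, U.1))
    (hgen : ∀ (y : X) (hy : y ∈ U.1), IsGen L e y hy) :
    Γ(M, U.1) →ₗ[Γ(X, U.1)] Γ(CohB1.tensorMod N (CohB1.tensorPow L k), U.1) :=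
  ((tmulBilin N (CohB1.tensorPow L k) U.1).flip (eps U e k) ∘ₗ (φN U).symm.toLinearMap) ∘ₗ
    exteriorPower.map k (tmulGen E L e hgen).symm.toLinearMap ∘ₗ (φM U).toLinearMap

theorem psiE_apply (U : X.affineOpens) (e : Γ(L, U.1))
    (hgen : ∀ (y : X) (hy : y ∈ U.1), IsGen L e y hy) (x : Γ(M, U.1)) :
    psiE E L M N k φM φN U e hgen x =
      tmul N (CohB1.tensorPow L k) ((φN U).symm
        (exteriorPower.map k (tmulGen E L e hgen).symm.toLinearMap (φM U x))) (eps U e k) := rfl

theorem psiE_ιMulti (U : X.affineOpens) (e : Γ(L, U.1))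
    (hgen : ∀ (y : X) (hy : y ∈ U.1), IsGen L e y hy) (f : Fin k → Γ(E, U.1)) :
    psiE E L M N k φM φN U e hgen ((φM U).symm (ιMulti _ k (fun a => tmul E L (f a) e))) =
      tmul N (CohB1.tensorPow L k) ((φN U).symm (ιMulti _ k f)) (eps U e k) := by
  rw [psiE_apply, LinearEquiv.apply_symm_apply, exteriorPower.map_apply_ιMulti]
  congr 3
  funext a
  exact (tmulGen E L e hgen).symm_apply_apply (f a)

theorem psiE_bijective (U : X.affineOpens) (e : Γ(L, U.1))
    (hgen : ∀ (y : X) (hy : y ∈ U.1), IsGen L e y hy) :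
    Function.Bijective (psiE E L M N k φM φN U e hgen) := by
  have h1 : Function.Bijective (φM U) := (φM U).bijective
  have h2 : Function.Bijective (exteriorPower.map k (tmulGen E L e hgen).symm.toLinearMap) :=
    ⟨exteriorPower.map_injective (tmulGen E L e hgen).toLinearMap (by ext m; simp),
      exteriorPower.map_surjective (tmulGen E L e hgen).symm.surjective⟩
  have h3 : Function.Bijective (φN U).symm := (φN U).symm.bijective
  have h4 := tmul_gen_bijective N (CohB1.tensorPow L k) (eps U e k) (isGen_eps U e hgen k)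
  exact h4.comp (h3.comp (h2.comp h1))

include hφM hφN in
theorem psiE_nat (U V : X.affineOpens) (h : V.1 ≤ U.1) (e : Γ(L, U.1))
    (hgen : ∀ (y : X) (hy : y ∈ U.1), IsGen L e y hy) (e' : Γ(L, V.1))
    (hgen' : ∀ (y : X) (hy : y ∈ V.1), IsGen L e' y hy) (x : Γ(M, U.1)) :
    psiE E L M N k φM φN V e' hgen' (res M h x) =
      res (CohB1.tensorMod N (CohB1.tensorPow L k)) h (psiE E L M N k φM φN U e hgen x) := by
  refine induction_phi k U (φM U) (fun x => psiE E L M N k φM φN V e' hgen' (res M h x) =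
      res (CohB1.tensorMod N (CohB1.tensorPow L k)) h (psiE E L M N k φM φN U e hgen x))
    ?_ ?_ ?_ x
  · show psiE E L M N k φM φN V e' hgen' (res M h 0) = res _ h (psiE E L M N k φM φN U e hgen 0)
    rw [res_zero, map_zero, map_zero, res_zero]
  · intro x y hx hy
    show psiE E L M N k φM φN V e' hgen' (res M h (x + y)) =
      res _ h (psiE E L M N k φM φN U e hgen (x + y))
    rw [res_add, map_add, hx, hy, map_add, res_add]
  · intro r n
    show psiE E L M N k φM φN V e' hgen' (res M h (r • _)) =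
      res _ h (psiE E L M N k φM φN U e hgen (r • _))
    obtain ⟨u, hu⟩ := (smul_gen_bijective L e' hgen').2 (res L h e)
    have hu' : u • e' = res L h e := hu
    let f : Fin k → Γ(E, U.1) := fun a => (tmulGen E L e hgen).symm (n a)
    have hn : n = fun a => tmul E L (f a) e := by
      funext a
      exact ((tmulGen E L e hgen).apply_symm_apply (n a)).symm
    rw [res_smul, map_smul, map_smul, res_smul, hφM U V h n, hn, psiE_ιMulti]
    have h1 : (fun j => res (CohB1.tensorMod E L) h ((fun a => tmul E L (f a) e) j)) =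
        fun a => tmul E L (u • res E h (f a)) e' := by
      funext a
      show res (CohB1.tensorMod E L) h (tmul E L (f a) e) = _
      unfold res
      rw [tmul_res]
      show tmul E L (res E h (f a)) (res L h e) = _
      rw [← hu', tmul_smul_right, tmul_smul_left]
    rw [h1, psiE_ιMulti, ιMulti_smul_const, map_smul, tmul_smul_left]
    have h2 : res (CohB1.tensorMod N (CohB1.tensorPow L k)) h
        (tmul N (CohB1.tensorPow L k) ((φN U).symm (ιMulti _ k f)) (eps U e k)) =
        tmul N (CohB1.tensorPow L k) (res N h ((φN U).symm (ιMulti _ k f)))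
          (res (CohB1.tensorPow L k) h (eps U e k)) := by
      unfold res
      rw [tmul_res]
    have h3 : res (CohB1.tensorPow L k) h (eps U e k) = u ^ k • eps V e' k := by
      have h4 : res (CohB1.tensorPow L k) h (eps U e k) = eps V (res L h e) k :=
        _root_.KoszTw.map_tprod L k (homOfLE h) (fun _ => e)
      rw [h4, ← hu', eps_eq_lpow, eps_eq_lpow, lpow_smul]
    rw [h2, h3, hφN U V h f, tmul_smul_right]

end Iso

theorem main15827 (E L : X.Modules)
    (hL : FlatMod.IsFinLocFreeOfRank 1 L) (k : ℕ) (M N : X.Modules)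
    (hM : ExtPow.IsExtPow k (CohB1.tensorMod E L) M) (hN : ExtPow.IsExtPow k E N) :
    Nonempty (M ≅ CohB1.tensorMod N (CohB1.tensorPow L k)) := by
  obtain ⟨φM, hφM⟩ := hM
  obtain ⟨φN, hφN⟩ := hN
  have hinv : PicF.IsInvertible L := isInvertible_of_rank_one L hL
  let ι := {U : X.affineOpens // ∃ e : Γ(L, U.1), ∀ (y : X) (hy : y ∈ U.1), IsGen L e y hy}
  let B : ι → X.Opens := fun i => i.1.1
  have hB : Opens.IsBasis (Set.range B) := by
    rw [Opens.isBasis_iff_nbhd]
    intro U x hx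
    obtain ⟨W, ⟨hW, e, he⟩, hxW, hWU⟩ := isNbhdBasis_genOpen L hinv x U hx
    exact ⟨W, ⟨⟨⟨W, hW⟩, e, he⟩, rfl⟩, hxW, hWU⟩
  let ψ : ∀ i : ι, Γ(M, B i) →ₗ[Γ(X, B i)] Γ(CohB1.tensorMod N (CohB1.tensorPow L k), B i) :=
    fun i => psiE E L M N k φM φN i.1 i.2.choose i.2.choose_spec
  have hψ : ∀ (i j : ι) (h : B j ≤ B i) (x : Γ(M, B i)),
      ψ j (res M h x) = res (CohB1.tensorMod N (CohB1.tensorPow L k)) h (ψ i x) :=
    fun i j h x => psiE_nat E L M N k φM hφM φN hφN i.1 j.1 h _ _ _ _ x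
  let Ψ := glueB M (CohB1.tensorMod N (CohB1.tensorPow L k)) B hB ψ hψ
  haveI : IsIso Ψ := by
    refine Groth.Agent.Helper13.LocFree.isIso_of_app_bijective_of_isBasis Ψ hB ?_
    rintro _ ⟨i, rfl⟩
    have hf : ∀ x, Ψ.app (B i) x = ψ i x := glueB_app M _ B hB ψ hψ i
    have hbij := psiE_bijective E L M N k φM φN i.1 i.2.choose i.2.choose_spec
    refine ⟨fun a b hab => hbij.1 ?_, fun y => ?_⟩
    · have := hab
      rw [hf, hf] at this
      exact this
    · obtain ⟨x, hx⟩ := hbij.2 y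
      exact ⟨x, (hf x).trans hx⟩
  exact ⟨asIso Ψ⟩

end Groth.Agent.Helper24.KoszTw
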