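import Groth.Prelude.Def_W4c4lgringredgrpLG
import Mathlib.RingTheory.Finiteness.Projective
import Mathlib.RingTheory.Finiteness.Nakayama
import Mathlib.Algebra.BigOperators.Fin
import Mathlib.LinearAlgebra.Pi
import Mathlib.LinearAlgebra.Dual.Defs

universe u v

namespace Groth.Agent.Helper24.LGRingLib

/-- Over an LG-ring, a finitely generated projective module `M` with `M ≠ mM` for every
maximal ideal `m` has a unimodular element. -/
theorem exists_unimodular {R : Type u} [CommRing R] (hR : LGRing.IsLGRing R)
    (M : Type v) [AddCommGroup M] [Module R M] [Module.Finite R M] [Module.Projective R M]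
    (hM : ∀ (m : Ideal R) [m.IsMaximal], ¬ ((⊤ : Submodule R M) ≤ m • (⊤ : Submodule R M))) :
    ∃ (m : M) (f : Module.Dual R M), f m = 1 := by
  classical
  obtain ⟨n, π, ι, -, -, hπι⟩ := Module.Finite.exists_comp_eq_id_of_projective R M
  set e : Fin n → M := fun j => π (Pi.single j 1) with he
  set φ : Fin n → Module.Dual R M := fun l => (LinearMap.proj l) ∘ₗ ι with hφ
  have hrec : ∀ x : M, x = ∑ j, φ j x • e j := by
    intro x
    have h1 : x = π (ι x) := by
      have := LinearMap.congr_fun hπι x
      simpa using this.symm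
    conv_lhs => rw [h1, LinearMap.pi_apply_eq_sum_univ π (ι x)]
    apply Finset.sum_congr rfl
    intro j _
    simp only [hφ, he, LinearMap.comp_apply, LinearMap.proj_apply]
    congr 2
    ext i
    simp [Pi.single_apply, eq_comm]
  set g : MvPolynomial (Fin (n + n)) R :=
    ∑ j : Fin n, ∑ l : Fin n, MvPolynomial.C (φ l (e j)) *
      (MvPolynomial.X (Fin.castAdd n j) * MvPolynomial.X (Fin.natAdd n l)) with hg
  have heval : ∀ (S : Type u) [CommRing S] [Algebra R S] (s : Fin (n + n) → S),
      MvPolynomial.aeval s g = ∑ j : Fin n, ∑ l : Fin n, algebraMap R S (φ l (e j)) *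
        (s (Fin.castAdd n j) * s (Fin.natAdd n l)) := by
    intro S _ _ s
    simp only [hg, map_sum, map_mul, MvPolynomial.aeval_C, MvPolynomial.aeval_X]
  have hres : ∀ (m : Ideal R) [m.IsMaximal], LGRing.RepresentsUnit g (R ⧸ m) := by
    intro m hm
    have hex : ∃ j l, φ l (e j) ∉ m := by
      by_contra hcon
      push Not at hcon
      apply hM m
      intro x _
      rw [hrec x]
      apply Submodule.sum_mem
      intro j _
      apply Submodule.smul_mem
      rw [hrec (e j)]
      apply Submodule.sum_mem
      intro l _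
      exact Submodule.smul_mem_smul (hcon j l) Submodule.mem_top
    obtain ⟨j₀, l₀, hjl⟩ := hex
    set a : R ⧸ m := Ideal.Quotient.mk m (φ l₀ (e j₀)) with ha
    have ha0 : a ≠ 0 := by
      rw [ha, Ne, Ideal.Quotient.eq_zero_iff_mem]
      exact hjl
    refine ⟨Fin.append (Pi.single j₀ 1) (Pi.single l₀ 1), ?_⟩
    rw [heval]
    simp only [Fin.append_left, Fin.append_right]
    rw [Finset.sum_eq_single j₀, Finset.sum_eq_single l₀]
    · simp only [Pi.single_eq_same, mul_one]
      rw [Ideal.Quotient.algebraMap_eq]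
      obtain ⟨b, hb⟩ := Ideal.Quotient.exists_inv ha0
      exact IsUnit.of_mul_eq_one b hb
    · intro l _ hl
      simp [Pi.single_eq_of_ne hl]
    · intro h; exact absurd (Finset.mem_univ _) h
    · intro j _ hj
      apply Finset.sum_eq_zero
      intro l _
      simp [Pi.single_eq_of_ne hj]
    · intro h; exact absurd (Finset.mem_univ _) h
  obtain ⟨s, hs⟩ := hR (n + n) g hres
  rw [heval] at hs
  set x : M := ∑ j, s (Fin.castAdd n j) • e j with hx
  set f : Module.Dual R M := ∑ l, s (Fin.natAdd n l) • φ l with hf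
  have hfx : f x = ∑ j : Fin n, ∑ l : Fin n, algebraMap R R (φ l (e j)) *
        (s (Fin.castAdd n j) * s (Fin.natAdd n l)) := by
    simp only [hx, hf, map_sum, map_smul, LinearMap.sum_apply, LinearMap.smul_apply, smul_eq_mul,
      Algebra.algebraMap_self, RingHom.id_apply, Finset.mul_sum]
    apply Finset.sum_congr rfl
    intro j _
    apply Finset.sum_congr rfl
    intro l _
    ring
  rw [← hfx] at hs
  obtain ⟨u, hu⟩ := hs
  refine ⟨x, (↑u⁻¹ : R) • f, ?_⟩
  rw [LinearMap.smul_apply, ← hu, smul_eq_mul, Units.inv_mul]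

end Groth.Agent.Helper24.LGRingLib
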