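import Mathlib
import Groth.Agent.Lib.Helper9.OpenRes3
import Groth.Agent.Lib.Helper24.Flasque
import Groth.Agent.Lib.Helper24.GSSExt

universe u
open CategoryTheory CategoryTheory.Limits Opposite TopologicalSpace

namespace Groth.Agent.Helper24.LocSS

open Groth.Agent.Helper9.OpenRes

variable {X : TopCat.{u}}

/-- restriction maps only depend on the opens -/
lemma map_congr_hom (F : CohTop.Ab X) {V W : Opens X} (a b : W ⟶ V) (s : F.obj.obj (op V)) :
    F.obj.map a.op s = F.obj.map b.op s := by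
  rw [Subsingleton.elim a b]

lemma map_map (F : CohTop.Ab X) {V W T : Opens X} (a : W ⟶ V) (b : T ⟶ W) (c : T ⟶ V)
    (s : F.obj.obj (op V)) :
    F.obj.map b.op (F.obj.map a.op s) = F.obj.map c.op s := by
  rw [← ConcreteCategory.comp_apply, ← F.obj.map_comp, ← op_comp]
  exact map_congr_hom F _ _ s

/-- gluing two sections -/
lemma glue₂ (F : CohTop.Ab X) {U₁ U₂ : Opens X} (s₁ : F.obj.obj (op U₁)) (s₂ : F.obj.obj (op U₂))
    (h : F.obj.map (homOfLE (inf_le_left : U₁ ⊓ U₂ ≤ U₁)).op s₁ =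
      F.obj.map (homOfLE (inf_le_right : U₁ ⊓ U₂ ≤ U₂)).op s₂) :
    ∃ s : F.obj.obj (op (U₁ ⊔ U₂)),
      F.obj.map (homOfLE (le_sup_left : U₁ ≤ U₁ ⊔ U₂)).op s = s₁ ∧
      F.obj.map (homOfLE (le_sup_right : U₂ ≤ U₁ ⊔ U₂)).op s = s₂ := by
  let Us : Bool → Opens X := fun b => if b then U₁ else U₂
  let sf : ∀ b : Bool, F.obj.obj (op (Us b)) := fun b =>
    match b with
    | true => s₁
    | false => s₂
  have key : ∀ (W : Opens X) (a : W ⟶ U₁) (b : W ⟶ U₂),
      F.obj.map a.op s₁ = F.obj.map b.op s₂ := by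
    intro W a b
    have hW : W ≤ U₁ ⊓ U₂ := le_inf a.le b.le
    rw [← map_map F (homOfLE inf_le_left) (homOfLE hW) a s₁, h, map_map]
  have hc : TopCat.Presheaf.IsCompatible F.obj Us sf := by
    rintro (_ | _) (_ | _)
    · exact map_congr_hom F _ _ s₂
    · exact (key _ _ _).symm
    · exact key _ _ _
    · exact map_congr_hom F _ _ s₁
  obtain ⟨s, hs, -⟩ := TopCat.Sheaf.existsUnique_gluing' F Us (U₁ ⊔ U₂)
    (fun b => match b with
      | true => homOfLE (le_sup_left : U₁ ≤ U₁ ⊔ U₂)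
      | false => homOfLE (le_sup_right : U₂ ≤ U₁ ⊔ U₂))
    (by
      rw [sup_le_iff]
      exact ⟨le_iSup Us true, le_iSup Us false⟩) sf hc
  exact ⟨s, hs true, hs false⟩

variable (U : Opens X)

lemma ι_naturality_apply (F : CohTop.Ab X) {V W : Opens X} (a : W ⟶ V)
    (t : (CohCx.sectSupp U F).obj.obj (op V)) :
    (ι U F).hom.app (op W) ((CohCx.sectSupp U F).obj.map a.op t) =
      F.obj.map a.op ((ι U F).hom.app (op V) t) :=
  ConcreteCategory.congr_hom ((ι U F).hom.naturality a.op) t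

/-- sections with support of a flasque sheaf form a flasque sheaf -/
theorem sectSupp_isFlasque (F : CohTop.Ab X) [hF : TopCat.Sheaf.IsFlasque F] :
    TopCat.Sheaf.IsFlasque (CohCx.sectSupp U F) where
  epi {V' W'} i := by
    obtain ⟨V⟩ := V'
    obtain ⟨W⟩ := W'
    rw [AddCommGrpCat.epi_iff_surjective]
    intro t
    have hWV : W ≤ V := i.unop.le
    let s₀ : F.obj.obj (op W) := (ι U F).hom.app (op W) t
    have hs₀ : F.obj.map (homOfLE (inf_le_left : W ⊓ U ≤ W)).op s₀ = 0 := res_ι' U F W t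
    -- glue `s₀` on `W` with `0` on `V ⊓ U`
    obtain ⟨s', hs'1, hs'2⟩ := glue₂ F (U₁ := W) (U₂ := V ⊓ U) s₀ 0 (by
      rw [map_zero]
      have hle : W ⊓ (V ⊓ U) ≤ W ⊓ U := inf_le_inf_left W inf_le_right
      rw [← map_map F (homOfLE (inf_le_left : W ⊓ U ≤ W)) (homOfLE hle) _ s₀, hs₀, map_zero])
    have hle : W ⊔ V ⊓ U ≤ V := sup_le hWV inf_le_left
    obtain ⟨s, hs⟩ := (AddCommGrpCat.epi_iff_surjective _).1
      (TopCat.Presheaf.IsFlasque.epi (F := F.obj) (homOfLE hle).op) s'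
    have hsU : F.obj.map (homOfLE (inf_le_left : V ⊓ U ≤ V)).op s = 0 := by
      rw [← map_map F (homOfLE hle) (homOfLE le_sup_right) _ s]
      rw [show F.obj.map (homOfLE hle).op s = s' from hs, hs'2]
    obtain ⟨t', ht'⟩ := exists_ι_eq' U F V s hsU
    refine ⟨t', ?_⟩
    apply ι_app_injective U F W
    have h1 := ι_naturality_apply U F i.unop t'
    refine h1.trans ?_
    rw [ht', ← map_map F (homOfLE hle) (homOfLE le_sup_left) _ s,
      show F.obj.map (homOfLE hle).op s = s' from hs, hs'1]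

section SectIso

open Abelian Groth.Agent.Helper24.CechH

variable {C : Type u} [SmallCategory C] (J : GrothendieckTopology C) (V : C)

/-- sections over `V` -/
noncomputable abbrev sectF : Sheaf J AddCommGrpCat.{u} ⥤ AddCommGrpCat.{u} :=
  sheafToPresheaf J AddCommGrpCat.{u} ⋙ (evaluation Cᵒᵖ AddCommGrpCat.{u}).obj (op V)

/-- `Ext⁰(ℤ_V, -) ≅ Γ(V, -)` -/
noncomputable def extZeroSectIso : (extDelta (CohCx.freeSheaf J V)).F 0 ≅ sectF J V :=
  NatIso.ofComponents
    (fun F => (Ext.addEquiv₀.trans (CohFree.homEquivSect J V F)).toAddCommGrpIso) (by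
      intro F G φ
      ext (x : Ext (CohCx.freeSheaf J V) F 0)
      show CohFree.evalGen J V G (Ext.addEquiv₀ (x.comp (Ext.mk₀ φ) (add_zero 0))) =
        (φ.hom.app (op V)).hom (CohFree.evalGen J V F (Ext.addEquiv₀ x))
      rw [addEquiv₀_comp_mk₀]
      rfl)

end SectIso

end Groth.Agent.Helper24.LocSS
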