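import Groth.Agent.Lib.Helper24.MLCx1

set_option autoImplicit false
universe u
open CategoryTheory

namespace Groth.Agent.Helper24.MLCx

section Main

variable {A B C D : ℕ → Type u} [∀ n, AddCommGroup (A n)] [∀ n, AddCommGroup (B n)]
  [∀ n, AddCommGroup (C n)] [∀ n, AddCommGroup (D n)]
  (tA : ∀ n, A (n + 1) →+ A n) (tB : ∀ n, B (n + 1) →+ B n) (tC : ∀ n, C (n + 1) →+ C n)
  (tD : ∀ n, D (n + 1) →+ D n)
  (d1 : ∀ n, A n →+ B n) (d2 : ∀ n, B n →+ C n) (d3 : ∀ n, C n →+ D n)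
  (h23 : ∀ n x, d3 n (d2 n x) = 0)
  (c1 : ∀ n x, d1 n (tA n x) = tB n (d1 (n + 1) x))
  (c2 : ∀ n x, d2 n (tB n x) = tC n (d2 (n + 1) x))
  (c3 : ∀ n x, d3 n (tC n x) = tD n (d3 (n + 1) x))
  {LB LC : Type u} [AddCommGroup LB] [AddCommGroup LC]
  (pB : ∀ n, LB →+ B n) (pC : ∀ n, LC →+ C n)
  (hpC : ∀ n x, tC n (pC (n + 1) x) = pC n x)
  (exB : ∀ b : ∀ n, B n, (∀ n, tB n (b (n + 1)) = b n) → ∃ β : LB, ∀ n, pB n β = b n)
  (exC : ∀ c : ∀ n, C n, (∀ n, tC n (c (n + 1)) = c n) → ∃ γ : LC, ∀ n, pC n γ = c n)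
  (extC : ∀ c c' : LC, (∀ n, pC n c = pC n c') → c = c')
  (dLB : LB →+ LC) (hdLB : ∀ n β, pC n (dLB β) = d2 n (pB n β))
  (hA : CohCx.LimOneIsZero A tA) (hB : CohCx.LimOneIsZero B tB)
  (hH : ∀ z : ∀ n, B n, (∀ n, d2 n (z n) = 0) → ∃ w : ∀ n, B n, (∀ n, d2 n (w n) = 0) ∧
    ∀ n, ∃ a : A n, z n - (w n - tB n (w (n + 1))) = d1 n a)
  (h12 : ∀ n x, d2 n (d1 n x) = 0)
  (n₀ : ℕ)
  (hc_inj : ∀ (n : ℕ) (h : n₀ ≤ n) (c : C n), d3 n c = 0 → (∃ b, d2 n₀ b = tr tC h c) →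
    ∃ b', d2 n b' = c)
  (hc_surj : ∀ (n : ℕ) (h : n₀ ≤ n) (γ : C n₀), d3 n₀ γ = 0 →
    ∃ c : C n, d3 n c = 0 ∧ ∃ b, d2 n₀ b = tr tC h c - γ)

include c1 c2 hpC exB extC hdLB hA hH h12 hc_inj in
theorem ml_injective (c : LC) (hc : ∀ n, d3 n (pC n c) = 0) (hb₀ : ∃ b, d2 n₀ b = pC n₀ c) :
    ∃ β : LB, dLB β = c := by
  obtain ⟨b₀, hb₀⟩ := hb₀
  -- every component is a boundary
  have h1 : ∀ n, ∃ b, d2 n b = pC n c := by
    intro n
    rcases le_total n₀ n with h | h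
    · exact hc_inj n h (pC n c) (hc n) ⟨b₀, by rw [tr_proj tC pC hpC h, hb₀]⟩
    · exact ⟨tr tB h b₀, by rw [d_tr tB tC d2 c2 h, hb₀, tr_proj tC pC hpC h]⟩
  choose b hb using h1
  -- the defect is a family of cycles
  have he : ∀ n, d2 n (b n - tB n (b (n + 1))) = 0 := by
    intro n
    rw [map_sub, c2, hb, hb, hpC, sub_self]
  obtain ⟨w, hw, hwa⟩ := hH (fun n => b n - tB n (b (n + 1))) he
  choose a ha using hwa
  obtain ⟨α, hα⟩ := hA a
  have hα' : ∀ n, α n - tA n (α (n + 1)) = a n := fun n => congrFun hα n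
  -- corrected family
  let b' : ∀ n, B n := fun n => b n - (w n + d1 n (α n))
  have hb' : ∀ n, tB n (b' (n + 1)) = b' n := by
    intro n
    have h2 : b n - tB n (b (n + 1)) - (w n - tB n (w (n + 1))) = d1 n (a n) := ha n
    have h3 : d1 n (a n) = d1 n (α n) - tB n (d1 (n + 1) (α (n + 1))) := by
      rw [← hα' n, map_sub, c1]
    simp only [b', map_sub, map_add]
    rw [h3] at h2
    have h4 : b n - tB n (b (n + 1)) = (w n - tB n (w (n + 1))) +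
        (d1 n (α n) - tB n (d1 (n + 1) (α (n + 1)))) := by
      rw [← h2]; abel
    have h5 : tB n (b (n + 1)) = b n - ((w n - tB n (w (n + 1))) +
        (d1 n (α n) - tB n (d1 (n + 1) (α (n + 1))))) := by
      rw [← h4]; abel
    rw [h5]; abel
  obtain ⟨β, hβ⟩ := exB b' hb'
  refine ⟨β, extC _ _ (fun n => ?_)⟩
  rw [hdLB, hβ]
  simp only [b', map_sub, map_add]
  rw [hb, hw, h12, add_zero, sub_zero]

include h23 c2 c3 exC hB hc_inj hc_surj in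
theorem ml_surjective (γ : C n₀) (hγ : d3 n₀ γ = 0) :
    ∃ c : LC, (∀ n, d3 n (pC n c) = 0) ∧ ∃ b, d2 n₀ b = pC n₀ c - γ := by
  -- compatible classes
  have h1 : ∀ n, ∃ c : C n, d3 n c = 0 ∧ (∀ h : n₀ ≤ n, ∃ b, d2 n₀ b = tr tC h c - γ) ∧
      (∀ h : n ≤ n₀, c = tr tC h γ) := by
    intro n
    rcases le_or_gt n n₀ with h | h
    · refine ⟨tr tC h γ, ?_, fun h' => ?_, fun _ => rfl⟩
      · rw [d_tr tC tD d3 c3 h, hγ, map_zero]
      · obtain rfl : n = n₀ := le_antisymm h h'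
        refine ⟨0, ?_⟩
        rw [map_zero, tr_self_apply, tr_self_apply, sub_self]
    · obtain ⟨c, hc, hcb⟩ := hc_surj n h.le γ hγ
      exact ⟨c, hc, fun _ => hcb, fun h' => absurd h' (not_le.2 h)⟩
  choose c hc3 hcge hcle using h1
  have h2 : ∀ n, ∃ b : B n, d2 n b = c n - tC n (c (n + 1)) := by
    intro n
    rcases le_or_gt (n + 1) n₀ with h | h
    · refine ⟨0, ?_⟩
      rw [map_zero, hcle n (Nat.le_of_succ_le h), hcle (n + 1) h,
        tr_succ_left_apply tC h (Nat.le_of_succ_le h), sub_self]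
    · have hn : n₀ ≤ n := Nat.lt_succ_iff.1 h
      apply hc_inj n hn
      · rw [map_sub, c3, hc3, hc3, map_zero, sub_self]
      · obtain ⟨b1, hb1⟩ := hcge n hn
        obtain ⟨b2, hb2⟩ := hcge (n + 1) (Nat.le_succ_of_le hn)
        refine ⟨b1 - b2, ?_⟩
        rw [map_sub, hb1, hb2, map_sub, tr_step_apply tC hn]
        abel
  choose bb hbb using h2
  obtain ⟨β, hβ⟩ := hB bb
  have hβ' : ∀ n, β n - tB n (β (n + 1)) = bb n := fun n => congrFun hβ n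
  let c' : ∀ n, C n := fun n => c n - d2 n (β n)
  have hc' : ∀ n, tC n (c' (n + 1)) = c' n := by
    intro n
    simp only [c', map_sub]
    rw [← c2]
    have h3 := hbb n
    rw [← hβ' n, map_sub] at h3
    have h4 : tC n (c (n + 1)) = c n - (d2 n (β n) - d2 n (tB n (β (n + 1)))) := by
      rw [h3]; abel
    rw [h4]; abel
  obtain ⟨cL, hcL⟩ := exC c' hc'
  refine ⟨cL, fun n => ?_, -β n₀, ?_⟩
  · rw [hcL]
    simp only [c', map_sub]
    rw [hc3, h23, sub_self]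
  · rw [hcL]
    simp only [c']
    rw [hcle n₀ (le_refl _), tr_self_apply, map_neg]
    abel

end Main

end Groth.Agent.Helper24.MLCx
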