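import Groth.Agent.Lib.Helper24.RlimLim7

set_option autoImplicit false
set_option linter.unusedSectionVars false
universe u
open CategoryTheory CategoryTheory.Limits Opposite

namespace Groth.Agent.Helper24.MLCx

open Groth.Agent.Helper24.HDSheaf Groth.Agent.Helper24.RlimLim Groth.Agent.Helper24.RlimConst
open HomologicalComplex

section Site

variable {C : Type u} [SmallCategory C] {J : GrothendieckTopology C}

/-- local lifting along an exact sequence of sheaves -/
theorem exists_lift_of_exact {S : ShortComplex (Sheaf J AddCommGrpCat.{u})} (hS : S.Exact) (V : C)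
    (a : CohCx.freeSheaf J V ⟶ S.X₂) (ha : a ≫ S.g = 0) :
    ∃ T ∈ J V, ∀ {V' : C} (g' : V' ⟶ V), T g' →
      ∃ y : CohCx.freeSheaf J V' ⟶ S.X₁, y ≫ S.f = CohCx.freeSheafMap J g' ≫ a := by
  obtain ⟨A', π, hπ, y, hy⟩ := hS.exact_up_to_refinements a ha
  obtain ⟨T, hT, h⟩ := exists_lift_locally π V (𝟙 _)
  refine ⟨T, hT, fun {V'} g' hg' => ?_⟩
  obtain ⟨a', ha'⟩ := h g' hg'
  refine ⟨a' ≫ y, ?_⟩
  rw [Category.assoc, ← hy, ← Category.assoc, ha', Category.comp_id]

variable {K L : CochainComplex (Sheaf J AddCommGrpCat.{u}) ℤ} (φ : K ⟶ L) (m : ℤ) (B : Set C)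
  (hB : ∀ U : C, ∃ (ι : Type u) (Y : ι → C) (f : ∀ i, Y i ⟶ U), Sieve.ofArrows Y f ∈ J U ∧ ∀ i, Y i ∈ B)

lemma exact_toCycles (K : CochainComplex (Sheaf J AddCommGrpCat.{u}) ℤ) (m : ℤ) :
    (ShortComplex.mk (K.toCycles (m - 1) m) (K.homologyπ m)
      (K.toCycles_comp_homologyπ (m - 1) m)).Exact :=
  ShortComplex.exact_of_g_is_cokernel _ (K.homologyIsCokernel (m - 1) m (by simp))

theorem ofSect_eq_zero_iff {F : Sheaf J AddCommGrpCat.{u}} {U : C} (s : F.obj.obj (op U)) :
    CohFree.ofSect J U F s = 0 ↔ s = 0 := by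
  constructor
  · intro h
    have := congrArg (CohFree.evalGen J U F) h
    rwa [CohFree.evalGen_ofSect, map_zero] at this
  · intro h
    apply (CohFree.homEquivSect J U F).injective
    rw [CohFree.homEquivSect_apply, CohFree.evalGen_ofSect, map_zero, h]

theorem freeSheafMap_ofSect {F : Sheaf J AddCommGrpCat.{u}} {U V : C} (g : V ⟶ U)
    (s : F.obj.obj (op U)) :
    CohCx.freeSheafMap J g ≫ CohFree.ofSect J U F s =
      CohFree.ofSect J V F ((ConcreteCategory.hom (F.obj.map g.op)) s) := by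
  apply (CohFree.homEquivSect J V F).injective
  rw [CohFree.homEquivSect_apply, CohFree.homEquivSect_apply, CohFree.evalGen_freeSheafMap_comp,
    CohFree.evalGen_ofSect, CohFree.evalGen_ofSect]

include hB in
theorem mono_homologyMap_of_free
    (hinj : ∀ U ∈ B, ∀ c : CohCx.freeSheaf J U ⟶ K.X m, c ≫ K.d m (m + 1) = 0 →
      (∃ b : CohCx.freeSheaf J U ⟶ L.X (m - 1), b ≫ L.d (m - 1) m = c ≫ φ.f m) →
      ∃ b' : CohCx.freeSheaf J U ⟶ K.X (m - 1), b' ≫ K.d (m - 1) m = c) :
    Mono (homologyMap φ m) := by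
  refine mono_of_sections_ker _ (fun W s hs => ?_)
  have hσ : CohFree.ofSect J W _ s ≫ homologyMap φ m = 0 := by
    apply (CohFree.homEquivSect J W _).injective
    rw [CohFree.homEquivSect_apply, evalGen_comp, CohFree.evalGen_ofSect, map_zero]
    exact hs
  obtain ⟨S, hS, h1⟩ := exists_lift_locally (K.homologyπ m) W (CohFree.ofSect J W _ s)
  refine eq_zero_of_sieve_zero _ s S hS (fun {V} g hg => ?_)
  obtain ⟨a, ha⟩ := h1 g hg
  have h2 : (a ≫ cyclesMap φ m) ≫ L.homologyπ m = 0 := by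
    rw [Category.assoc, ← homologyπ_naturality, ← Category.assoc, ha, Category.assoc, hσ, comp_zero]
  obtain ⟨T, hT, h3⟩ := exists_lift_of_exact (exact_toCycles L m) V (a ≫ cyclesMap φ m) h2
  refine eq_zero_of_sieve_zero _ _ T hT (fun {V'} g' hg' => ?_)
  obtain ⟨y, hy⟩ := h3 g' hg'
  obtain ⟨ι, Y, f, hcov, hY⟩ := hB V'
  refine eq_zero_of_locally_zero _ _ Y f hcov (fun i => ?_)
  let c : CohCx.freeSheaf J (Y i) ⟶ K.X m :=
    CohCx.freeSheafMap J (f i) ≫ CohCx.freeSheafMap J g' ≫ a ≫ K.iCycles m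
  have hc : c ≫ K.d m (m + 1) = 0 := by
    simp only [c, Category.assoc, iCycles_d, comp_zero]
  obtain ⟨b', hb'⟩ := hinj (Y i) (hY i) c hc ⟨CohCx.freeSheafMap J (f i) ≫ y, by
    have h4 := congrArg (fun x => CohCx.freeSheafMap J (f i) ≫ x ≫ L.iCycles m) hy
    simp only [Category.assoc, toCycles_i, cyclesMap_i] at h4
    simp only [c, Category.assoc]
    exact h4⟩
  have h5 : CohCx.freeSheafMap J (f i) ≫ CohCx.freeSheafMap J g' ≫ a = b' ≫ K.toCycles (m - 1) m := by
    rw [← cancel_mono (K.iCycles m)]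
    simp only [Category.assoc, toCycles_i]
    exact hb'.symm
  have h6 : CohCx.freeSheafMap J (f i) ≫ CohCx.freeSheafMap J g' ≫ CohCx.freeSheafMap J g ≫
      CohFree.ofSect J W _ s = 0 := by
    have h7 := congrArg (fun x => x ≫ K.homologyπ m) h5
    simp only [Category.assoc, toCycles_comp_homologyπ, comp_zero] at h7
    rw [← ha]
    exact h7
  rw [freeSheafMap_ofSect, freeSheafMap_ofSect, freeSheafMap_ofSect, ofSect_eq_zero_iff] at h6
  exact h6

end Site

end Groth.Agent.Helper24.MLCx
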