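import Groth.Agent.Lib.Helper24.MLCx3

set_option autoImplicit false
set_option linter.unusedSectionVars false
universe u
open CategoryTheory CategoryTheory.Limits Opposite

namespace Groth.Agent.Helper24.MLCx

open Groth.Agent.Helper24.HDSheaf Groth.Agent.Helper24.RlimLim Groth.Agent.Helper24.RlimConst
open HomologicalComplex

section Site

variable {C : Type u} [SmallCategory C] {J : GrothendieckTopology C}

variable {K L : CochainComplex (Sheaf J AddCommGrpCat.{u}) ℤ} (φ : K ⟶ L) (m : ℤ) (B : Set C)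
  (hB : ∀ U : C, ∃ (ι : Type u) (Y : ι → C) (f : ∀ i, Y i ⟶ U), Sieve.ofArrows Y f ∈ J U ∧ ∀ i, Y i ∈ B)

/-- local surjectivity criterion: a section which lies in the image on a covering family of each
member of a covering sieve -/
theorem epi_of_two_step {F G : Sheaf J AddCommGrpCat.{u}} (ψ : F ⟶ G)
    (h : ∀ (V : C) (r : G.obj.obj (op V)), ∃ S ∈ J V, ∀ {V' : C} (g : V' ⟶ V), S g →
      ∃ (ι : Type u) (Y : ι → C) (f : ∀ i, Y i ⟶ V'), Sieve.ofArrows Y f ∈ J V' ∧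
        ∀ i, ∃ x : F.obj.obj (op (Y i)), (ConcreteCategory.hom (ψ.hom.app (op (Y i)))) x =
          (ConcreteCategory.hom (G.obj.map (f i ≫ g).op)) r) : Epi ψ := by
  rw [← Sheaf.isLocallySurjective_iff_epi' AddCommGrpCat.{u} ψ]
  refine ⟨fun {V} r => ?_⟩
  obtain ⟨S, hS, h1⟩ := h V r
  refine J.transitive hS _ (fun V' g hg => ?_)
  obtain ⟨ι, Y, f, hcov, h2⟩ := h1 g hg
  refine J.superset_covering ?_ hcov
  rintro W k ⟨Z, k', g', ⟨i⟩, rfl⟩
  obtain ⟨x, hx⟩ := h2 i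
  change Presheaf.imageSieve ψ.hom r ((k' ≫ f i) ≫ g)
  rw [Category.assoc]
  refine Sieve.downward_closed _ ?_ k'
  exact ⟨x, hx⟩

include hB in
theorem epi_homologyMap_of_free
    (hsurj : ∀ U ∈ B, ∀ γ : CohCx.freeSheaf J U ⟶ L.X m, γ ≫ L.d m (m + 1) = 0 →
      ∃ c : CohCx.freeSheaf J U ⟶ K.X m, c ≫ K.d m (m + 1) = 0 ∧
        ∃ b : CohCx.freeSheaf J U ⟶ L.X (m - 1), b ≫ L.d (m - 1) m = c ≫ φ.f m - γ) :
    Epi (homologyMap φ m) := by
  refine epi_of_two_step _ (fun V r => ?_)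
  obtain ⟨S, hS, h1⟩ := exists_lift_locally (L.homologyπ m) V (CohFree.ofSect J V _ r)
  refine ⟨S, hS, fun {V'} g hg => ?_⟩
  obtain ⟨a, ha⟩ := h1 g hg
  obtain ⟨ι, Y, f, hcov, hY⟩ := hB V'
  refine ⟨ι, Y, f, hcov, fun i => ?_⟩
  let γ : CohCx.freeSheaf J (Y i) ⟶ L.X m := CohCx.freeSheafMap J (f i) ≫ a ≫ L.iCycles m
  have hγ : γ ≫ L.d m (m + 1) = 0 := by
    simp only [γ, Category.assoc, iCycles_d, comp_zero]
  obtain ⟨c, hc, b, hb⟩ := hsurj (Y i) (hY i) γ hγ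
  let ĉ : CohCx.freeSheaf J (Y i) ⟶ K.cycles m := K.liftCycles c (m + 1) (by simp) hc
  have h2 : ĉ ≫ cyclesMap φ m - CohCx.freeSheafMap J (f i) ≫ a = b ≫ L.toCycles (m - 1) m := by
    rw [← cancel_mono (L.iCycles m)]
    simp only [Preadditive.sub_comp, Category.assoc, toCycles_i, cyclesMap_i, ĉ]
    rw [← Category.assoc, liftCycles_i, hb]
  have h3 : (ĉ ≫ K.homologyπ m) ≫ homologyMap φ m =
      CohCx.freeSheafMap J (f i) ≫ CohCx.freeSheafMap J g ≫ CohFree.ofSect J V _ r := by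
    rw [Category.assoc, homologyπ_naturality, ← Category.assoc, ← ha]
    have h4 := congrArg (fun x => x ≫ L.homologyπ m) h2
    simp only [Preadditive.sub_comp, Category.assoc, toCycles_comp_homologyπ, comp_zero] at h4
    rw [Category.assoc]
    exact sub_eq_zero.1 h4
  refine ⟨CohFree.evalGen J (Y i) _ (ĉ ≫ K.homologyπ m), ?_⟩
  have h5 := congrArg (CohFree.evalGen J (Y i) _) h3
  rw [evalGen_comp, freeSheafMap_ofSect, freeSheafMap_ofSect, CohFree.evalGen_ofSect] at h5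
  rw [op_comp, Functor.map_comp, ConcreteCategory.comp_apply]
  exact h5

end Site

end Groth.Agent.Helper24.MLCx
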