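import Groth.Agent.Lib.Helper24.MLCx2
import Groth.Agent.Lib.Helper24.MLCx4
import Groth.Agent.Lib.Helper24.MLCx5

set_option autoImplicit false
set_option linter.unusedSectionVars false
universe u
open CategoryTheory CategoryTheory.Limits Opposite

namespace Groth.Agent.Helper24.MLCx

open Groth.Agent.Helper24.HDSheaf Groth.Agent.Helper24.RlimLim Groth.Agent.Helper24.RlimConst
open HomologicalComplex

section Site

variable {C : Type u} [SmallCategory C] (J : GrothendieckTopology C)
  (F : ℕ → CochainComplex (Sheaf J AddCommGrpCat.{u}) ℤ) (t : ∀ n, F (n + 1) ⟶ F n)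

/-- the limit complex -/
noncomputable abbrev Lim : CochainComplex (Sheaf J AddCommGrpCat.{u}) ℤ := limit (CohCx.opSequence F t)

/-- typed projection -/
noncomputable def π (n : ℕ) : Lim J F t ⟶ F n := limit.π (CohCx.opSequence F t) (op n)

lemma π_succ (n : ℕ) : π J F t (n + 1) ≫ t n = π J F t n := by
  have := limit.w (CohCx.opSequence F t) (homOfLE (Nat.le_add_right n 1)).op
  rw [Functor.ofOpSequence_map_homOfLE_succ] at this
  exact this

lemma π_succ_f (n : ℕ) (j : ℤ) : (π J F t (n + 1)).f j ≫ (t n).f j = (π J F t n).f j := by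
  rw [← HomologicalComplex.comp_f, π_succ]

lemma hom_ext_lim (j : ℤ) {W : Sheaf J AddCommGrpCat.{u}} (c c' : W ⟶ (Lim J F t).X j)
    (h : ∀ n, c ≫ (π J F t n).f j = c' ≫ (π J F t n).f j) : c = c' := by
  refine (isLimitOfPreserves (HomologicalComplex.eval _ _ j)
    (limit.isLimit (CohCx.opSequence F t))).hom_ext (fun n => ?_)
  exact h n.unop

lemma exists_lift_lim (j : ℤ) {W : Sheaf J AddCommGrpCat.{u}} (b : ∀ n, W ⟶ (F n).X j)
    (hb : ∀ n, b (n + 1) ≫ (t n).f j = b n) :
    ∃ β : W ⟶ (Lim J F t).X j, ∀ n, β ≫ (π J F t n).f j = b n := by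
  let D := CohCx.opSequence F t ⋙ HomologicalComplex.eval _ _ j
  let τ : (Functor.const ℕᵒᵖ).obj W ⟶ D := NatTrans.ofOpSequence (fun n => b n) (fun n => by
    have h1 : D.map (homOfLE (Nat.le_add_right n 1)).op = (t n).f j := by
      change ((CohCx.opSequence F t).map (homOfLE (Nat.le_add_right n 1)).op).f j = _
      rw [Functor.ofOpSequence_map_homOfLE_succ]
    rw [h1]
    exact (Category.id_comp _).trans (hb n).symm)
  let cone : Cone D := ⟨W, τ⟩
  let hl := isLimitOfPreserves (HomologicalComplex.eval _ _ j) (limit.isLimit (CohCx.opSequence F t))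
  exact ⟨hl.lift cone, fun n => hl.fac cone (op n)⟩

section Sections

variable (U : C)

/-- section groups -/
abbrev sec (n : ℕ) (j : ℤ) : Type u := ((F n).X j).obj.obj (op U)

/-- transition on sections -/
noncomputable abbrev tS (j : ℤ) (n : ℕ) : sec J F U (n + 1) j →+ sec J F U n j :=
  (((t n).f j).hom.app (op U)).hom

/-- differential on sections -/
noncomputable abbrev dS (i j : ℤ) (n : ℕ) : sec J F U n i →+ sec J F U n j :=
  (((F n).d i j).hom.app (op U)).hom

lemma dS_dS (i j k : ℤ) (n : ℕ) (x : sec J F U n i) : dS J F U j k n (dS J F U i j n x) = 0 := by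
  have h := (F n).d_comp_d i j k
  have h2 := congrArg (fun f => (CohFree.evalGen J U _) (CohFree.ofSect J U _ x ≫ f)) h
  simp only [evalGen_comp, CohFree.evalGen_ofSect, comp_zero, map_zero] at h2
  exact h2

lemma dS_tS (i j : ℤ) (n : ℕ) (x : sec J F U (n + 1) i) :
    dS J F U i j n (tS J F t U i n x) = tS J F t U j n (dS J F U i j (n + 1) x) := by
  have h := (t n).comm i j
  have h2 := congrArg (fun f => (CohFree.evalGen J U _) (CohFree.ofSect J U _ x ≫ f)) h
  simp only [evalGen_comp, CohFree.evalGen_ofSect] at h2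
  exact h2

/-- projection from morphisms into the limit to sections -/
noncomputable def pS (j : ℤ) (n : ℕ) : (CohCx.freeSheaf J U ⟶ (Lim J F t).X j) →+ sec J F U n j :=
  (CohFree.evalGen J U ((F n).X j)).comp (Preadditive.rightComp _ ((π J F t n).f j))

lemma pS_apply (j : ℤ) (n : ℕ) (x : CohCx.freeSheaf J U ⟶ (Lim J F t).X j) :
    pS J F t U j n x = CohFree.evalGen J U ((F n).X j) (x ≫ (π J F t n).f j) := rfl

lemma tS_pS (j : ℤ) (n : ℕ) (x : CohCx.freeSheaf J U ⟶ (Lim J F t).X j) :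
    tS J F t U j n (pS J F t U j (n + 1) x) = pS J F t U j n x := by
  rw [pS_apply, pS_apply, ← evalGen_comp, Category.assoc, π_succ_f]

lemma dS_pS (i j : ℤ) (n : ℕ) (x : CohCx.freeSheaf J U ⟶ (Lim J F t).X i) :
    dS J F U i j n (pS J F t U i n x) = pS J F t U j n (x ≫ (Lim J F t).d i j) := by
  rw [pS_apply, pS_apply, ← evalGen_comp, Category.assoc, Category.assoc, (π J F t n).comm i j]

lemma evalGen_injective (G : Sheaf J AddCommGrpCat.{u}) :
    Function.Injective (CohFree.evalGen J U G) := (CohFree.homEquivSect J U G).injective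

lemma ofSect_comp {G G' : Sheaf J AddCommGrpCat.{u}} (p : G ⟶ G') (s : G.obj.obj (op U)) :
    CohFree.ofSect J U G s ≫ p = CohFree.ofSect J U G' ((p.hom.app (op U)).hom s) := by
  apply evalGen_injective
  rw [evalGen_comp, CohFree.evalGen_ofSect, CohFree.evalGen_ofSect]

lemma exists_pS (j : ℤ) (b : ∀ n, sec J F U n j) (hb : ∀ n, tS J F t U j n (b (n + 1)) = b n) :
    ∃ β : CohCx.freeSheaf J U ⟶ (Lim J F t).X j, ∀ n, pS J F t U j n β = b n := by
  obtain ⟨β, hβ⟩ := exists_lift_lim J F t j (fun n => CohFree.ofSect J U _ (b n)) (fun n => by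
    rw [ofSect_comp]
    exact congrArg _ (hb n))
  exact ⟨β, fun n => by rw [pS_apply, hβ, CohFree.evalGen_ofSect]⟩

lemma ext_pS (j : ℤ) (c c' : CohCx.freeSheaf J U ⟶ (Lim J F t).X j)
    (h : ∀ n, pS J F t U j n c = pS J F t U j n c') : c = c' :=
  hom_ext_lim J F t j c c' (fun n => evalGen_injective J U _ (h n))

end Sections

section Main

variable (U : C)

lemma tr_eq_transition (j : ℤ) (n₀ k : ℕ) (h : n₀ ≤ n₀ + k) (c : sec J F U (n₀ + k) j) :
    tr (C := fun n => sec J F U n j) (tS J F t U j) h c = (((CohCx.transition F t n₀ k).f j).hom.app (op U)).hom c := by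
  induction k with
  | zero =>
    rw [tr_self_apply]
    simp [CohCx.transition]
  | succ k ih =>
    rw [tr_step_apply (C := fun n => sec J F U n j) (tS J F t U j) (Nat.le_add_right n₀ k), ih]
    rfl

variable (m : ℤ) (n₀ : ℕ)
  (ha : ∀ j : ℤ, (j = m - 2 ∨ j = m - 1) →
      CohCx.LimOneIsZero (fun n => ((F n).X j).obj.obj (op U)) (fun n => (((t n).f j).hom.app (op U)).hom))
  (hb : CohCx.LimOneIsZero
      (fun n => ((CohCx.sectCx J U).obj (F n)).homology (m - 1))
      (fun n => (HomologicalComplex.homologyMap ((CohCx.sectCx J U).map (t n)) (m - 1)).hom))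
  (hc : ∀ k : ℕ, IsIso (HomologicalComplex.homologyMap
      ((CohCx.sectCx J U).map (CohCx.transition F t n₀ k)) m))

include hb in
lemma hH_of (z : ∀ n, sec J F U n (m - 1)) (hz : ∀ n, dS J F U (m - 1) m n (z n) = 0) :
    ∃ w : ∀ n, sec J F U n (m - 1), (∀ n, dS J F U (m - 1) m n (w n) = 0) ∧
      ∀ n, ∃ a : sec J F U n (m - 2),
        z n - (w n - tS J F t U (m - 1) n (w (n + 1))) = dS J F U (m - 2) (m - 1) n a :=
  limOne_homology_elementwise' (fun n => (CohCx.sectCx J U).obj (F n))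
    (fun n => (CohCx.sectCx J U).map (t n)) (m - 2) (m - 1) m (by omega) (by omega) hb z hz

include hc in
lemma hc_inj_of (n : ℕ) (h : n₀ ≤ n) (c : sec J F U n m) (hc0 : dS J F U m (m + 1) n c = 0)
    (hb0 : ∃ b, dS J F U (m - 1) m n₀ b = tr (C := fun n => sec J F U n m) (tS J F t U m) h c) :
    ∃ b', dS J F U (m - 1) m n b' = c := by
  obtain ⟨k, rfl⟩ := Nat.exists_eq_add_of_le h
  obtain ⟨b, hb0⟩ := hb0
  rw [tr_eq_transition] at hb0
  exact inj_of_isIso' ((CohCx.sectCx J U).map (CohCx.transition F t n₀ k)) (m - 1) m (m + 1) rfl rfl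
    (hc k) c hc0 ⟨b, hb0⟩

include hc in
lemma hc_surj_of (n : ℕ) (h : n₀ ≤ n) (γ : sec J F U n₀ m) (hγ : dS J F U m (m + 1) n₀ γ = 0) :
    ∃ c : sec J F U n m, dS J F U m (m + 1) n c = 0 ∧
      ∃ b, dS J F U (m - 1) m n₀ b = tr (C := fun n => sec J F U n m) (tS J F t U m) h c - γ := by
  obtain ⟨k, rfl⟩ := Nat.exists_eq_add_of_le h
  obtain ⟨c, hc1, b, hb1⟩ := surj_of_isIso' ((CohCx.sectCx J U).map (CohCx.transition F t n₀ k))
    (m - 1) m (m + 1) rfl rfl (hc k) γ hγ
  refine ⟨c, hc1, b, ?_⟩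
  rw [tr_eq_transition]
  exact hb1

end Main

section Final

variable (m : ℤ) (B : Set C)
  (hB : ∀ U : C, ∃ (ι : Type u) (Y : ι → C) (f : ∀ i, Y i ⟶ U), Sieve.ofArrows Y f ∈ J U ∧ ∀ i, Y i ∈ B)
  (n₀ : ℕ)
  (ha : ∀ U ∈ B, ∀ j : ℤ, (j = m - 2 ∨ j = m - 1) →
      CohCx.LimOneIsZero (fun n => ((F n).X j).obj.obj (op U)) (fun n => (((t n).f j).hom.app (op U)).hom))
  (hb : ∀ U ∈ B, CohCx.LimOneIsZero
      (fun n => ((CohCx.sectCx J U).obj (F n)).homology (m - 1))
      (fun n => (HomologicalComplex.homologyMap ((CohCx.sectCx J U).map (t n)) (m - 1)).hom))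
  (hc : ∀ U ∈ B, ∀ k : ℕ, IsIso (HomologicalComplex.homologyMap
      ((CohCx.sectCx J U).map (CohCx.transition F t n₀ k)) m))

include hB ha hb hc in
theorem mono_homologyMap_π : Mono (homologyMap (π J F t n₀) m) := by
  refine mono_homologyMap_of_free (π J F t n₀) m B hB (fun U hU c hc0 hb0 => ?_)
  obtain ⟨b, hb0⟩ := hb0
  have key := ml_injective
    (A := fun n => sec J F U n (m - 2)) (B := fun n => sec J F U n (m - 1))
    (C := fun n => sec J F U n m) (D := fun n => sec J F U n (m + 1))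
    (tS J F t U (m - 2)) (tS J F t U (m - 1)) (tS J F t U m)
    (dS J F U (m - 2) (m - 1)) (dS J F U (m - 1) m) (dS J F U m (m + 1))
    (dS_tS J F t U (m - 2) (m - 1)) (dS_tS J F t U (m - 1) m)
    (pS J F t U (m - 1)) (pS J F t U m) (tS_pS J F t U m)
    (exists_pS J F t U (m - 1)) (ext_pS J F t U m)
    (Preadditive.rightComp _ ((Lim J F t).d (m - 1) m))
    (fun n β => (dS_pS J F t U (m - 1) m n β).symm)
    (ha U hU (m - 2) (Or.inl rfl))
    (hH_of J F t U m (hb U hU))
    (fun n x => dS_dS J F U (m - 2) (m - 1) m n x)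
    n₀ (hc_inj_of J F t U m n₀ (hc U hU)) c
    (fun n => by
      rw [dS_pS, hc0, map_zero])
    ⟨CohFree.evalGen J U _ b, by
      have := congrArg (CohFree.evalGen J U _) hb0
      rw [evalGen_comp] at this
      exact this⟩
  exact key

include hB ha hb hc in
theorem epi_homologyMap_π : Epi (homologyMap (π J F t n₀) m) := by
  refine epi_homologyMap_of_free (π J F t n₀) m B hB (fun U hU γ hγ => ?_)
  have key := ml_surjective
    (B := fun n => sec J F U n (m - 1))
    (C := fun n => sec J F U n m) (D := fun n => sec J F U n (m + 1))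
    (tS J F t U (m - 1)) (tS J F t U m) (tS J F t U (m + 1))
    (dS J F U (m - 1) m) (dS J F U m (m + 1))
    (fun n x => dS_dS J F U (m - 1) m (m + 1) n x)
    (dS_tS J F t U (m - 1) m) (dS_tS J F t U m (m + 1))
    (pS J F t U m)
    (exists_pS J F t U m)
    (ha U hU (m - 1) (Or.inr rfl))
    n₀ (hc_inj_of J F t U m n₀ (hc U hU)) (hc_surj_of J F t U m n₀ (hc U hU))
    (CohFree.evalGen J U _ γ)
    (by
      have := congrArg (CohFree.evalGen J U _) hγ
      rw [evalGen_comp, map_zero] at this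
      exact this)
  obtain ⟨c, hc1, b, hb1⟩ := key
  refine ⟨c, ?_, CohFree.ofSect J U _ b, ?_⟩
  · refine hom_ext_lim J F t (m + 1) _ _ (fun n => evalGen_injective J U _ ?_)
    have := hc1 n
    rw [dS_pS, pS_apply] at this
    rw [this, zero_comp, map_zero]
  · apply evalGen_injective
    rw [evalGen_comp, CohFree.evalGen_ofSect, map_sub]
    exact hb1

include hB ha hb hc in
theorem isIso_homologyMap_π : IsIso (homologyMap (π J F t n₀) m) := by
  have := mono_homologyMap_π J F t m B hB n₀ ha hb hc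
  have := epi_homologyMap_π J F t m B hB n₀ ha hb hc
  exact isIso_of_mono_of_epi _

include hB ha hb hc in
theorem isIso_homologyMap_limit_π :
    IsIso (HomologicalComplex.homologyMap (limit.π (CohCx.opSequence F t) (op n₀)) m) :=
  isIso_homologyMap_π J F t m B hB n₀ ha hb hc

end Final

end Site

end Groth.Agent.Helper24.MLCx
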