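import Mathlib.Algebra.Homology.ShortComplex.ModuleCat
import Mathlib.Algebra.Homology.ShortComplex.HomologicalComplex
import Mathlib.Algebra.Category.ModuleCat.Abelian
import Mathlib.Algebra.Category.ModuleCat.EpiMono

/-!
# Concrete criteria for `Mono`/`Epi` of homology maps of complexes of modules (helper24)
-/

universe v u

open CategoryTheory CategoryTheory.Limits

namespace Groth.Agent.Helper24.ModHomology

theorem mono_iso_comp_iff {C : Type*} [Category C] {X Y Z W : C} (a : X ≅ Y) (m : Y ⟶ Z)
    (b : Z ≅ W) : Mono (a.hom ≫ m ≫ b.hom) ↔ Mono m := by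
  constructor
  · intro h
    have : m = a.inv ≫ (a.hom ≫ m ≫ b.hom) ≫ b.inv := by simp
    rw [this]
    infer_instance
  · intro h
    infer_instance

theorem epi_iso_comp_iff {C : Type*} [Category C] {X Y Z W : C} (a : X ≅ Y) (m : Y ⟶ Z)
    (b : Z ≅ W) : Epi (a.hom ≫ m ≫ b.hom) ↔ Epi m := by
  constructor
  · intro h
    have : m = a.inv ≫ (a.hom ≫ m ≫ b.hom) ≫ b.inv := by simp
    rw [this]
    infer_instance
  · intro h
    infer_instance

variable {R : Type u} [Ring R]

section Short

variable {S₁ S₂ : ShortComplex (ModuleCat.{v} R)} (φ : S₁ ⟶ S₂)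

/-- the canonical map data -/
noncomputable def γ : ShortComplex.LeftHomologyMapData φ S₁.moduleCatLeftHomologyData
    S₂.moduleCatLeftHomologyData := default

noncomputable def φK' : LinearMap.ker S₁.g.hom →ₗ[R] LinearMap.ker S₂.g.hom := (γ φ).φK.hom

noncomputable def φH' : (LinearMap.ker S₁.g.hom ⧸ LinearMap.range S₁.moduleCatToCycles) →ₗ[R]
  (LinearMap.ker S₂.g.hom ⧸ LinearMap.range S₂.moduleCatToCycles) := (γ φ).φH.hom

theorem φK_coe (x : LinearMap.ker S₁.g.hom) :
    ((φK' φ x : LinearMap.ker S₂.g.hom) : S₂.X₂) = φ.τ₂.hom (x : S₁.X₂) := by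
  have h := (γ φ).commi
  have := congrArg (fun m => m.hom x) h
  exact this

theorem φH_mk (x : LinearMap.ker S₁.g.hom) :
    φH' φ (Submodule.Quotient.mk x) = Submodule.Quotient.mk (φK' φ x) := by
  have h := (γ φ).commπ
  have := congrArg (fun m => m.hom x) h
  exact this

theorem mono_iff_φH : Mono (ShortComplex.homologyMap φ) ↔ Function.Injective (φH' φ) := by
  change _ ↔ Function.Injective (γ φ).φH.hom
  rw [(γ φ).homologyMap_eq, ← ModuleCat.mono_iff_injective]
  exact mono_iso_comp_iff S₁.moduleCatLeftHomologyData.homologyIso (γ φ).φH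
    S₂.moduleCatLeftHomologyData.homologyIso.symm

theorem epi_iff_φH : Epi (ShortComplex.homologyMap φ) ↔ Function.Surjective (φH' φ) := by
  change _ ↔ Function.Surjective (γ φ).φH.hom
  rw [(γ φ).homologyMap_eq, ← ModuleCat.epi_iff_surjective]
  exact epi_iso_comp_iff S₁.moduleCatLeftHomologyData.homologyIso (γ φ).φH
    S₂.moduleCatLeftHomologyData.homologyIso.symm

theorem mk_eq_zero_iff (S : ShortComplex (ModuleCat.{v} R)) (x : LinearMap.ker S.g.hom) :
    (Submodule.Quotient.mk x : LinearMap.ker S.g.hom ⧸ LinearMap.range S.moduleCatToCycles) = 0 ↔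
      ∃ w : S.X₁, S.f.hom w = (x : S.X₂) := by
  rw [Submodule.Quotient.mk_eq_zero, LinearMap.mem_range]
  constructor
  · rintro ⟨w, hw⟩
    exact ⟨w, congrArg Subtype.val hw⟩
  · rintro ⟨w, hw⟩
    exact ⟨w, Subtype.ext hw⟩

/-- Concrete criterion for injectivity on homology. -/
theorem mono_homologyMap_iff : Mono (ShortComplex.homologyMap φ) ↔
    ∀ z : S₁.X₂, S₁.g.hom z = 0 → (∃ w : S₂.X₁, S₂.f.hom w = φ.τ₂.hom z) →
      ∃ w' : S₁.X₁, S₁.f.hom w' = z := by
  rw [mono_iff_φH, injective_iff_map_eq_zero]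
  constructor
  · intro h z hz hw
    let x : LinearMap.ker S₁.g.hom := ⟨z, hz⟩
    have h1 := h (Submodule.Quotient.mk x) (by
      rw [φH_mk, mk_eq_zero_iff, φK_coe]
      exact hw)
    rw [mk_eq_zero_iff] at h1
    exact h1
  · intro h q
    induction q using Submodule.Quotient.induction_on with
    | H x =>
      intro hq
      rw [φH_mk, mk_eq_zero_iff, φK_coe] at hq
      rw [mk_eq_zero_iff]
      exact h x.1 x.2 hq

/-- Concrete criterion for surjectivity on homology. -/
theorem epi_homologyMap_iff : Epi (ShortComplex.homologyMap φ) ↔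
    ∀ z : S₂.X₂, S₂.g.hom z = 0 → ∃ z' : S₁.X₂, S₁.g.hom z' = 0 ∧
      ∃ w : S₂.X₁, S₂.f.hom w = z - φ.τ₂.hom z' := by
  rw [epi_iff_φH]
  constructor
  · intro h z hz
    let x : LinearMap.ker S₂.g.hom := ⟨z, hz⟩
    obtain ⟨q, hq⟩ := h (Submodule.Quotient.mk x)
    induction q using Submodule.Quotient.induction_on with
    | H y =>
      refine ⟨y.1, y.2, ?_⟩
      rw [φH_mk] at hq
      have h2 : (Submodule.Quotient.mk (x - φK' φ y) :
          LinearMap.ker S₂.g.hom ⧸ LinearMap.range S₂.moduleCatToCycles) = 0 := by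
        rw [Submodule.Quotient.mk_sub, hq]
        exact sub_self _
      rw [mk_eq_zero_iff] at h2
      obtain ⟨w, hw⟩ := h2
      refine ⟨w, ?_⟩
      rw [hw, Submodule.coe_sub, φK_coe]
  · intro h q
    induction q using Submodule.Quotient.induction_on with
    | H x =>
      obtain ⟨z', hz', w, hw⟩ := h x.1 x.2
      refine ⟨Submodule.Quotient.mk ⟨z', hz'⟩, ?_⟩
      rw [φH_mk]
      symm
      rw [← sub_eq_zero, ← Submodule.Quotient.mk_sub, mk_eq_zero_iff]
      refine ⟨w, ?_⟩
      rw [hw, Submodule.coe_sub, φK_coe]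

end Short

section Complex

variable {ι : Type*} {c : ComplexShape ι} {C D : HomologicalComplex (ModuleCat.{v} R) c}
  (f : C ⟶ D)

theorem mono_homologyMap_iff_sc' (i j k : ι) (hi : c.prev j = i) (hk : c.next j = k) :
    Mono (HomologicalComplex.homologyMap f j) ↔
      Mono (ShortComplex.homologyMap
        ((HomologicalComplex.shortComplexFunctor' (ModuleCat.{v} R) c i j k).map f)) := by
  let α := HomologicalComplex.natIsoSc' (ModuleCat.{v} R) c i j k hi hk
  let β := Functor.isoWhiskerRight α (ShortComplex.homologyFunctor (ModuleCat.{v} R))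
  have hnat := NatIso.naturality_2 β f
  have h1 : HomologicalComplex.homologyMap f j = (β.app C).hom ≫ ShortComplex.homologyMap
        ((HomologicalComplex.shortComplexFunctor' (ModuleCat.{v} R) c i j k).map f) ≫
          (β.app D).symm.hom := hnat.symm
  rw [h1]
  exact mono_iso_comp_iff (β.app C) _ (β.app D).symm

theorem epi_homologyMap_iff_sc' (i j k : ι) (hi : c.prev j = i) (hk : c.next j = k) :
    Epi (HomologicalComplex.homologyMap f j) ↔
      Epi (ShortComplex.homologyMap
        ((HomologicalComplex.shortComplexFunctor' (ModuleCat.{v} R) c i j k).map f)) := by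
  let α := HomologicalComplex.natIsoSc' (ModuleCat.{v} R) c i j k hi hk
  let β := Functor.isoWhiskerRight α (ShortComplex.homologyFunctor (ModuleCat.{v} R))
  have hnat := NatIso.naturality_2 β f
  have h1 : HomologicalComplex.homologyMap f j = (β.app C).hom ≫ ShortComplex.homologyMap
        ((HomologicalComplex.shortComplexFunctor' (ModuleCat.{v} R) c i j k).map f) ≫
          (β.app D).symm.hom := hnat.symm
  rw [h1]
  exact epi_iso_comp_iff (β.app C) _ (β.app D).symm

/-- `H_j(f)` is a monomorphism iff every cycle of `C` in degree `j` whose image is a boundary is a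
boundary. -/
theorem mono_homologyMap_iff' (i j k : ι) (hi : c.prev j = i) (hk : c.next j = k) :
    Mono (HomologicalComplex.homologyMap f j) ↔
      ∀ z : C.X j, (C.d j k).hom z = 0 → (∃ w : D.X i, (D.d i j).hom w = (f.f j).hom z) →
        ∃ w' : C.X i, (C.d i j).hom w' = z := by
  rw [mono_homologyMap_iff_sc' f i j k hi hk, mono_homologyMap_iff]
  rfl

/-- `H_j(f)` is an epimorphism iff every cycle of `D` in degree `j` is homologous to the image of
a cycle of `C`. -/
theorem epi_homologyMap_iff' (i j k : ι) (hi : c.prev j = i) (hk : c.next j = k) :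
    Epi (HomologicalComplex.homologyMap f j) ↔
      ∀ z : D.X j, (D.d j k).hom z = 0 → ∃ z' : C.X j, (C.d j k).hom z' = 0 ∧
        ∃ w : D.X i, (D.d i j).hom w = z - (f.f j).hom z' := by
  rw [epi_homologyMap_iff_sc' f i j k hi hk, epi_homologyMap_iff]
  rfl

end Complex

end Groth.Agent.Helper24.ModHomology
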