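import Mathlib
import Groth.Agent.Lib.Helper13.PnFin1
import Groth.Agent.Lib.Helper13.Ample
import Groth.Agent.Lib.Helper13.AmpleUnit
import Groth.Agent.Lib.Helper26.ProjGamma4
import Groth.Agent.Lib.Helper26.ProjChart
import Groth.Agent.Lib.Helper26.PnTwist

/-!
# `O(d)` on `P^n_R` is ample iff `d > 0` (for `n ≥ 1`, `R ≠ 0`)  (helper24)
-/

set_option autoImplicit false
set_option linter.unusedSectionVars false
universe u
open CategoryTheory CategoryTheory.Limits AlgebraicGeometry Opposite TopologicalSpace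

namespace Groth.Agent.Helper24.PnAmple

open MvPolynomial HomogeneousLocalization

variable (n : ℕ) (R : Type u) [CommRing R]

/-- `O(d)` is ample for `d > 0`. -/
theorem isAmple_twist_pos (d : ℤ) (hd : 0 < d) : CohB1.IsAmple (Twist.twistProjSpace n R d) := by
  obtain ⟨N, rfl⟩ : ∃ N : ℕ, d = (N : ℤ) := ⟨d.toNat, by omega⟩
  have hN : 0 < N := by exact_mod_cast hd
  obtain ⟨e⟩ : Nonempty (Twist.twistProjSpace n R (N : ℤ) ≅
      CohB1.tensorPow (Twist.twistProjSpace n R 1) N) :=
    (Groth.Agent.Helper28.TwistMul.twist_all_of_degree_one (CohB1.polyGrading n R)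
      (Groth.Agent.Helper26.PnTwist.hcov n R)).2.2 N
  exact Groth.Agent.Helper13.Ample.isAmple_of_iso e.symm
    (Groth.Agent.Helper13.Ample.isAmple_tensorPow _
      (Groth.Agent.Helper13.PnFin.isAmple_twist_one n R) N hN)

/-- for `n ≥ 1` and `R ≠ 0`, `P^n_R` is not quasi-affine. -/
theorem not_isQuasiAffine [Nontrivial R] (hn : 1 ≤ n) :
    ¬ (CohB1.ProjSpace n R).IsQuasiAffine := by
  intro hQA
  let t : Proj (CohB1.polyGrading n R) ⟶ Spec (CommRingCat.of R) := CohB1.ProjSpace.toSpec n R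
  haveI : (Proj (CohB1.polyGrading n R)).IsQuasiAffine := hQA
  haveI : IsIso t.appTop := Groth.Agent.Lib.Helper26.ProjGamma.main n R
  have hnat := Scheme.toSpecΓ_naturality t
  have hmt : Mono t := by
    haveI : Mono (t ≫ (Spec (CommRingCat.of R)).toSpecΓ) := by
      rw [hnat]; infer_instance
    exact mono_of_mono t (Spec (CommRingCat.of R)).toSpecΓ
  have hdeg : (X 0 : MvPolynomial (Fin (n + 1)) R) ∈ CohB1.polyGrading n R 1 :=
    Groth.Agent.Lib.Helper26.ProjChart.X_mem n R 0
  let φ₀ : R →+* Away (CohB1.polyGrading n R) (X 0 : MvPolynomial (Fin (n + 1)) R) :=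
    (fromZeroRingHom (CohB1.polyGrading n R) _).comp (algebraMap R (CohB1.polyGrading n R 0))
  have h1 : Proj.awayι (CohB1.polyGrading n R) (X 0) hdeg Nat.one_pos ≫ t =
      Spec.map (CommRingCat.ofHom φ₀) := by
    change _ ≫ (Proj.toSpecZero (CohB1.polyGrading n R) ≫ Spec.map _) = _
    rw [← Category.assoc, Proj.awayι_toSpecZero, ← Spec.map_comp]
    rfl
  haveI : Mono (Spec.map (CommRingCat.ofHom φ₀)) := by
    rw [← h1]
    haveI := hmt
    exact mono_comp (Proj.awayι (CohB1.polyGrading n R) (X 0) hdeg Nat.one_pos) t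
  -- the chart
  have hbij := (Groth.Agent.Lib.Helper26.ProjChart.main n R).2 0
  let Φ := (MvPolynomial.eval₂Hom φ₀
          (fun j : {j : Fin (n + 1) // j ≠ 0} =>
            (HomogeneousLocalization.mk ⟨1, ⟨MvPolynomial.X j.1, MvPolynomial.isHomogeneous_X R j.1⟩,
              ⟨MvPolynomial.X 0, MvPolynomial.isHomogeneous_X R 0⟩, ⟨1, pow_one _⟩⟩ :
              HomogeneousLocalization.Away (CohB1.polyGrading n R) (MvPolynomial.X 0))))
  let e : MvPolynomial {j : Fin (n + 1) // j ≠ 0} R ≃+*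
      Away (CohB1.polyGrading n R) (X 0 : MvPolynomial (Fin (n + 1)) R) :=
    RingEquiv.ofBijective Φ hbij
  let g : R → (Away (CohB1.polyGrading n R) (X 0 : MvPolynomial (Fin (n + 1)) R) →+* R) :=
    fun c => (MvPolynomial.eval₂Hom (RingHom.id R)
      (fun _ : {j : Fin (n + 1) // j ≠ 0} => c)).comp e.symm.toRingHom
  have hg : ∀ c r, g c (φ₀ r) = r := by
    intro c r
    have : e.symm (φ₀ r) = C r := by
      rw [RingEquiv.symm_apply_eq]
      change φ₀ r = Φ (C r)
      simp [Φ]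
    change (MvPolynomial.eval₂Hom (RingHom.id R)
      (fun _ : {j : Fin (n + 1) // j ≠ 0} => c)) (e.symm (φ₀ r)) = r
    rw [this]
    simp
  let j₁ : {j : Fin (n + 1) // j ≠ 0} := ⟨⟨1, by omega⟩, by
    intro h
    have := congrArg Fin.val h
    simp at this⟩
  have hgj : ∀ c, g c (e (X j₁)) = c := by
    intro c
    change (MvPolynomial.eval₂Hom (RingHom.id R)
      (fun _ : {j : Fin (n + 1) // j ≠ 0} => c)) (e.symm (e (X j₁))) = c
    rw [RingEquiv.symm_apply_apply]
    simp
  have hcomp : ∀ c, CommRingCat.ofHom φ₀ ≫ CommRingCat.ofHom (g c) = 𝟙 _ := by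
    intro c
    ext r
    exact hg c r
  have hS : Spec.map (CommRingCat.ofHom (g 0)) ≫ Spec.map (CommRingCat.ofHom φ₀) =
      Spec.map (CommRingCat.ofHom (g 1)) ≫ Spec.map (CommRingCat.ofHom φ₀) := by
    rw [← Spec.map_comp, ← Spec.map_comp, hcomp 0, hcomp 1]
  have h2 := (cancel_mono _).1 hS
  have h3 : CommRingCat.ofHom (g 0) = CommRingCat.ofHom (g 1) := Spec.map_injective h2
  have h4 : g 0 (e (X j₁)) = g 1 (e (X j₁)) := by
    have := congrArg (fun f => f.hom (e (X j₁))) h3
    exact this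
  rw [hgj, hgj] at h4
  exact zero_ne_one h4

theorem isAmple_twist_iff [Nontrivial R] (hn : 1 ≤ n) (d : ℤ) :
    CohB1.IsAmple (Twist.twistProjSpace n R d) ↔ 0 < d := by
  refine ⟨fun h => ?_, isAmple_twist_pos n R d⟩
  by_contra hd
  have hd' : d ≤ 0 := by omega
  have h0 : CohB1.IsAmple (Twist.twistProjSpace n R 0) := by
    rcases eq_or_lt_of_le hd' with rfl | hlt
    · exact h
    · have h' := isAmple_twist_pos n R (-d) (by omega)
      obtain ⟨e1⟩ := Groth.Agent.Helper26.PnTwist.twist_tensor_iso n R d (-d)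
      have hz : d + -d = 0 := by omega
      exact Groth.Agent.Helper13.Ample.isAmple_of_iso (e1 ≪≫ eqToIso (by rw [hz]))
        (Groth.Agent.Helper13.Ample.isAmple_tensorMod _ _ h h')
  obtain ⟨e0⟩ := Groth.Agent.Helper13.PnFin.twist_zero_iso n R
  have hO := Groth.Agent.Helper13.Ample.isAmple_of_iso e0 h0
  exact not_isQuasiAffine n R hn
    (Groth.Agent.Helper13.Ample.isQuasiAffine_of_isAmple_structureModule hO)

end Groth.Agent.Helper24.PnAmple
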