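import Mathlib
import Groth.Agent.Lib.Helper24.LinLES2
import Groth.Agent.Lib.Helper24.P1Hyp
import Groth.Agent.Lib.Helper24.KoszTw3
import Groth.Agent.S11314

/-!
# Cohomology of a hypersurface of projective space (helper24)
-/

set_option autoImplicit false
set_option linter.unusedSectionVars false
set_option linter.style.haveILetI false
set_option linter.unusedVariables false
universe u
open CategoryTheory CategoryTheory.Limits AlgebraicGeometry Opposite TopologicalSpace
open Groth.Agent.Helper13.TwistSES Groth.Agent.Helper13.ToAbExact Groth.Agent.Helper13.PnFin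

namespace Groth.Agent.Helper24.PnHyp

section Torsion

variable {X : Scheme.{u}} [IsIntegral X]

open Groth.Agent.Helper13.QCoh Groth.Agent.Helper13.Inv

/-- a module whose stalk at the generic point vanishes has no nonzero map to an invertible
module (on an integral scheme). -/
theorem hom_eq_zero_of_stalk_genericPoint (G L : X.Modules) (hL : PicF.IsInvertible L)
    (hG : Subsingleton (G.presheaf.stalk (genericPoint X))) (φ : G ⟶ L) : φ = 0 := by
  apply Groth.Agent.Helper13.FinType.hom_ext_stalk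
  intro x m
  obtain ⟨U, hx, m₀, rfl⟩ := TopCat.Presheaf.exists_germ_eq G.presheaf m
  rw [stalkMap_germ, stalkMap_germ, Groth.Agent.Helper24.KoszTw.zero_app, map_zero]
  obtain ⟨V, hxV, e, hgen⟩ := (isInvertible_iff_exists_isGen L).1 hL x
  have hxW : x ∈ U ⊓ V := ⟨hx, hxV⟩
  obtain ⟨e', he'⟩ : ∃ e' : Γ(L, U ⊓ V),
      e' = L.presheaf.map (homOfLE (inf_le_right : U ⊓ V ≤ V)).op e := ⟨_, rfl⟩
  have hgen' : ∀ (y : X) (hy : y ∈ U ⊓ V), IsGen L e' y hy := fun y hy => by
    rw [he']
    exact (isGen_res L (homOfLE (inf_le_right : U ⊓ V ≤ V)) e y hy).2 (hgen y hy.2)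
  obtain ⟨t, ht⟩ : ∃ t : Γ(L, U ⊓ V),
      t = L.presheaf.map (homOfLE (inf_le_left : U ⊓ V ≤ U)).op (φ.app U m₀) := ⟨_, rfl⟩
  obtain ⟨a, ha⟩ := (Groth.Agent.Helper24.KoszTw.smul_gen_bijective L e' hgen').2 t
  have ha' : a • e' = t := ha
  have hηW : genericPoint X ∈ U ⊓ V :=
    (genericPoint_specializes x).mem_open (U ⊓ V).2 hxW
  have hηt : L.presheaf.germ (U ⊓ V) (genericPoint X) hηW t = 0 := by
    have h1 : L.presheaf.germ (U ⊓ V) (genericPoint X) hηW t =
        L.presheaf.germ U (genericPoint X) hηW.1 (φ.app U m₀) := by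
      rw [ht]
      exact TopCat.Presheaf.germ_res_apply L.presheaf
        (homOfLE (inf_le_left : U ⊓ V ≤ U)) _ hηW _
    rw [h1, ← stalkMap_germ φ (genericPoint X) U hηW.1 m₀,
      Subsingleton.elim (G.presheaf.germ U (genericPoint X) hηW.1 m₀) 0, map_zero]
  have ha0 : X.presheaf.germ (U ⊓ V) (genericPoint X) hηW a = 0 := by
    apply (hgen' (genericPoint X) hηW).1
    show X.presheaf.germ (U ⊓ V) (genericPoint X) hηW a •
        L.presheaf.germ (U ⊓ V) (genericPoint X) hηW e' =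
      (0 : X.presheaf.stalk (genericPoint X)) •
        L.presheaf.germ (U ⊓ V) (genericPoint X) hηW e'
    rw [zero_smul, ← Groth.Agent.Helper13.Tensor.germ_smul, ha', hηt]
  have ha1 : a = 0 := by
    apply germ_injective_of_isIntegral X (genericPoint X) hηW
    rw [ha0, map_zero]
  have ht0 : t = 0 := by rw [← ha', ha1, zero_smul]
  have h2 : L.presheaf.germ U x hx (φ.app U m₀) = L.presheaf.germ (U ⊓ V) x hxW t := by
    rw [ht]
    exact (TopCat.Presheaf.germ_res_apply L.presheaf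
      (homOfLE (inf_le_left : U ⊓ V ≤ U)) x hxW _).symm
  rw [h2, ht0, map_zero]

/-- the stalk at the generic point of a twist of `O/I` vanishes when `V(I)` is not everything. -/
theorem subsingleton_stalk_genericPoint (I : X.IdealSheafData)
    (hne : (I.support : Set X) ≠ Set.univ) (N : X.Modules) :
    Subsingleton ((CohB1.tensorMod (ClSub.quotMod I) N).presheaf.stalk (genericPoint X)) := by
  by_contra h
  have hη : genericPoint X ∈ (I.support : Set X) :=
    Groth.Agent.Helper24.PtIdeal.support_quot_tensor_subset I N h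
  apply hne
  refine Set.eq_univ_of_univ_subset ?_
  rw [← (genericPoint_spec X).def]
  exact (I.support.isClosed.closure_subset_iff).2 (Set.singleton_subset_iff.2 hη)

end Torsion

section Pn

variable (F : Type u) [Field F] (N : ℕ)

open Groth.Agent.Helper26.PnReg Groth.Agent.Helper26.PnTwist

/-- top cohomology on `P^N` vanishes for a coherent module without nonzero maps to the
dualizing module. -/
theorem HH_top_subsingleton_of_hom_zero (G : (CohB1.ProjSpace N F).Modules) (hG : Coh.IsCoh G)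
    (h0 : ∀ φ : G ⟶ Twist.twistProjSpace N F (-((N : ℤ) + 1)), φ = 0) :
    Subsingleton (Coh.HH (CohB1.ProjSpace N F) G N) := by
  obtain ⟨t, ht⟩ := Groth.Agent.S11314.result F N
  refine subsingleton_of_forall_eq 0 fun x => ?_
  rw [← Module.forall_dual_apply_eq_zero_iff F x]
  intro ψ
  obtain ⟨φ, hφ, -⟩ := ht G hG ψ
  have hz : Sheaf.H.map ((SheafOfModules.toSheaf (CohB1.ProjSpace N F).ringCatSheaf).map φ) N x
      = 0 := by
    have hz0 : (SheafOfModules.toSheaf (CohB1.ProjSpace N F).ringCatSheaf).map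
        (0 : G ⟶ Twist.twistProjSpace N F (-((N : ℤ) + 1))) = 0 :=
      Functor.map_zero (SheafOfModules.toSheaf (CohB1.ProjSpace N F).ringCatSheaf) _ _
    rw [h0 φ]
    exact (congrArg (fun f => Sheaf.H.map f N x) hz0).trans
      (Groth.Agent.Helper9.PowKill.Hmap_zero N x)
  rw [hφ x, hz, map_zero]

/-- no twisting sheaf is zero. -/
theorem not_isZero_twist (d : ℤ) : ¬ IsZero (Twist.twistProjSpace N F d) := by
  intro hZ
  obtain ⟨e⟩ := twist_tensor_iso N F d (-d)
  have hT : IsZero (CohB1.tensorMod (Twist.twistProjSpace N F d)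
      (Twist.twistProjSpace N F (-d))) := by
    rw [IsZero.iff_id_eq_zero, ← Groth.Agent.Helper13.Tensor.map_id,
      hZ.eq_of_src (𝟙 (Twist.twistProjSpace N F d)) 0,
      Groth.Agent.Helper13.TwistSES.map_zero_left]
  have h0 : IsZero (Twist.twistProjSpace N F (d + -d)) := hT.of_iso e.symm
  have hd : d + -d = ((0 : ℕ) : ℤ) := by simp
  rw [hd] at h0
  haveI := Groth.Agent.Helper24.P1Hyp.subsingleton_HH_of_isZero F _ h0 0
  have h1 := Groth.Agent.Helper26.PnCoh.finrank_H0 F N 0
  rw [Module.finrank_zero_of_subsingleton] at h1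
  simp at h1

/-- the twisting sheaves are coherent. -/
theorem isCoh_twist (d : ℤ) : Coh.IsCoh (Twist.twistProjSpace N F d) := by
  have hL := isInvertible_twist N F d
  exact ⟨Groth.Agent.Helper13.Inv.isQuasicoherent_of_isInvertible _ hL,
    Groth.Agent.Helper13.GlobGen.isFiniteType_of_isInvertible _ hL⟩

/-- the support of an ideal sheaf isomorphic to a twisting sheaf is not everything. -/
theorem support_ne_univ (I : (CohB1.ProjSpace N F).IdealSheafData) (m : ℤ)
    (hI : Nonempty (ClSub.idealMod I ≅ Twist.twistProjSpace N F m)) :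
    (I.support : Set (CohB1.ProjSpace N F)) ≠ Set.univ := by
  intro h
  haveI := Groth.Agent.Helper24.P1Hyp.isIntegral_projSpace N F
  have h1 : I.support = ⊤ := by
    apply TopologicalSpace.Closeds.ext
    rw [h]
    rfl
  have h2 : I = ⊥ := Scheme.IdealSheafData.support_eq_top_iff.1 h1
  obtain ⟨e⟩ := hI
  rw [h2] at e
  exact not_isZero_twist F N _ (Groth.Agent.Helper24.P1Hyp.isZero_idealMod_bot.of_iso e.symm)

variable (d : ℕ)

/-- `h^0(P^{d+1}, O(m))`. -/
theorem h0_twist (m : ℤ) :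
    Module.finrank F (Coh.HH (CohB1.ProjSpace (d + 1) F) (Twist.twistProjSpace (d + 1) F m) 0) =
      Nat.choose (m + ((d : ℤ) + 1)).toNat (d + 1) := by
  by_cases hm : 0 ≤ m
  · obtain ⟨m', rfl⟩ := Int.eq_ofNat_of_zero_le hm
    have hq : m' + (d + 1) = ((m' : ℤ) + ((d : ℤ) + 1)).toNat := by omega
    rw [Groth.Agent.Helper26.PnCoh.finrank_H0 F (d + 1) m', hq]
  · rw [Groth.Agent.Helper26.PnCoh.finrank_H_zero F (d + 1) m 0 (by omega) (by omega)]
    exact (Nat.choose_eq_zero_of_lt (by omega)).symm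

/-- `h^{d+1}(P^{d+1}, O(m))`. -/
theorem htop_twist (m : ℤ) :
    Module.finrank F (Coh.HH (CohB1.ProjSpace (d + 1) F) (Twist.twistProjSpace (d + 1) F m)
      (d + 1)) = Nat.choose (-m - 1).toNat (d + 1) := by
  by_cases hm : m ≤ -((d : ℤ) + 2)
  · obtain ⟨j, rfl⟩ : ∃ j : ℕ, m = -((((d + 1 : ℕ)) : ℤ) + 1 + (j : ℤ)) :=
      ⟨(-m - ((d : ℤ) + 2)).toNat, by
        have := Int.toNat_of_nonneg (show 0 ≤ -m - ((d : ℤ) + 2) by omega)
        push_cast
        omega⟩
    have hq : j + (d + 1) = (-(-((((d + 1 : ℕ)) : ℤ) + 1 + (j : ℤ))) - 1).toNat := by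
      push_cast
      omega
    rw [Groth.Agent.Helper26.PnCoh.finrank_Htop F (d + 1) j, hq]
  · rw [Groth.Agent.Helper26.PnCoh.finrank_H_zero F (d + 1) m (d + 1) (by omega)
      (by push_cast; omega)]
    exact (Nat.choose_eq_zero_of_lt (by omega)).symm

/-- vanishing of the cohomology of the twisting sheaves outside degrees `0` and `d + 1`. -/
theorem HH_twist_subsingleton (m : ℤ) (p : ℕ) (h0 : p ≠ 0) (h1 : p ≠ d + 1) :
    Subsingleton (Coh.HH (CohB1.ProjSpace (d + 1) F) (Twist.twistProjSpace (d + 1) F m) p) :=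
  Groth.Agent.S0844.result F (d + 1) m p (fun h => h0 h.1) (fun h => h1 h.1)

theorem main19434 (k : ℕ) (hd : 1 ≤ d) (hk : 1 ≤ k)
    (I : (CohB1.ProjSpace (d + 1) F).IdealSheafData)
    (hI : Nonempty (ClSub.idealMod I ≅ Twist.twistProjSpace (d + 1) F (-(k : ℤ)))) (n : ℤ) :
    (∀ p : ℕ, p ≠ 0 → p ≠ d →
      Subsingleton (Coh.HH (CohB1.ProjSpace (d + 1) F)
        (CohB1.tensorMod (ClSub.quotMod I) (Twist.twistProjSpace (d + 1) F n)) p)) ∧
    (Module.Finite F (Coh.HH (CohB1.ProjSpace (d + 1) F)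
        (CohB1.tensorMod (ClSub.quotMod I) (Twist.twistProjSpace (d + 1) F n)) 0) ∧
      Module.finrank F (Coh.HH (CohB1.ProjSpace (d + 1) F)
        (CohB1.tensorMod (ClSub.quotMod I) (Twist.twistProjSpace (d + 1) F n)) 0) =
        (Nat.choose (n + ((d : ℤ) + 1)).toNat (d + 1) -
          Nat.choose (n - (k : ℤ) + ((d : ℤ) + 1)).toNat (d + 1))) ∧
    (Module.Finite F (Coh.HH (CohB1.ProjSpace (d + 1) F)
        (CohB1.tensorMod (ClSub.quotMod I) (Twist.twistProjSpace (d + 1) F n)) d) ∧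
      Module.finrank F (Coh.HH (CohB1.ProjSpace (d + 1) F)
        (CohB1.tensorMod (ClSub.quotMod I) (Twist.twistProjSpace (d + 1) F n)) d) =
        (Nat.choose (((k : ℤ) - 2 - (d : ℤ) - n) + ((d : ℤ) + 1)).toNat (d + 1) -
          Nat.choose (((k : ℤ) - 2 - (d : ℤ) - n) - (k : ℤ) + ((d : ℤ) + 1)).toNat (d + 1))) := by
  haveI := isNoetherian_projSpace F (d + 1)
  haveI := Groth.Agent.Helper24.P1Hyp.isIntegral_projSpace (d + 1) F
  have hLn := isInvertible_twist (d + 1) F n
  have hne := support_ne_univ F (d + 1) I _ hI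
  -- coherence of the quotient
  have hG : Coh.IsCoh (CohB1.tensorMod (ClSub.quotMod I) (Twist.twistProjSpace (d + 1) F n)) :=
    Groth.Agent.Helper24.PtIdeal.isCoh_tensor_invertible _ _
      (Groth.Agent.Helper24.PtIdeal.isCoh_quotMod I) hLn
  -- the twisted short exact sequence
  have hT := tensorSC_shortExact (Groth.Agent.Helper24.PtIdeal.idealSC I)
    (Groth.Agent.Helper24.PtIdeal.idealSC_shortExact I) (Twist.twistProjSpace (d + 1) F n) hLn
  obtain ⟨e⟩ := hI
  obtain ⟨t⟩ := twist_tensor_iso (d + 1) F (-(k : ℤ)) n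
  let e₁ : (tensorSC (Groth.Agent.Helper24.PtIdeal.idealSC I)
      (Twist.twistProjSpace (d + 1) F n)).X₁ ≅ Twist.twistProjSpace (d + 1) F (-(k : ℤ) + n) :=
    Groth.Agent.Helper13.Tensor.mapIso e (Iso.refl _) ≪≫ t
  let e₂ : (tensorSC (Groth.Agent.Helper24.PtIdeal.idealSC I)
      (Twist.twistProjSpace (d + 1) F n)).X₂ ≅ Twist.twistProjSpace (d + 1) F n :=
    Groth.Agent.Helper13.Tensor.lid _
  -- vanishing for the outer terms
  have v1 : ∀ p : ℕ, p ≠ 0 → p ≠ d + 1 → Subsingleton (Coh.HH (CohB1.ProjSpace (d + 1) F)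
      (tensorSC (Groth.Agent.Helper24.PtIdeal.idealSC I)
        (Twist.twistProjSpace (d + 1) F n)).X₁ p) := fun p h0 h1 =>
    Groth.Agent.Helper9.AffStrat.HH_subsingleton_of_iso e₁ p
      (HH_twist_subsingleton F d _ p h0 h1)
  have v2 : ∀ p : ℕ, p ≠ 0 → p ≠ d + 1 → Subsingleton (Coh.HH (CohB1.ProjSpace (d + 1) F)
      (tensorSC (Groth.Agent.Helper24.PtIdeal.idealSC I)
        (Twist.twistProjSpace (d + 1) F n)).X₂ p) := fun p h0 h1 =>
    Groth.Agent.Helper9.AffStrat.HH_subsingleton_of_iso e₂ p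
      (HH_twist_subsingleton F d _ p h0 h1)
  -- top vanishing for the quotient, by duality
  have htop : Subsingleton (Coh.HH (CohB1.ProjSpace (d + 1) F)
      (tensorSC (Groth.Agent.Helper24.PtIdeal.idealSC I)
        (Twist.twistProjSpace (d + 1) F n)).X₃ (d + 1)) :=
    HH_top_subsingleton_of_hom_zero F (d + 1) _ hG (fun φ =>
      hom_eq_zero_of_stalk_genericPoint _ _ (isInvertible_twist (d + 1) F _)
        (subsingleton_stalk_genericPoint I hne _) φ)
  have hvan : ∀ p : ℕ, p ≠ 0 → p ≠ d →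
      Subsingleton (Coh.HH (CohB1.ProjSpace (d + 1) F)
        (CohB1.tensorMod (ClSub.quotMod I) (Twist.twistProjSpace (d + 1) F n)) p) := by
    intro p h0 hpd
    by_cases hp : p = d + 1
    · rw [hp]
      exact htop
    · exact HH_subsingleton_X₃ _ hT p (v2 p h0 hp) (v1 (p + 1) (by omega) (by omega))
  have hfin0 : Module.Finite F (Coh.HH (CohB1.ProjSpace (d + 1) F)
      (CohB1.tensorMod (ClSub.quotMod I) (Twist.twistProjSpace (d + 1) F n)) 0) :=
    Groth.Agent.S0038.result (d + 1) F _ hG 0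
  have hfind : Module.Finite F (Coh.HH (CohB1.ProjSpace (d + 1) F)
      (CohB1.tensorMod (ClSub.quotMod I) (Twist.twistProjSpace (d + 1) F n)) d) :=
    Groth.Agent.S0038.result (d + 1) F _ hG d
  haveI : Module.Finite F (Coh.HH (CohB1.ProjSpace (d + 1) F)
      (tensorSC (Groth.Agent.Helper24.PtIdeal.idealSC I)
        (Twist.twistProjSpace (d + 1) F n)).X₂ 0) :=
    finite_of_iso F e₂.symm 0 (Groth.Agent.S0038.result (d + 1) F _ (isCoh_twist F (d + 1) n) 0)
  haveI : Module.Finite F (Coh.HH (CohB1.ProjSpace (d + 1) F)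
      (tensorSC (Groth.Agent.Helper24.PtIdeal.idealSC I)
        (Twist.twistProjSpace (d + 1) F n)).X₁ (d + 1)) :=
    finite_of_iso F e₁.symm (d + 1)
      (Groth.Agent.S0038.result (d + 1) F _ (isCoh_twist F (d + 1) _) (d + 1))
  have hX₃ : ∀ p : ℕ, Module.finrank F (Coh.HH (CohB1.ProjSpace (d + 1) F)
      (tensorSC (Groth.Agent.Helper24.PtIdeal.idealSC I)
        (Twist.twistProjSpace (d + 1) F n)).X₃ p) =
      Module.finrank F (Coh.HH (CohB1.ProjSpace (d + 1) F)
        (CohB1.tensorMod (ClSub.quotMod I) (Twist.twistProjSpace (d + 1) F n)) p) :=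
    fun p => rfl
  refine ⟨hvan, ⟨hfin0, ?_⟩, ⟨hfind, ?_⟩⟩
  · have hform := Groth.Agent.Helper24.LinLES.finrank_H0_of_H1 F
      (tensorSC (Groth.Agent.Helper24.PtIdeal.idealSC I) (Twist.twistProjSpace (d + 1) F n)) hT
      (v1 1 (by omega) (by omega))
    have r10 := (Groth.Agent.Helper24.PnMumford.hEquiv F e₁ 0).finrank_eq
    have r20 := (Groth.Agent.Helper24.PnMumford.hEquiv F e₂ 0).finrank_eq
    rw [r10, r20, h0_twist, h0_twist, hX₃] at hform
    have hA : (-(k : ℤ) + n + ((d : ℤ) + 1)).toNat = (n - (k : ℤ) + ((d : ℤ) + 1)).toNat := by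
      omega
    rw [hA] at hform
    omega
  · have hform := Groth.Agent.Helper24.LinLES.finrank_flank F
      (tensorSC (Groth.Agent.Helper24.PtIdeal.idealSC I) (Twist.twistProjSpace (d + 1) F n)) hT
      d (d + 1) rfl (v2 d (by omega) (by omega)) htop
    have r1 := (Groth.Agent.Helper24.PnMumford.hEquiv F e₁ (d + 1)).finrank_eq
    have r2 := (Groth.Agent.Helper24.PnMumford.hEquiv F e₂ (d + 1)).finrank_eq
    rw [r1, r2, htop_twist, htop_twist, hX₃] at hform
    have hA : (-(-(k : ℤ) + n) - 1).toNat =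
        (((k : ℤ) - 2 - (d : ℤ) - n) + ((d : ℤ) + 1)).toNat := by
      omega
    have hB : (-n - 1).toNat =
        (((k : ℤ) - 2 - (d : ℤ) - n) - (k : ℤ) + ((d : ℤ) + 1)).toNat := by
      omega
    rw [hA, hB] at hform
    omega

end Pn

end Groth.Agent.Helper24.PnHyp
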