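import Mathlib
import Groth.Agent.Lib.Helper24.PnRegRes1
import Groth.Agent.S1647
import Groth.Agent.S0038

/-!
# `m`-regularity via one-step linear resolutions on `P^n_k` (helper24)
-/

set_option autoImplicit false
set_option linter.unusedSectionVars false
set_option linter.style.haveILetI false
set_option linter.unusedVariables false
universe u
open CategoryTheory CategoryTheory.Limits AlgebraicGeometry Opposite TopologicalSpace
open Groth.Agent.Helper13.TwistSES Groth.Agent.Helper13.ToAbExact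

namespace Groth.Agent.Helper24.PnRegRes

variable (k : Type u) [Field k] (n : ℕ)

open Groth.Agent.Helper13 Groth.Agent.Helper13.Tensor Groth.Agent.Helper13.TensorFunctor
open Groth.Agent.Helper26.PnReg Groth.Agent.Helper13.LocFree Groth.Agent.Helper13.FinType

/-- `(⇐)`: an epimorphism from `O(-m)^b` with `(m+1)`-regular kernel has `m`-regular target. -/
theorem regular_of_res (F : (CohB1.ProjSpace n k).Modules) (hF : Coh.IsCoh F) (m : ℤ) (b : ℕ)
    (φ : (∐ fun _ : Fin b => Twist.twistProjSpace n k (-m)) ⟶ F) [Epi φ]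
    (hK : Curv2.IsMRegular k n (kernel φ) (m + 1)) : Curv2.IsMRegular k n F m := by
  intro i hi1 hin
  let S : ShortComplex (CohB1.ProjSpace n k).Modules :=
    ShortComplex.mk (kernel.ι φ) φ (kernel.condition φ)
  have hS : S.ShortExact :=
    { exact := ShortComplex.exact_kernel φ
      mono_f := inferInstanceAs (Mono (kernel.ι φ))
      epi_g := inferInstanceAs (Epi φ) }
  have hT := twist_shortExact k n S hS (m - i)
  have h2 : Subsingleton (Coh.HH (CohB1.ProjSpace n k)
      (tensorSC S (Twist.twistProjSpace n k (m - i))).X₂ i) := by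
    refine HH_sigma_twist k n b (-m) (m - i) i ?_
    exact Groth.Agent.S0844.result k n (-m + (m - i)) i (by omega) (by omega)
  have h1 : Subsingleton (Coh.HH (CohB1.ProjSpace n k)
      (tensorSC S (Twist.twistProjSpace n k (m - i))).X₁ (i + 1)) := by
    by_cases hlt : i + 1 ≤ n
    · have h := hK (i + 1) (Nat.succ_pos i) hlt
      have he : m + 1 - ((i + 1 : ℕ) : ℤ) = m - i := by push_cast; ring
      rw [he] at h
      exact h
    · haveI : F.IsQuasicoherent := hF.1
      haveI : (∐ fun _ : Fin b => Twist.twistProjSpace n k (-m)).IsQuasicoherent :=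
        isQuasicoherent_sigma_fin _ (fun _ =>
          Groth.Agent.Helper13.Inv.isQuasicoherent_of_isInvertible _
            (Groth.Agent.Helper26.PnTwist.isInvertible_twist n k (-m)))
      haveI : (kernel φ).IsQuasicoherent :=
        Groth.Agent.Helper13.QCohLocal.isQuasicoherent_kernel φ
      haveI : (Twist.twistProjSpace n k (m - i)).IsQuasicoherent :=
        Groth.Agent.Helper13.Inv.isQuasicoherent_of_isInvertible _
          (Groth.Agent.Helper26.PnTwist.isInvertible_twist n k (m - i))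
      haveI : (CohB1.tensorMod (kernel φ) (Twist.twistProjSpace n k (m - i))).IsQuasicoherent :=
        inferInstance
      exact HH_subsingleton_projSpace_of_lt k n
        (CohB1.tensorMod (kernel φ) (Twist.twistProjSpace n k (m - i))) (i + 1) (by omega)
  exact HH_subsingleton_X₃ (tensorSC S (Twist.twistProjSpace n k (m - i))) hT i h2 h1

/-- `(⇒)`: an `m`-regular coherent module is a quotient of `O(-m)^b` with `(m+1)`-regular
kernel. -/
theorem exists_res (F : (CohB1.ProjSpace n k).Modules) (hF : Coh.IsCoh F) (m : ℤ)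
    (h : Curv2.IsMRegular k n F m) :
    ∃ (b : ℕ) (φ : (∐ fun _ : Fin b => Twist.twistProjSpace n k (-m)) ⟶ F),
      Epi φ ∧ Curv2.IsMRegular k n (kernel φ) (m + 1) := by
  classical
  let G := CohB1.tensorMod F (Twist.twistProjSpace n k m)
  have hG : Coh.IsCoh G := isCoh_tensor_twist k n F hF m
  haveI := hG.1
  haveI := hG.2
  have hGG : Curv2.IsGloballyGenerated G := Groth.Agent.S1647.result k n F hF m h
  have hgg := (Groth.Agent.Helper13.GlobGen.isGloballyGenerated_iff G).1 hGG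
  obtain ⟨b₁, t₁, ht₁⟩ := Groth.Agent.Helper13.FinGlobGen.exists_fin_genOn G hgg
  haveI hfin : Module.Finite k (Coh.HH (CohB1.ProjSpace n k) G 0) :=
    Groth.Agent.S0038.result n k G hG 0
  obtain ⟨T, hT⟩ := hfin.fg_top
  let hTop : IsTerminal (⊤ : Opens (CohB1.ProjSpace n k)) := isTerminalTop
  let eq₀ := Sheaf.H.equiv₀ (Coh.toAb G) hTop
  let t₂ : Fin T.card → Γ(G, ⊤) := fun i => eq₀ ((T.equivFin.symm i : T) : Coh.HH _ G 0)
  let t : Fin (b₁ + T.card) → Γ(G, ⊤) := Fin.append t₁ t₂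
  have hgen : GenOn G ⊤ t := by
    intro y hy
    rw [eq_top_iff, ← ht₁ y hy]
    apply Submodule.span_mono
    rintro _ ⟨i, rfl⟩
    exact ⟨Fin.castAdd _ i, by simp only [t, Fin.append_left]⟩
  let ψ := descSec G t
  haveI hψ : Epi ψ := Groth.Agent.Helper13.InvTwist.epi_descSec_of_genOn G t hgen
  have hsurj : Function.Surjective
      (Sheaf.H.map ((SheafOfModules.toSheaf (CohB1.ProjSpace n k).ringCatSheaf).map ψ) 0) := by
    have hr : LinearMap.range (Groth.Agent.Helper13.PnFin.hstar k ψ 0) = ⊤ := by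
      rw [eq_top_iff, ← hT]
      apply Submodule.span_le.2
      intro x hx
      obtain ⟨i, hi⟩ : ∃ i : Fin T.card, ((T.equivFin.symm i : T) : Coh.HH _ G 0) = x :=
        ⟨T.equivFin ⟨x, hx⟩, by simp⟩
      refine ⟨(Sheaf.H.equiv₀ (Coh.toAb (FlatMod.freeMod (CohB1.ProjSpace n k) (b₁ + T.card)))
        hTop).symm ((ι (b₁ + T.card) (Fin.natAdd b₁ i)).app ⊤ (toO ⊤ 1)), ?_⟩
      rw [Groth.Agent.Helper13.PnFin.hstar_apply, Sheaf.H.equiv₀_symm_naturality,
        AddEquiv.symm_apply_eq, ← hi]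
      change ψ.app ⊤ ((ι (b₁ + T.card) (Fin.natAdd b₁ i)).app ⊤ (toO ⊤ 1)) = t₂ i
      rw [← app_comp_apply, ι_descSec, homOfSec_app_one]
      have hid : (homOfLE (le_top : (⊤ : (CohB1.ProjSpace n k).Opens) ≤ ⊤)).op = 𝟙 _ :=
        Subsingleton.elim _ _
      rw [hid, G.presheaf.map_id]
      simp only [t, Fin.append_right]
      rfl
    intro y
    have hy : y ∈ LinearMap.range (Groth.Agent.Helper13.PnFin.hstar k ψ 0) := by
      rw [hr]; trivial
    obtain ⟨x, hx⟩ := hy
    exact ⟨x, hx⟩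
  -- the short exact sequence `0 → K' → O^b → G → 0`
  let S₀ : ShortComplex (CohB1.ProjSpace n k).Modules :=
    ShortComplex.mk (kernel.ι ψ) ψ (kernel.condition ψ)
  have hS₀ : S₀.ShortExact :=
    { exact := ShortComplex.exact_kernel ψ
      mono_f := inferInstanceAs (Mono (kernel.ι ψ))
      epi_g := hψ }
  have hS₁ := twist_shortExact k n S₀ hS₀ (-m)
  let Tm := tensorRight (Twist.twistProjSpace n k (-m))
  let α : CohB1.tensorMod (FlatMod.freeMod (CohB1.ProjSpace n k) (b₁ + T.card))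
      (Twist.twistProjSpace n k (-m)) ≅ ∐ fun _ : Fin (b₁ + T.card) => Twist.twistProjSpace n k (-m) :=
    PreservesCoproduct.iso Tm (fun _ : Fin (b₁ + T.card) => Coh.structureModule (CohB1.ProjSpace n k)) ≪≫
      Sigma.mapIso (fun _ => Tensor.lid (Twist.twistProjSpace n k (-m)))
  obtain ⟨β₀⟩ := twist_twist_iso k n F m (-m)
  obtain ⟨e0⟩ := Groth.Agent.Helper13.PnFin.twist_zero_iso n k
  have hz : m + -m = 0 := by ring
  let β : CohB1.tensorMod G (Twist.twistProjSpace n k (-m)) ≅ F :=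
    β₀ ≪≫ Tensor.mapIso (Iso.refl F) (eqToIso (by rw [hz]) ≪≫ e0) ≪≫ Tensor.rid F
  let g₁ := (tensorSC S₀ (Twist.twistProjSpace n k (-m))).g
  haveI : Epi g₁ := hS₁.epi_g
  let φ : (∐ fun _ : Fin (b₁ + T.card) => Twist.twistProjSpace n k (-m)) ⟶ F :=
    α.inv ≫ g₁ ≫ β.hom
  haveI hgβ : Epi (g₁ ≫ β.hom) := epi_comp g₁ β.hom
  haveI hφ : Epi φ := @epi_comp _ _ _ _ _ α.inv _ (g₁ ≫ β.hom) hgβ
  refine ⟨b₁ + T.card, φ, hφ, ?_⟩
  -- the kernel of `φ`
  let κ : kernel φ ≅ CohB1.tensorMod (kernel ψ) (Twist.twistProjSpace n k (-m)) :=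
    kernelIsIsoComp α.inv (g₁ ≫ β.hom) ≪≫ kernelCompMono g₁ β.hom ≪≫
      IsLimit.conePointUniqueUpToIso (kernelIsKernel g₁) hS₁.fIsKernel
  intro i hi1 hin
  obtain ⟨ε⟩ := twist_twist_iso k n (kernel ψ) (-m) (m + 1 - i)
  let ε' : CohB1.tensorMod (kernel φ) (Twist.twistProjSpace n k (m + 1 - i)) ≅
      CohB1.tensorMod (kernel ψ) (Twist.twistProjSpace n k (-m + (m + 1 - i))) :=
    Tensor.mapIso κ (Iso.refl _) ≪≫ ε
  refine Groth.Agent.Helper9.AffStrat.HH_subsingleton_of_iso ε' i ?_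
  obtain ⟨p, rfl⟩ : ∃ p, i = p + 1 := ⟨i - 1, by omega⟩
  have hd : -m + (m + 1 - ((p + 1 : ℕ) : ℤ)) = -(p : ℤ) := by push_cast; ring
  rw [hd]
  rcases Nat.eq_zero_or_pos p with rfl | hp
  · -- `i = 1`
    have hK1 : Subsingleton (Coh.HH (CohB1.ProjSpace n k) (kernel ψ) 1) := by
      refine HH_subsingleton_X₁_of_surj S₀ hS₀ hsurj ?_
      refine HH_free k n _ 1 ?_
      exact Groth.Agent.S0844.result k n 0 1 (by omega) (by omega)
    have hz0 : -((0 : ℕ) : ℤ) = 0 := by simp
    let ζ : CohB1.tensorMod (kernel ψ) (Twist.twistProjSpace n k (-((0 : ℕ) : ℤ))) ≅ kernel ψ :=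
      Tensor.mapIso (Iso.refl _) (eqToIso (by rw [hz0]) ≪≫ e0) ≪≫ Tensor.rid _
    exact Groth.Agent.Helper9.AffStrat.HH_subsingleton_of_iso ζ 1 hK1
  · -- `i = p + 1 ≥ 2`
    have hT' := twist_shortExact k n S₀ hS₀ (-(p : ℤ))
    refine HH_subsingleton_X₁ (tensorSC S₀ (Twist.twistProjSpace n k (-(p : ℤ)))) hT' p ?_ ?_
    · obtain ⟨γ⟩ := twist_twist_iso k n F m (-(p : ℤ))
      refine Groth.Agent.Helper9.AffStrat.HH_subsingleton_of_iso γ p ?_
      have := h p hp (by omega)
      have he : m + -(p : ℤ) = m - p := by ring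
      rw [he]
      exact this
    · refine HH_free_twist k n _ (-(p : ℤ)) (p + 1) ?_
      exact Groth.Agent.S0844.result k n (-(p : ℤ)) (p + 1) (by omega) (by omega)

theorem main11301 (F : (CohB1.ProjSpace n k).Modules) (hF : Coh.IsCoh F) (m : ℤ) :
    Curv2.IsMRegular k n F m ↔
      ∃ (b : ℕ) (φ : (∐ fun _ : Fin b => Twist.twistProjSpace n k (-m)) ⟶ F),
        Epi φ ∧ Curv2.IsMRegular k n (kernel φ) (m + 1) := by
  constructor
  · exact exists_res k n F hF m
  · rintro ⟨b, φ, hφ, hK⟩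
    exact regular_of_res k n F hF m b φ hK

end Groth.Agent.Helper24.PnRegRes
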