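import Mathlib
import Groth.Agent.Lib.Helper24.PtIdeal0
import Groth.Agent.S0051

/-!
# Vanishing of `H^i(m_x^a ⊗ L^m)`, `i > 1`, for `L` ample and `m` large (helper24)
-/

set_option autoImplicit false
set_option linter.unusedSectionVars false
set_option linter.style.haveILetI false
set_option linter.unusedVariables false
universe u
open CategoryTheory CategoryTheory.Limits AlgebraicGeometry Opposite TopologicalSpace

namespace Groth.Agent.Helper24.PtIdeal

theorem main15254 (k : Type u) [Field k] (X : Scheme.{u})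
    [X.Over (Spec (CommRingCat.of k))] [IsProper (X ↘ (Spec (CommRingCat.of k)))] [IsIntegral X]
    (x : X) (hx : IsClosed ({x} : Set X)) (L : X.Modules) (hL : CohB1.IsAmple L) :
    ∃ m₀ : ℕ, ∀ m : ℕ, m₀ ≤ m → ∀ i : ℕ, 1 < i → ∀ a : ℕ,
      Subsingleton (Coh.HH X (CohB1.tensorMod
        (ClSub.idealMod ((W4c2seshadripos.pointIdeal x hx) ^ a)) (CohB1.tensorPow L m)) i) := by
  haveI := isNoetherian_of_proper k X
  have hO := Groth.Agent.Helper13.CohRoof.isCoh_structureModule X
  obtain ⟨n₀, hn₀⟩ := (Groth.Agent.S0051.result k X (X ↘ Spec (CommRingCat.of k)) L hL.1).1 hL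
    (Coh.structureModule X) hO
  refine ⟨n₀, fun m hm i hi a => ?_⟩
  obtain ⟨p, rfl⟩ : ∃ p, i = p + 1 := ⟨i - 1, by omega⟩
  exact HH_ideal_tensor _ x (support_pow_subset x hx a) (CohB1.tensorPow L m)
    (Groth.Agent.Helper13.Inv.isInvertible_tensorPow L hL.1 m) p (by omega)
    (hn₀ m hm (p + 1) (Nat.succ_pos p))

end Groth.Agent.Helper24.PtIdeal
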