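import Mathlib
import Groth.Prelude.Def_Coh
import Groth.Agent.Lib.Helper24.QcEmb1
import Groth.Agent.S0856

/-!
# Injective objects of `QCoh(X)` on a Noetherian scheme are flasque (helper24)
-/

set_option autoImplicit false
set_option maxHeartbeats 400000
set_option linter.style.haveILetI false
universe u
open CategoryTheory CategoryTheory.Limits AlgebraicGeometry Opposite TopologicalSpace

namespace Groth.Agent.Helper24.QcEmb

variable {X : Scheme.{u}}

/-- an injective object of `QCoh(X)`, `X` Noetherian, is a retract of a quasi-coherent module which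
is an injective `O`-module -/
theorem exists_retract [IsNoetherian X]
    (J : ObjectProperty.FullSubcategory (fun M : X.Modules => Coh.IsQCoh M)) (hJ : Injective J) :
    ∃ (G : X.Modules) (g : J.obj ⟶ G) (r : G ⟶ J.obj), Injective G ∧ g ≫ r = 𝟙 J.obj := by
  haveI : J.obj.IsQuasicoherent := J.property
  obtain ⟨G, g, hq, hi, hmono⟩ := exists_mono_qcoh_injective J.obj
  let G' : ObjectProperty.FullSubcategory (fun M : X.Modules => Coh.IsQCoh M) := ⟨G, hq⟩
  let g' : J ⟶ G' := ObjectProperty.homMk g
  haveI : Mono g' := by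
    apply Functor.mono_of_mono_map (ObjectProperty.ι _)
    exact hmono
  let r := Injective.factorThru (𝟙 J) g'
  have hr : g' ≫ r = 𝟙 J := Injective.comp_factorThru _ _
  refine ⟨G, g, r.hom, hi, ?_⟩
  have := congrArg (fun φ => φ.hom) hr
  exact this

/-- **S0988** -/
theorem main0988 [IsNoetherian X]
    (J : ObjectProperty.FullSubcategory (fun M : X.Modules => Coh.IsQCoh M)) (hJ : Injective J)
    (U V : X.Opens) (hUV : U ≤ V) :
    Function.Surjective (J.obj.val.map (homOfLE hUV).op).hom := by
  obtain ⟨G, g, r, hi, hgr⟩ := exists_retract J hJ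
  haveI : Mono (homOfLE hUV) := ⟨fun _ _ _ => Subsingleton.elim _ _⟩
  have hsurj : Function.Surjective (G.val.map (homOfLE hUV).op) :=
    @Groth.Agent.S0856.result _ _ _ X.ringCatSheaf G hi _ _ (homOfLE hUV) _
  intro s
  obtain ⟨t, ht⟩ := hsurj (g.val.app (op U) s)
  refine ⟨r.val.app (op V) t, ?_⟩
  have h1 := PresheafOfModules.naturality_apply r.val (homOfLE hUV).op t
  refine h1.symm.trans ?_
  rw [ht]
  have h2 := congrArg (fun φ : J.obj ⟶ J.obj => φ.val.app (op U) s) hgr
  exact h2

end Groth.Agent.Helper24.QcEmb
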