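import Groth.Agent.Lib.Helper24.DProd4
import Groth.Agent.Lib.Helper29.TriR
import Groth.Prelude.Def_DCoh2

/-!
# Right derived functors on `D(𝒜)`, `𝒜` Grothendieck abelian: additivity and products
-/

set_option autoImplicit false
universe w' w v' v u' u
open CategoryTheory CategoryTheory.Limits

namespace Groth.Agent.Helper24.RFProd

open Groth.Agent.Helper11 DerivedCategory

section Add

variable {𝒜 : Type u} [Category.{v} 𝒜] [Abelian 𝒜] [IsGrothendieckAbelian.{v} 𝒜]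
  [HasDerivedCategory.{w} 𝒜]

theorem imap_add {X Y : KI.KA 𝒜} (f g : X ⟶ Y) :
    KI.imap.{w} (f + g) = KI.imap.{w} f + KI.imap.{w} g :=
  (KI.imap_uniq.{w} _ _ (by
    rw [Preadditive.comp_add, KI.imap_fac, KI.imap_fac, Preadditive.add_comp])).symm

variable {T : Type*} [Category T] (Φ : KI.KA 𝒜 ⥤ T)
  (R : DerivedCategory 𝒜 ⥤ T) (β : Φ ⟶ Qh ⋙ R) [R.IsRightDerivedFunctor β (KI.WK 𝒜)]

lemma isIso_R_map_im (X : KI.KA 𝒜) : IsIso (R.map (Qh.map (KI.im X))) := by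
  haveI : IsIso (Qh.map (KI.im X)) := Localization.inverts Qh (KI.WK 𝒜) _ (KI.im_W X)
  infer_instance

theorem map_Qh_eq {X Y : KI.KA 𝒜} (f : X ⟶ Y) :
    haveI := KI.isIso_unit.{w} Φ R β (KI.IO X)
    R.map (Qh.map f) ≫ R.map (Qh.map (KI.im Y)) =
      R.map (Qh.map (KI.im X)) ≫ inv (β.app ((KI.quo 𝒜).obj (KI.IO X))) ≫
        Φ.map (KI.imap.{w} f) ≫ β.app ((KI.quo 𝒜).obj (KI.IO Y)) := by
  haveI := KI.isIso_unit.{w} Φ R β (KI.IO X)
  have h1 : Φ.map (KI.imap.{w} f) ≫ β.app ((KI.quo 𝒜).obj (KI.IO Y)) =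
      β.app ((KI.quo 𝒜).obj (KI.IO X)) ≫ R.map (Qh.map (KI.imap.{w} f)) :=
    β.naturality (KI.imap.{w} f)
  rw [h1, IsIso.inv_hom_id_assoc, ← Functor.map_comp, ← Functor.map_comp, ← Functor.map_comp,
    ← Functor.map_comp, KI.imap_fac]

variable [Preadditive T] [Φ.Additive]

include Φ β in
theorem additive : R.Additive := by
  rw [Localization.functor_additive_iff Qh (KI.WK 𝒜) R]
  refine ⟨fun {X Y f g} => ?_⟩
  haveI := isIso_R_map_im R Y
  rw [← cancel_mono (R.map (Qh.map (KI.im Y)))]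
  simp only [Functor.comp_map, Preadditive.add_comp]
  rw [map_Qh_eq Φ R β, map_Qh_eq Φ R β, map_Qh_eq Φ R β, imap_add, Functor.map_add,
    Preadditive.add_comp, Preadditive.comp_add, Preadditive.comp_add]

end Add

section Gen

/-- transport of limit fans along isomorphisms -/
noncomputable def isLimitFanOfIsos {D : Type*} [Category D] {ι : Type*} {X Y : ι → D}
    (a : ∀ n, X n ≅ Y n) {P P' : D} (p : ∀ n, P ⟶ X n) (hP : IsLimit (Fan.mk P p)) (b : P' ≅ P)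
    (p' : ∀ n, P' ⟶ Y n) (hp' : ∀ n, p' n = b.hom ≫ p n ≫ (a n).hom) :
    IsLimit (Fan.mk P' p') :=
  Fan.IsLimit.mk _ (fun s => Fan.IsLimit.lift hP (fun n => s.proj n ≫ (a n).inv) ≫ b.inv)
    (fun s n => by
      change (Fan.IsLimit.lift hP (fun n => s.proj n ≫ (a n).inv) ≫ b.inv) ≫ p' n = s.proj n
      have h := Fan.IsLimit.fac hP (fun n => s.proj n ≫ (a n).inv) n
      change Fan.IsLimit.lift hP (fun n => s.proj n ≫ (a n).inv) ≫ p n = _ at h
      rw [hp' n, Category.assoc, Iso.inv_hom_id_assoc, ← Category.assoc, h, Category.assoc,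
        Iso.inv_hom_id, Category.comp_id])
    (fun s m hm => by
      rw [← cancel_mono b.hom, Category.assoc, Iso.inv_hom_id, Category.comp_id]
      refine Fan.IsLimit.hom_ext hP _ _ (fun n => ?_)
      have h := Fan.IsLimit.fac hP (fun n => s.proj n ≫ (a n).inv) n
      change Fan.IsLimit.lift hP (fun n => s.proj n ≫ (a n).inv) ≫ p n = _ at h
      change (m ≫ b.hom) ≫ p n = Fan.IsLimit.lift hP (fun n => s.proj n ≫ (a n).inv) ≫ p n
      rw [h, ← hm n]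
      change _ = (m ≫ p' n) ≫ _
      rw [hp' n]
      simp only [Category.assoc, Iso.hom_inv_id, Category.comp_id])

end Gen

section Prod

variable {𝒜 : Type u} [Category.{v} 𝒜] [Abelian 𝒜] [IsGrothendieckAbelian.{v} 𝒜]
  [HasDerivedCategory.{w} 𝒜]
  {ℬ : Type u'} [Category.{v'} ℬ] [Abelian ℬ] [HasDerivedCategory.{w'} ℬ]
  {ι : Type} [HasProductsOfShape ι 𝒜] [HasProductsOfShape ι ℬ]
  [PreservesFiniteColimits (lim : (Discrete ι ⥤ ℬ) ⥤ ℬ)]
  (F : 𝒜 ⥤ ℬ) [F.Additive] [PreservesLimitsOfShape (Discrete ι) F]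
  (R : DerivedCategory 𝒜 ⥤ DerivedCategory ℬ)
  (β : F.mapHomotopyCategory (ComplexShape.up ℤ) ⋙ Qh ⟶ Qh ⋙ R)
  [R.IsRightDerivedFunctor β (KI.WK 𝒜)]

open Groth.Agent.Helper24.DProd

/-- the image under `F` of the complexes of a family -/
noncomputable abbrev FI (I : ι → CochainComplex 𝒜 ℤ) (n : ι) : CochainComplex ℬ ℤ :=
  (F.mapHomologicalComplex (ComplexShape.up ℤ)).obj (I n)

/-- the comparison map `F(∏ I) ⟶ ∏ F(I)` -/
noncomputable def θ (I : ι → CochainComplex 𝒜 ℤ) :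
    (F.mapHomologicalComplex (ComplexShape.up ℤ)).obj (prodCx I) ⟶ prodCx (FI F I) :=
  prodLift fun n => (F.mapHomologicalComplex (ComplexShape.up ℤ)).map (prodπ I n)

lemma θ_π (I : ι → CochainComplex 𝒜 ℤ) (n : ι) :
    θ F I ≫ prodπ (FI F I) n = (F.mapHomologicalComplex (ComplexShape.up ℤ)).map (prodπ I n) :=
  prodLift_π _ n

lemma θ_f (I : ι → CochainComplex 𝒜 ℤ) (i : ℤ) :
    (θ F I).f i = piComparison F (fun n => (I n).X i) := by
  refine Pi.hom_ext (f := fun n => F.obj ((I n).X i)) _ _ (fun n => ?_)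
  have h1 : (θ F I).f i ≫ (prodπ (FI F I) n).f i = F.map ((prodπ I n).f i) :=
    congrArg (fun (x : _ ⟶ FI F I n) => x.f i) (θ_π F I n)
  exact h1.trans (piComparison_comp_π F (fun n => (I n).X i) n).symm

instance (I : ι → CochainComplex 𝒜 ℤ) : IsIso (θ F I) := by
  have : ∀ i, IsIso ((θ F I).f i) := fun i => by
    have h : IsIso (piComparison F (fun n => (I n).X i)) := inferInstance
    rw [θ_f]
    exact h
  exact HomologicalComplex.Hom.isIso_of_components _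

include F β in
theorem isLimit_map_prod (I : ι → CochainComplex 𝒜 ℤ) [∀ n, (I n).IsKInjective] :
    Nonempty (IsLimit (Fan.mk (R.obj (Q.obj (prodCx I))) (fun n => R.map (Q.map (prodπ I n))))) := by
  have i1 : ∀ n, IsIso (β.app ((KI.quo 𝒜).obj (I n))) := fun n => KI.isIso_unit.{w} _ R β (I n)
  have i2 : IsIso (β.app ((KI.quo 𝒜).obj (prodCx I))) := KI.isIso_unit.{w} _ R β (prodCx I)
  have i3 : IsIso (Q.map (θ F I)) := inferInstance
  let a : ∀ n, Q.obj (FI F I n) ≅ R.obj (Q.obj (I n)) := fun n =>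
    @asIso _ _ _ _ (β.app ((KI.quo 𝒜).obj (I n))) (i1 n)
  let b₁ : Q.obj ((F.mapHomologicalComplex (ComplexShape.up ℤ)).obj (prodCx I)) ≅
      R.obj (Q.obj (prodCx I)) :=
    @asIso _ _ _ _ (β.app ((KI.quo 𝒜).obj (prodCx I))) i2
  let b : R.obj (Q.obj (prodCx I)) ≅ Q.obj (prodCx (FI F I)) :=
    b₁.symm ≪≫ @asIso _ _ _ _ (Q.map (θ F I)) i3
  refine ⟨isLimitFanOfIsos a _ (isLimitFan' (FI F I)) b _ (fun n => ?_)⟩
  have nat : Q.map ((F.mapHomologicalComplex (ComplexShape.up ℤ)).map (prodπ I n)) ≫ (a n).hom =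
      b₁.hom ≫ R.map (Q.map (prodπ I n)) :=
    β.naturality ((KI.quo 𝒜).map (prodπ I n))
  change _ = (b₁.inv ≫ Q.map (θ F I)) ≫ Q.map (prodπ (FI F I) n) ≫ (a n).hom
  rw [Category.assoc, ← Category.assoc (Q.map (θ F I)), ← Functor.map_comp, θ_π, nat,
    Iso.inv_hom_id_assoc]

theorem exists_kinj_iso (X : DerivedCategory 𝒜) :
    ∃ (I : CochainComplex 𝒜 ℤ) (_ : I.IsKInjective), Nonempty (X ≅ Q.obj I) := by
  let X' := Qh.objPreimage X
  let e : Qh.obj X' ≅ X := Qh.objObjPreimageIso X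
  have i1 : IsIso (Qh.map (KI.im X')) := Localization.inverts Qh (KI.WK 𝒜) _ (KI.im_W X')
  exact ⟨KI.IO X', inferInstance, ⟨e.symm ≪≫ @asIso _ _ _ _ (Qh.map (KI.im X')) i1⟩⟩

include F β in
theorem preservesLimit (K : ι → DerivedCategory 𝒜) : PreservesLimit (Discrete.functor K) R := by
  choose I hI e using fun n => exists_kinj_iso (K n)
  haveI := hI
  let e' := fun n => (e n).some
  have hP : IsLimit (Fan.mk (Q.obj (prodCx I)) (fun n => Q.map (prodπ I n) ≫ (e' n).inv)) :=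
    isLimitFanOfIsos (fun n => (e' n).symm) _ (isLimitFan I) (Iso.refl _) _ (fun n => by simp)
  obtain ⟨hR⟩ := isLimit_map_prod F R β I
  have hRP : IsLimit (Fan.mk (R.obj (Q.obj (prodCx I)))
      (fun n => R.map (Q.map (prodπ I n) ≫ (e' n).inv))) :=
    isLimitFanOfIsos (fun n => R.mapIso (e' n).symm) _ hR (Iso.refl _) _ (fun n => by simp)
  exact preservesLimit_of_preserves_limit_cone hP ((isLimitMapConeFanMkEquiv _ _ _).symm hRP)

end Prod

section Rlim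

open Pretriangulated

variable {𝒜 : Type u} [Category.{v} 𝒜] [Abelian 𝒜] [IsGrothendieckAbelian.{v} 𝒜]
  [HasDerivedCategory.{w} 𝒜]
  {ℬ : Type u'} [Category.{v'} ℬ] [Abelian ℬ] [HasDerivedCategory.{w'} ℬ]
  [HasProductsOfShape ℕ 𝒜] [HasProductsOfShape ℕ ℬ]
  [PreservesFiniteColimits (lim : (Discrete ℕ ⥤ ℬ) ⥤ ℬ)]
  (F : 𝒜 ⥤ ℬ) [F.Additive] [PreservesLimitsOfShape (Discrete ℕ) F]
  (R : DerivedCategory 𝒜 ⥤ DerivedCategory ℬ)
  (β : F.mapHomotopyCategory (ComplexShape.up ℤ) ⋙ Qh ⟶ Qh ⋙ R)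
  [R.IsRightDerivedFunctor β (KI.WK 𝒜)]

include F β in
theorem isRlim_map (K : ℕ → DerivedCategory 𝒜) (t : ∀ n, K (n + 1) ⟶ K n) [HasProduct K]
    [HasProduct fun n => R.obj (K n)] (L : DerivedCategory 𝒜) (hL : DCoh.IsRlim K t L) :
    DCoh.IsRlim (fun n => R.obj (K n)) (fun n => R.map (t n)) (R.obj L) := by
  haveI : PreservesLimit (Discrete.functor K) R := preservesLimit F R β K
  haveI : R.Additive := additive (F.mapHomotopyCategory (ComplexShape.up ℤ) ⋙ Qh) R β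
  obtain ⟨a, c, hT⟩ := hL
  let φ : ∏ᶜ K ⟶ ∏ᶜ K := Pi.lift fun n => Pi.π K n - Pi.π K (n + 1) ≫ t n
  obtain ⟨c', hT'⟩ : ∃ c' : R.obj (∏ᶜ K) ⟶ (R.obj L)⟦(1 : ℤ)⟧,
      Triangle.mk (R.map a) (R.map φ) c' ∈ distTriang _ :=
    Groth.Agent.Helper29.TriR.exists_distinguished
      (F.mapHomotopyCategory (ComplexShape.up ℤ) ⋙ Qh) R β _ hT
  let e : R.obj (∏ᶜ K) ≅ ∏ᶜ (fun n => R.obj (K n)) := PreservesProduct.iso R K
  have he : ∀ n, e.hom ≫ Pi.π (fun n => R.obj (K n)) n = R.map (Pi.π K n) := fun n => by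
    simp [e, PreservesProduct.iso_hom]
  let φ' : (∏ᶜ fun n => R.obj (K n)) ⟶ ∏ᶜ fun n => R.obj (K n) :=
    Pi.lift fun n => Pi.π (fun n => R.obj (K n)) n -
      Pi.π (fun n => R.obj (K n)) (n + 1) ≫ R.map (t n)
  have hφ : R.map φ ≫ e.hom = e.hom ≫ φ' := by
    refine Pi.hom_ext _ _ (fun n => ?_)
    rw [Category.assoc, Category.assoc, he, ← Functor.map_comp, Pi.lift_π, Pi.lift_π,
      Functor.map_sub, Functor.map_comp, Preadditive.comp_sub, ← Category.assoc, he, he]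
  refine ⟨R.map a ≫ e.hom, e.inv ≫ c', isomorphic_distinguished _ hT' _
    (Triangle.isoMk _ _ (Iso.refl _) e.symm e.symm ?_ ?_ ?_)⟩
  · change (R.map a ≫ e.hom) ≫ e.inv = 𝟙 _ ≫ R.map a
    rw [Category.assoc, e.hom_inv_id, Category.comp_id, Category.id_comp]
  · change φ' ≫ e.inv = e.inv ≫ R.map φ
    rw [← cancel_mono e.hom, Category.assoc, Category.assoc, e.inv_hom_id, Category.comp_id, hφ,
      e.inv_hom_id_assoc]
  · change (e.inv ≫ c') ≫ (𝟙 (R.obj L))⟦(1 : ℤ)⟧' = e.inv ≫ c'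
    rw [CategoryTheory.Functor.map_id, Category.comp_id]

end Rlim

end Groth.Agent.Helper24.RFProd
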