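import Groth.Agent.Lib.Helper24.RFQc10

/-!
# `H^j(Rf_* E) ≅ f_* H^j(E)` when quasi-coherent modules are `f_*`-acyclic; conservativity of
`Rf_*` on `D_QCoh` for affine morphisms
-/

set_option autoImplicit false
universe u
open CategoryTheory CategoryTheory.Limits AlgebraicGeometry

attribute [local instance] HasDerivedCategory.standard

namespace Groth.Agent.Helper24.RFQc

open DerivedCategory DerivedCategory.TStructure Groth.Agent.Helper9.Leray Groth.Agent.Helper29.LRAdj
  Groth.Agent.Helper24.RlimTrunc Groth.Agent.Helper24.WayOut Groth.Agent.Helper24.RFBound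
  Pretriangulated Groth.Agent.Helper24.RlimConst

variable {X S : Scheme.{u}} (f : X ⟶ S) [QuasiCompact f] [QuasiSeparated f] [DCoh.HasRpush f]
  (hN : ∀ G : X.Modules, qc X G → ∀ p : ℕ, 1 ≤ p →
    IsZero (((Scheme.Modules.pushforward f).rightDerived p).obj G))

include hN in
omit [QuasiCompact f] [QuasiSeparated f] in
lemma nonempty_iso_homology_chain (E : DCoh.D X) (hE : DCoh.IsQCohD E) (j : ℤ) :
    ∀ (k : ℕ) (a b : ℤ), a + k = b → b ≤ j →
      Nonempty ((homologyFunctor S.Modules j).obj ((DCoh.Rpush f).obj ((t.truncGE a).obj E)) ≅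
        (homologyFunctor S.Modules j).obj ((DCoh.Rpush f).obj ((t.truncGE b).obj E))) := by
  intro k
  induction k with
  | zero =>
    intro a b hab _
    obtain rfl : b = a := by simpa using hab.symm
    exact ⟨Iso.refl _⟩
  | succ k ih =>
    intro a b hab hb
    obtain ⟨e⟩ := ih a (b - 1) (by push_cast at hab; omega) (by omega)
    have hiso := isIso_homology_map_transition (Scheme.Modules.pushforward f) (DCoh.Rpush f) (βf f)
      E (b - 1) b (by omega) 1 (fun p hp => hN _ (hE _) p hp) j (by push_cast; omega)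
    exact ⟨e ≪≫ @asIso _ _ _ _ _ hiso⟩

include hN in
/-- `H^j(Rf_* E) ≅ f_* H^j(E)` for `E` in `D_QCoh` -/
theorem nonempty_iso_homology_Rpush (E : DCoh.D X) (hE : DCoh.IsQCohD E) (j : ℤ) :
    Nonempty ((homologyFunctor S.Modules j).obj ((DCoh.Rpush f).obj E) ≅
      (Scheme.Modules.pushforward f).obj ((homologyFunctor X.Modules j).obj E)) := by
  -- truncate above
  let E' := (t.truncLT (j + 1)).obj E
  haveI : E'.IsLE j := t.isLE_truncLT_obj E (j + 1) j (by omega)
  have hE' : DCoh.IsQCohD E' := fun q => qc_homology_truncLT E hE _ q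
  have i1 := isIso_homology_Rpush_truncLTι f E (j + 1) j (by omega)
  -- truncate below
  obtain ⟨n, hn⟩ : ∃ n : ℕ, -j ≤ (n : ℤ) := ⟨(-j).toNat, Int.self_le_toNat _⟩
  have i2 := isIso_homology_Rpush_toTruncTower f 1 hN E' hE' j j n (by push_cast; omega)
  obtain ⟨e3⟩ := nonempty_iso_homology_chain f hN E' hE' j (j + n).toNat (-(n : ℤ)) j
    (by rw [Int.toNat_of_nonneg (by omega)]; omega) le_rfl
  -- the object concentrated in degree `j`
  let E'' := (t.truncGE j).obj E'
  haveI : E''.IsGE j := inferInstanceAs (((t.truncGE j).obj E').IsGE j)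
  haveI : E''.IsLE j := isLE_truncGE E' j j
  obtain ⟨e⟩ := nonempty_iso_Q_Lb E'' j
  obtain ⟨e'⟩ := nonempty_iso_of_injective (Scheme.Modules.pushforward f) (DCoh.Rpush f) (βf f)
    (Lb ((homologyFunctor X.Modules j).obj E'') j) j
  have e4 : (homologyFunctor S.Modules j).obj ((DCoh.Rpush f).obj E'') ≅
      ((Scheme.Modules.pushforward f).rightDerived 0).obj ((homologyFunctor X.Modules j).obj E'') :=
    (homologyFunctor S.Modules j).mapIso ((DCoh.Rpush f).mapIso e ≪≫ e') ≪≫
      (homologyFunctorFactors S.Modules j).app _ ≪≫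
      homologyLbIso (Scheme.Modules.pushforward f) _ j 0 j (by simp)
  have e5 := (Scheme.Modules.pushforward f).rightDerivedZeroIsoSelf.app
    ((homologyFunctor X.Modules j).obj E'')
  have i6 := isIso_homologyMap_truncGEπ E' j j le_rfl
  have i7 := isIso_homologyMap_truncLTι E (j + 1) j (by omega)
  have e8 : (homologyFunctor X.Modules j).obj E'' ≅ (homologyFunctor X.Modules j).obj E :=
    (@asIso _ _ _ _ _ i6).symm ≪≫ @asIso _ _ _ _ _ i7
  exact ⟨(@asIso _ _ _ _ _ i1).symm ≪≫ @asIso _ _ _ _ _ i2 ≪≫ e3 ≪≫ e4 ≪≫ e5 ≪≫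
    (Scheme.Modules.pushforward f).mapIso e8⟩

end Groth.Agent.Helper24.RFQc

namespace Groth.Agent.Helper24.RFQc

open DerivedCategory DerivedCategory.TStructure Groth.Agent.Helper9.Leray Groth.Agent.Helper29.LRAdj
  Groth.Agent.Helper24.RlimTrunc Groth.Agent.Helper24.WayOut Groth.Agent.Helper24.RFBound
  Pretriangulated Groth.Agent.Helper24.RlimConst

attribute [local instance] HasDerivedCategory.standard

/-- `Rf_*` reflects isomorphisms on `D_QCoh` for an affine morphism `f` -/
theorem isIso_of_isIso_Rpush_affine {X S : Scheme.{u}} (f : X ⟶ S) [IsAffineHom f]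
    [DCoh.HasRpush f] {E F : DCoh.D X} (hE : DCoh.IsQCohD E) (hF : DCoh.IsQCohD F) (α : E ⟶ F)
    (hα : IsIso ((DCoh.Rpush f).map α)) : IsIso α := by
  obtain ⟨C, g, h, hT⟩ := distinguished_cocone_triangle α
  have hC : DCoh.IsQCohD C := fun q => prop_homology_obj₃ (qc X) _ hT hE hF q
  obtain ⟨c', hT'⟩ := Groth.Agent.Helper29.TriR.exists_distinguished
    (DCoh.pushKh f) (DCoh.Rpush f) (βf f) _ hT
  have hz : ∀ q, IsZero ((homologyFunctor S.Modules q).obj ((DCoh.Rpush f).obj C)) := fun q =>
    isZero_homology_obj₃ _ hT' q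
      (inferInstanceAs (IsIso ((homologyFunctor S.Modules q).map ((DCoh.Rpush f).map α))))
      (inferInstanceAs (IsIso ((homologyFunctor S.Modules (q + 1)).map ((DCoh.Rpush f).map α))))
  have hN : ∀ G : X.Modules, qc X G → ∀ p : ℕ, 1 ≤ p →
      IsZero (((Scheme.Modules.pushforward f).rightDerived p).obj G) :=
    fun G hG p hp => acyc_of_affine f G hG p (by omega)
  have hzC : ∀ q, IsZero ((homologyFunctor X.Modules q).obj C) := fun q => by
    obtain ⟨e⟩ := nonempty_iso_homology_Rpush f hN C hC q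
    exact isZero_of_isZero_push f _ (hC q) ((hz q).of_iso e.symm)
  rw [DerivedCategory.isIso_iff]
  intro q
  exact isIso_shift_map_mor₁ (homologyFunctor X.Modules 0) _ hT (q - 1) q (by omega)
    (hzC (q - 1)) (hzC q)

end Groth.Agent.Helper24.RFQc
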