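import Groth.Agent.Lib.Helper24.RFQc2

/-!
# `Rf_*` on `D_QCoh`: the vanishing bound and quasi-coherence (quasi-compact base)
-/

set_option autoImplicit false
universe u
open CategoryTheory CategoryTheory.Limits AlgebraicGeometry

attribute [local instance] HasDerivedCategory.standard

namespace Groth.Agent.Helper24.RFQc

open DerivedCategory DerivedCategory.TStructure Groth.Agent.Helper24.RlimTrunc
  Groth.Agent.Helper29.LRAdj TopologicalSpace

variable {X S : Scheme.{u}} (f : X ⟶ S) [QuasiCompact f] [QuasiSeparated f]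

/-- the uniform vanishing bound over a quasi-compact base -/
theorem exists_bound [CompactSpace S] : ∃ N : ℕ, ∀ G : X.Modules, qc X G → ∀ p : ℕ, N ≤ p →
    IsZero (((Scheme.Modules.pushforward f).rightDerived p).obj G) := by
  obtain ⟨N, hN⟩ := Groth.Agent.S0031.result f
  refine ⟨N, fun G hG p hp => ?_⟩
  obtain ⟨e⟩ := Groth.Agent.S11319.result f G p
  exact Groth.Agent.Helper24.RFSumSch.isZero_of_isZero_toAb S _ ((hN G hG p hp).of_iso e)

variable [DCoh.HasRpush f] (N : ℕ)
  (hN : ∀ G : X.Modules, qc X G → ∀ p : ℕ, N ≤ p →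
    IsZero (((Scheme.Modules.pushforward f).rightDerived p).obj G))

include hN in
/-- the vanishing bound for `Rf_*` on `D^{≤ b}_QCoh` -/
theorem isZero_homology_Rpush_of_isLE (E : DCoh.D X) (hE : DCoh.IsQCohD E) (b : ℤ) [E.IsLE b]
    (m : ℤ) (hm : b + N ≤ m) :
    IsZero ((homologyFunctor S.Modules m).obj ((DCoh.Rpush f).obj E)) := by
  obtain ⟨n, hn1, hn2⟩ : ∃ n : ℕ, (N : ℤ) - m - 1 ≤ n ∧ -(n : ℤ) ≤ b :=
    ⟨(|(N : ℤ) - m - 1| + |b|).toNat, by
      have := abs_nonneg ((N : ℤ) - m - 1); have := abs_nonneg b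
      have := le_abs_self ((N : ℤ) - m - 1); have := neg_abs_le b
      rw [Int.toNat_of_nonneg (by omega)]
      constructor <;> omega⟩
  have hiso := isIso_homology_Rpush_toTruncTower f N hN E hE b m n hn1
  refine IsZero.of_iso ?_ (@asIso _ _ _ _ _ hiso)
  obtain ⟨n', hn'⟩ : ∃ n' : ℕ, -(n : ℤ) + n' = b := ⟨(b + n).toNat, by omega⟩
  haveI : (CohCx.truncTower E n).IsGE (-(n : ℤ)) :=
    inferInstanceAs (((t.truncGE (-(n : ℤ))).obj E).IsGE (-(n : ℤ)))
  haveI : (CohCx.truncTower E n).IsLE b := isLE_truncGE E _ b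
  have h2 : (CohCx.truncTower E n).IsLE (-(n : ℤ) + n') := by rw [hn']; infer_instance
  exact Groth.Agent.Helper24.RFBound.isZero_homology_of_bounded (Scheme.Modules.pushforward f)
    (DCoh.Rpush f) (βf f) (fun G => qc X G) (fun e h => (qc X).prop_of_iso e h) N hN n'
    (CohCx.truncTower E n) (-(n : ℤ)) inferInstance h2
    (fun q _ _ => qc_homology_truncGE E hE _ q) m (by omega)

include hN in
/-- `Rf_*` of an object of `D^-_QCoh` has quasi-coherent cohomology -/
theorem qc_homology_Rpush_of_isLE (E : DCoh.D X) (hE : DCoh.IsQCohD E) (b : ℤ) [E.IsLE b]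
    (j : ℤ) : qc S ((homologyFunctor S.Modules j).obj ((DCoh.Rpush f).obj E)) := by
  let n : ℕ := ((N : ℤ) - j - 1).toNat
  have hiso := isIso_homology_Rpush_toTruncTower f N hN E hE b j n (by omega)
  refine (qc S).prop_of_iso (@asIso _ _ _ _ _ hiso).symm ?_
  haveI : (CohCx.truncTower E n).IsGE (-(n : ℤ)) :=
    inferInstanceAs (((t.truncGE (-(n : ℤ))).obj E).IsGE (-(n : ℤ)))
  haveI : (CohCx.truncTower E n).IsLE b := isLE_truncGE E _ b
  exact qc_homology_Rpush_of_bounded f (CohCx.truncTower E n)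
    (fun q => qc_homology_truncGE E hE _ q) (-(n : ℤ)) b j

end Groth.Agent.Helper24.RFQc
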