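import Groth.Agent.Lib.Helper24.RFQc3

/-!
# `Rf_*` preserves `D_QCoh` (with a vanishing bound): unbounded objects
-/

set_option autoImplicit false
universe u
open CategoryTheory CategoryTheory.Limits AlgebraicGeometry

attribute [local instance] HasDerivedCategory.standard

namespace Groth.Agent.Helper24.RFQc

open DerivedCategory DerivedCategory.TStructure Groth.Agent.Helper24.RlimTrunc
  Groth.Agent.Helper29.LRAdj TopologicalSpace Groth.Agent.Helper24.WayOut Pretriangulated

section Trunc

variable {Y : Scheme.{u}}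

lemma qc_homology_truncLT (E : DCoh.D Y) (hE : DCoh.IsQCohD E) (a q : ℤ) :
    qc Y ((homologyFunctor Y.Modules q).obj ((t.truncLT a).obj E)) := by
  by_cases h : q < a
  · have := isIso_homologyMap_truncLTι E a q h
    exact (qc Y).prop_of_iso (asIso ((homologyFunctor Y.Modules q).map ((t.truncLTι a).app E))).symm
      (hE q)
  · haveI : ((t.truncLT a).obj E).IsLE (a - 1) := t.isLE_truncLT_obj E a (a - 1) (by omega)
    exact qc_of_isZero Y (isZero_of_isLE ((t.truncLT a).obj E) (a - 1) q (by omega))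

end Trunc

variable {X S : Scheme.{u}} (f : X ⟶ S) [DCoh.HasRpush f]

/-- `H^j(Rf_* τ_{< a} E) ⟶ H^j(Rf_* E)` is an isomorphism for `j < a` -/
theorem isIso_homology_Rpush_truncLTι (E : DCoh.D X) (a j : ℤ) (hj : j < a) :
    IsIso ((homologyFunctor S.Modules j).map ((DCoh.Rpush f).map ((t.truncLTι a).app E))) := by
  have hT := t.triangleLTGE_distinguished a E
  obtain ⟨c', hT'⟩ := Groth.Agent.Helper29.TriR.exists_distinguished
    (DCoh.pushKh f) (DCoh.Rpush f) (βf f) _ hT
  haveI : ((DCoh.Rpush f).obj ((t.truncGE a).obj E)).IsGE a := isGE_Rpush f _ a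
  exact isIso_shift_map_mor₁ (homologyFunctor S.Modules 0) _ hT' (j - 1) j (by omega)
    (isZero_of_isGE ((DCoh.Rpush f).obj ((t.truncGE a).obj E)) a (j - 1) (by omega))
    (isZero_of_isGE ((DCoh.Rpush f).obj ((t.truncGE a).obj E)) a j (by omega))

variable [QuasiCompact f] [QuasiSeparated f] (N : ℕ)
  (hN : ∀ G : X.Modules, qc X G → ∀ p : ℕ, N ≤ p →
    IsZero (((Scheme.Modules.pushforward f).rightDerived p).obj G))

include hN in
/-- `Rf_*` preserves `D_QCoh` -/
theorem qc_homology_Rpush (E : DCoh.D X) (hE : DCoh.IsQCohD E) (j : ℤ) :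
    qc S ((homologyFunctor S.Modules j).obj ((DCoh.Rpush f).obj E)) := by
  have hiso := isIso_homology_Rpush_truncLTι f E (j + 1) j (by omega)
  refine (qc S).prop_of_iso (@asIso _ _ _ _ _ hiso) ?_
  haveI : ((t.truncLT (j + 1)).obj E).IsLE j := t.isLE_truncLT_obj E (j + 1) j (by omega)
  exact qc_homology_Rpush_of_isLE f N hN ((t.truncLT (j + 1)).obj E)
    (fun q => qc_homology_truncLT E hE _ q) j j

end Groth.Agent.Helper24.RFQc
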