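import Groth.Agent.Lib.Helper24.RFQc5
import Groth.Agent.Lib.Helper24.WayOut6
import Groth.Agent.Lib.Helper29.OpenRes

/-!
# `Rf_*` on `D_QCoh`: localization on the base
-/

set_option autoImplicit false
universe w'' w' w v' v u' u
open CategoryTheory CategoryTheory.Limits AlgebraicGeometry

namespace Groth.Agent.Helper24.RFQc

section MapD

open Groth.Agent.Helper24.DCoprod Groth.Agent.Helper24.RFSumG DerivedCategory

variable {A : Type u} [Category.{v} A] [Abelian A] [IsGrothendieckAbelian.{v} A]
  [HasDerivedCategory.{w} A]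
  {ι : Type w''} [HasCoproductsOfShape ι A] [HasExactColimitsOfShape (Discrete ι) A]
  {B : Type u'} [Category.{v'} B] [Abelian B] [HasDerivedCategory.{w'} B]
  [HasCoproductsOfShape ι B] [HasExactColimitsOfShape (Discrete ι) B]
  (F : A ⥤ B) [F.Additive] [PreservesColimitsOfShape (Discrete ι) F]
  [PreservesFiniteLimits F] [PreservesFiniteColimits F]

/-- the functor induced on derived categories by an exact functor commuting with direct sums
commutes with direct sums -/
theorem preservesCoproducts_mapDerivedCategory :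
    PreservesColimitsOfShape (Discrete ι) F.mapDerivedCategory := by
  refine ⟨fun {K} => ?_⟩
  let C : ι → CochainComplex A ℤ := fun i => Q.objPreimage (K.obj ⟨i⟩)
  have e : Discrete.functor (fun i => Q.obj (C i)) ≅ K :=
    Discrete.natIso (fun i => Q.objObjPreimageIso (K.obj i))
  suffices h : PreservesColimit (Discrete.functor (fun i => Q.obj (C i))) F.mapDerivedCategory from
    preservesColimit_of_iso_diagram _ e
  let a : ∀ i, Q.obj (FX F C i) ≅ F.mapDerivedCategory.obj (Q.obj (C i)) := fun i =>
    (F.mapDerivedCategoryFactors.app (C i)).symm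
  have hB := isColimitCofan (FX F C)
  have h2 : IsIso (Q.map (κ F C)) := inferInstance
  have h1 : IsIso (Q.map (κ F C) ≫ (F.mapDerivedCategoryFactors.app (coprodCx C)).inv) :=
    IsIso.comp_isIso' h2 inferInstance
  have hcol : IsColimit (Cofan.mk (F.mapDerivedCategory.obj (Q.obj (coprodCx C)))
      (fun i => F.mapDerivedCategory.map (Q.map (coprodι C i)))) := by
    refine @isColimitCofanOfIsos _ _ _ _ _ a _ hB (Cofan.mk _ _)
      (Q.map (κ F C) ≫ (F.mapDerivedCategoryFactors.app (coprodCx C)).inv) h1 (fun i => ?_)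
    have nat := F.mapDerivedCategoryFactors.inv.naturality (coprodι C i)
    change Q.map (coprodι (FX F C) i) ≫ Q.map (κ F C) ≫ _ = _
    rw [← Category.assoc, ← Functor.map_comp, ι_κ]
    exact nat
  exact preservesColimit_of_preserves_colimit_cocone (isColimitCofan C)
    ((isColimitMapCoconeCofanMkEquiv F.mapDerivedCategory _ _).symm hcol)

end MapD

section Local

attribute [local instance] HasDerivedCategory.standard

open DerivedCategory DerivedCategory.TStructure Groth.Agent.Helper29.LRAdj TopologicalSpace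
  Groth.Agent.Helper24.WayOut Groth.Agent.Helper5.QCS

variable {Y : Scheme.{u}}

/-- quasi-coherence can be checked on the affine opens -/
lemma qc_of_restrict_affine (M : Y.Modules)
    (h : ∀ V : Y.affineOpens, qc (V.1 : Scheme.{u}) (M.restrict V.1.ι)) : qc Y M := by
  change M.IsQuasicoherent
  apply Groth.Agent.Helper13.QCohLocal.isQuasicoherent_of_restrict_fromSpec
  intro V
  haveI : (M.restrict V.1.ι).IsQuasicoherent := h V
  have e : (M.restrict V.1.ι).restrict V.2.isoSpec.inv ≅ M.restrict V.2.fromSpec :=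
    ((Scheme.Modules.restrictFunctorComp V.2.isoSpec.inv V.1.ι).app M).symm ≪≫
      (Scheme.Modules.restrictFunctorCongr V.2.isoSpec_inv_ι).app M
  exact Groth.Agent.Helper13.QCohLocal.isQuasicoherent_of_iso e

/-- restriction to an open commutes with cohomology -/
noncomputable def restrictHomologyIso (V : Y.Opens) (E : DCoh.D Y) (j : ℤ) :
    (homologyFunctor (V : Scheme.{u}).Modules j).obj ((DCoh.restrictD V.ι).obj E) ≅
      ((homologyFunctor Y.Modules j).obj E).restrict V.ι :=
  (mapDerivedCategoryHomologyIso (Scheme.Modules.restrictFunctor V.ι) j).app E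

lemma isQCohD_restrictD (V : Y.Opens) (E : DCoh.D Y) (hE : DCoh.IsQCohD E) :
    DCoh.IsQCohD ((DCoh.restrictD V.ι).obj E) := fun q => by
  haveI : ((homologyFunctor Y.Modules q).obj E).IsQuasicoherent := hE q
  exact (qc (V : Scheme.{u})).prop_of_iso (restrictHomologyIso V E q).symm
    (inferInstanceAs ((((homologyFunctor Y.Modules q).obj E).restrict V.ι).IsQuasicoherent))

variable {X S : Scheme.{u}} (f : X ⟶ S) [QuasiCompact f] [QuasiSeparated f] [DCoh.HasRpush f]

/-- `Rf_*` preserves `D_QCoh` -/
theorem qc_homology_Rpush_general (E : DCoh.D X) (hE : DCoh.IsQCohD E) (j : ℤ) :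
    qc S ((homologyFunctor S.Modules j).obj ((DCoh.Rpush f).obj E)) := by
  apply qc_of_restrict_affine
  intro V
  haveI : CompactSpace ↥(V.1 : Scheme.{u}) := isCompact_iff_compactSpace.mp V.2.isCompact
  haveI : DCoh.HasRpush (f ∣_ V.1) :=
    Groth.Agent.Helper11.KI.hasRightDerivedFunctor.{u + 1} (DCoh.pushKh (f ∣_ V.1))
  obtain ⟨θ⟩ := Groth.Agent.Helper29.OpenRes.main6508 f V.1
  obtain ⟨N, hN⟩ := exists_bound (f ∣_ V.1)
  have h1 := qc_homology_Rpush (f ∣_ V.1) N hN ((DCoh.restrictD (f ⁻¹ᵁ V.1).ι).obj E)
    (isQCohD_restrictD _ E hE) j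
  exact (qc (V.1 : Scheme.{u})).prop_of_iso
    ((homologyFunctor (V.1 : Scheme.{u}).Modules j).mapIso (θ.app E).symm ≪≫
      restrictHomologyIso V.1 _ j) h1

end Local

end Groth.Agent.Helper24.RFQc
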