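import Groth.Agent.Lib.Helper24.RFQc7

/-!
# `f_* F ⟶ Rf_* F` for complexes of `f_*`-acyclic quasi-coherent modules
-/

set_option autoImplicit false
universe w' w v' v u' u
open CategoryTheory CategoryTheory.Limits

namespace Groth.Agent.Helper24.RFQc

section Abstract

open Groth.Agent.Helper11 DerivedCategory Groth.Agent.Helper9.Leray Pretriangulated
  Groth.Agent.Helper24.DCoprod Groth.Agent.Helper29.STrunc Groth.Agent.Helper24.RFSum

variable {A : Type u} [Category.{v} A] [Abelian A] [IsGrothendieckAbelian.{v} A]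
  [HasDerivedCategory.{w} A] [HasCoproductsOfShape ℕ A] [HasExactColimitsOfShape (Discrete ℕ) A]
  {B : Type u'} [Category.{v'} B] [Abelian B] [HasDerivedCategory.{w'} B]
  [HasCoproductsOfShape ℕ B] [HasExactColimitsOfShape (Discrete ℕ) B]
  (F : A ⥤ B) [F.Additive] [PreservesFiniteLimits F] [PreservesColimitsOfShape (Discrete ℕ) F]
  (R : DerivedCategory A ⥤ DerivedCategory B)
  (β : F.mapHomotopyCategory (ComplexShape.up ℤ) ⋙ Qh ⟶ Qh ⋙ R)
  [R.IsRightDerivedFunctor β (KI.WK A)]

include F β in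
/-- variant of `RFSum.main`: only the direct sum of the stupid truncations has to be preserved -/
theorem main' (K : CochainComplex A ℤ) (hK : ∀ m, Acyc F (K.X m))
    [PreservesColimit (Discrete.functor fun n => Q.obj (Tow.X K n)) R] :
    IsIso (β.app ((KI.quo A).obj K)) := by
  have hX : ∀ m, IsIso (β.app ((KI.quo A).obj (Tow.X K m))) := fun m => by
    haveI : (Tow.X K m).IsStrictlyGE (-(m : ℤ) + 1) := isStrictlyGE_sGT K _
    exact isIso_unit_of_bddBelow F R β (Tow.X K m) (-(m : ℤ) + 1)
      (fun i => prop_sGT_X K _ (Acyc F) (fun e h => acyc_of_iso F e h)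
        (fun _ h => acyc_of_isZero F h) hK i)
  have hC : IsIso (β.app ((KI.quo A).obj (Tow.C K))) := isIso_unit_coprod F R β (Tow.X K) hX
  have hT := Tow.T_distinguished K
  have hTΦ : (F.mapHomotopyCategory (ComplexShape.up ℤ) ⋙ Qh).mapTriangle.obj (Tow.T K) ∈
      distTriang _ := (F.mapHomotopyCategory (ComplexShape.up ℤ) ⋙ Qh).map_distinguished _ hT
  have hTQ : Qh.mapTriangle.obj (Tow.T K) ∈ distTriang _ := Qh.map_distinguished _ hT
  obtain ⟨c', hT'⟩ := Groth.Agent.Helper29.TriR.exists_distinguished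
    (F.mapHomotopyCategory (ComplexShape.up ℤ) ⋙ Qh) R β _ hTQ
  refine @isIso_of_triangles _ _ _ _ ((F.mapHomotopyCategory (ComplexShape.up ℤ) ⋙
      Qh).mapTriangle.obj (Tow.T K)) _ hTΦ hT' (β.app ((KI.quo A).obj (Tow.C K)))
    (β.app ((KI.quo A).obj (Tow.C K))) (β.app ((KI.quo A).obj K)) hC hC
    (β.naturality (Tow.T K).mor₁) (β.naturality (Tow.T K).mor₂) ?_
  intro n
  rw [HomologySequence.mono_homologyMap_mor₁_iff _ hTΦ (n - 1) n (by omega),
    ← HomologySequence.epi_homologyMap_mor₂_iff _ hTΦ (n - 1) n (by omega)]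
  let m : ℕ := (2 - (n - 1)).toNat
  let φ := (F.mapHomologicalComplex (ComplexShape.up ℤ)).map (Tow.c K m)
  have hφ : ∀ i, (n - 1) - 1 ≤ i → IsIso (φ.f i) := fun i hi => by
    haveI : IsIso ((Tow.c K m).f i) := Tow.isIso_c_f K m i (by omega)
    change IsIso (F.map ((Tow.c K m).f i))
    infer_instance
  have hiso := isIso_homologyFunctor_map_Q φ (n - 1) hφ
  have hfac : (homologyFunctor B (n - 1)).map
      (Q.map ((F.mapHomologicalComplex (ComplexShape.up ℤ)).map (coprodι (Tow.X K) m))) ≫
      (homologyFunctor B (n - 1)).map ((F.mapHomotopyCategory (ComplexShape.up ℤ) ⋙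
        Qh).mapTriangle.obj (Tow.T K)).mor₂ = (homologyFunctor B (n - 1)).map (Q.map φ) := by
    rw [← Functor.map_comp]
    congr 1
    change Q.map _ ≫ Q.map ((F.mapHomologicalComplex (ComplexShape.up ℤ)).map (Tow.πC K)) = _
    rw [← Functor.map_comp, ← Functor.map_comp, Tow.πC, ι_coprodDesc]
  have hepi : Epi ((homologyFunctor B (n - 1)).map (Q.map φ)) := @IsIso.epi_of_iso _ _ _ _ _ hiso
  exact @epi_of_epi_fac _ _ _ _ _ _ _ _ hepi hfac

end Abstract

section Cofan

variable {C : Type*} [Category C] {ι ι' : Type*} (e : ι' ≃ ι) {X : ι → C}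

/-- reindexing a colimit cofan along an equivalence -/
noncomputable def isColimitCofanReindex (c : Cofan X) (hc : IsColimit c) :
    IsColimit (Cofan.mk c.pt (fun n : ι' => c.inj (e n))) :=
  Cofan.IsColimit.mk _
    (fun s => Cofan.IsColimit.desc hc (fun i => eqToHom (by rw [e.apply_symm_apply]) ≫
      s.inj (e.symm i)))
    (fun s n => by
      change c.inj (e n) ≫ _ = _
      rw [Cofan.IsColimit.fac]
      have : ∀ (n' : ι') (h : n' = n),
          eqToHom (by rw [h]) ≫ s.inj n' = s.inj n := by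
        rintro _ rfl
        simp
      exact this _ (e.symm_apply_apply n))
    (fun s m hm => by
      refine Cofan.IsColimit.hom_ext hc _ _ (fun i => ?_)
      rw [Cofan.IsColimit.fac]
      have h1 := hm (e.symm i)
      change c.inj (e (e.symm i)) ≫ m = _ at h1
      rw [← h1]
      have : ∀ (i' : ι) (h : i' = i), c.inj i ≫ m = eqToHom (by rw [h]) ≫ c.inj i' ≫ m := by
        rintro _ rfl
        simp
      exact this _ (e.apply_symm_apply i))

end Cofan

end Groth.Agent.Helper24.RFQc
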