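import Groth.Agent.Lib.Helper24.RFQc8

/-!
# `f_* F ⟶ Rf_* F` for complexes of `f_*`-acyclic quasi-coherent modules (schemes)
-/

set_option autoImplicit false
universe u
open CategoryTheory CategoryTheory.Limits AlgebraicGeometry

attribute [local instance] HasDerivedCategory.standard

namespace Groth.Agent.Helper24.RFQc

open DerivedCategory Groth.Agent.Helper9.Leray Groth.Agent.Helper24.DCoprod
  Groth.Agent.Helper29.STrunc Groth.Agent.Helper24.RFSum Groth.Agent.Helper29.LRAdj

section Homology

variable {𝒜 : Type*} [Category 𝒜] [Abelian 𝒜] (P : ObjectProperty 𝒜) [WSerre.IsWeakSerre P]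

lemma prop_homology_shortComplex (T : ShortComplex 𝒜) (h₁ : P T.X₁) (h₂ : P T.X₂) (h₃ : P T.X₃) :
    P T.homology := by
  have hc : P T.cycles := P.prop_of_isLimit_kernelFork T.cyclesIsKernel h₂ h₃
  exact P.prop_of_isColimit_cokernelCofork T.homologyIsCokernel h₁ hc

end Homology

variable {X S : Scheme.{u}}

lemma qc_homology_Q (L : CochainComplex X.Modules ℤ) (hL : ∀ i, qc X (L.X i)) (i : ℤ) :
    qc X ((homologyFunctor X.Modules i).obj (Q.obj L)) :=
  (qc X).prop_of_iso ((homologyFunctorFactors X.Modules i).app L).symm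
    (prop_homology_shortComplex (qc X) (L.sc i) (hL _) (hL _) (hL _))

variable (f : X ⟶ S) [QuasiCompact f] [QuasiSeparated f] [DCoh.HasRpush f]

/-- the canonical map `f_* F ⟶ Rf_* F` is an isomorphism for a complex of `f_*`-acyclic
quasi-coherent modules -/
theorem isIso_unit_of_acyclic_qcoh (F : CochainComplex X.Modules ℤ) (hq : ∀ n, qc X (F.X n))
    (hac : ∀ n, Acyc (Scheme.Modules.pushforward f) (F.X n)) :
    IsIso ((βf f).app ((HomotopyCategory.quotient X.Modules (ComplexShape.up ℤ)).obj F)) := by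
  haveI : HasFiniteBiproducts X.Modules := Abelian.hasFiniteBiproducts
  haveI : HasFiniteBiproducts S.Modules := Abelian.hasFiniteBiproducts
  haveI : AB4 X.Modules := AB4.of_AB5 _
  haveI : AB4 S.Modules := AB4.of_AB5 _
  haveI : PreservesColimitsOfShape (Discrete (ULift.{u} ℕ)) (Scheme.Modules.pushforward f) :=
    Groth.Agent.Helper24.RFSumSch.preservesCoprod_push f
  haveI : PreservesColimitsOfShape (Discrete ℕ) (Scheme.Modules.pushforward f) :=
    preservesColimitsOfShape_of_equiv (Discrete.equivalence Equiv.ulift) _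
  -- the direct sum of the stupid truncations is preserved
  have hqc : ∀ n : ℕ, DCoh.IsQCohD (Q.obj (Tow.X F n)) := fun n i =>
    qc_homology_Q (Tow.X F n) (fun k => prop_sGT_X F _ (fun M => qc X M)
      (fun e h => (qc X).prop_of_iso e h) (fun _ h => qc_of_isZero X h) hq k) i
  have hiso := isIso_sigmaDesc_Rpush_general f
    (fun n : ULift.{u} ℕ => Q.obj (Tow.X F n.down)) (fun n => hqc n.down)
  haveI : PreservesColimit (Discrete.functor (fun n : ULift.{u} ℕ => Q.obj (Tow.X F n.down)))
      (DCoh.Rpush f) := @PreservesCoproduct.of_iso_comparison _ _ _ _ _ _ _ _ _ hiso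
  have hc := isColimitCofan (Tow.X F)
  have hc' := isColimitCofanReindex (Equiv.ulift.{u} (α := ℕ)) _ hc
  have hRc' : IsColimit (Cofan.mk ((DCoh.Rpush f).obj (Q.obj (coprodCx (Tow.X F))))
      (fun n : ULift.{u} ℕ => (DCoh.Rpush f).map (Q.map (coprodι (Tow.X F) n.down)))) :=
    isColimitCofanMkObjOfIsColimit (DCoh.Rpush f) _ _ hc'
  have hRc : IsColimit (Cofan.mk ((DCoh.Rpush f).obj (Q.obj (coprodCx (Tow.X F))))
      (fun n : ℕ => (DCoh.Rpush f).map (Q.map (coprodι (Tow.X F) n)))) :=
    isColimitCofanReindex (Equiv.ulift.{u} (α := ℕ)).symm _ hRc'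
  haveI : PreservesColimit (Discrete.functor fun n => Q.obj (Tow.X F n)) (DCoh.Rpush f) :=
    preservesColimit_of_preserves_colimit_cocone hc
      ((isColimitMapCoconeCofanMkEquiv (DCoh.Rpush f) _ _).symm hRc)
  exact main' (Scheme.Modules.pushforward f) (DCoh.Rpush f) (βf f) F hac

end Groth.Agent.Helper24.RFQc
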