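import Mathlib

/-!
# Preservation of coproducts from finite coproducts and filtered colimits; misc categorical lemmas
-/

set_option autoImplicit false
universe w v' v u' u
open CategoryTheory CategoryTheory.Limits

namespace Groth.Agent.Helper24.RFSum

section PresCoprod

open CoproductsFromFiniteFiltered

variable {C : Type u} [Category.{v} C] {D : Type u'} [Category.{v'} D] [HasFiniteCoproducts C]
  (G : C ⥤ D) [PreservesFiniteCoproducts G] {α : Type w} (f : α → C) [HasCoproduct f]

/-- the image under `G` of a finite subcoproduct is a coproduct -/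
noncomputable def isColimitFin (S : Finset (Discrete α)) :
    IsColimit (Cofan.mk (G.obj ((liftToFinsetObj (Discrete.functor f)).obj S))
      (fun x : S => G.map (Sigma.ι (fun x : S => (Discrete.functor f).obj x.1) x))) :=
  isColimitCofanMkObjOfIsColimit G _ _ (coproductIsCoproduct (fun x : S => (Discrete.functor f).obj x.1))

set_option backward.isDefEq.respectTransparency false in
lemma ι_liftToFinsetObj_map {S S' : Finset (Discrete α)} (h : S ⟶ S') (x : S) :
    (Sigma.ι (fun x : S => (Discrete.functor f).obj x.1) x :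
        _ ⟶ (liftToFinsetObj (Discrete.functor f)).obj S) ≫
      (liftToFinsetObj (Discrete.functor f)).map h =
    (Sigma.ι (fun x : S' => (Discrete.functor f).obj x.1) ⟨x.1, h.down.down x.2⟩ :
        _ ⟶ (liftToFinsetObj (Discrete.functor f)).obj S') := by
  simp [liftToFinsetObj]

set_option backward.isDefEq.respectTransparency false in
lemma ι_finiteSubcoproductsCocone (S : Finset (Discrete α)) (x : S) :
    (Sigma.ι (fun x : S => (Discrete.functor f).obj x.1) x :
        _ ⟶ (liftToFinsetObj (Discrete.functor f)).obj S) ≫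
      (finiteSubcoproductsCocone f).ι.app S = Sigma.ι f x.1.as := by
  simp [finiteSubcoproductsCocone]

/-- the cocone under the images of the finite subcoproducts induced by a cofan -/
noncomputable def finCocone (s : Cofan (fun a => G.obj (f a))) :
    Cocone (liftToFinsetObj (Discrete.functor f) ⋙ G) where
  pt := s.pt
  ι :=
    { app := fun S => Cofan.IsColimit.desc (isColimitFin G f S) (fun x => s.inj x.1.as)
      naturality := fun S S' h => by
        refine Cofan.IsColimit.hom_ext (isColimitFin G f S) _ _ (fun x => ?_)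
        have h1 := Cofan.IsColimit.fac (isColimitFin G f S) (fun x => s.inj x.1.as) x
        have h2 := Cofan.IsColimit.fac (isColimitFin G f S') (fun x => s.inj x.1.as)
          ⟨x.1, h.down.down x.2⟩
        have e1 := congrArg G.map (ι_liftToFinsetObj_map f h x)
        have e2 : G.map (Sigma.ι (fun x : S => (Discrete.functor f).obj x.1) x) ≫
            (G.map ((liftToFinsetObj (Discrete.functor f)).map h) ≫
              Cofan.IsColimit.desc (isColimitFin G f S') (fun x => s.inj x.1.as)) =
            s.inj x.1.as := by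
          rw [← Category.assoc, ← G.map_comp]
          exact (congrArg (· ≫ Cofan.IsColimit.desc (isColimitFin G f S')
            (fun x => s.inj x.1.as)) e1).trans h2
        have e3 : G.map (Sigma.ι (fun x : S => (Discrete.functor f).obj x.1) x) ≫
            (Cofan.IsColimit.desc (isColimitFin G f S) (fun x => s.inj x.1.as) ≫ 𝟙 s.pt) =
            s.inj x.1.as := by
          rw [Category.comp_id]
          exact h1
        exact e2.trans e3.symm }

variable [HasColimitsOfShape (Finset (Discrete α)) C]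
  [PreservesColimitsOfShape (Finset (Discrete α)) G]

/-- `G` maps the coproduct to a coproduct -/
noncomputable def isColimitMapSigma :
    IsColimit (Cofan.mk (G.obj (∐ f)) (fun a => G.map (Sigma.ι f a))) := by
  have hG : IsColimit (G.mapCocone (finiteSubcoproductsCocone f)) :=
    isColimitOfPreserves G (isColimitFiniteSubproductsCocone f)
  refine Cofan.IsColimit.mk _ (fun s => hG.desc (finCocone G f s)) (fun s a => ?_) (fun s m hm => ?_)
  · let S : Finset (Discrete α) := {⟨a⟩}
    let x : S := ⟨⟨a⟩, Finset.mem_singleton_self _⟩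
    have e1 := congrArg G.map (ι_finiteSubcoproductsCocone f S x)
    have e2 : G.map ((finiteSubcoproductsCocone f).ι.app S) ≫ hG.desc (finCocone G f s) =
        (finCocone G f s).ι.app S := hG.fac (finCocone G f s) S
    have e3 : G.map (Sigma.ι (fun x : S => (Discrete.functor f).obj x.1) x) ≫
        (finCocone G f s).ι.app S = s.inj a :=
      Cofan.IsColimit.fac (isColimitFin G f S) (fun x => s.inj x.1.as) x
    have e4 : G.map (Sigma.ι f a) ≫ hG.desc (finCocone G f s) = s.inj a :=
      (congrArg (· ≫ hG.desc (finCocone G f s)) e1.symm).trans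
        ((congrArg (· ≫ hG.desc (finCocone G f s)) (G.map_comp _ _)).trans
          ((Category.assoc _ _ _).trans
            ((congrArg (G.map (Sigma.ι (fun x : S => (Discrete.functor f).obj x.1) x) ≫ ·) e2).trans
              e3)))
    exact e4
  · refine hG.uniq (finCocone G f s) m (fun S => ?_)
    refine Cofan.IsColimit.hom_ext (isColimitFin G f S) _ _ (fun x => ?_)
    have e1 := congrArg G.map (ι_finiteSubcoproductsCocone f S x)
    have e3 : G.map (Sigma.ι (fun x : S => (Discrete.functor f).obj x.1) x) ≫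
        (finCocone G f s).ι.app S = s.inj x.1.as :=
      Cofan.IsColimit.fac (isColimitFin G f S) (fun x => s.inj x.1.as) x
    have e5 : G.map (Sigma.ι (fun x : S => (Discrete.functor f).obj x.1) x) ≫
        (G.map ((finiteSubcoproductsCocone f).ι.app S) ≫ m) = s.inj x.1.as :=
      (Category.assoc _ _ _).symm.trans
        ((congrArg (· ≫ m) (G.map_comp _ _).symm).trans
          ((congrArg (· ≫ m) e1).trans (hm x.1.as)))
    exact e5.trans e3.symm

/-- `G` preserves the coproduct -/
lemma preservesColimit_discrete : PreservesColimit (Discrete.functor f) G :=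
  preservesColimit_of_preserves_colimit_cocone (coproductIsCoproduct f)
    ((isColimitMapCoconeCofanMkEquiv G f _).symm (isColimitMapSigma G f))

end PresCoprod

section Misc

lemma isIso_of_isColimit_cofans {D : Type*} [Category D] {ι : Type*} {X Y : ι → D}
    (a : ∀ n, X n ≅ Y n) {P P' : D} (j : ∀ n, X n ⟶ P) (hP : IsColimit (Cofan.mk P j))
    (j' : ∀ n, Y n ⟶ P') (hP' : IsColimit (Cofan.mk P' j')) (φ : P ⟶ P')
    (hφ : ∀ n, j n ≫ φ = (a n).hom ≫ j' n) : IsIso φ := by
  let ψ : P' ⟶ P := Cofan.IsColimit.desc hP' (fun n => (a n).inv ≫ j n)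
  have hψ : ∀ n, j' n ≫ ψ = (a n).inv ≫ j n := fun n =>
    Cofan.IsColimit.fac hP' (fun n => (a n).inv ≫ j n) n
  refine ⟨ψ, ?_, ?_⟩
  · refine Cofan.IsColimit.hom_ext hP _ _ (fun n => ?_)
    change j n ≫ φ ≫ ψ = j n ≫ 𝟙 _
    rw [← Category.assoc, hφ, Category.assoc, hψ, Iso.hom_inv_id_assoc, Category.comp_id]
  · refine Cofan.IsColimit.hom_ext hP' _ _ (fun n => ?_)
    change j' n ≫ ψ ≫ φ = j' n ≫ 𝟙 _
    rw [← Category.assoc, hψ, Category.assoc, hφ, Iso.inv_hom_id_assoc, Category.comp_id]

lemma isIso_of_exact_epi {ℬ : Type*} [Category ℬ] [Abelian ℬ] {A₁ A₂ A₃ B₁ B₂ B₃ : ℬ}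
    (f : A₁ ⟶ A₂) (g : A₂ ⟶ A₃) (f' : B₁ ⟶ B₂) (g' : B₂ ⟶ B₃)
    (w : f ≫ g = 0) (w' : f' ≫ g' = 0) (hE : (ShortComplex.mk f g w).Exact)
    (hE' : (ShortComplex.mk f' g' w').Exact) [Epi g] [Epi g']
    (α₁ : A₁ ⟶ B₁) (α₂ : A₂ ⟶ B₂) (α₃ : A₃ ⟶ B₃) [IsIso α₁] [IsIso α₂]
    (c₁ : f ≫ α₂ = α₁ ≫ f') (c₂ : g ≫ α₃ = α₂ ≫ g') : IsIso α₃ := by
  haveI : Epi (ShortComplex.mk f' g' w').g := inferInstanceAs (Epi g')
  have hc : IsColimit (CokernelCofork.ofπ g' w') := hE'.gIsCokernel
  have hz : f' ≫ inv α₂ ≫ g = 0 := by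
    have : f' = inv α₁ ≫ f ≫ α₂ := by rw [c₁, IsIso.inv_hom_id_assoc]
    rw [this, Category.assoc, Category.assoc, IsIso.hom_inv_id_assoc, w, comp_zero]
  let ψ : B₃ ⟶ A₃ := hc.desc (CokernelCofork.ofπ (inv α₂ ≫ g) hz)
  have hψ : g' ≫ ψ = inv α₂ ≫ g := hc.fac (CokernelCofork.ofπ (inv α₂ ≫ g) hz) WalkingParallelPair.one
  refine ⟨ψ, ?_, ?_⟩
  · rw [← cancel_epi g, ← Category.assoc, c₂, Category.assoc, hψ, IsIso.hom_inv_id_assoc,
      Category.comp_id]
  · rw [← cancel_epi g', ← Category.assoc, hψ, Category.assoc, c₂, IsIso.inv_hom_id_assoc,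
      Category.comp_id]

end Misc

end Groth.Agent.Helper24.RFSum
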