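import Mathlib

/-!
# The telescope sequence of an eventually constant tower is split
-/

set_option autoImplicit false
universe v u
open CategoryTheory CategoryTheory.Limits

namespace Groth.Agent.Helper24.RFSum

namespace Tel

variable {𝒞 : Type u} [Category.{v} 𝒞] [Preadditive 𝒞] (Y : ℕ → 𝒞) [HasCoproduct Y]
  (s : ∀ m, Y m ⟶ Y (m + 1)) {Z : 𝒞} (c : ∀ m, Y m ⟶ Z)

/-- the shift map -/
noncomputable def sh : ∐ Y ⟶ ∐ Y := Sigma.desc (fun m => s m ≫ Sigma.ι Y (m + 1))

/-- the projection to the colimit -/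
noncomputable def π : ∐ Y ⟶ Z := Sigma.desc c

@[reassoc (attr := simp)]
lemma ι_sh (m : ℕ) : Sigma.ι Y m ≫ sh Y s = s m ≫ Sigma.ι Y (m + 1) := Sigma.ι_desc _ _

@[reassoc (attr := simp)]
lemma ι_π (m : ℕ) : Sigma.ι Y m ≫ π Y c = c m := Sigma.ι_desc _ _

variable (hc : ∀ m, s m ≫ c (m + 1) = c m)

include hc in
lemma one_sub_sh_π : (𝟙 _ - sh Y s) ≫ π Y c = 0 := by
  apply Sigma.hom_ext
  intro m
  rw [Preadditive.sub_comp, Preadditive.comp_sub, Category.id_comp, ι_π, ι_sh_assoc, ι_π, hc,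
    sub_self, comp_zero]

/-- the telescope short complex -/
noncomputable def sc : ShortComplex 𝒞 := ShortComplex.mk (𝟙 _ - sh Y s) (π Y c) (one_sub_sh_π Y s c hc)

variable (N : ℕ) (hz : ∀ m, m < N → IsZero (Y m)) (hi : ∀ m, N ≤ m → IsIso (c m))

open Classical in
/-- the inverses of the eventually invertible cocone maps -/
noncomputable def v (k : ℕ) : Z ⟶ Y k :=
  if h : N ≤ k then @inv _ _ _ _ (c k) (hi k h) else 0

lemma v_of_le (k : ℕ) (h : N ≤ k) : v Y c N hi k = @inv _ _ _ _ (c k) (hi k h) := dif_pos h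

lemma v_of_lt (k : ℕ) (h : k < N) : v Y c N hi k = 0 := dif_neg (by omega)

include hz in
lemma c_v (k : ℕ) : c k ≫ v Y c N hi k = 𝟙 _ := by
  by_cases h : N ≤ k
  · rw [v_of_le Y c N hi k h]
    haveI := hi k h
    exact IsIso.hom_inv_id _
  · exact (hz k (by omega)).eq_of_src _ _

lemma v_c (k : ℕ) (h : N ≤ k) : v Y c N hi k ≫ c k = 𝟙 _ := by
  rw [v_of_le Y c N hi k h]
  haveI := hi k h
  exact IsIso.inv_hom_id _

include hc hz in
lemma v_s (k : ℕ) (h : N ≤ k) : v Y c N hi k ≫ s k = v Y c N hi (k + 1) := by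
  have h1 : s k = c k ≫ v Y c N hi (k + 1) := by
    rw [← hc k, Category.assoc, c_v Y c N hz hi (k + 1), Category.comp_id]
  rw [h1, ← Category.assoc, v_c Y c N hi k h, Category.id_comp]

/-- the retraction -/
noncomputable def r : ∐ Y ⟶ ∐ Y :=
  Sigma.desc (fun m => - ∑ k ∈ Finset.range m, c m ≫ v Y c N hi k ≫ Sigma.ι Y k)

/-- the section -/
noncomputable def σ : Z ⟶ ∐ Y := v Y c N hi N ≫ Sigma.ι Y N

@[reassoc]
lemma ι_r (m : ℕ) : Sigma.ι Y m ≫ r Y c N hi =
    - ∑ k ∈ Finset.range m, c m ≫ v Y c N hi k ≫ Sigma.ι Y k := Sigma.ι_desc _ _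

include hc hz in
lemma tel (m : ℕ) :
    ∑ k ∈ Finset.range m, (v Y c N hi k ≫ Sigma.ι Y k - v Y c N hi k ≫ s k ≫ Sigma.ι Y (k + 1)) =
      if N ≤ m then v Y c N hi N ≫ Sigma.ι Y N - v Y c N hi m ≫ Sigma.ι Y m else 0 := by
  induction m with
  | zero =>
    rw [Finset.range_zero, Finset.sum_empty]
    split_ifs with h
    · obtain rfl : N = 0 := by omega
      rw [sub_self]
    · rfl
  | succ m ih =>
    rw [Finset.sum_range_succ, ih]
    by_cases h : N ≤ m
    · rw [if_pos h, if_pos (by omega : N ≤ m + 1), ← Category.assoc (v Y c N hi m),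
        v_s Y s c hc N hz hi m h]
      abel
    · rw [if_neg h, v_of_lt Y c N hi m (by omega), zero_comp, zero_comp, sub_self, add_zero]
      split_ifs with h'
      · obtain rfl : N = m + 1 := by omega
        rw [sub_self]
      · rfl

include hc hz in
lemma f_r_aux : (𝟙 _ - sh Y s) ≫ r Y c N hi = 𝟙 _ := by
  apply Sigma.hom_ext
  intro m
  rw [Preadditive.sub_comp, Preadditive.comp_sub, Category.id_comp, ι_sh_assoc, ι_r, ι_r,
    Category.comp_id, Finset.sum_range_succ, Preadditive.comp_neg, Preadditive.comp_add,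
    Preadditive.comp_sum]
  have : ∀ k, s m ≫ c (m + 1) ≫ v Y c N hi k ≫ Sigma.ι Y k = c m ≫ v Y c N hi k ≫ Sigma.ι Y k :=
    fun k => by rw [← Category.assoc, hc]
  simp only [this]
  rw [← Category.assoc (c m), c_v Y c N hz hi m, Category.id_comp]
  abel

lemma s_g_aux : σ Y c N hi ≫ π Y c = 𝟙 _ := by
  change (v Y c N hi N ≫ Sigma.ι Y N) ≫ π Y c = 𝟙 _
  rw [Category.assoc, ι_π, v_c Y c N hi N le_rfl]

include hc hz in
lemma id_aux : r Y c N hi ≫ (𝟙 _ - sh Y s) + π Y c ≫ σ Y c N hi = 𝟙 _ := by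
  apply Sigma.hom_ext
  intro m
  by_cases h : N ≤ m
  · rw [Preadditive.comp_add, ι_r_assoc, ι_π_assoc, Category.comp_id, Preadditive.neg_comp,
      Preadditive.sum_comp]
    have h1 : ∀ k, (c m ≫ v Y c N hi k ≫ Sigma.ι Y k) ≫ (𝟙 _ - sh Y s) =
        c m ≫ (v Y c N hi k ≫ Sigma.ι Y k - v Y c N hi k ≫ s k ≫ Sigma.ι Y (k + 1)) := fun k => by
      rw [Preadditive.comp_sub, Category.comp_id, Preadditive.comp_sub, Category.assoc,
        Category.assoc, ι_sh]
    simp only [h1]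
    rw [← Preadditive.comp_sum, tel Y s c hc N hz hi m, if_pos h, Preadditive.comp_sub,
      ← Category.assoc (c m) (v Y c N hi m), c_v Y c N hz hi m, Category.id_comp]
    change _ + c m ≫ v Y c N hi N ≫ Sigma.ι Y N = _
    abel
  · exact (hz m (by omega)).eq_of_src _ _

/-- the telescope short complex is split -/
noncomputable def splitting : (sc Y s c hc).Splitting where
  r := r Y c N hi
  s := σ Y c N hi
  f_r := f_r_aux Y s c hc N hz hi
  s_g := s_g_aux Y c N hi
  id := id_aux Y s c hc N hz hi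

end Tel

end Groth.Agent.Helper24.RFSum
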