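import Groth.Agent.Lib.Helper24.RFSum2
import Groth.Agent.Lib.Helper24.DCoprod1
import Groth.Agent.Lib.Helper29.STrunc

/-!
# The telescope triangle of the tower of stupid truncations
-/

set_option autoImplicit false
universe v u
open CategoryTheory CategoryTheory.Limits

namespace Groth.Agent.Helper24.RFSum

namespace Tow

open Groth.Agent.Helper29.STrunc Groth.Agent.Helper24.DCoprod

variable {𝒜 : Type u} [Category.{v} 𝒜] [Abelian 𝒜] [HasCoproductsOfShape ℕ 𝒜]
  (K : CochainComplex 𝒜 ℤ)

/-- the tower of stupid truncations `σ_{> -m} K` -/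
noncomputable def X (m : ℕ) : CochainComplex 𝒜 ℤ := sGT K (-(m : ℤ))

/-- the transition maps -/
noncomputable def s (m : ℕ) : X K m ⟶ X K (m + 1) :=
  incl K (by push_cast; omega : -((m + 1 : ℕ) : ℤ) ≤ -(m : ℤ))

/-- the cocone maps -/
noncomputable def c (m : ℕ) : X K m ⟶ K := ιGT K (-(m : ℤ))

lemma s_c (m : ℕ) : s K m ≫ c K (m + 1) = c K m := incl_ι K _

lemma isZero_X_X (m : ℕ) (i : ℤ) (h : i ≤ -(m : ℤ)) : IsZero ((X K m).X i) := isZero_sGT_X K _ i h

lemma isIso_c_f (m : ℕ) (i : ℤ) (h : -(m : ℤ) < i) : IsIso ((c K m).f i) := isIso_ιGT_f K _ i h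

/-- the coproduct of the tower -/
noncomputable abbrev C : CochainComplex 𝒜 ℤ := coprodCx (X K)

/-- the shift map -/
noncomputable def shC : C K ⟶ C K := coprodDesc (fun m => s K m ≫ coprodι (X K) (m + 1))

/-- the projection -/
noncomputable def πC : C K ⟶ K := coprodDesc (c K)

lemma one_sub_shC_πC : (𝟙 _ - shC K) ≫ πC K = 0 := by
  apply coprod_hom_ext
  intro m
  rw [Preadditive.sub_comp, Preadditive.comp_sub, Category.id_comp, comp_zero, πC, shC,
    ι_coprodDesc, ι_coprodDesc_assoc, Category.assoc, ι_coprodDesc, s_c, sub_self]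

/-- the telescope short complex of complexes -/
noncomputable def S : ShortComplex (CochainComplex 𝒜 ℤ) :=
  ShortComplex.mk (𝟙 _ - shC K) (πC K) (one_sub_shC_πC K)

/-- the degreewise splittings -/
noncomputable def σ (i : ℤ) :
    ((S K).map (HomologicalComplex.eval 𝒜 (ComplexShape.up ℤ) i)).Splitting :=
  Tel.splitting (fun m => (X K m).X i) (fun m => (s K m).f i) (fun m => (c K m).f i)
    (fun m => by
      have := congrArg (fun φ => φ.f i) (s_c K m)
      exact this)
    (1 - i).toNat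
    (fun m hm => isZero_X_X K m i (by omega))
    (fun m hm => isIso_c_f K m i (by omega))

open Pretriangulated in
/-- the telescope triangle in the homotopy category -/
noncomputable def T : Pretriangulated.Triangle (HomotopyCategory 𝒜 (ComplexShape.up ℤ)) :=
  CochainComplex.trianglehOfDegreewiseSplit (S K) (σ K)

open Pretriangulated in
lemma T_distinguished : T K ∈ distTriang _ :=
  (HomotopyCategory.distinguished_iff_iso_trianglehOfDegreewiseSplit _).2
    ⟨S K, σ K, ⟨Iso.refl _⟩⟩

lemma T_obj₁ : (T K).obj₁ = (HomotopyCategory.quotient 𝒜 (ComplexShape.up ℤ)).obj (C K) := rfl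

lemma T_obj₂ : (T K).obj₂ = (HomotopyCategory.quotient 𝒜 (ComplexShape.up ℤ)).obj (C K) := rfl

lemma T_obj₃ : (T K).obj₃ = (HomotopyCategory.quotient 𝒜 (ComplexShape.up ℤ)).obj K := rfl

lemma T_mor₁ : (T K).mor₁ =
    (HomotopyCategory.quotient 𝒜 (ComplexShape.up ℤ)).map (𝟙 _ - shC K) := rfl

lemma T_mor₂ : (T K).mor₂ = (HomotopyCategory.quotient 𝒜 (ComplexShape.up ℤ)).map (πC K) := rfl

end Tow

end Groth.Agent.Helper24.RFSum
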