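import Groth.Agent.Lib.Helper24.RFSum1
import Groth.Agent.Lib.Helper24.RFSum3
import Groth.Agent.Lib.Helper24.DCoprod2
import Groth.Agent.Lib.Helper29.TriR
import Groth.Agent.Lib.Helper9.Leray2

/-!
# `F(K) ⟶ RF(K)` is an isomorphism for complexes with `F`-acyclic terms when `RF` commutes with
countable direct sums
-/

set_option autoImplicit false
universe w' w v' v u' u
open CategoryTheory CategoryTheory.Limits

namespace Groth.Agent.Helper24.RFSum

open Groth.Agent.Helper11 DerivedCategory Groth.Agent.Helper9.Leray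

section BddBelow

variable {A : Type u} [Category.{v} A] [Abelian A] [IsGrothendieckAbelian.{v} A]
  [HasDerivedCategory.{w} A]
  {B : Type u'} [Category.{v'} B] [Abelian B] [HasDerivedCategory.{w'} B]
  (F : A ⥤ B) [F.Additive] [PreservesFiniteLimits F]
  (R : DerivedCategory A ⥤ DerivedCategory B)
  (β : F.mapHomotopyCategory (ComplexShape.up ℤ) ⋙ Qh ⟶ Qh ⋙ R)
  [R.IsRightDerivedFunctor β (KI.WK A)]

/-- Leray's acyclicity lemma for the unbounded derived functor -/
theorem isIso_unit_of_bddBelow (L : CochainComplex A ℤ) (n : ℤ) [L.IsStrictlyGE n]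
    (hL : ∀ m, Acyc F (L.X m)) : IsIso (β.app ((KI.quo A).obj L)) := by
  obtain ⟨L', i, hi, hi', hL', hL''⟩ :=
    CochainComplex.Plus.modelCategoryQuillen.exists_mono_quasiIso_injective L (n - 1) n (by omega)
  haveI : L'.IsKInjective := CochainComplex.isKInjective_of_injective L' (n - 1)
  have h1 : IsIso (β.app ((KI.quo A).obj L')) := KI.isIso_unit.{w} _ R β L'
  have hq : QuasiIso ((F.mapHomologicalComplex (ComplexShape.up ℤ)).map i) :=
    quasiIso_map_of_mono F i (n - 1) hL (fun m => acyc_of_injective F (L'.X m))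
  have h2 : IsIso (Q.map ((F.mapHomologicalComplex (ComplexShape.up ℤ)).map i)) := by
    rw [DerivedCategory.isIso_Q_map_iff_quasiIso]
    exact hq
  have h3 : IsIso (Q.map i) := by
    rw [DerivedCategory.isIso_Q_map_iff_quasiIso]
    exact hi'
  have h4 : IsIso (R.map (Q.map i)) := inferInstance
  have nat : Q.map ((F.mapHomologicalComplex (ComplexShape.up ℤ)).map i) ≫
      β.app ((KI.quo A).obj L') = β.app ((KI.quo A).obj L) ≫ R.map (Q.map i) :=
    β.naturality ((KI.quo A).map i)
  have h5 : IsIso (β.app ((KI.quo A).obj L) ≫ R.map (Q.map i)) := by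
    rw [← nat]
    exact IsIso.comp_isIso' h2 h1
  exact @IsIso.of_isIso_comp_right _ _ _ _ _ (β.app ((KI.quo A).obj L)) (R.map (Q.map i)) h4 h5

end BddBelow

section AcycCoprod

variable {A : Type u} [Category.{v} A] [Abelian A] [EnoughInjectives A]
  [HasCoproductsOfShape ℕ A] [HasColimitsOfShape (Finset (Discrete ℕ)) A]
  {B : Type u'} [Category.{v'} B] [Abelian B] (F : A ⥤ B) [F.Additive]
  (hcolim : ∀ n : ℕ, PreservesColimitsOfShape (Finset (Discrete ℕ)) (F.rightDerived n))

include hcolim in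
theorem acyc_sigma (Y : ℕ → A) (hY : ∀ m, Acyc F (Y m)) : Acyc F (∐ Y) := by
  intro i hi
  haveI := hcolim i
  have hcol := isColimitMapSigma (F.rightDerived i) Y
  rw [IsZero.iff_id_eq_zero]
  exact Cofan.IsColimit.hom_ext hcol _ _ (fun m => (hY m i hi).eq_of_src _ _)

end AcycCoprod

section Coprod

open Groth.Agent.Helper24.DCoprod

variable {A : Type u} [Category.{v} A] [Abelian A] [IsGrothendieckAbelian.{v} A]
  [HasDerivedCategory.{w} A] [HasCoproductsOfShape ℕ A] [HasExactColimitsOfShape (Discrete ℕ) A]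
  {B : Type u'} [Category.{v'} B] [Abelian B] [HasDerivedCategory.{w'} B]
  [HasCoproductsOfShape ℕ B] [HasExactColimitsOfShape (Discrete ℕ) B]
  (F : A ⥤ B) [F.Additive] [PreservesColimitsOfShape (Discrete ℕ) F]
  (R : DerivedCategory A ⥤ DerivedCategory B)
  (β : F.mapHomotopyCategory (ComplexShape.up ℤ) ⋙ Qh ⟶ Qh ⋙ R)
  [R.IsRightDerivedFunctor β (KI.WK A)]

/-- the image under `F` of the complexes of a family -/
noncomputable abbrev FX (X : ℕ → CochainComplex A ℤ) (n : ℕ) : CochainComplex B ℤ :=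
  (F.mapHomologicalComplex (ComplexShape.up ℤ)).obj (X n)

/-- the comparison map `∐ F(X) ⟶ F(∐ X)` -/
noncomputable def κ (X : ℕ → CochainComplex A ℤ) :
    coprodCx (FX F X) ⟶ (F.mapHomologicalComplex (ComplexShape.up ℤ)).obj (coprodCx X) :=
  coprodDesc fun n => (F.mapHomologicalComplex (ComplexShape.up ℤ)).map (coprodι X n)

lemma ι_κ (X : ℕ → CochainComplex A ℤ) (n : ℕ) :
    coprodι (FX F X) n ≫ κ F X = (F.mapHomologicalComplex (ComplexShape.up ℤ)).map (coprodι X n) :=
  ι_coprodDesc _ n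

lemma κ_f (X : ℕ → CochainComplex A ℤ) (i : ℤ) :
    (κ F X).f i = sigmaComparison F (fun n => (X n).X i) := by
  refine Sigma.hom_ext (f := fun n => F.obj ((X n).X i)) _ _ (fun n => ?_)
  have h1 : (coprodι (FX F X) n).f i ≫ (κ F X).f i = F.map ((coprodι X n).f i) :=
    congrArg (fun (x : FX F X n ⟶ _) => x.f i) (ι_κ F X n)
  exact h1.trans (ι_comp_sigmaComparison F (fun n => (X n).X i) n).symm

instance (X : ℕ → CochainComplex A ℤ) : IsIso (κ F X) := by
  have : ∀ i, IsIso ((κ F X).f i) := fun i => by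
    have h : IsIso (sigmaComparison F (fun n => (X n).X i)) := inferInstance
    rw [κ_f]
    exact h
  exact HomologicalComplex.Hom.isIso_of_components _

include F β in
theorem isIso_unit_coprod (X : ℕ → CochainComplex A ℤ)
    [PreservesColimit (Discrete.functor fun n => Q.obj (X n)) R]
    (hX : ∀ n, IsIso (β.app ((KI.quo A).obj (X n)))) :
    IsIso (β.app ((KI.quo A).obj (coprodCx X))) := by
  have hA := isColimitCofan X
  have hRA : IsColimit (Cofan.mk (R.obj (Q.obj (coprodCx X)))
      (fun m => R.map (Q.map (coprodι X m)))) := isColimitCofanMkObjOfIsColimit R _ _ hA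
  have hB := isColimitCofan (FX F X)
  let a : ∀ n, Q.obj (FX F X n) ≅ R.obj (Q.obj (X n)) := fun n =>
    @asIso _ _ _ _ (β.app ((KI.quo A).obj (X n))) (hX n)
  let βC : Q.obj ((F.mapHomologicalComplex (ComplexShape.up ℤ)).obj (coprodCx X)) ⟶
      R.obj (Q.obj (coprodCx X)) := β.app ((KI.quo A).obj (coprodCx X))
  have h1 : IsIso (Q.map (κ F X) ≫ βC) := by
    refine isIso_of_isColimit_cofans a _ hB _ hRA _ (fun n => ?_)
    have nat : Q.map ((F.mapHomologicalComplex (ComplexShape.up ℤ)).map (coprodι X n)) ≫ βC =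
        (a n).hom ≫ R.map (Q.map (coprodι X n)) :=
      β.naturality ((KI.quo A).map (coprodι X n))
    rw [← Category.assoc, ← Functor.map_comp, ι_κ, nat]
  have h2 : IsIso (Q.map (κ F X)) := inferInstance
  exact @IsIso.of_isIso_comp_left _ _ _ _ _ (Q.map (κ F X)) βC h2 h1

end Coprod

section Tri

open Pretriangulated

variable {B : Type u'} [Category.{v'} B] [Abelian B] [HasDerivedCategory.{w'} B]

/-- comparison of two distinguished triangles whose first map is injective on cohomology -/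
theorem isIso_of_triangles (T T' : Triangle (DerivedCategory B)) (hT : T ∈ distTriang _)
    (hT' : T' ∈ distTriang _) (a : T.obj₁ ⟶ T'.obj₁) (b : T.obj₂ ⟶ T'.obj₂) (c : T.obj₃ ⟶ T'.obj₃)
    [IsIso a] [IsIso b] (c₁ : T.mor₁ ≫ b = a ≫ T'.mor₁) (c₂ : T.mor₂ ≫ c = b ≫ T'.mor₂)
    (hm : ∀ n, Mono ((homologyFunctor B n).map T.mor₁)) : IsIso c := by
  rw [DerivedCategory.isIso_iff]
  intro n
  have hm' : ∀ n, Mono ((homologyFunctor B n).map T'.mor₁) := fun n => by
    have h1 : T'.mor₁ = inv a ≫ T.mor₁ ≫ b := by rw [c₁, IsIso.inv_hom_id_assoc]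
    rw [h1, Functor.map_comp, Functor.map_comp]
    haveI := hm n
    infer_instance
  have he : Epi ((homologyFunctor B n).map T.mor₂) :=
    (HomologySequence.epi_homologyMap_mor₂_iff T hT n (n + 1) rfl).2
      ((HomologySequence.mono_homologyMap_mor₁_iff T hT n (n + 1) rfl).1 (hm (n + 1)))
  have he' : Epi ((homologyFunctor B n).map T'.mor₂) :=
    (HomologySequence.epi_homologyMap_mor₂_iff T' hT' n (n + 1) rfl).2
      ((HomologySequence.mono_homologyMap_mor₁_iff T' hT' n (n + 1) rfl).1 (hm' (n + 1)))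
  exact isIso_of_exact_epi _ _ _ _ _ _ (HomologySequence.exact₂ T hT n)
    (HomologySequence.exact₂ T' hT' n) ((homologyFunctor B n).map a) ((homologyFunctor B n).map b)
    ((homologyFunctor B n).map c)
    (by rw [← Functor.map_comp, ← Functor.map_comp, c₁])
    (by rw [← Functor.map_comp, ← Functor.map_comp, c₂])

/-- a morphism of complexes which is an isomorphism in degrees `j - 1`, `j`, `j + 1` induces an
isomorphism on the `j`-th cohomology of the images in the derived category -/
theorem isIso_homologyFunctor_map_Q {K L : CochainComplex B ℤ} (φ : K ⟶ L) (j : ℤ)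
    (h : ∀ i, j - 1 ≤ i → IsIso (φ.f i)) : IsIso ((homologyFunctor B j).map (Q.map φ)) := by
  have h1 : QuasiIsoAt φ j := by
    rw [quasiIsoAt_iff]
    have i1 : IsIso (φ.f ((ComplexShape.up ℤ).prev j)) := h _ (by rw [CochainComplex.prev]; )
    have i2 : IsIso (φ.f j) := h _ (by omega)
    have i3 : IsIso (φ.f ((ComplexShape.up ℤ).next j)) := h _ (by rw [CochainComplex.next]; omega)
    have e1 : Epi ((HomologicalComplex.shortComplexFunctor B (ComplexShape.up ℤ) j).map φ).τ₁ :=
      @IsIso.epi_of_iso _ _ _ _ _ i1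
    have e2 : IsIso ((HomologicalComplex.shortComplexFunctor B (ComplexShape.up ℤ) j).map φ).τ₂ := i2
    have e3 : Mono ((HomologicalComplex.shortComplexFunctor B (ComplexShape.up ℤ) j).map φ).τ₃ :=
      @IsIso.mono_of_iso _ _ _ _ _ i3
    exact ShortComplex.quasiIso_of_epi_of_isIso_of_mono _
  rw [quasiIsoAt_iff_isIso_homologyMap] at h1
  exact (NatIso.isIso_map_iff (homologyFunctorFactors B j) φ).2 h1

end Tri

section Main

open Pretriangulated Groth.Agent.Helper24.DCoprod Groth.Agent.Helper29.STrunc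

variable {A : Type u} [Category.{v} A] [Abelian A] [IsGrothendieckAbelian.{v} A]
  [HasDerivedCategory.{w} A] [HasCoproductsOfShape ℕ A] [HasExactColimitsOfShape (Discrete ℕ) A]
  [HasColimitsOfShape (Finset (Discrete ℕ)) A]
  {B : Type u'} [Category.{v'} B] [Abelian B] [HasDerivedCategory.{w'} B]
  [HasCoproductsOfShape ℕ B] [HasExactColimitsOfShape (Discrete ℕ) B]
  (F : A ⥤ B) [F.Additive] [PreservesFiniteLimits F]
  (hcolim : ∀ n : ℕ, PreservesColimitsOfShape (Finset (Discrete ℕ)) (F.rightDerived n))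
  (R : DerivedCategory A ⥤ DerivedCategory B)
  (β : F.mapHomotopyCategory (ComplexShape.up ℤ) ⋙ Qh ⟶ Qh ⋙ R)
  [R.IsRightDerivedFunctor β (KI.WK A)]
  [PreservesColimitsOfShape (Discrete ℕ) R]

include hcolim in
theorem preservesCoprod_F : PreservesColimitsOfShape (Discrete ℕ) F := by
  haveI := hcolim 0
  haveI : PreservesColimitsOfShape (Finset (Discrete ℕ)) F :=
    preservesColimitsOfShape_of_natIso F.rightDerivedZeroIsoSelf
  refine ⟨fun {K} => ?_⟩
  haveI := preservesColimit_discrete F (K.obj ∘ Discrete.mk)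
  exact preservesColimit_of_iso_diagram F (Discrete.natIsoFunctor (F := K)).symm

include hcolim in
theorem main (K : CochainComplex A ℤ) (hK : ∀ m, Acyc F (K.X m)) :
    IsIso (β.app ((KI.quo A).obj K)) := by
  haveI := preservesCoprod_F F hcolim
  have hX : ∀ m, IsIso (β.app ((KI.quo A).obj (Tow.X K m))) := fun m => by
    haveI : (Tow.X K m).IsStrictlyGE (-(m : ℤ) + 1) := isStrictlyGE_sGT K _
    exact isIso_unit_of_bddBelow F R β (Tow.X K m) (-(m : ℤ) + 1)
      (fun i => prop_sGT_X K _ (Acyc F) (fun e h => acyc_of_iso F e h)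
        (fun _ h => acyc_of_isZero F h) hK i)
  have hC : IsIso (β.app ((KI.quo A).obj (Tow.C K))) := isIso_unit_coprod F R β (Tow.X K) hX
  have hT := Tow.T_distinguished K
  have hTΦ : (F.mapHomotopyCategory (ComplexShape.up ℤ) ⋙ Qh).mapTriangle.obj (Tow.T K) ∈
      distTriang _ := (F.mapHomotopyCategory (ComplexShape.up ℤ) ⋙ Qh).map_distinguished _ hT
  have hTQ : Qh.mapTriangle.obj (Tow.T K) ∈ distTriang _ := Qh.map_distinguished _ hT
  obtain ⟨c', hT'⟩ := Groth.Agent.Helper29.TriR.exists_distinguished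
    (F.mapHomotopyCategory (ComplexShape.up ℤ) ⋙ Qh) R β _ hTQ
  refine @isIso_of_triangles _ _ _ _ ((F.mapHomotopyCategory (ComplexShape.up ℤ) ⋙
      Qh).mapTriangle.obj (Tow.T K)) _ hTΦ hT' (β.app ((KI.quo A).obj (Tow.C K)))
    (β.app ((KI.quo A).obj (Tow.C K))) (β.app ((KI.quo A).obj K)) hC hC
    (β.naturality (Tow.T K).mor₁) (β.naturality (Tow.T K).mor₂) ?_
  intro n
  rw [HomologySequence.mono_homologyMap_mor₁_iff _ hTΦ (n - 1) n (by omega),
    ← HomologySequence.epi_homologyMap_mor₂_iff _ hTΦ (n - 1) n (by omega)]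
  let m : ℕ := (2 - (n - 1)).toNat
  let φ := (F.mapHomologicalComplex (ComplexShape.up ℤ)).map (Tow.c K m)
  have hφ : ∀ i, (n - 1) - 1 ≤ i → IsIso (φ.f i) := fun i hi => by
    haveI : IsIso ((Tow.c K m).f i) := Tow.isIso_c_f K m i (by omega)
    change IsIso (F.map ((Tow.c K m).f i))
    infer_instance
  have hiso := isIso_homologyFunctor_map_Q φ (n - 1) hφ
  have hfac : (homologyFunctor B (n - 1)).map
      (Q.map ((F.mapHomologicalComplex (ComplexShape.up ℤ)).map (coprodι (Tow.X K) m))) ≫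
      (homologyFunctor B (n - 1)).map ((F.mapHomotopyCategory (ComplexShape.up ℤ) ⋙
        Qh).mapTriangle.obj (Tow.T K)).mor₂ = (homologyFunctor B (n - 1)).map (Q.map φ) := by
    rw [← Functor.map_comp]
    congr 1
    change Q.map _ ≫ Q.map ((F.mapHomologicalComplex (ComplexShape.up ℤ)).map (Tow.πC K)) = _
    rw [← Functor.map_comp, ← Functor.map_comp, Tow.πC, ι_coprodDesc]
  have hepi : Epi ((homologyFunctor B (n - 1)).map (Q.map φ)) := @IsIso.epi_of_iso _ _ _ _ _ hiso
  exact @epi_of_epi_fac _ _ _ _ _ _ _ _ hepi hfac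

end Main

end Groth.Agent.Helper24.RFSum
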