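import Groth.Agent.Lib.Helper24.RFSum4
import Groth.Agent.Lib.Helper24.RFBound

/-!
# `RF` commutes with coproducts of uniformly bounded below families
when coproducts of injectives are `F`-acyclic and `F` commutes with coproducts
-/

set_option autoImplicit false
universe w'' w' w v' v u' u
open CategoryTheory CategoryTheory.Limits

namespace Groth.Agent.Helper24.RFSumG

open Groth.Agent.Helper11 DerivedCategory Groth.Agent.Helper9.Leray Groth.Agent.Helper24.DCoprod
  Groth.Agent.Helper24.RFSum

/-- transport of a colimit cofan along isomorphisms -/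
noncomputable def isColimitCofanOfIsos {D : Type*} [Category D] {ι : Type*} {X Y : ι → D}
    (a : ∀ i, X i ≅ Y i) (c : Cofan X) (hc : IsColimit c) (c' : Cofan Y)
    (φ : c.pt ⟶ c'.pt) [IsIso φ] (comm : ∀ i, c.inj i ≫ φ = (a i).hom ≫ c'.inj i) :
    IsColimit c' :=
  Cofan.IsColimit.mk _ (fun s => inv φ ≫ Cofan.IsColimit.desc hc (fun i => (a i).hom ≫ s.inj i))
    (fun s i => by
      have h : c'.inj i = (a i).inv ≫ c.inj i ≫ φ := by rw [comm, Iso.inv_hom_id_assoc]
      rw [h, Category.assoc, Category.assoc, IsIso.hom_inv_id_assoc, Cofan.IsColimit.fac,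
        Iso.inv_hom_id_assoc])
    (fun s m hm => by
      rw [IsIso.eq_inv_comp]
      refine Cofan.IsColimit.hom_ext hc _ _ (fun i => ?_)
      rw [Cofan.IsColimit.fac, ← Category.assoc, comm, Category.assoc, hm])

section Coprod

variable {A : Type u} [Category.{v} A] [Abelian A] [IsGrothendieckAbelian.{v} A]
  [HasDerivedCategory.{w} A]
  {ι : Type w''} [HasCoproductsOfShape ι A] [HasExactColimitsOfShape (Discrete ι) A]
  {B : Type u'} [Category.{v'} B] [Abelian B] [HasDerivedCategory.{w'} B]
  [HasCoproductsOfShape ι B] [HasExactColimitsOfShape (Discrete ι) B]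
  (F : A ⥤ B) [F.Additive] [PreservesColimitsOfShape (Discrete ι) F]
  (R : DerivedCategory A ⥤ DerivedCategory B)
  (β : F.mapHomotopyCategory (ComplexShape.up ℤ) ⋙ Qh ⟶ Qh ⋙ R)
  [R.IsRightDerivedFunctor β (KI.WK A)]

/-- the image under `F` of the complexes of a family -/
noncomputable abbrev FX (X : ι → CochainComplex A ℤ) (n : ι) : CochainComplex B ℤ :=
  (F.mapHomologicalComplex (ComplexShape.up ℤ)).obj (X n)

/-- the comparison map `∐ F(X) ⟶ F(∐ X)` -/
noncomputable def κ (X : ι → CochainComplex A ℤ) :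
    coprodCx (FX F X) ⟶ (F.mapHomologicalComplex (ComplexShape.up ℤ)).obj (coprodCx X) :=
  coprodDesc fun n => (F.mapHomologicalComplex (ComplexShape.up ℤ)).map (coprodι X n)

lemma ι_κ (X : ι → CochainComplex A ℤ) (n : ι) :
    coprodι (FX F X) n ≫ κ F X = (F.mapHomologicalComplex (ComplexShape.up ℤ)).map (coprodι X n) :=
  ι_coprodDesc _ n

lemma κ_f (X : ι → CochainComplex A ℤ) (i : ℤ) :
    (κ F X).f i = sigmaComparison F (fun n => (X n).X i) := by
  refine Sigma.hom_ext (f := fun n => F.obj ((X n).X i)) _ _ (fun n => ?_)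
  have h1 : (coprodι (FX F X) n).f i ≫ (κ F X).f i = F.map ((coprodι X n).f i) :=
    congrArg (fun (x : FX F X n ⟶ _) => x.f i) (ι_κ F X n)
  exact h1.trans (ι_comp_sigmaComparison F (fun n => (X n).X i) n).symm

instance (X : ι → CochainComplex A ℤ) : IsIso (κ F X) := by
  have : ∀ i, IsIso ((κ F X).f i) := fun i => by
    have h : IsIso (sigmaComparison F (fun n => (X n).X i)) := inferInstance
    rw [κ_f]
    exact h
  exact HomologicalComplex.Hom.isIso_of_components _

include F β in
/-- `RF` sends the coproduct cofan of a family of complexes to a coproduct cofan as soon as the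
unit is an isomorphism on the members and on the coproduct -/
theorem isColimit_map_cofan (X : ι → CochainComplex A ℤ)
    (hX : ∀ n, IsIso (β.app ((KI.quo A).obj (X n))))
    (hC : IsIso (β.app ((KI.quo A).obj (coprodCx X)))) :
    Nonempty (IsColimit (Cofan.mk (R.obj (Q.obj (coprodCx X)))
      (fun m => R.map (Q.map (coprodι X m))))) := by
  have hB := isColimitCofan (FX F X)
  let a : ∀ n, Q.obj (FX F X n) ≅ R.obj (Q.obj (X n)) := fun n =>
    @asIso _ _ _ _ (β.app ((KI.quo A).obj (X n))) (hX n)
  let βC : Q.obj ((F.mapHomologicalComplex (ComplexShape.up ℤ)).obj (coprodCx X)) ⟶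
      R.obj (Q.obj (coprodCx X)) := β.app ((KI.quo A).obj (coprodCx X))
  have h2 : IsIso (Q.map (κ F X)) := inferInstance
  have h1 : IsIso (Q.map (κ F X) ≫ βC) := IsIso.comp_isIso' h2 hC
  refine ⟨@isColimitCofanOfIsos _ _ _ _ _ a _ hB (Cofan.mk (R.obj (Q.obj (coprodCx X)))
      (fun m => R.map (Q.map (coprodι X m)))) (Q.map (κ F X) ≫ βC) h1 (fun n => ?_)⟩
  have nat : Q.map ((F.mapHomologicalComplex (ComplexShape.up ℤ)).map (coprodι X n)) ≫ βC =
      (a n).hom ≫ R.map (Q.map (coprodι X n)) :=
    β.naturality ((KI.quo A).map (coprodι X n))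
  change Q.map (coprodι (FX F X) n) ≫ Q.map (κ F X) ≫ βC = _
  rw [← Category.assoc, ← Functor.map_comp, ι_κ, nat]
  rfl

include F β in
theorem preservesColimit_Q (X : ι → CochainComplex A ℤ)
    (hX : ∀ n, IsIso (β.app ((KI.quo A).obj (X n))))
    (hC : IsIso (β.app ((KI.quo A).obj (coprodCx X)))) :
    PreservesColimit (Discrete.functor fun i => Q.obj (X i)) R := by
  obtain ⟨h⟩ := isColimit_map_cofan F R β X hX hC
  exact preservesColimit_of_preserves_colimit_cocone (isColimitCofan X)
    ((isColimitMapCoconeCofanMkEquiv R _ _).symm h)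

lemma isStrictlyGE_coprodCx (X : ι → CochainComplex A ℤ) (n : ℤ) [∀ i, (X i).IsStrictlyGE n] :
    (coprodCx X).IsStrictlyGE n := by
  rw [CochainComplex.isStrictlyGE_iff]
  intro m hm
  rw [IsZero.iff_id_eq_zero]
  refine Sigma.hom_ext (f := fun i => (X i).X m) _ _ (fun i => ?_)
  exact ((X i).isZero_of_isStrictlyGE n m hm).eq_of_src _ _

include F β in
/-- `RF` commutes with coproducts of uniformly bounded below families, when coproducts of
injectives are `F`-acyclic -/
theorem isIso_sigmaDesc [PreservesFiniteLimits F]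
    (hacyc : ∀ (J : ι → A), (∀ i, Injective (J i)) → Acyc F (∐ J))
    (K : ι → DerivedCategory A) (n : ℤ) (hK : ∀ i, (K i).IsGE n)
    [HasCoproduct K] [HasCoproduct (fun i => R.obj (K i))] :
    IsIso (Sigma.desc (fun i => R.map (Sigma.ι K i))) := by
  have hex : ∀ i, ∃ (L : CochainComplex A ℤ), L.IsStrictlyGE n ∧ (∀ m, Injective (L.X m)) ∧
      Nonempty (K i ≅ Q.obj L) := fun i => by
    haveI := hK i
    obtain ⟨K', hK', ⟨e⟩⟩ := exists_iso_Q_obj_of_isGE (K i) n
    obtain ⟨L, j, hj, hL, hL'⟩ :=
      CochainComplex.Plus.modelCategoryQuillen.exists_quasiIso_injective K' n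
    have hj' : IsIso (Q.map j) := by
      rw [DerivedCategory.isIso_Q_map_iff_quasiIso]
      exact hj
    exact ⟨L, hL', hL, ⟨e ≪≫ @asIso _ _ _ _ (Q.map j) hj'⟩⟩
  choose L hL hLinj e using hex
  have hX : ∀ i, IsIso (β.app ((KI.quo A).obj (L i))) := fun i => by
    haveI := hL i
    haveI : (L i).IsKInjective := CochainComplex.isKInjective_of_injective (L i) n
    exact KI.isIso_unit.{w} _ R β (L i)
  haveI : (coprodCx L).IsStrictlyGE n := isStrictlyGE_coprodCx L n
  have hC : IsIso (β.app ((KI.quo A).obj (coprodCx L))) :=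
    isIso_unit_of_bddBelow F R β (coprodCx L) n
      (fun m => hacyc (fun i => (L i).X m) (fun i => hLinj i m))
  haveI := preservesColimit_Q F R β L hX hC
  haveI : PreservesColimit (Discrete.functor K) R :=
    preservesColimit_of_iso_diagram R
      (Discrete.natIso (F := Discrete.functor fun i => Q.obj (L i)) (G := Discrete.functor K)
        (fun i => ((e i.as).some).symm))
  have h : IsIso (sigmaComparison R K) := inferInstance
  exact h

end Coprod

end Groth.Agent.Helper24.RFSumG
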