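import Mathlib

set_option autoImplicit false
universe u v

namespace Groth.Agent.Helper24.RegSec

open IsLocalRing

section Avoid

variable {A : Type u} [CommRing A] [IsLocalRing A]
  {M : Type v} [AddCommGroup M] [Module A M] [Module.Finite A M]

/-- over a local ring with infinite residue field, a finite module is not a finite union of proper
submodules. -/
theorem exists_forall_notMem (hA : Infinite (ResidueField A)) {ι : Type*} [Finite ι]
    (W : ι → Submodule A M) (hW : ∀ i, W i ≠ ⊤) : ∃ x : M, ∀ i, x ∉ W i := by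
  classical
  let : Module (ResidueField A) (M ⧸ (maximalIdeal A • ⊤ : Submodule A M)) :=
    inferInstanceAs (Module (A ⧸ maximalIdeal A) (M ⧸ maximalIdeal A • (⊤ : Submodule A M)))
  let : IsScalarTower A (ResidueField A) (M ⧸ (maximalIdeal A • ⊤ : Submodule A M)) :=
    inferInstanceAs (IsScalarTower A (A ⧸ maximalIdeal A) (M ⧸ maximalIdeal A • (⊤ : Submodule A M)))
  let W' : ι → Submodule (ResidueField A) (M ⧸ (maximalIdeal A • ⊤ : Submodule A M)) := fun i =>
    Submodule.span (ResidueField A)
      ((W i).map (Submodule.mkQ (maximalIdeal A • ⊤ : Submodule A M)) : Set _)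
  have hres : ∀ i, (W' i).restrictScalars A =
      (W i).map (Submodule.mkQ (maximalIdeal A • ⊤ : Submodule A M)) := by
    intro i
    have := Submodule.restrictScalars_span A (ResidueField A)
      (M := M ⧸ (maximalIdeal A • ⊤ : Submodule A M))
      Ideal.Quotient.mk_surjective
      ((W i).map (Submodule.mkQ (maximalIdeal A • ⊤ : Submodule A M)) : Set _)
    rw [this, Submodule.span_eq]
  have hW' : ∀ i, W' i ≠ ⊤ := by
    intro i h
    apply hW i
    have h1 : (W i).map (Submodule.mkQ (maximalIdeal A • ⊤ : Submodule A M)) = ⊤ := by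
      rw [← hres i, h, Submodule.restrictScalars_top]
    exact IsLocalRing.map_mkQ_eq_top.1 h1
  obtain ⟨x, hx⟩ := Submodule.exists_forall_notMem_of_forall_ne_top W' hW'
  obtain ⟨y, rfl⟩ := Submodule.mkQ_surjective _ x
  refine ⟨y, fun i hy => hx i ?_⟩
  exact Submodule.subset_span ⟨y, hy, rfl⟩

/-- set version -/
theorem exists_forall_mem_notMem (hA : Infinite (ResidueField A))
    (𝒲 : Set (Submodule A M)) (h𝒲 : 𝒲.Finite) (hne : ∀ W ∈ 𝒲, W ≠ ⊤) :
    ∃ x : M, ∀ W ∈ 𝒲, x ∉ W := by
  haveI : Finite 𝒲 := h𝒲.to_subtype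
  obtain ⟨x, hx⟩ := exists_forall_notMem hA (fun W : 𝒲 => W.1) (fun W => hne W.1 W.2)
  exact ⟨x, fun W hW => hx ⟨W, hW⟩⟩

end Avoid

open TensorProduct

section LTensor

variable {R : Type*} [CommRing R] {M O' L : Type*} [AddCommGroup M] [Module R M]
  [AddCommGroup O'] [Module R O'] [AddCommGroup L] [Module R L]

theorem smul_injective_tensor_self (β : R) (hβ : Function.Injective (fun m : M => β • m)) :
    Function.Injective (fun z : M ⊗[R] R => β • z) := by
  intro z z' h
  have h1 : β • (TensorProduct.rid R M z) = β • (TensorProduct.rid R M z') := by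
    rw [← map_smul, ← map_smul]
    exact congrArg _ h
  exact (TensorProduct.rid R M).injective (hβ h1)

theorem lTensor_injective_of_regular (u : O' ≃ₗ[R] R) (e : L)
    (he : Function.Bijective (fun r : R => r • e)) (β : R)
    (hβ : Function.Injective (fun m : M => β • m))
    (τ : O' →ₗ[R] L) (hτ : ∀ a, τ a = (u a) • (β • e)) :
    Function.Injective (LinearMap.lTensor M τ) := by
  let g : R ≃ₗ[R] L := LinearEquiv.ofBijective (LinearMap.toSpanSingleton R L e) he
  have hτ' : τ = g.toLinearMap ∘ₗ (β • (LinearMap.id : R →ₗ[R] R)) ∘ₗ u.toLinearMap := by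
    ext a
    simp only [LinearMap.coe_comp, LinearEquiv.coe_coe, Function.comp_apply, LinearMap.smul_apply,
      LinearMap.id_coe, id_eq, g, LinearEquiv.ofBijective_apply, LinearMap.toSpanSingleton_apply]
    rw [hτ a, smul_smul, smul_eq_mul, mul_comm]
  rw [hτ', LinearMap.lTensor_comp, LinearMap.lTensor_comp, LinearMap.coe_comp, LinearMap.coe_comp]
  refine Function.Injective.comp ?_ (Function.Injective.comp ?_ ?_)
  · exact (LinearEquiv.lTensor M g).injective
  · rw [LinearMap.lTensor_smul, LinearMap.lTensor_id]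
    exact smul_injective_tensor_self β hβ
  · exact (LinearEquiv.lTensor M u).injective

end LTensor

section Reg

variable {A : Type*} [CommRing A] {R : Type*} [CommRing R] (ρ : A →+* R) {n : ℕ} (c : Fin n → R)

/-- the combination `Σ ρ(a_i) c_i`. -/
def comb (a : Fin n → A) : R := ∑ i, ρ (a i) * c i

lemma comb_add (a a' : Fin n → A) : comb ρ c (a + a') = comb ρ c a + comb ρ c a' := by
  unfold comb
  rw [← Finset.sum_add_distrib]
  refine Finset.sum_congr rfl fun i _ => ?_
  rw [Pi.add_apply, map_add, add_mul]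

lemma comb_smul (r : A) (a : Fin n → A) : comb ρ c (r • a) = ρ r * comb ρ c a := by
  unfold comb
  rw [Finset.mul_sum]
  refine Finset.sum_congr rfl fun i _ => ?_
  rw [Pi.smul_apply, smul_eq_mul, map_mul, mul_assoc]

lemma comb_zero : comb ρ c (0 : Fin n → A) = 0 := by
  unfold comb
  simp

lemma comb_single (i₀ : Fin n) : comb ρ c (Pi.single i₀ 1) = c i₀ := by
  classical
  unfold comb
  rw [Finset.sum_eq_single i₀]
  · rw [Pi.single_eq_same, map_one, one_mul]
  · intro i _ hi
    rw [Pi.single_eq_of_ne hi, map_zero, zero_mul]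
  · intro h
    exact absurd (Finset.mem_univ i₀) h

/-- the submodule of coefficient vectors whose combination lies in `p`. -/
def badSub (p : Ideal R) : Submodule A (Fin n → A) where
  carrier := {a | comb ρ c a ∈ p}
  add_mem' {a a'} ha ha' := by
    change comb ρ c (a + a') ∈ p
    rw [comb_add]
    exact p.add_mem ha ha'
  zero_mem' := by
    change comb ρ c 0 ∈ p
    rw [comb_zero]
    exact p.zero_mem
  smul_mem' r a ha := by
    change comb ρ c (r • a) ∈ p
    rw [comb_smul]
    exact p.mul_mem_left _ ha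

lemma mem_badSub (p : Ideal R) (a : Fin n → A) : a ∈ badSub ρ c p ↔ comb ρ c a ∈ p := Iff.rfl

variable (Mod : Type*) [AddCommGroup Mod] [Module R Mod]

/-- the finitely many bad submodules attached to a module. -/
def badSet : Set (Submodule A (Fin n → A)) := (fun p => badSub ρ c p) '' (associatedPrimes R Mod)

lemma badSet_finite [IsNoetherianRing R] [Module.Finite R Mod] : (badSet ρ c Mod).Finite :=
  (associatedPrimes.finite R Mod).image _

lemma badSet_ne_top (i₀ : Fin n) (h1 : c i₀ = 1) (W : Submodule A (Fin n → A))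
    (hW : W ∈ badSet ρ c Mod) : W ≠ ⊤ := by
  obtain ⟨p, hp, rfl⟩ := hW
  intro h
  have h' : badSub ρ c p = ⊤ := h
  have h2 : (Pi.single i₀ 1 : Fin n → A) ∈ badSub ρ c p := by rw [h']; trivial
  rw [mem_badSub, comb_single, h1] at h2
  have hp' : p.IsPrime := (AssociatedPrimes.mem_iff.1 hp).isPrime
  exact hp'.ne_top ((Ideal.eq_top_iff_one p).2 h2)

lemma comb_regular [IsNoetherianRing R] (a : Fin n → A) (ha : ∀ W ∈ badSet ρ c Mod, a ∉ W) :
    Function.Injective (fun m : Mod => comb ρ c a • m) := by
  have hz := biUnion_associatedPrimes_eq_zero_divisors R Mod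
  have hnot : comb ρ c a ∉ {r : R | ∃ x : Mod, x ≠ 0 ∧ r • x = 0} := by
    rw [← hz]
    intro hmem
    obtain ⟨p, hp, hap⟩ := Set.mem_iUnion₂.1 hmem
    exact ha (badSub ρ c p) ⟨p, hp, rfl⟩ hap
  intro m m' h
  by_contra hne
  apply hnot
  refine ⟨m - m', sub_ne_zero.2 hne, ?_⟩
  rw [smul_sub]
  exact sub_eq_zero.2 h

end Reg

end Groth.Agent.Helper24.RegSec
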