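import Mathlib
import Groth.Agent.Lib.Helper24.RegSec1
import Groth.Agent.Lib.Helper13.GenLocus
import Groth.Agent.Lib.Helper13.TensorUnit
import Groth.Agent.Lib.Helper13.FinAffine2
import Groth.Prelude.Def_DCoh4

set_option autoImplicit false
universe u
open CategoryTheory CategoryTheory.Limits AlgebraicGeometry Opposite TopologicalSpace TensorProduct
open Groth.Agent.Helper13.QCoh Groth.Agent.Helper13.FinType Groth.Agent.Helper13.Tensor
open Groth.Agent.Helper13.Inv Groth.Agent.Helper13.GenLoc Groth.Agent.Helper13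

namespace Groth.Agent.Helper24.RegSec

variable {X : Scheme.{u}}

lemma tensorBi_obj_map' (M : X.Modules) {N N' : X.Modules} (g : N ⟶ N') :
    (DCoh.tensorBi.obj M).map g = Groth.Agent.Helper13.Tensor.map (𝟙 M) g := by
  unfold Groth.Agent.Helper13.Tensor.map Groth.Agent.Helper13.Tensor.preMap
  erw [MonoidalCategory.id_tensorHom]
  rfl

lemma stalkLinearMap_id' (x : X) (M : X.Modules) : stalkLinearMap (𝟙 M) x = LinearMap.id := by
  ext m
  obtain ⟨U, hU, m₀, rfl⟩ := TopCat.Presheaf.exists_germ_eq M.presheaf m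
  rw [stalkLinearMap_apply, stalkMap_germ]
  rfl

lemma sec_homOfSec' (L : X.Modules) (t : Γ(L, ⊤)) : sec L (LocFree.homOfSec L t) = t := by
  have h := LocFree.homOfSec_app_one L t ⊤
  rw [map_id_apply' L] at h
  exact h

/-- the stalk criterion for injectivity of `F ⊗ O ⟶ F ⊗ L`. -/
theorem injective_stalkMap_map (F L : X.Modules) (t : Γ(L, ⊤)) (x : X)
    (e : L.presheaf.stalk x) (he : Function.Bijective (fun r : X.presheaf.stalk x => r • e))
    (β : X.presheaf.stalk x) (ht : L.presheaf.germ ⊤ x trivial t = β • e)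
    (hβ : Function.Injective (fun m : F.presheaf.stalk x => β • m)) :
    Function.Injective
      (stalkMap (Groth.Agent.Helper13.Tensor.map (𝟙 F) (LocFree.homOfSec L t)) x) := by
  have key : ∀ z, stalkMap (Groth.Agent.Helper13.Tensor.map (𝟙 F) (LocFree.homOfSec L t)) x
      (stalkTensorEquiv F (Coh.structureModule X) x z) =
      stalkTensorEquiv F L x (LinearMap.lTensor _ (stalkLinearMap (LocFree.homOfSec L t) x) z) := by
    intro z
    rw [stalkMap_map, stalkLinearMap_id']
    rfl
  have hinj := lTensor_injective_of_regular (M := F.presheaf.stalk x)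
    (Groth.Agent.Helper13.WeakAss.unitStalkEquiv x) e he β hβ
    (stalkLinearMap (LocFree.homOfSec L t) x) (fun a => by
      rw [stalkLinearMap_apply, stalkMap_homOfSec, ht])
  intro s s' h
  obtain ⟨z, rfl⟩ := (stalkTensorEquiv F (Coh.structureModule X) x).surjective s
  obtain ⟨z', rfl⟩ := (stalkTensorEquiv F (Coh.structureModule X) x).surjective s'
  rw [key, key] at h
  rw [hinj ((stalkTensorEquiv F L x).injective h)]

theorem injective_stalkMap_tensor (F L : X.Modules) (t : Γ(L, ⊤)) (x : X)
    (e : L.presheaf.stalk x) (he : Function.Bijective (fun r : X.presheaf.stalk x => r • e))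
    (β : X.presheaf.stalk x) (ht : L.presheaf.germ ⊤ x trivial t = β • e)
    (hβ : Function.Injective (fun m : F.presheaf.stalk x => β • m)) :
    Function.Injective (stalkMap ((DCoh.tensorBi.obj F).map (LocFree.homOfSec L t)) x) := by
  have h := injective_stalkMap_map F L t x e he β ht hβ
  have hm := tensorBi_obj_map' F (LocFree.homOfSec L t)
  rw [hm]
  exact h

/-- regular on sections over an affine open implies regular on the stalks. -/
theorem smul_injective_stalk (F : X.Modules) [F.IsQuasicoherent] {U : X.Opens} (hU : IsAffineOpen U)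
    (b : Γ(X, U)) (hb : Function.Injective (fun m : Γ(F, U) => b • m)) (x : X) (hx : x ∈ U) :
    Function.Injective (fun m : F.presheaf.stalk x => X.presheaf.germ U x hx b • m) := by
  have key : ∀ m : F.presheaf.stalk x, X.presheaf.germ U x hx b • m = 0 → m = 0 := by
    intro m hm
    obtain ⟨g, hxg, t, ht⟩ := exists_germ_smul_eq F hU x hx m
    have h1 : F.presheaf.germ U x hx (b • t) = 0 := by
      rw [QCoh.germ_smul, ← ht, smul_comm, hm, smul_zero]
    obtain ⟨g', hxg', hg'⟩ := exists_smul_eq_zero_of_germ_eq_zero F hU x hx (b • t) h1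
    have h2 : b • (g' • t) = b • (0 : Γ(F, U)) := by
      rw [smul_comm, hg', smul_zero]
    have h3 : g' • t = 0 := hb h2
    have h4 : X.presheaf.germ U x hx g' • (X.presheaf.germ U x hx g • m) = 0 := by
      rw [ht, ← QCoh.germ_smul, h3, map_zero]
    have u1 : IsUnit (X.presheaf.germ U x hx g') := (X.mem_basicOpen g' x hx).1 hxg'
    have u2 : IsUnit (X.presheaf.germ U x hx g) := (X.mem_basicOpen g x hx).1 hxg
    have h5 := (u1.smul_eq_zero).1 h4
    exact (u2.smul_eq_zero).1 h5
  intro m m' h
  have h' : X.presheaf.germ U x hx b • (m - m') = 0 := by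
    rw [smul_sub]
    exact sub_eq_zero.2 h
  exact sub_eq_zero.1 (key _ h')

/-- over an open contained in `X_s`, every section of `L` is a multiple of `s`. -/
theorem exists_eq_smul_of_le_genLocus (L : X.Modules) (s : Coh.structureModule X ⟶ L)
    {U : X.Opens} (hU : U ≤ CohB1.genLocus L s) (t : Γ(L, U)) :
    ∃ r : Γ(X, U), t = r • L.presheaf.map (homOfLE (le_top : U ≤ ⊤)).op (sec L s) := by
  have hbij : Function.Bijective (s.app U) := by
    have := TopCat.Presheaf.app_bijective_of_stalkFunctor_map_bijective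
      (F := ⟨(Coh.structureModule X).presheaf, (Coh.structureModule X).isSheaf⟩)
      (G := ⟨L.presheaf, L.isSheaf⟩) ⟨s.mapPresheaf⟩ U
      (fun y hy => stalkMap_bijective_of_mem_genLocus L s (hU hy))
    exact this
  obtain ⟨o, ho⟩ := hbij.2 t
  refine ⟨LocFree.ofO U o, ?_⟩
  rw [← ho]
  have h := LocFree.homOfSec_app L (sec L s) U (LocFree.ofO U o)
  rw [homOfSec_sec] at h
  exact h

end Groth.Agent.Helper24.RegSec
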