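import Mathlib
import Groth.Agent.Lib.Helper24.RegSec2
import Groth.Prelude.Def_Coh
import Groth.Prelude.Def_CohB1
import Groth.Prelude.Def_Pic
import Groth.Prelude.Def_DCoh4

set_option autoImplicit false
universe u
open CategoryTheory CategoryTheory.Limits AlgebraicGeometry Opposite TopologicalSpace TensorProduct
open Groth.Agent.Helper13.QCoh Groth.Agent.Helper13.FinType Groth.Agent.Helper13.Tensor
open Groth.Agent.Helper13.Inv Groth.Agent.Helper13.GenLoc Groth.Agent.Helper13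

namespace Groth.Agent.Helper24.RegSec

variable {X : Scheme.{u}}

/-- restriction of a linear combination of global sections which are multiples of `e` over `U`. -/
lemma res_sum_eq (L : X.Modules) {n : ℕ} (s : Fin n → Γ(L, ⊤)) (r : Fin n → Γ(X, ⊤))
    (U : X.Opens) (e : Γ(L, U)) (c : Fin n → Γ(X, U))
    (hc : ∀ i, L.presheaf.map (homOfLE (le_top : U ≤ ⊤)).op (s i) = c i • e) :
    L.presheaf.map (homOfLE (le_top : U ≤ ⊤)).op (∑ i, r i • s i) =
      (∑ i, X.presheaf.map (homOfLE (le_top : U ≤ ⊤)).op (r i) * c i) • e := by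
  rw [map_sum, Finset.sum_smul]
  refine Finset.sum_congr rfl fun i _ => ?_
  rw [Scheme.Modules.map_smul, hc i, mul_smul]


section Main

variable {A : Type u} [CommRing A] [IsLocalRing A]

/-- the structure map on global functions. -/
noncomputable def rhoTop {V : Scheme.{u}} (f : V ⟶ Spec (CommRingCat.of A)) : A →+* Γ(V, ⊤) :=
  (f.appTop).hom.comp (Scheme.ΓSpecIso (CommRingCat.of A)).inv.hom

/-- the structure map on functions over `U`. -/
noncomputable def rhoU {V : Scheme.{u}} (f : V ⟶ Spec (CommRingCat.of A)) (U : V.Opens) :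
    A →+* Γ(V, U) :=
  (V.presheaf.map (homOfLE (le_top : U ≤ ⊤)).op).hom.comp (rhoTop f)

theorem main15976_aux (hA : Infinite (IsLocalRing.ResidueField A))
    {V : Scheme.{u}} [IsNoetherian V] (f : V ⟶ Spec (CommRingCat.of A))
    (L : V.Modules)
    {N : ℕ} (σ : Fin (N + 1) → (Coh.structureModule V ⟶ L))
    (hgen : ∀ x : V, ∃ i, x ∈ CohB1.genLocus L (σ i))
    {m : ℕ} (F : Fin m → V.Modules) (hF : ∀ j, Coh.IsCoh (F j)) :
    ∃ (a : Fin (N + 1) → A),
      ∀ j, Mono (((DCoh.tensorBi (X := V)).obj (F j)).map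
        (LocFree.homOfSec L (∑ i, rhoTop f (a i) • sec L (σ i)))) := by
  classical
  haveI : ∀ j, (F j).IsQuasicoherent := fun j => (hF j).1
  haveI : ∀ j, SheafOfModules.IsFiniteType (R := V.ringCatSheaf) (F j) := fun j => (hF j).2
  -- the cover
  have hx : ∀ x : V, ∃ (i : Fin (N + 1)) (U : V.Opens), IsAffineOpen U ∧ x ∈ U ∧
      U ≤ CohB1.genLocus L (σ i) := by
    intro x
    obtain ⟨i, hi⟩ := hgen x
    obtain ⟨U, hU, hxU, hUW⟩ := exists_isAffineOpen_mem_and_subset (x := x)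
      (U := CohB1.genLocus L (σ i)) hi
    exact ⟨i, U, hU, hxU, hUW⟩
  choose i₀ U hUaff hxU hUle using hx
  obtain ⟨T, hT⟩ := isCompact_univ.elim_finite_subcover (fun x => (U x : Set V))
    (fun x => (U x).isOpen) (fun x _ => Set.mem_iUnion.2 ⟨x, hxU x⟩)
  -- the coefficients
  have hc : ∀ (x : V) (i : Fin (N + 1)), ∃ r : Γ(V, U x),
      L.presheaf.map (homOfLE (le_top : U x ≤ ⊤)).op (sec L (σ i)) =
        r • L.presheaf.map (homOfLE (le_top : U x ≤ ⊤)).op (sec L (σ (i₀ x))) :=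
    fun x i => exists_eq_smul_of_le_genLocus L (σ (i₀ x)) (hUle x) _
  choose c₀ hc₀ using hc
  let c : ∀ x : V, Fin (N + 1) → Γ(V, U x) := fun x => Function.update (c₀ x) (i₀ x) 1
  have hc1 : ∀ x, c x (i₀ x) = 1 := fun x => Function.update_self _ _ _
  have hc : ∀ (x : V) (i : Fin (N + 1)),
      L.presheaf.map (homOfLE (le_top : U x ≤ ⊤)).op (sec L (σ i)) =
        c x i • L.presheaf.map (homOfLE (le_top : U x ≤ ⊤)).op (sec L (σ (i₀ x))) := by
    intro x i
    by_cases h : i = i₀ x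
    · subst h
      rw [hc1, one_smul]
    · have : c x i = c₀ x i := Function.update_of_ne h _ _
      rw [this]
      exact hc₀ x i
  haveI hnoeth : ∀ x, IsNoetherianRing Γ(V, U x) := fun x =>
    IsLocallyNoetherian.component_noetherian ⟨U x, hUaff x⟩
  haveI hfin : ∀ x j, Module.Finite Γ(V, U x) Γ(F j, U x) := fun x j =>
    finite_sections_of_isFiniteType (F j) (hUaff x)
  -- the bad set
  let 𝒲 : Set (Submodule A (Fin (N + 1) → A)) :=
    ⋃ x ∈ T, ⋃ j : Fin m, badSet (rhoU f (U x)) (c x) Γ(F j, U x)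
  have h𝒲 : 𝒲.Finite :=
    T.finite_toSet.biUnion (fun x _ => Set.finite_iUnion (fun j => badSet_finite _ _ _))
  have hne : ∀ W ∈ 𝒲, W ≠ ⊤ := by
    intro W hW
    obtain ⟨x, hxT, hW⟩ := Set.mem_iUnion₂.1 hW
    obtain ⟨j, hW⟩ := Set.mem_iUnion.1 hW
    exact badSet_ne_top _ _ _ (i₀ x) (hc1 x) W hW
  obtain ⟨a, ha⟩ := exists_forall_mem_notMem hA 𝒲 h𝒲 hne
  refine ⟨a, fun j => ?_⟩
  rw [mono_iff_stalk_injective]
  intro y
  obtain ⟨x, hxT, hy⟩ : ∃ x ∈ T, y ∈ U x := by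
    have := hT (Set.mem_univ y)
    obtain ⟨x, hx⟩ := Set.mem_iUnion.1 this
    obtain ⟨hxT, hy⟩ := Set.mem_iUnion.1 hx
    exact ⟨x, hxT, hy⟩
  have hres := res_sum_eq L (fun i => sec L (σ i)) (fun i => rhoTop f (a i)) (U x)
    (L.presheaf.map (homOfLE (le_top : U x ≤ ⊤)).op (sec L (σ (i₀ x)))) (c x) (hc x)
  have hgenx : IsGen L (L.presheaf.map (homOfLE (le_top : U x ≤ ⊤)).op (sec L (σ (i₀ x)))) y hy :=
    (isGen_res L (homOfLE (le_top : U x ≤ ⊤)) _ y hy).2
      (isGen_of_mem_genLocus L (σ (i₀ x)) (hUle x hy))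
  refine injective_stalkMap_tensor (F j) L _ y
    (L.presheaf.germ (U x) y hy
      (L.presheaf.map (homOfLE (le_top : U x ≤ ⊤)).op (sec L (σ (i₀ x))))) hgenx
    (V.presheaf.germ (U x) y hy (comb (rhoU f (U x)) (c x) a)) ?_ ?_
  · rw [← QCoh.germ_smul, ← TopCat.Presheaf.germ_res_apply L.presheaf
      (homOfLE (le_top : U x ≤ ⊤)) y hy, hres]
    rfl
  · refine smul_injective_stalk (F j) (hUaff x) _ (comb_regular _ _ Γ(F j, U x) a ?_) y hy
    intro W hW
    exact ha W (Set.mem_iUnion₂.2 ⟨x, hxT, Set.mem_iUnion.2 ⟨j, hW⟩⟩)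

end Main

end Groth.Agent.Helper24.RegSec
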