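import Mathlib
import Groth.Agent.Lib.Helper24.ResHom4
import Groth.Agent.Lib.Helper29.OpenRes

/-!
# Relative Ext sheaves commute with restriction to an open subscheme of the base (helper24)
-/

set_option autoImplicit false
set_option maxHeartbeats 400000
universe u
open CategoryTheory CategoryTheory.Limits AlgebraicGeometry Opposite TopologicalSpace TensorProduct
open Groth.Agent.Helper29.SHomA

namespace Groth.Agent.Helper24.ResHom

variable {X Y : Scheme.{u}} (f : X ⟶ Y) (W : Y.Opens) (F : X.Modules)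

theorem main16281 (G : X.Modules) (p : ℕ)
    [ModSite.HasSheafHom (O := X.sheaf) F] [HasInjectiveResolutions (ModSite.Mod X.sheaf)]
    [h₁ : (ModSite.sheafHom (O := X.sheaf) F ⋙ Scheme.Modules.pushforward f).Additive]
    [ModSite.HasSheafHom (O := (↑(f ⁻¹ᵁ W) : Scheme.{u}).sheaf) (F.restrict (f ⁻¹ᵁ W).ι)]
    [HasInjectiveResolutions (ModSite.Mod (↑(f ⁻¹ᵁ W) : Scheme.{u}).sheaf)]
    [h₂ : (ModSite.sheafHom (O := (↑(f ⁻¹ᵁ W) : Scheme.{u}).sheaf) (F.restrict (f ⁻¹ᵁ W).ι) ⋙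
      Scheme.Modules.pushforward (f ∣_ W)).Additive] :
    Nonempty ((Scheme.Modules.restrictFunctor W.ι).obj
        (((ModSite.sheafHom (O := X.sheaf) F ⋙ Scheme.Modules.pushforward f).rightDerived p).obj G) ≅
      ((ModSite.sheafHom (O := (↑(f ⁻¹ᵁ W) : Scheme.{u}).sheaf) (F.restrict (f ⁻¹ᵁ W).ι) ⋙
        Scheme.Modules.pushforward (f ∣_ W)).rightDerived p).obj (G.restrict (f ⁻¹ᵁ W).ι)) := by
  haveI : EnoughInjectives (ModSite.Mod X.sheaf) :=
    Groth.Agent.Helper24.ExtSS.enoughInjectives_of_hasInjectiveResolutions _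
  haveI : EnoughInjectives X.Modules := ‹EnoughInjectives (ModSite.Mod X.sheaf)›
  haveI : EnoughInjectives (ModSite.Mod (↑(f ⁻¹ᵁ W) : Scheme.{u}).sheaf) :=
    Groth.Agent.Helper24.ExtSS.enoughInjectives_of_hasInjectiveResolutions _
  haveI : EnoughInjectives (↑(f ⁻¹ᵁ W) : Scheme.{u}).Modules :=
    ‹EnoughInjectives (ModSite.Mod (↑(f ⁻¹ᵁ W) : Scheme.{u}).sheaf)›
  let rX : X.Modules ⥤ (↑(f ⁻¹ᵁ W) : Scheme.{u}).Modules :=
    Scheme.Modules.restrictFunctor (f ⁻¹ᵁ W).ι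
  let rY : Y.Modules ⥤ (↑W : Scheme.{u}).Modules := Scheme.Modules.restrictFunctor W.ι
  let SF : X.Modules ⥤ X.Modules := ModSite.sheafHom (O := X.sheaf) F
  let SF' : (↑(f ⁻¹ᵁ W) : Scheme.{u}).Modules ⥤ (↑(f ⁻¹ᵁ W) : Scheme.{u}).Modules :=
    ModSite.sheafHom (O := (↑(f ⁻¹ᵁ W) : Scheme.{u}).sheaf) (F.restrict (f ⁻¹ᵁ W).ι)
  let K : X.Modules ⥤ Y.Modules := SF ⋙ Scheme.Modules.pushforward f
  let H : (↑(f ⁻¹ᵁ W) : Scheme.{u}).Modules ⥤ (↑W : Scheme.{u}).Modules :=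
    SF' ⋙ Scheme.Modules.pushforward (f ∣_ W)
  haveI : K.Additive := h₁
  haveI : H.Additive := h₂
  haveI : PreservesFiniteLimits rX := CxOX.preservesFiniteLimits_restrictFunctor (f ⁻¹ᵁ W).ι
  haveI : PreservesFiniteColimits rX := CxOX.preservesFiniteColimits_restrictFunctor (f ⁻¹ᵁ W).ι
  haveI : rX.Additive := by
    haveI := preservesBinaryBiproducts_of_preservesBinaryProducts rX
    exact Functor.additive_of_preservesBinaryBiproducts rX
  haveI : PreservesFiniteLimits rY := CxOX.preservesFiniteLimits_restrictFunctor W.ι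
  haveI : PreservesFiniteColimits rY := CxOX.preservesFiniteColimits_restrictFunctor W.ι
  haveI : rY.Additive := by
    haveI := preservesBinaryBiproducts_of_preservesBinaryProducts rY
    exact Functor.additive_of_preservesBinaryBiproducts rY
  haveI : PreservesFiniteLimits SF := Groth.Agent.Helper24.ExtTw.preservesFiniteLimits_sheafHom F
  haveI : PreservesFiniteLimits SF' :=
    Groth.Agent.Helper24.ExtTw.preservesFiniteLimits_sheafHom (F.restrict (f ⁻¹ᵁ W).ι)
  haveI : PreservesFiniteLimits (Scheme.Modules.pushforward f) :=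
    Groth.Agent.Helper24.ExtTw.preservesFiniteLimits_pushforward f
  haveI : PreservesFiniteLimits (Scheme.Modules.pushforward (f ∣_ W)) :=
    Groth.Agent.Helper24.ExtTw.preservesFiniteLimits_pushforward (f ∣_ W)
  haveI : PreservesFiniteLimits K := comp_preservesFiniteLimits SF _
  haveI : PreservesFiniteLimits H := comp_preservesFiniteLimits SF' _
  have hU : ∀ Q : X.Modules, Injective Q → ∀ k : ℕ,
      IsZero ((H.rightDerived (k + 1)).obj (rX.obj Q)) := by
    intro Q hQ k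
    haveI : Injective (rX.obj Q) := Groth.Agent.Helper17.IR.main11327 X (f ⁻¹ᵁ W) Q hQ
    exact Functor.isZero_rightDerived_obj_injective_succ H k (rX.obj Q)
  let φ : K ⋙ rY ≅ rX ⋙ H :=
    (Iso.refl _ : (SF ⋙ Scheme.Modules.pushforward f) ⋙ rY ≅
      SF ⋙ (Scheme.Modules.pushforward f ⋙ rY)) ≪≫
    Functor.isoWhiskerLeft SF (Groth.Agent.Helper29.OpenRes.γ f W) ≪≫
    (Iso.refl _ : SF ⋙ (rX ⋙ Scheme.Modules.pushforward (f ∣_ W)) ≅
      (SF ⋙ rX) ⋙ Scheme.Modules.pushforward (f ∣_ W)) ≪≫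
    Functor.isoWhiskerRight (sheafHomRestrictIso (f ⁻¹ᵁ W) F)
      (Scheme.Modules.pushforward (f ∣_ W)) ≪≫
    (Iso.refl _ : (rX ⋙ SF') ⋙ Scheme.Modules.pushforward (f ∣_ W) ≅
      rX ⋙ (SF' ⋙ Scheme.Modules.pushforward (f ∣_ W)))
  obtain ⟨e⟩ := Groth.Agent.Helper24.LC.nonempty_comparison rX rY K H φ hU p
  exact ⟨e.app G⟩

end Groth.Agent.Helper24.ResHom
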