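import Groth.Agent.Lib.Helper24.RlimConst2

set_option autoImplicit false
set_option linter.unusedSectionVars false
universe w u
open CategoryTheory CategoryTheory.Limits Opposite

namespace Groth.Agent.Helper24.RlimConst

open Groth.Agent.Helper24.FrMod Groth.Agent.Helper17.MT Groth.Agent.Helper24.HDSheaf
  Groth.Agent.Helper24.RlimSeq Groth.Agent.Helper24.HDMod Groth.Agent.Helper24.RlimTrunc
  Groth.Agent.Helper24.ModGroth

variable {C : Type u} [SmallCategory C] {J : GrothendieckTopology C}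
variable (O : Sheaf J CommRingCat.{u}) [HasDerivedCategory.{w} (ModSite.Mod O)]

open DerivedCategory

section Trans

variable {K : ℕ → DerivedCategory (ModSite.Mod O)} {t : ∀ n, K (n + 1) ⟶ K n}

theorem isIso_homology_transition (j : ℤ) (n : ℕ)
    (h : ∀ k, n ≤ k → IsIso ((homologyFunctor (ModSite.Mod O) j).map (t k))) :
    ∀ k, IsIso ((homologyFunctor (ModSite.Mod O) j).map (CohCx.transition K t n k))
  | 0 => by
    change IsIso ((homologyFunctor (ModSite.Mod O) j).map (𝟙 _))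
    rw [CategoryTheory.Functor.map_id]
    infer_instance
  | k + 1 => by
    change IsIso ((homologyFunctor (ModSite.Mod O) j).map (t (n + k) ≫ CohCx.transition K t n k))
    rw [Functor.map_comp]
    have := h (n + k) (by omega)
    have := isIso_homology_transition j n h k
    infer_instance

end Trans

section Key

variable (A : ObjectProperty (ModSite.Mod O)) [WSerre.IsWeakSerre A]
  (K : ℕ → DerivedCategory (ModSite.Mod O)) (t : ∀ n, K (n + 1) ⟶ K n)
  (hK : ∀ n, WSerre.cohInPlus A (K n))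

include hK in
/-- Claim C for the system -/
theorem bijective_postcomp_system (W : C) (d : ℕ)
    (hW : ∀ F : ModSite.Mod O, A F → ∀ k : ℕ, d < k → Subsingleton (ModSite.HU O F k W))
    (j : ℤ) (N : ℕ)
    (hN : ∀ q : ℤ, j - d - 2 ≤ q → q ≤ j + 1 → ∀ k, N ≤ k →
      IsIso ((homologyFunctor (ModSite.Mod O) q).map (t k)))
    (j' : ℤ) (hj' : j' = j - 1 ∨ j' = j) (k : ℕ) (hk : N ≤ k) :
    Function.Bijective (fun φ : HDUM O (K (k + 1)) j' W => (φ ≫ (t k)⟦j'⟧' : HDUM O (K k) j' W)) := by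
  refine bijective_postcomp_of_homology_iso A (ZM O W) d
    (fun F hF k' hk' => subsingleton_ext_ZM O W F k' (hW F hF k' hk')) (t k) (hK (k + 1)) (hK k) j'
    (fun q hq1 hq2 => hN q (by rcases hj' with rfl | rfl <;> omega)
      (by rcases hj' with rfl | rfl <;> omega) k hk)

variable [HasProduct K] (L : DerivedCategory (ModSite.Mod O)) (a : ∀ n, L ⟶ K n)
  (hL : CohCx.IsRlimVia K t L a)

include hK hL in
theorem injective_sections_aN (V : C) (d : ℕ)
    (hV : ∀ T ∈ J V, ∃ (ι : Type u) (Y : ι → C) (g : ∀ i, Y i ⟶ V),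
      (∀ i, T.arrows (g i)) ∧ Sieve.ofArrows Y g ∈ J V ∧
      ∀ (i : ι) (F : ModSite.Mod O), A F → ∀ k : ℕ, d < k → Subsingleton (ModSite.HU O F k (Y i)))
    (j : ℤ) (N : ℕ)
    (hN : ∀ q : ℤ, j - d - 2 ≤ q → q ≤ j + 1 → ∀ k, N ≤ k →
      IsIso ((homologyFunctor (ModSite.Mod O) q).map (t k))) :
    Function.Injective (((toAbF O).map
      ((homologyFunctor _ j).map (a N))).hom.app (op V)) := by
  refine injective_sections_rlimM O K t L a hL V j N (fun T hT => ?_)
  obtain ⟨ι, Y, g, hg, hcov, hv⟩ := hV T hT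
  refine ⟨ι, Y, g, hg, hcov, fun i => ⟨?_, ?_⟩⟩
  · refine limOneIsZero_of_surjective_ge N _ _ (fun n hn => ?_)
    exact (bijective_postcomp_system O A K t hK (Y i) d (hv i) j N hN (j - 1) (Or.inl rfl) n hn).2
  · intro k
    induction k with
    | zero =>
      intro f g' hfg
      change f ≫ (𝟙 _)⟦j⟧' = g' ≫ (𝟙 _)⟦j⟧' at hfg
      rwa [CategoryTheory.Functor.map_id, Category.comp_id, Category.comp_id] at hfg
    | succ k ih =>
      intro f g' hfg
      change f ≫ (t (N + k) ≫ CohCx.transition K t N k)⟦j⟧' =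
        g' ≫ (t (N + k) ≫ CohCx.transition K t N k)⟦j⟧' at hfg
      rw [Functor.map_comp, ← Category.assoc, ← Category.assoc] at hfg
      exact (bijective_postcomp_system O A K t hK (Y i) d (hv i) j N hN j (Or.inr rfl) (N + k)
        (by omega)).1 (ih hfg)

include hK hL in
theorem imageSieve_aN_mem (V : C) (d : ℕ)
    (hV : ∀ T ∈ J V, ∃ (ι : Type u) (Y : ι → C) (g : ∀ i, Y i ⟶ V),
      (∀ i, T.arrows (g i)) ∧ Sieve.ofArrows Y g ∈ J V ∧
      ∀ (i : ι) (F : ModSite.Mod O), A F → ∀ k : ℕ, d < k → Subsingleton (ModSite.HU O F k (Y i)))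
    (j : ℤ) (N : ℕ)
    (hN : ∀ q : ℤ, j - d - 2 ≤ q → q ≤ j + 1 → ∀ k, N ≤ k →
      IsIso ((homologyFunctor (ModSite.Mod O) q).map (t k)))
    (s : ((toAbF O).obj ((homologyFunctor (ModSite.Mod O) j).obj (K N))).obj.obj (op V)) :
    Presheaf.imageSieve ((toAbF O).map ((homologyFunctor _ j).map (a N))).hom s ∈ J V := by
  obtain ⟨S, hS, h1⟩ := cSecM_locally_surj O (K N) j V s
  obtain ⟨ι, Y, g, hg, hcov, hv⟩ := hV S hS
  have key : ∀ i, (Presheaf.imageSieve ((toAbF O).map
      ((homologyFunctor _ j).map (a N))).hom s).arrows (g i) := by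
    intro i
    obtain ⟨φ, hφ⟩ := h1 (g i) (hg i)
    obtain ⟨x, hx0, hxc⟩ := exists_compatible_of_surjective_ge N
      (fun n => HDUM O (K n) j (Y i)) (fun n ψ => ψ ≫ (t n)⟦j⟧')
      (fun n hn => (bijective_postcomp_system O A K t hK (Y i) d (hv i) j N hN j (Or.inr rfl)
        n hn).2) φ
    obtain ⟨y, hy⟩ := rlim_lift hL ((singleFunctor _ 0).obj (ZM O (Y i))) j x hxc
    refine ⟨cSecM O L j (Y i) y, ?_⟩
    have h2 := cSecM_postcomp O (a N) j (Y i) y
    rw [hy N, hx0, hφ] at h2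
    exact h2.symm
  refine J.superset_covering ?_ hcov
  rintro W k ⟨Z, k', g', ⟨i⟩, rfl⟩
  exact Sieve.downward_closed _ (key i) k'

end Key

end Groth.Agent.Helper24.RlimConst
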