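import Groth.Agent.Lib.Helper24.RlimLim7

set_option autoImplicit false
set_option linter.unusedSectionVars false
universe w' w v u
open CategoryTheory CategoryTheory.Limits Opposite

namespace Groth.Agent.Helper24.RlimLim

open Groth.Agent.Helper24.HDSheaf Groth.Agent.Helper24.RlimSeq Groth.Agent.Helper24.RlimTrunc
  Groth.Agent.Helper24.RlimConst Groth.Agent.Helper24.HDSec

section Main

variable {C : Type u} [SmallCategory C] {J : GrothendieckTopology C}
  [HasDerivedCategory.{u} (Sheaf J AddCommGrpCat.{u})]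
  (K : ℕ → DerivedCategory (Sheaf J AddCommGrpCat.{u})) (t : ∀ n, K (n + 1) ⟶ K n) [HasProduct K]
  (L : DerivedCategory (Sheaf J AddCommGrpCat.{u})) (a : ∀ n, L ⟶ K n)
  (hL : CohCx.IsRlimVia K t L a) (B : Set C)
  (hB : ∀ U : C, ∃ (ι : Type u) (Y : ι → C) (f : ∀ i, Y i ⟶ U), Sieve.ofArrows Y f ∈ J U ∧ ∀ i, Y i ∈ B)
  (h1 : ∀ U ∈ B, ∀ (p : ℕ) (q : ℤ) (n : ℕ), Subsingleton (CohSite.HU (CohCx.HD (K n) q) (p + 1) U))
  (h2 : ∀ U ∈ B, ∀ (q : ℤ), CohCx.LimOneIsZero (fun n => (CohCx.HD (K n) q).obj.obj (op U))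
    (fun n => (((DerivedCategory.homologyFunctor _ q).map (t n)).hom.app (op U)).hom))
  (q : ℤ)

open DerivedCategory

/-- the system of cohomology sheaves -/
noncomputable abbrev Fq (n : ℕ) : Sheaf J AddCommGrpCat.{u} := CohCx.HD (K n) q

noncomputable abbrev tq (n : ℕ) : Fq K q (n + 1) ⟶ Fq K q n := (homologyFunctor _ q).map (t n)

include hL in
lemma lift_δ : (Pi.lift (fun n => (homologyFunctor _ q).map (a n)) : CohCx.HD L q ⟶ ∏ᶜ (Fq K q)) ≫
    δ (Fq K q) (tq K t q) = 0 := by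
  apply Pi.hom_ext
  intro n
  rw [Category.assoc, δ_π, Preadditive.comp_sub, Pi.lift_π, ← Category.assoc, Pi.lift_π, zero_comp,
    ← Functor.map_comp, rlim_compat hL, sub_self]

/-- the comparison map `H^q(L) ⟶ lim H^q(K_n)` -/
noncomputable def Φ : CohCx.HD L q ⟶ limit (CohCx.opSequence (Fq K q) (tq K t q)) :=
  liftL (Fq K q) (tq K t q) _ (lift_δ K t L a hL q)

lemma Φ_πL (n : ℕ) : Φ K t L a hL q ≫ πL (Fq K q) (tq K t q) n = (homologyFunctor _ q).map (a n) := by
  unfold Φ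
  rw [lift_πL, Pi.lift_π]

lemma Φ_πL_apply (n : ℕ) (V : C) (s : (CohCx.HD L q).obj.obj (op V)) :
    (ConcreteCategory.hom ((πL (Fq K q) (tq K t q) n).hom.app (op V)))
      ((ConcreteCategory.hom ((Φ K t L a hL q).hom.app (op V))) s) =
    (ConcreteCategory.hom (((homologyFunctor _ q).map (a n)).hom.app (op V))) s := by
  rw [← Φ_πL K t L a hL q n]
  rfl

include hB h1 h2 in
theorem lim1_HDU (U : C) (hU : U ∈ B) (m : ℤ) :
    CohCx.LimOneIsZero (fun n => (singleFunctor _ 0).obj (CohCx.freeSheaf J U) ⟶ (K n)⟦m⟧)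
      (fun n => Preadditive.rightComp _ ((t n)⟦m⟧')) := by
  refine limOneIsZero_of_bijective _ _ (fun n => cSec (K n) m U)
    (fun n => cSec_bijective (K n) B hB (fun U hU p q => h1 U hU p q n) U hU m)
    (fun n x => ?_) (h2 U hU m)
  exact cSec_postcomp (t n) m U x

include hB h1 h2 in
theorem mono_Φ : Mono (Φ K t L a hL q) := by
  refine mono_of_sections_ker _ (fun W s hs => ?_)
  obtain ⟨S, hS, hs'⟩ := cSec_locally_surj L q W s
  refine eq_zero_of_sieve_zero _ s S hS (fun {V} g hg => ?_)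
  obtain ⟨φ, hφ⟩ := hs' g hg
  obtain ⟨ι, Y, f, hcov, hY⟩ := hB V
  refine eq_zero_of_locally_zero _ _ Y f hcov (fun i => ?_)
  have h3 := cSec_res L q (f i) φ
  rw [hφ] at h3
  rw [← h3]
  suffices CohCx.HDUres L q (f i) φ = 0 by rw [this, map_zero]
  have lim1 := lim1_HDU K t B hB h1 h2 (Y i) (hY i) (q - 1)
  refine rlim_unique hL _ q lim1 _ (fun n => ?_)
  apply (cSec_bijective (K n) B hB (fun U hU p q => h1 U hU p q n) (Y i) (hY i) q).1
  rw [cSec_postcomp, map_zero, h3, ← Φ_πL_apply K t L a hL q n]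
  -- naturality of `Φ` with respect to restriction
  have hn1 := ConcreteCategory.congr_hom ((Φ K t L a hL q).hom.naturality g.op) s
  have hn2 := ConcreteCategory.congr_hom ((Φ K t L a hL q).hom.naturality (f i).op)
    ((ConcreteCategory.hom ((CohCx.HD L q).obj.map g.op)) s)
  simp only [ConcreteCategory.comp_apply] at hn1 hn2
  rw [hn2, hn1, hs, map_zero, map_zero, map_zero]

include hB h1 in
theorem epi_Φ : Epi (Φ K t L a hL q) := by
  refine epi_of_locally_surjective_on B hB _ (fun V hV r => ?_)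
  have hbij := fun n => cSec_bijective (K n) B hB (fun U hU p q => h1 U hU p q n) V hV q
  choose φ hφ using fun n => (hbij n).2
    ((ConcreteCategory.hom ((πL (Fq K q) (tq K t q) n).hom.app (op V))) r)
  have hcompat : ∀ n, φ (n + 1) ≫ (t n)⟦q⟧' = φ n := by
    intro n
    apply (hbij n).1
    rw [cSec_postcomp, hφ, hφ, ← πL_succ (Fq K q) (tq K t q) n]
    rfl
  obtain ⟨y, hy⟩ := rlim_lift hL _ q φ hcompat
  have : Presheaf.imageSieve (Φ K t L a hL q).hom r = ⊤ := by
    rw [← Sieve.id_mem_iff_eq_top]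
    refine ⟨cSec L q V y, ?_⟩
    rw [op_id, CategoryTheory.Functor.map_id]
    apply limit_section_ext
    intro n
    rw [Φ_πL_apply, ← cSec_postcomp, hy, hφ]
    rfl
  rw [this]
  exact J.top_mem V

include hB h1 h2 in
theorem isIso_Φ : IsIso (Φ K t L a hL q) := by
  have := mono_Φ K t L a hL B hB h1 h2 q
  have := epi_Φ K t L a hL B hB h1 q
  exact isIso_of_mono_of_epi _

end Main

end Groth.Agent.Helper24.RlimLim
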