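import Groth.Agent.Lib.Helper24.RlimLim6
import Groth.Agent.Lib.Helper24.RlimTruncMod

/-!
# `R lim = lim` for inverse systems of `O`-modules on a ringed site (module version of `RlimLim4-6`)
-/
set_option autoImplicit false
set_option linter.unusedSectionVars false
universe w' w v u
open CategoryTheory CategoryTheory.Limits Opposite

namespace Groth.Agent.Helper24.RlimLimMod

open Groth.Agent.Helper24.HDSheaf Groth.Agent.Helper24.RlimSeq Groth.Agent.Helper24.RlimTrunc
  Groth.Agent.Helper24.RlimConst Groth.Agent.Helper24.RlimLim Groth.Agent.Helper24.HDMod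
  Groth.Agent.Helper24.FrMod Groth.Agent.Helper17.MT

variable {C : Type u} [SmallCategory C] {J : GrothendieckTopology C}
variable (O : Sheaf J CommRingCat.{u})

theorem isZero_of_sections_zeroM (G : ModSite.Mod O)
    (h : ∀ (U : C) (s : ((toAbF O).obj G).obj.obj (op U)), s = 0) : IsZero G := by
  have h1 : IsZero ((toAbF O).obj G) := isZero_of_sections_zero _ h
  rw [IsZero.iff_id_eq_zero]
  apply (toAbF O).map_injective
  rw [Functor.map_zero]
  exact (IsZero.iff_id_eq_zero _).1 h1 ▸ (toAbF O).map_id G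

variable [HasDerivedCategory.{w} (ModSite.Mod O)]

theorem isZero_HD_of_locally_subsingletonM (K : DerivedCategory (ModSite.Mod O)) (q : ℤ)
    (h : ∀ U : C, ∃ (ι : Type u) (Y : ι → C) (f : ∀ i, Y i ⟶ U), Sieve.ofArrows Y f ∈ J U ∧
      ∀ i, Subsingleton (HDUM O K q (Y i))) :
    IsZero ((DerivedCategory.homologyFunctor (ModSite.Mod O) q).obj K) := by
  apply isZero_of_sections_zeroM
  intro U s
  obtain ⟨S, hS, hs⟩ := cSecM_locally_surj O K q U s
  refine eq_zero_of_sieve_zero _ s S hS (fun {V} g hg => ?_)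
  obtain ⟨φ, hφ⟩ := hs g hg
  obtain ⟨ι, Y, f, hcov, hsub⟩ := h V
  refine eq_zero_of_locally_zero _ _ Y f hcov (fun i => ?_)
  have h1 := cSecM_res O K q (f i) φ
  rw [hφ] at h1
  have h2 : HDUMres O K q (f i) φ = 0 := (hsub i).elim _ _
  rw [h2, cSecM_zero] at h1
  exact h1.symm


omit [HasDerivedCategory.{w} (ModSite.Mod O)] in
/-- the free modules detect isomorphisms -/
theorem isIso_of_bijective_on_ZM {X Y : ModSite.Mod O} (γ : X ⟶ Y)
    (h : ∀ Z : ModSite.Mod O, (∃ U : C, Z = ZM O U) →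
      Function.Bijective (fun a : Z ⟶ X => a ≫ γ)) : IsIso γ := by
  have hb : ∀ U : C, Function.Bijective (((toAbF O).map γ).hom.app (op U)) := by
    intro U
    have hU := h (ZM O U) ⟨U, rfl⟩
    have key : ∀ s : ((toAbF O).obj X).obj.obj (op U), (((toAbF O).map γ).hom.app (op U)).hom s =
        evalM O U Y (ofSectM O U X s ≫ γ) := by
      intro s
      rw [evalM_comp, evalM_ofSectM]
    constructor
    · intro s s' hss'
      have h1 : ofSectM O U X s ≫ γ = ofSectM O U X s' ≫ γ := by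
        apply evalM_injective O U
        rw [← key, ← key]
        exact hss'
      have h2 := hU.1 h1
      have h3 := congrArg (evalM O U X) h2
      rwa [evalM_ofSectM, evalM_ofSectM] at h3
    · intro r
      obtain ⟨a, ha⟩ := hU.2 (ofSectM O U Y r)
      refine ⟨evalM O U X a, ?_⟩
      change (((toAbF O).map γ).hom.app (op U)).hom (evalM O U X a) = r
      rw [← evalM_comp]
      have ha' : a ≫ γ = ofSectM O U Y r := ha
      rw [ha', evalM_ofSectM]
  have h1 : IsIso ((toAbF O).map γ).hom := by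
    have : ∀ W : Cᵒᵖ, IsIso (((toAbF O).map γ).hom.app W) := by
      intro W
      rw [ConcreteCategory.isIso_iff_bijective]
      exact hb W.unop
    exact NatIso.isIso_of_isIso_app _
  have h2 : IsIso ((sheafToPresheaf J AddCommGrpCat.{u}).map ((toAbF O).map γ)) := h1
  have h3 : IsIso ((toAbF O).map γ) :=
    isIso_of_reflects_iso ((toAbF O).map γ) (sheafToPresheaf J AddCommGrpCat.{u})
  exact isIso_of_reflects_iso γ (toAbF O)

section Tower

variable (F : ℕ → ModSite.Mod O) (t : ∀ n, F (n + 1) ⟶ F n)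

omit [HasDerivedCategory.{w} (ModSite.Mod O)] in
theorem surjective_comp_δM (U : C)
    (h2 : CohCx.LimOneIsZero (fun n => ((toAbF O).obj (F n)).obj.obj (op U))
      (fun n => (((toAbF O).map (t n)).hom.app (op U)).hom)) :
    Function.Surjective (fun a : ZM O U ⟶ ∏ᶜ F => a ≫ δ F t) := by
  intro σ
  obtain ⟨x, hx⟩ := h2 (fun n => evalM O U (F n) (σ ≫ Pi.π F n))
  refine ⟨Pi.lift (fun n => ofSectM O U (F n) (x n)), ?_⟩
  apply Pi.hom_ext
  intro n
  change (Pi.lift (fun n => ofSectM O U (F n) (x n)) ≫ δ F t) ≫ Pi.π F n = σ ≫ Pi.π F n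
  rw [Category.assoc, δ_π, Preadditive.comp_sub, Pi.lift_π, ← Category.assoc, Pi.lift_π]
  apply evalM_injective O U
  have hsub : ∀ (a b : ZM O U ⟶ F n), evalM O U (F n) (a - b) =
      evalM O U (F n) a - evalM O U (F n) b := by
    intro a b
    unfold evalM
    have := ((frAdj O).homAddEquiv (CohCx.freeSheaf J U) (F n)).map_sub a b
    change (frAdj O).homEquiv _ _ (a - b) = _ at this
    rw [this]
    exact map_sub (CohFree.homEquivSect J U _).toAddMonoidHom _ _
  rw [hsub, evalM_comp, evalM_ofSectM, evalM_ofSectM]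
  exact congrFun hx n


omit [HasDerivedCategory.{w} (ModSite.Mod O)] in
theorem epi_δM (B : Set C)
    (hB : ∀ U : C, ∃ (ι : Type u) (Y : ι → C) (f : ∀ i, Y i ⟶ U), Sieve.ofArrows Y f ∈ J U ∧ ∀ i, Y i ∈ B)
    (h2 : ∀ U ∈ B, CohCx.LimOneIsZero (fun n => ((toAbF O).obj (F n)).obj.obj (op U))
      (fun n => (((toAbF O).map (t n)).hom.app (op U)).hom)) : Epi (δ F t) := by
  haveI : Epi ((toAbF O).map (δ F t)) := by
    refine epi_of_locally_surjective_on B hB _ (fun V hV s => ?_)
    obtain ⟨a, ha⟩ := surjective_comp_δM O F t V (h2 V hV) (ofSectM O V _ s)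
    have : Presheaf.imageSieve ((toAbF O).map (δ F t)).hom s = ⊤ := by
      rw [← Sieve.id_mem_iff_eq_top]
      refine ⟨evalM O V _ a, ?_⟩
      have h3 := congrArg (evalM O V _) ha
      rw [evalM_ofSectM] at h3
      change evalM O V _ (a ≫ δ F t) = s at h3
      rw [evalM_comp] at h3
      rw [op_id, CategoryTheory.Functor.map_id]
      exact h3
    rw [this]
    exact J.top_mem V
  exact (toAbF O).epi_of_epi_map this

variable [HasExt.{w'} (ModSite.Mod O)]
  [HasProduct fun n => (DerivedCategory.singleFunctor (ModSite.Mod O) 0).obj (F n)]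
  (B : Set C)
  (hB : ∀ U : C, ∃ (ι : Type u) (Y : ι → C) (f : ∀ i, Y i ⟶ U), Sieve.ofArrows Y f ∈ J U ∧ ∀ i, Y i ∈ B)
  (h1 : ∀ U ∈ B, ∀ (p n : ℕ), Subsingleton (Abelian.Ext.{w'} (ZM O U) (F n) (p + 1)))

open DerivedCategory

include hB h1 in
theorem isLE_piM : (∏ᶜ fun n => (singleFunctor (ModSite.Mod O) 0).obj (F n)).IsLE 0 := by
  rw [isLE_iff]
  intro q hq
  obtain ⟨p, rfl⟩ : ∃ p : ℕ, q = ((p + 1 : ℕ) : ℤ) := ⟨(q - 1).toNat, by push_cast; omega⟩
  refine isZero_HD_of_locally_subsingletonM O _ _ (fun U => ?_)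
  obtain ⟨ι, Y, f, hcov, hY⟩ := hB U
  refine ⟨ι, Y, f, hcov, fun i => ⟨fun φ ψ => ?_⟩⟩
  apply shift_pi_hom_ext
  intro n
  exact (subsingleton_hom_shift (Iso.refl ((singleFunctor _ 0).obj (F n))) (ZM O (Y i))
    (p + 1) ((p + 1 : ℕ) : ℤ) (by omega) (h1 (Y i) (hY i) p n)).elim _ _

include hB h1 in
theorem isIso_cM : IsIso (c F) :=
  isIso_c_of_isLE F (isLE_piM O F B hB h1) (fun Z => ∃ U : C, Z = ZM O U)
    (fun γ hγ => isIso_of_bijective_on_ZM O γ hγ)

include hB h1 in
theorem isRlim_limitM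
    (h2 : ∀ U ∈ B, CohCx.LimOneIsZero (fun n => ((toAbF O).obj (F n)).obj.obj (op U))
      (fun n => (((toAbF O).map (t n)).hom.app (op U)).hom)) :
    DCoh.IsRlim (fun n => (singleFunctor _ 0).obj (F n)) (fun n => (singleFunctor _ 0).map (t n))
      ((singleFunctor _ 0).obj (limit (CohCx.opSequence F t))) := by
  have := epi_δM O F t B hB h2
  have := isIso_cM O F B hB h1
  exact isRlim_of_isIso_c F t

include hB h1 in
theorem subsingleton_ext_limitM
    (h2 : ∀ U ∈ B, CohCx.LimOneIsZero (fun n => ((toAbF O).obj (F n)).obj.obj (op U))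
      (fun n => (((toAbF O).map (t n)).hom.app (op U)).hom)) (U : C) (hU : U ∈ B) (p : ℕ) :
    Subsingleton (Abelian.Ext.{w'} (ZM O U) (limit (CohCx.opSequence F t)) (p + 1)) := by
  have := epi_δM O F t B hB h2
  have := isIso_cM O F B hB h1
  have hS := shortExact_of_epi F t
  have hpi : ∀ q : ℕ, Subsingleton (Abelian.Ext.{w'} (ZM O U) (∏ᶜ F) (q + 1)) :=
    fun q => subsingleton_ext_pi F _ (q + 1) (fun n => h1 U hU q n)
  suffices ∀ x : Abelian.Ext.{w'} (ZM O U) (limit (CohCx.opSequence F t)) (p + 1), x = 0 from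
    ⟨fun x y => (this x).trans (this y).symm⟩
  intro x₁
  have hx₁ : x₁.comp (Abelian.Ext.mk₀ (ι F t)) (add_zero (p + 1)) = 0 := (hpi p).elim _ _
  obtain ⟨x₃, hx₃⟩ := Abelian.Ext.covariant_sequence_exact₁ _ hS x₁ hx₁ (n₀ := p) rfl
  cases p with
  | zero =>
    obtain ⟨σ, rfl⟩ := Abelian.Ext.mk₀_bijective.{w'} _ _ |>.2 x₃
    obtain ⟨α, hα⟩ := surjective_comp_δM O F t U (h2 U hU) σ
    change α ≫ δ F t = σ at hα
    rw [← hx₃, ← hα, ← Abelian.Ext.mk₀_comp_mk₀, Abelian.Ext.comp_assoc_of_second_deg_zero]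
    have := hS.comp_extClass
    change (Abelian.Ext.mk₀ (δ F t)).comp hS.extClass (zero_add 1) = 0 at this
    rw [this, Abelian.Ext.comp_zero]
  | succ p =>
    have : x₃ = 0 := (hpi p).elim _ _
    rw [← hx₃, this, Abelian.Ext.zero_comp]

end Tower


section SurjSections

variable [HasExt.{w'} (ModSite.Mod O)]

omit [HasDerivedCategory.{w} (ModSite.Mod O)] in
/-- an epimorphism of `O`-modules whose kernel has no `Ext¹` from the free module on `U`
is surjective on sections over `U` -/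
theorem surjective_sections_of_epi {G H : ModSite.Mod O} (g : G ⟶ H) [Epi g] (U : C)
    (h : Subsingleton (Abelian.Ext.{w'} (ZM O U) (kernel g) 1)) :
    Function.Surjective (((toAbF O).map g).hom.app (op U)).hom := by
  intro r
  let S : ShortComplex (ModSite.Mod O) := ShortComplex.mk (kernel.ι g) g (kernel.condition g)
  have hS : S.ShortExact :=
    { exact := ShortComplex.exact_of_f_is_kernel _ (kernelIsKernel g)
      mono_f := inferInstanceAs (Mono (kernel.ι g))
      epi_g := inferInstanceAs (Epi g) }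
  obtain ⟨x₂, hx₂⟩ := Abelian.Ext.covariant_sequence_exact₃ (ZM O U) hS
    (Abelian.Ext.mk₀ (ofSectM O U H r)) (rfl : 0 + 1 = 1) (h.elim _ _)
  obtain ⟨a, rfl⟩ := (Abelian.Ext.mk₀_bijective (ZM O U) G).2 x₂
  rw [Abelian.Ext.mk₀_comp_mk₀] at hx₂
  have ha : a ≫ g = ofSectM O U H r := (Abelian.Ext.mk₀_bijective (ZM O U) H).1 hx₂
  refine ⟨evalM O U G a, ?_⟩
  rw [← evalM_comp, ha, evalM_ofSectM]

end SurjSections

end Groth.Agent.Helper24.RlimLimMod
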