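import Mathlib
import Groth.Agent.Lib.Helper24.RlimTrunc

/-!
# A triangulated functor preserving the relevant product preserves derived limits of towers
-/

set_option autoImplicit false
universe v₁ v₂ u₁ u₂
open CategoryTheory CategoryTheory.Limits Pretriangulated

namespace Groth.Agent.Helper24.RlimMap

variable {T : Type u₁} {T' : Type u₂} [Category.{v₁} T] [Category.{v₂} T']
  [Preadditive T] [Preadditive T'] [HasZeroObject T] [HasZeroObject T']
  [HasShift T ℤ] [HasShift T' ℤ]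
  [∀ n : ℤ, (shiftFunctor T n).Additive] [∀ n : ℤ, (shiftFunctor T' n).Additive]
  [Pretriangulated T] [Pretriangulated T']
  (G : T ⥤ T') [G.CommShift ℤ] [G.IsTriangulated] [G.Additive]
  {K : ℕ → T} {t : ∀ n, K (n + 1) ⟶ K n} [HasProduct K] {L : T} {a : ∀ n, L ⟶ K n}

theorem isRlimVia_map [PreservesLimit (Discrete.functor K) G]
    [HasProduct fun n => G.obj (K n)] (hL : CohCx.IsRlimVia K t L a) :
    CohCx.IsRlimVia (fun n => G.obj (K n)) (fun n => G.map (t n)) (G.obj L)
      (fun n => G.map (a n)) := by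
  obtain ⟨c, hc⟩ := hL
  have hd := G.map_distinguished _ hc
  let e : G.obj (∏ᶜ K) ≅ ∏ᶜ fun n => G.obj (K n) := PreservesProduct.iso G K
  have heπ : ∀ n, e.hom ≫ Pi.π (fun n => G.obj (K n)) n = G.map (Pi.π K n) := fun n =>
    piComparison_comp_π G K n
  refine ⟨e.inv ≫ G.map c ≫ (G.commShiftIso (1 : ℤ)).hom.app L, ?_⟩
  refine isomorphic_distinguished _ hd _ (Iso.symm ?_)
  refine Triangle.isoMk _ _ (Iso.refl _) e e ?_ ?_ ?_
  · change G.map (Pi.lift a) ≫ e.hom = 𝟙 _ ≫ Pi.lift fun n => G.map (a n)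
    rw [Category.id_comp]
    apply Pi.hom_ext
    intro n
    rw [Category.assoc, heπ, ← G.map_comp, Pi.lift_π, Pi.lift_π]
  · change G.map (Pi.lift fun n => Pi.π K n - Pi.π K (n + 1) ≫ t n) ≫ e.hom =
      e.hom ≫ Pi.lift fun n => Pi.π (fun n => G.obj (K n)) n -
        Pi.π (fun n => G.obj (K n)) (n + 1) ≫ G.map (t n)
    apply Pi.hom_ext
    intro n
    rw [Category.assoc, heπ, ← G.map_comp, Pi.lift_π, Category.assoc, Pi.lift_π,
      Preadditive.comp_sub, heπ, ← Category.assoc, heπ, G.map_sub, G.map_comp]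
  · change (G.map c ≫ (G.commShiftIso (1 : ℤ)).hom.app L) ≫ (𝟙 (G.obj L))⟦(1 : ℤ)⟧' =
      e.hom ≫ e.inv ≫ G.map c ≫ (G.commShiftIso (1 : ℤ)).hom.app L
    rw [Iso.hom_inv_id_assoc, CategoryTheory.Functor.map_id]
    exact Category.comp_id _

end Groth.Agent.Helper24.RlimMap
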