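import Groth.Agent.Lib.Helper24.RlimLim6

/-!
# The Milnor exact sequence for `Ext(Z, lim F_n)` when `R lim F_n = lim F_n`
-/

set_option autoImplicit false
set_option linter.unusedSectionVars false
universe w' w v u
open CategoryTheory CategoryTheory.Limits Opposite

namespace Groth.Agent.Helper24.RlimMilnor

open Groth.Agent.Helper24.RlimSeq Groth.Agent.Helper24.RlimLim

variable {𝒜 : Type u} [Category.{v} 𝒜] [Abelian 𝒜] [HasDerivedCategory.{w} 𝒜] [HasExt.{w'} 𝒜]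
  (F : ℕ → 𝒜) (t : ∀ n, F (n + 1) ⟶ F n) [HasProduct F] [HasLimit (CohCx.opSequence F t)]
  [HasProduct fun n => (DerivedCategory.singleFunctor 𝒜 0).obj (F n)]

open DerivedCategory

/-- the components of an `Ext` class with values in the product -/
noncomputable def Φ (Z : 𝒜) (q : ℕ) : Abelian.Ext.{w'} Z (∏ᶜ F) q →+ ∀ n, Abelian.Ext.{w'} Z (F n) q :=
  AddMonoidHom.pi (fun n => (Abelian.Ext.mk₀ (Pi.π F n)).postcomp Z (add_zero q))

lemma Φ_apply (Z : 𝒜) (q : ℕ) (x : Abelian.Ext.{w'} Z (∏ᶜ F) q) (n : ℕ) :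
    Φ F Z q x n = x.comp (Abelian.Ext.mk₀ (Pi.π F n)) (add_zero q) := rfl

lemma hom_comp_mk₀ {Z Y Y' : 𝒜} {q : ℕ} (x : Abelian.Ext.{w'} Z Y q) (f : Y ⟶ Y') :
    (x.comp (Abelian.Ext.mk₀ f) (add_zero q)).hom =
      x.hom ≫ ((singleFunctor 𝒜 0).map f)⟦(q : ℤ)⟧' := by
  rw [Abelian.Ext.comp_hom, Abelian.Ext.mk₀_hom, ShiftedHom.comp_mk₀]

theorem Φ_bijective [IsIso (c F)] (Z : 𝒜) (q : ℕ) : Function.Bijective (Φ F Z q) := by
  constructor
  · intro x y hxy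
    apply Abelian.Ext.ext
    have h1 : x.hom ≫ (c F)⟦(q : ℤ)⟧' = y.hom ≫ (c F)⟦(q : ℤ)⟧' := by
      apply shift_pi_hom_ext
      intro n
      rw [Category.assoc, Category.assoc, ← Functor.map_comp, c_π, ← hom_comp_mk₀, ← hom_comp_mk₀]
      exact congrArg Abelian.Ext.hom (congrFun hxy n)
    exact (cancel_mono _).1 h1
  · intro y
    obtain ⟨g, hg⟩ := shift_pi_lift (fun n => (singleFunctor 𝒜 0).obj (F n)) (q : ℤ)
      (X := (singleFunctor 𝒜 0).obj Z) (fun n => (y n).hom)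
    refine ⟨Abelian.Ext.homEquiv.symm (g ≫ (inv (c F))⟦(q : ℤ)⟧'), ?_⟩
    funext n
    apply Abelian.Ext.ext
    rw [Φ_apply, hom_comp_mk₀]
    change Abelian.Ext.homEquiv (Abelian.Ext.homEquiv.symm (g ≫ (inv (c F))⟦(q : ℤ)⟧')) ≫ _ = _
    rw [Equiv.apply_symm_apply, ← c_π, Functor.map_comp, Category.assoc, ← Functor.map_comp_assoc,
      IsIso.inv_hom_id, CategoryTheory.Functor.map_id, Category.id_comp]
    exact hg n

/-- `1 - shift` on families of `Ext` classes -/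
noncomputable def towerDiff (Z : 𝒜) (q : ℕ) :
    (∀ n, Abelian.Ext.{w'} Z (F n) q) →+ ∀ n, Abelian.Ext.{w'} Z (F n) q where
  toFun y n := y n - (y (n + 1)).comp (Abelian.Ext.mk₀ (t n)) (add_zero q)
  map_zero' := by
    funext n
    simp
  map_add' y y' := by
    funext n
    simp only [Pi.add_apply, Abelian.Ext.add_comp]
    abel

lemma Φ_δ (Z : 𝒜) (q : ℕ) (x : Abelian.Ext.{w'} Z (∏ᶜ F) q) :
    Φ F Z q (x.comp (Abelian.Ext.mk₀ (δ F t)) (add_zero q)) = towerDiff F t Z q (Φ F Z q x) := by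
  funext n
  change (x.comp (Abelian.Ext.mk₀ (δ F t)) (add_zero q)).comp (Abelian.Ext.mk₀ (Pi.π F n)) (add_zero q) =
    x.comp (Abelian.Ext.mk₀ (Pi.π F n)) (add_zero q) -
      (x.comp (Abelian.Ext.mk₀ (Pi.π F (n + 1))) (add_zero q)).comp (Abelian.Ext.mk₀ (t n)) (add_zero q)
  rw [Abelian.Ext.comp_assoc_of_third_deg_zero, Abelian.Ext.comp_assoc_of_third_deg_zero,
    Abelian.Ext.mk₀_comp_mk₀, Abelian.Ext.mk₀_comp_mk₀, δ_π, sub_eq_add_neg, Abelian.Ext.mk₀_add,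
    Abelian.Ext.mk₀_neg, Abelian.Ext.comp_add, Abelian.Ext.comp_neg]
  exact (sub_eq_add_neg _ _).symm

theorem milnor [Epi (δ F t)] [IsIso (c F)] (Z : 𝒜) (p : ℕ) :
    ∃ (α : (∀ n, Abelian.Ext.{w'} Z (F n) p) →+ Abelian.Ext.{w'} Z (limit (CohCx.opSequence F t)) (p + 1))
      (β : Abelian.Ext.{w'} Z (limit (CohCx.opSequence F t)) (p + 1) →+ ∀ n, Abelian.Ext.{w'} Z (F n) (p + 1)),
      (∀ x n, β x n = x.comp (Abelian.Ext.mk₀ (πL F t n)) (add_zero (p + 1))) ∧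
      (∀ y, α y = 0 ↔ y ∈ (towerDiff F t Z p).range) ∧
      (∀ x, β x = 0 ↔ x ∈ α.range) ∧
      (∀ w, towerDiff F t Z (p + 1) w = 0 ↔ w ∈ β.range) := by
  have hS := shortExact_of_epi F t
  have hΦp := Φ_bijective F Z p
  have hΦp1 := Φ_bijective F Z (p + 1)
  let eΦ := AddEquiv.ofBijective (Φ F Z p) hΦp
  let bd : Abelian.Ext.{w'} Z (∏ᶜ F) p →+ Abelian.Ext.{w'} Z (limit (CohCx.opSequence F t)) (p + 1) :=
    hS.extClass.postcomp Z (rfl : p + 1 = p + 1)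
  let ιs : Abelian.Ext.{w'} Z (limit (CohCx.opSequence F t)) (p + 1) →+ Abelian.Ext.{w'} Z (∏ᶜ F) (p + 1) :=
    (Abelian.Ext.mk₀ (ι F t)).postcomp Z (add_zero (p + 1))
  refine ⟨bd.comp eΦ.symm.toAddMonoidHom, (Φ F Z (p + 1)).comp ιs, ?_, ?_, ?_, ?_⟩
  · intro x n
    change (x.comp (Abelian.Ext.mk₀ (ι F t)) (add_zero (p + 1))).comp (Abelian.Ext.mk₀ (Pi.π F n))
      (add_zero (p + 1)) = _
    rw [Abelian.Ext.comp_assoc_of_third_deg_zero, Abelian.Ext.mk₀_comp_mk₀, ι_π]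
  · intro y
    obtain ⟨x, rfl⟩ := eΦ.surjective y
    change (eΦ.symm (eΦ x)).comp hS.extClass rfl = 0 ↔ _
    rw [AddEquiv.symm_apply_apply]
    constructor
    · intro h
      obtain ⟨x₂, hx₂⟩ := Abelian.Ext.covariant_sequence_exact₃ Z hS x rfl h
      refine ⟨Φ F Z p x₂, ?_⟩
      rw [← Φ_δ]
      exact congrArg (Φ F Z p) hx₂
    · rintro ⟨z, hz⟩
      obtain ⟨x₂, rfl⟩ := hΦp.2 z
      rw [← Φ_δ] at hz
      have h1 : x₂.comp (Abelian.Ext.mk₀ (δ F t)) (add_zero p) = x := hΦp.1 hz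
      rw [← h1, Abelian.Ext.comp_assoc_of_second_deg_zero]
      have := hS.comp_extClass
      change (Abelian.Ext.mk₀ (δ F t)).comp hS.extClass (zero_add 1) = 0 at this
      rw [this, Abelian.Ext.comp_zero]
  · intro x
    change Φ F Z (p + 1) (x.comp (Abelian.Ext.mk₀ (ι F t)) (add_zero (p + 1))) = 0 ↔ _
    constructor
    · intro h
      have h1 : x.comp (Abelian.Ext.mk₀ (ι F t)) (add_zero (p + 1)) = 0 :=
        hΦp1.1 (h.trans (map_zero _).symm)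
      obtain ⟨x₃, hx₃⟩ := Abelian.Ext.covariant_sequence_exact₁ Z hS x h1 (n₀ := p) rfl
      refine ⟨eΦ x₃, ?_⟩
      change (eΦ.symm (eΦ x₃)).comp hS.extClass rfl = x
      rw [AddEquiv.symm_apply_apply]
      exact hx₃
    · rintro ⟨y, rfl⟩
      change Φ F Z (p + 1) (((eΦ.symm y).comp hS.extClass rfl).comp (Abelian.Ext.mk₀ (ι F t))
        (add_zero (p + 1))) = 0
      rw [Abelian.Ext.comp_assoc_of_third_deg_zero]
      have := hS.extClass_comp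
      change hS.extClass.comp (Abelian.Ext.mk₀ (ι F t)) (add_zero 1) = 0 at this
      rw [this, Abelian.Ext.comp_zero, map_zero]
  · intro w
    obtain ⟨x₂, rfl⟩ := hΦp1.2 w
    rw [← Φ_δ]
    constructor
    · intro h
      have h1 : x₂.comp (Abelian.Ext.mk₀ (δ F t)) (add_zero (p + 1)) = 0 :=
        hΦp1.1 (h.trans (map_zero _).symm)
      obtain ⟨x₁, hx₁⟩ := Abelian.Ext.covariant_sequence_exact₂ Z hS x₂ h1
      exact ⟨x₁, congrArg (Φ F Z (p + 1)) hx₁⟩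
    · rintro ⟨x₁, hx₁⟩
      have h1 : x₁.comp (Abelian.Ext.mk₀ (ι F t)) (add_zero (p + 1)) = x₂ := hΦp1.1 hx₁
      rw [← h1, Abelian.Ext.comp_assoc_of_third_deg_zero, Abelian.Ext.mk₀_comp_mk₀, ι_δ,
        Abelian.Ext.mk₀_zero, Abelian.Ext.comp_zero, map_zero]

end Groth.Agent.Helper24.RlimMilnor
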