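import Mathlib
import Groth.Agent.Lib.Helper24.WayOut6

/-!
# D(A) → D(A/P) is a Verdier localization when the quotient functor has a fully faithful left adjoint
-/

set_option autoImplicit false
set_option linter.style.haveILetI false
set_option linter.unusedSectionVars false
universe w₁ w₂ v₁ v₂ u₁ u₂
open CategoryTheory CategoryTheory.Limits Pretriangulated

namespace Groth.Agent.Helper24.SerreLoc

section Adj

variable {C₁ : Type u₁} [Category.{v₁} C₁] [Abelian C₁]
  {C₂ : Type u₂} [Category.{v₂} C₂] [Abelian C₂]
  {F : C₁ ⥤ C₂} {G : C₂ ⥤ C₁} [F.Additive] [G.Additive] (adj : F ⊣ G)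

/-- An adjunction between additive functors induces an adjunction on complexes. -/
noncomputable def mapHCAdj {ι : Type*} (c : ComplexShape ι) :
    F.mapHomologicalComplex c ⊣ G.mapHomologicalComplex c :=
  Adjunction.mkOfUnitCounit
    { unit :=
        { app := fun K =>
            { f := fun i => adj.unit.app (K.X i)
              comm' := fun i j _ => by
                simp only [Functor.id_obj, Functor.comp_obj, Functor.mapHomologicalComplex_obj_d]
                exact (adj.unit.naturality (K.d i j)).symm }
          naturality := fun K L φ => by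
            ext i
            simp only [Functor.id_obj, Functor.comp_obj, Functor.id_map, HomologicalComplex.comp_f,
              Functor.comp_map, Functor.mapHomologicalComplex_map_f]
            exact adj.unit.naturality (φ.f i) }
      counit :=
        { app := fun K =>
            { f := fun i => adj.counit.app (K.X i)
              comm' := fun i j _ => by
                simp only [Functor.id_obj, Functor.comp_obj, Functor.mapHomologicalComplex_obj_d]
                exact (adj.counit.naturality (K.d i j)).symm }
          naturality := fun K L φ => by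
            ext i
            simp only [Functor.id_obj, Functor.comp_obj, Functor.id_map, HomologicalComplex.comp_f,
              Functor.comp_map, Functor.mapHomologicalComplex_map_f]
            exact adj.counit.naturality (φ.f i) }
      left_triangle := by
        ext K i
        simp
        exact adj.left_triangle_components (K.X i)
      right_triangle := by
        ext K i
        simp
        exact adj.right_triangle_components (K.X i) }

lemma mapHCAdj_unit_app_f {ι : Type*} (c : ComplexShape ι) (K : HomologicalComplex C₁ c) (i : ι) :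
    ((mapHCAdj adj c).unit.app K).f i = adj.unit.app (K.X i) := rfl

instance isIso_mapHCAdj_unit {ι : Type*} (c : ComplexShape ι) [IsIso adj.unit] :
    IsIso (mapHCAdj adj c).unit := by
  haveI : ∀ K, IsIso ((mapHCAdj adj c).unit.app K) := fun K => by
    haveI : ∀ i, IsIso (((mapHCAdj adj c).unit.app K).f i) := fun i => by
      rw [mapHCAdj_unit_app_f]; exact NatIso.isIso_app_of_isIso adj.unit (K.X i)
    exact HomologicalComplex.Hom.isIso_of_components _
  exact NatIso.isIso_of_isIso_app _

end Adj

open DerivedCategory

section IsZero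

variable {A : Type u₁} [Category.{v₁} A] [Abelian A] [HasDerivedCategory.{w₁} A]

theorem isZero_of_homology (X : DerivedCategory A)
    (h : ∀ n : ℤ, IsZero ((homologyFunctor A n).obj X)) : IsZero X := by
  haveI : X.IsLE 0 := by rw [isLE_iff]; intro i _; exact h i
  haveI : X.IsGE 1 := by rw [isGE_iff]; intro i _; exact h i
  exact TStructure.t.isZero X 0 1 (by omega)

/-- every morphism of the derived category is, as an arrow, the image of a morphism of complexes -/
theorem exists_Q_map_arrow_iso {X Y : DerivedCategory A} (g : X ⟶ Y) :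
    ∃ (K L : CochainComplex A ℤ) (f : K ⟶ L),
      Nonempty (Arrow.mk ((Q : CochainComplex A ℤ ⥤ _).map f) ≅ Arrow.mk g) := by
  obtain ⟨ψ, ⟨e⟩⟩ : ∃ ψ : Arrow (HomotopyCategory A (ComplexShape.up ℤ)),
      Nonempty (Qh.mapArrow.obj ψ ≅ Arrow.mk g) :=
    ⟨_, ⟨Qh.mapArrow.objObjPreimageIso (Arrow.mk g)⟩⟩
  obtain ⟨ψl, ψr, ψh⟩ := ψ
  obtain ⟨K, rfl⟩ := HomotopyCategory.quotient_obj_surjective ψl
  obtain ⟨L, rfl⟩ := HomotopyCategory.quotient_obj_surjective ψr
  obtain ⟨f, rfl⟩ := (HomotopyCategory.quotient A (ComplexShape.up ℤ)).map_surjective ψh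
  refine ⟨K, L, f, ⟨?_ ≪≫ e⟩⟩
  exact Arrow.isoMk ((quotientCompQhIso A).symm.app K) ((quotientCompQhIso A).symm.app L)
    (((quotientCompQhIso A).inv.naturality f).symm)

end IsZero

section Main

variable {A : Type u₁} [Category.{v₁} A] [Abelian A] [HasDerivedCategory.{w₁} A]
  (P : ObjectProperty A) [P.IsSerreClass]
  {Q : Type u₂} [Category.{v₂} Q] [Abelian Q] [HasDerivedCategory.{w₂} Q]
  (v : A ⥤ Q) [v.IsLocalization P.isoModSerre] [v.Additive] [PreservesFiniteLimits v]
  [PreservesFiniteColimits v]

/-- the class of morphisms with cone having cohomology in `P` is the class inverted by `D(v)` -/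
theorem trW_eq_inverseImage :
    ObjectProperty.trW (fun X : DerivedCategory A => ∀ n : ℤ, P ((homologyFunctor A n).obj X)) =
      (MorphismProperty.isomorphisms _).inverseImage v.mapDerivedCategory := by
  have key : ∀ Z : DerivedCategory A, IsZero (v.mapDerivedCategory.obj Z) ↔
      ∀ n : ℤ, P ((homologyFunctor A n).obj Z) := by
    intro Z
    constructor
    · intro hZ n
      rw [← ObjectProperty.SerreClassLocalization.isZero_obj_iff v P]
      exact IsZero.of_iso (Functor.map_isZero _ hZ)
        ((WayOut.mapDerivedCategoryHomologyIso v n).app Z).symm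
    · intro hZ
      apply isZero_of_homology
      intro n
      exact IsZero.of_iso ((ObjectProperty.SerreClassLocalization.isZero_obj_iff v P _).2 (hZ n))
        ((WayOut.mapDerivedCategoryHomologyIso v n).app Z)
  ext X Y g
  rw [ObjectProperty.trW_iff, MorphismProperty.inverseImage_iff, MorphismProperty.isomorphisms.iff]
  constructor
  · rintro ⟨Z, a, b, hT, hZ⟩
    have hT' := v.mapDerivedCategory.map_distinguished _ hT
    exact (Triangle.isZero₃_iff_isIso₁ _ hT').1 ((key Z).2 hZ)
  · intro hg
    obtain ⟨Z, a, b, hT⟩ := distinguished_cocone_triangle g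
    have hT' := v.mapDerivedCategory.map_distinguished _ hT
    exact ⟨Z, a, b, hT, (key Z).1 ((Triangle.isZero₃_iff_isIso₁ _ hT').2 hg)⟩

variable (u : Q ⥤ A) (adj : u ⊣ v) [IsIso adj.unit]

include adj in
theorem isLocalization_mapDerivedCategory :
    v.mapDerivedCategory.IsLocalization
      (ObjectProperty.trW (fun X : DerivedCategory A =>
        ∀ n : ℤ, P ((homologyFunctor A n).obj X))) := by
  haveI : u.Additive := adj.left_adjoint_additive
  let c := ComplexShape.up ℤ
  let vC := v.mapHomologicalComplex c
  let uC := u.mapHomologicalComplex c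
  let adjC : uC ⊣ vC := mapHCAdj adj c
  haveI : IsIso adjC.unit := isIso_mapHCAdj_unit adj c
  haveI : uC.Full := (adjC.fullyFaithfulLOfIsIsoUnit).full
  haveI : uC.Faithful := (adjC.fullyFaithfulLOfIsIsoUnit).faithful
  -- step 2: `vC` is a localization
  have h2 : vC.IsLocalization ((MorphismProperty.isomorphisms _).inverseImage vC) :=
    adjC.isLocalization'
  -- step 3
  let W₃ : MorphismProperty (CochainComplex A ℤ) :=
    (HomologicalComplex.quasiIso Q c).inverseImage vC
  have h3 : (vC ⋙ (DerivedCategory.Q : CochainComplex Q ℤ ⥤ _)).IsLocalization W₃ := by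
    refine Functor.IsLocalization.comp vC DerivedCategory.Q
      ((MorphismProperty.isomorphisms _).inverseImage vC)
      (HomologicalComplex.quasiIso Q c) W₃ ?_ ?_ ?_
    · intro K L f hf
      exact Localization.inverts DerivedCategory.Q (HomologicalComplex.quasiIso Q c) _ hf
    · intro K L f hf
      have hf' : IsIso (vC.map f) := hf
      change HomologicalComplex.quasiIso Q c (vC.map f)
      rw [HomologicalComplex.mem_quasiIso_iff]
      infer_instance
    · intro E E' g hg
      refine ⟨uC.obj E, uC.obj E', uC.map g, ?_, ⟨?_⟩⟩
      · change HomologicalComplex.quasiIso Q c (vC.map (uC.map g))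
        have e : Arrow.mk (vC.map (uC.map g)) ≅ Arrow.mk g :=
          (Arrow.isoMk (asIso (adjC.unit.app E)) (asIso (adjC.unit.app E'))
            (by simpa using (adjC.unit.naturality g))).symm
        exact ((HomologicalComplex.quasiIso Q c).arrow_mk_iso_iff e).2 hg
      · exact (Arrow.isoMk (asIso (adjC.unit.app E)) (asIso (adjC.unit.app E'))
            (by simpa using (adjC.unit.naturality g))).symm
  -- step 4
  have h4 : ((DerivedCategory.Q : CochainComplex A ℤ ⥤ _) ⋙ v.mapDerivedCategory).IsLocalization
      W₃ :=
    Functor.IsLocalization.of_iso W₃ v.mapDerivedCategoryFactors.symm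
  -- step 5
  refine Functor.IsLocalization.of_comp (DerivedCategory.Q : CochainComplex A ℤ ⥤ _)
    v.mapDerivedCategory (HomologicalComplex.quasiIso A c) _ W₃ ?_ ?_
  · intro K L f hf
    change HomologicalComplex.quasiIso Q c (vC.map f)
    rw [HomologicalComplex.mem_quasiIso_iff] at hf ⊢
    infer_instance
  · rw [trW_eq_inverseImage P v]
    ext X Y g
    constructor
    · intro hg
      have hg' : IsIso (v.mapDerivedCategory.map g) := hg
      obtain ⟨K, L, f, ⟨e⟩⟩ := exists_Q_map_arrow_iso g
      refine ⟨K, L, f, ?_, ⟨e⟩⟩
      change HomologicalComplex.quasiIso Q c (vC.map f)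
      rw [HomologicalComplex.mem_quasiIso_iff, ← DerivedCategory.isIso_Q_map_iff_quasiIso]
      have e2 : Arrow.mk (v.mapDerivedCategory.map (DerivedCategory.Q.map f)) ≅
          Arrow.mk (v.mapDerivedCategory.map g) :=
        v.mapDerivedCategory.mapArrow.mapIso e
      have h5 : IsIso (v.mapDerivedCategory.map (DerivedCategory.Q.map f)) :=
        ((MorphismProperty.isomorphisms _).arrow_mk_iso_iff e2).2 hg'
      have e3 : Arrow.mk (DerivedCategory.Q.map (vC.map f)) ≅
          Arrow.mk (v.mapDerivedCategory.map (DerivedCategory.Q.map f)) :=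
        Arrow.isoMk (v.mapDerivedCategoryFactors.symm.app K)
          (v.mapDerivedCategoryFactors.symm.app L)
          (by simpa using (v.mapDerivedCategoryFactors.inv.naturality f).symm)
      exact ((MorphismProperty.isomorphisms _).arrow_mk_iso_iff e3).2 h5
    · rintro ⟨K, L, f, hf, ⟨e⟩⟩
      have hf' : HomologicalComplex.quasiIso Q c (vC.map f) := hf
      rw [HomologicalComplex.mem_quasiIso_iff, ← DerivedCategory.isIso_Q_map_iff_quasiIso] at hf'
      have e3 : Arrow.mk (DerivedCategory.Q.map (vC.map f)) ≅
          Arrow.mk (v.mapDerivedCategory.map (DerivedCategory.Q.map f)) :=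
        Arrow.isoMk (v.mapDerivedCategoryFactors.symm.app K)
          (v.mapDerivedCategoryFactors.symm.app L)
          (by simpa using (v.mapDerivedCategoryFactors.inv.naturality f).symm)
      have h5 : IsIso (v.mapDerivedCategory.map (DerivedCategory.Q.map f)) :=
        ((MorphismProperty.isomorphisms _).arrow_mk_iso_iff e3).1 hf'
      have e2 : Arrow.mk (v.mapDerivedCategory.map (DerivedCategory.Q.map f)) ≅
          Arrow.mk (v.mapDerivedCategory.map g) :=
        v.mapDerivedCategory.mapArrow.mapIso e
      exact ((MorphismProperty.isomorphisms _).arrow_mk_iso_iff e2).1 h5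

end Main

end Groth.Agent.Helper24.SerreLoc
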