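import Groth.Agent.Lib.Helper24.CechRes2

/-!
# Short exactness of complexes of abelian sheaves from sectionwise short exactness (helper24)
-/

set_option autoImplicit false
universe u
open CategoryTheory CategoryTheory.Limits Opposite

namespace Groth.Agent.Helper24.ShExact

variable {C : Type u} [SmallCategory C] {J : GrothendieckTopology C}

theorem shortExact_of_sections (S : ShortComplex (Sheaf J AddCommGrpCat.{u}))
    (hinj : ∀ W : Cᵒᵖ, Function.Injective (S.f.hom.app W).hom)
    (hex : ∀ (W : Cᵒᵖ) (y : S.X₂.obj.obj W), (S.g.hom.app W).hom y = 0 →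
      ∃ x, (S.f.hom.app W).hom x = y)
    (hsurj : ∀ W : Cᵒᵖ, Function.Surjective (S.g.hom.app W).hom) : S.ShortExact := by
  let Sp := S.map (sheafToPresheaf J AddCommGrpCat.{u})
  have hSp : Sp.ShortExact := by
    have hm : Mono Sp.f := by
      haveI : ∀ W, Mono (Sp.f.app W) := fun W =>
        (AddCommGrpCat.mono_iff_injective _).2 (hinj W)
      exact NatTrans.mono_of_mono_app _
    have he : Epi Sp.g := by
      haveI : ∀ W, Epi (Sp.g.app W) := fun W =>
        (AddCommGrpCat.epi_iff_surjective _).2 (hsurj W)
      exact NatTrans.epi_of_epi_app _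
    refine { exact := ?_, mono_f := hm, epi_g := he }
    apply CechRes.exact_of_evaluation'
    intro W
    rw [ShortComplex.ab_exact_iff]
    intro y hy
    exact hex W y hy
  have h2 := hSp.map_of_exact (presheafToSheaf J AddCommGrpCat.{u})
  refine ShortComplex.shortExact_of_iso ?_ h2
  refine (ShortComplex.isoMk ((sheafificationNatIso J AddCommGrpCat.{u}).app S.X₁)
    ((sheafificationNatIso J AddCommGrpCat.{u}).app S.X₂)
    ((sheafificationNatIso J AddCommGrpCat.{u}).app S.X₃) ?_ ?_).symm
  · exact ((sheafificationNatIso J AddCommGrpCat.{u}).hom.naturality S.f).symm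
  · exact ((sheafificationNatIso J AddCommGrpCat.{u}).hom.naturality S.g).symm

end Groth.Agent.Helper24.ShExact
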