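import Mathlib

open CategoryTheory Limits MonoidalCategory CartesianMonoidalCategory MonObj Opposite

universe u
noncomputable section
namespace Groth.Agent.Helper24.ShGrp

attribute [-instance] ObjectProperty.fullMonoidalSubcategory ObjectProperty.fullBraidedSubcategory
  ObjectProperty.fullSymmetricSubcategory ObjectProperty.instMonoidalCategoryStructFullSubcategory

variable {C : Type u} [SmallCategory C] (J : GrothendieckTopology C)

/-- the underlying sheaf of sets -/
abbrev U : Sheaf J AddCommGrpCat.{u} ⥤ Sheaf J (Type u) := sheafCompose J (forget AddCommGrpCat)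

variable {J}

noncomputable instance braidedSheafType : BraidedCategory (Sheaf J (Type u)) :=
  BraidedCategory.ofCartesianMonoidalCategory

/-- extensionality for sheaf-of-types morphisms by sections -/
lemma sheafType_hom_ext {X Y : Sheaf J (Type u)} (f g : X ⟶ Y)
    (h : ∀ (c : Cᵒᵖ) (x : X.obj.obj c), f.hom.app c x = g.hom.app c x) : f = g := by
  apply Sheaf.hom_ext
  ext c x
  exact h c x

section toGrp
variable (A : Sheaf J AddCommGrpCat.{u})

def oneHom : 𝟙_ (Sheaf J (Type u)) ⟶ (U J).obj A :=
  ⟨{ app := fun c => TypeCat.ofHom (fun _ => (0 : A.obj.obj c))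
     naturality := by
      intro c d f
      ext x
      exact (map_zero (A.obj.map f).hom).symm }⟩

def mulHom : (U J).obj A ⊗ (U J).obj A ⟶ (U J).obj A :=
  ⟨{ app := fun c => TypeCat.ofHom (fun (p : (A.obj.obj c) × (A.obj.obj c)) => (p.1 + p.2 : A.obj.obj c))
     naturality := by
      intro c d f
      ext x
      obtain ⟨a, b⟩ := x
      change A.obj.obj c at a b
      exact (map_add (A.obj.map f).hom a b).symm }⟩

def invHom : (U J).obj A ⟶ (U J).obj A :=
  ⟨{ app := fun c => TypeCat.ofHom (fun (p : (A.obj.obj c)) => (-p : A.obj.obj c))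
     naturality := by
      intro c d f
      ext x
      change A.obj.obj c at x
      exact (map_neg (A.obj.map f).hom x).symm }⟩

instance grpObj : GrpObj ((U J).obj A) where
  one := oneHom A
  mul := mulHom A
  inv := invHom A
  one_mul := by
    apply sheafType_hom_ext
    rintro c ⟨x, y⟩
    change A.obj.obj c at y
    exact zero_add y
  mul_one := by
    apply sheafType_hom_ext
    rintro c ⟨x, y⟩
    change A.obj.obj c at x
    exact add_zero x
  mul_assoc := by
    apply sheafType_hom_ext
    rintro c ⟨⟨x, y⟩, z⟩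
    change A.obj.obj c at x y z
    exact add_assoc x y z
  left_inv := by
    apply sheafType_hom_ext
    rintro c x
    change A.obj.obj c at x
    exact neg_add_cancel x
  right_inv := by
    apply sheafType_hom_ext
    rintro c x
    change A.obj.obj c at x
    exact add_neg_cancel x

instance : IsCommMonObj ((U J).obj A) where
  mul_comm := by
    apply sheafType_hom_ext
    rintro c ⟨x, y⟩
    change A.obj.obj c at x y
    exact add_comm y x

/-- the group object of an abelian sheaf -/
def toGrpObj : CommGrp (Sheaf J (Type u)) := CommGrp.mk ((U J).obj A)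

lemma toGrpObj_mul_app (c : Cᵒᵖ) (x y : A.obj.obj c) :
    (μ[(toGrpObj A).X]).hom.app c (x, y) = (x + y : A.obj.obj c) := rfl

lemma toGrpObj_one_app (c : Cᵒᵖ) (x : PUnit) :
    (η[(toGrpObj A).X]).hom.app c x = (0 : A.obj.obj c) := rfl

end toGrp

/-- the map on group objects -/
def toGrpMap {A B : Sheaf J AddCommGrpCat.{u}} (f : A ⟶ B) : toGrpObj A ⟶ toGrpObj B :=
  InducedCategory.homMk (Grp.homMk'' ((U J).map f)
    (by
      apply sheafType_hom_ext
      intro c x
      exact map_zero (f.hom.app c).hom)
    (by
      apply sheafType_hom_ext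
      rintro c ⟨x, y⟩
      change A.obj.obj c at x y
      exact map_add (f.hom.app c).hom x y))

lemma toGrpMap_hom {A B : Sheaf J AddCommGrpCat.{u}} (f : A ⟶ B) :
    (toGrpMap f).hom.hom.hom = (U J).map f := rfl

variable (J) in
/-- abelian sheaves to commutative group objects in sheaves of sets -/
def toGrp : Sheaf J AddCommGrpCat.{u} ⥤ CommGrp (Sheaf J (Type u)) where
  obj A := toGrpObj A
  map f := toGrpMap f
  map_id A := by
    apply CommGrp.hom_ext
    exact (U J).map_id A
  map_comp f g := by
    apply CommGrp.hom_ext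
    exact (U J).map_comp f g

instance : (toGrp J).Faithful where
  map_injective {A B} f g h := by
    have h2 : (U J).map f = (U J).map g := by
      have := congr_arg (fun φ => φ.hom.hom.hom) h
      exact this
    exact (U J).map_injective h2

/-- preimage of a group object morphism -/
def toGrpPreimage {A B : Sheaf J AddCommGrpCat.{u}} (g : toGrpObj A ⟶ toGrpObj B) : A ⟶ B :=
  ⟨{ app := fun c => AddCommGrpCat.ofHom (AddMonoidHom.mk' (fun x : A.obj.obj c => (g.hom.hom.hom.hom.app c x : B.obj.obj c))
        (by
          intro x y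
          have := congr_arg (fun φ => φ.hom.app c (x, y)) (IsMonHom.mul_hom g.hom.hom.hom)
          exact this))
     naturality := by
      intro c d f
      ext x
      have := congr_arg (fun φ => φ x) (g.hom.hom.hom.hom.naturality f)
      exact this }⟩

instance : (toGrp J).Full where
  map_surjective {A B} g := by
    refine ⟨toGrpPreimage g, ?_⟩
    apply CommGrp.hom_ext
    apply sheafType_hom_ext
    intro c x
    rfl

section ofGrp
variable (G : CommGrp (Sheaf J (Type u)))

/-- sections of a group object, as a type synonym carrying the group structure -/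
def Sec (c : Cᵒᵖ) : Type u := G.X.obj.obj c

instance secAdd (c : Cᵒᵖ) : Add (Sec G c) := ⟨fun a b => (μ[G.X]).hom.app c (a, b)⟩
instance secZero (c : Cᵒᵖ) : Zero (Sec G c) := ⟨(η[G.X]).hom.app c PUnit.unit⟩
instance secNeg (c : Cᵒᵖ) : Neg (Sec G c) := ⟨fun a => (ι[G.X]).hom.app c a⟩

instance secGroup (c : Cᵒᵖ) : AddCommGroup (Sec G c) :=
  { AddGroup.ofLeftAxioms (G := Sec G c)
      (fun a b d => by
        have := congr_arg (fun φ => φ.hom.app c ((a, b), d)) (MonObj.mul_assoc G.X)
        exact this)
      (fun a => by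
        have := congr_arg (fun φ => φ.hom.app c (PUnit.unit, a)) (MonObj.one_mul G.X)
        exact this)
      (fun a => by
        have := congr_arg (fun φ => φ.hom.app c a) (GrpObj.left_inv G.X)
        exact this) with
    add_comm := fun a b => by
      have := congr_arg (fun φ => φ.hom.app c (a, b)) (IsCommMonObj.mul_comm G.X)
      exact this.symm }

lemma sec_add (c : Cᵒᵖ) (a b : Sec G c) : a + b = (μ[G.X]).hom.app c (a, b) := rfl
lemma sec_zero (c : Cᵒᵖ) : (0 : Sec G c) = (η[G.X]).hom.app c PUnit.unit := rfl

/-- restriction maps are additive -/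
def secMap {c d : Cᵒᵖ} (f : c ⟶ d) : Sec G c →+ Sec G d :=
  AddMonoidHom.mk' (fun x => G.X.obj.map f x) (by
    intro a b
    have := congr_arg (fun φ => φ (a, b)) ((μ[G.X]).hom.naturality f)
    exact this.symm)

/-- the presheaf of abelian groups of a group object -/
def ofGrpPresheaf : Cᵒᵖ ⥤ AddCommGrpCat.{u} where
  obj c := AddCommGrpCat.of (Sec G c)
  map f := AddCommGrpCat.ofHom (secMap G f)
  map_id c := by
    ext x
    exact congr_arg (fun φ => φ x) (G.X.obj.map_id c)
  map_comp f g := by
    ext x
    exact congr_arg (fun φ => φ x) (G.X.obj.map_comp f g)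

lemma ofGrpPresheaf_forget : ofGrpPresheaf G ⋙ forget AddCommGrpCat = G.X.obj := rfl

lemma ofGrpPresheaf_isSheaf : Presheaf.IsSheaf J (ofGrpPresheaf G) := by
  rw [Presheaf.isSheaf_iff_isSheaf_forget J (ofGrpPresheaf G) (forget AddCommGrpCat)]
  exact G.X.property

/-- the abelian sheaf of a group object -/
def ofGrpObj : Sheaf J AddCommGrpCat.{u} := ⟨ofGrpPresheaf G, ofGrpPresheaf_isSheaf G⟩

/-- underlying sheaf of `ofGrpObj G` is `G.X` -/
def ofGrpObjUIso : (U J).obj (ofGrpObj G) ≅ G.X where
  hom := ⟨𝟙 G.X.obj⟩
  inv := ⟨𝟙 G.X.obj⟩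
  hom_inv_id := by
    apply sheafType_hom_ext
    intro c x
    rfl
  inv_hom_id := by
    apply sheafType_hom_ext
    intro c x
    rfl

/-- `toGrp (ofGrpObj G) ≅ G` -/
def toGrpOfGrpIso : (toGrp J).obj (ofGrpObj G) ≅ G :=
  CommGrp.mkIso (ofGrpObjUIso G)
    (by
      apply sheafType_hom_ext
      intro c x
      rfl)
    (by
      apply sheafType_hom_ext
      rintro c ⟨x, y⟩
      rfl)

end ofGrp

instance : (toGrp J).EssSurj where
  mem_essImage G := ⟨ofGrpObj G, ⟨toGrpOfGrpIso G⟩⟩

instance : (toGrp J).IsEquivalence where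

variable (J) in
/-- forgetting the group structure -/
def toGrpForgetIso : toGrp J ⋙ CommGrp.forget _ ≅ U J := Iso.refl _


end Groth.Agent.Helper24.ShGrp
end
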