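import Mathlib
import Groth.Agent.Lib.Helper24.ShGrp

open CategoryTheory Limits MonoidalCategory CartesianMonoidalCategory MonObj Opposite

universe u
noncomputable section
namespace Groth.Agent.Helper24.ShGrp

attribute [-instance] ObjectProperty.fullMonoidalSubcategory ObjectProperty.fullBraidedSubcategory
  ObjectProperty.fullSymmetricSubcategory ObjectProperty.instMonoidalCategoryStructFullSubcategory

variable {C D : Type u} [SmallCategory C] [SmallCategory D]
  (J : GrothendieckTopology C) (K : GrothendieckTopology D) (u : D ⥤ C) [u.IsContinuous K J]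

/-- pushforward of sheaves of sets -/
abbrev pushT : Sheaf J (Type u) ⥤ Sheaf K (Type u) := u.sheafPushforwardContinuous (Type u) K J
/-- pushforward of abelian sheaves -/
abbrev pushA : Sheaf J AddCommGrpCat.{u} ⥤ Sheaf K AddCommGrpCat.{u} :=
  u.sheafPushforwardContinuous AddCommGrpCat.{u} K J

instance : PreservesLimitsOfSize.{u, u} (pushT J K u) :=
  (u.sheafAdjunctionContinuous (Type u) K J).rightAdjoint_preservesLimits

instance pushTBraided : (pushT J K u).Braided := Functor.Braided.ofChosenFiniteProducts _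

lemma push_μ_app (X Y : Sheaf J (Type u)) (d : Dᵒᵖ)
    (p : X.obj.obj (u.op.obj d) × Y.obj.obj (u.op.obj d)) :
    (Functor.LaxMonoidal.μ (pushT J K u) X Y).hom.app d p = p := by
  apply Prod.ext
  · have := congr_arg (fun φ => φ.hom.app d p) (Functor.Monoidal.μ_fst (pushT J K u) X Y)
    exact this
  · have := congr_arg (fun φ => φ.hom.app d p) (Functor.Monoidal.μ_snd (pushT J K u) X Y)
    exact this

/-- underlying sheaves of sets agree -/
def pushUIso (A : Sheaf J AddCommGrpCat.{u}) :
    (pushT J K u).obj ((U J).obj A) ≅ (U K).obj ((pushA J K u).obj A) where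
  hom := ⟨𝟙 _⟩
  inv := ⟨𝟙 _⟩
  hom_inv_id := by
    apply sheafType_hom_ext
    intro c x
    rfl
  inv_hom_id := by
    apply sheafType_hom_ext
    intro c x
    rfl

/-- compatibility of `toGrp` with pushforward, objectwise -/
def pushCompatApp (A : Sheaf J AddCommGrpCat.{u}) :
    (pushT J K u).mapCommGrp.obj ((toGrp J).obj A) ≅ (toGrp K).obj ((pushA J K u).obj A) :=
  CommGrp.mkIso (pushUIso J K u A)
    (by
      apply sheafType_hom_ext
      intro c x
      rfl)
    (by
      apply sheafType_hom_ext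
      rintro c ⟨x, y⟩
      exact congr_arg (fun p => (μ[(toGrpObj A).X]).hom.app (u.op.obj c) p)
        (push_μ_app J K u (toGrpObj A).X (toGrpObj A).X c (x, y)))

/-- compatibility of `toGrp` with pushforward -/
def pushCompat : toGrp J ⋙ (pushT J K u).mapCommGrp ≅ pushA J K u ⋙ toGrp K :=
  NatIso.ofComponents (fun A => pushCompatApp J K u A) (by
    intro A B f
    apply CommGrp.hom_ext
    apply sheafType_hom_ext
    intro c x
    rfl)

instance U_preservesLimits : PreservesLimitsOfSize.{u, u} (U J) := by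
  have : PreservesLimitsOfSize.{u,u} (U J ⋙ sheafToPresheaf J (Type u)) :=
    inferInstanceAs (PreservesLimitsOfSize.{u,u}
      (sheafToPresheaf J AddCommGrpCat.{u} ⋙ (Functor.whiskeringRight _ _ _).obj (forget AddCommGrpCat)))
  exact preservesLimits_of_reflects_of_preserves (U J) (sheafToPresheaf J (Type u))

instance U_reflectsLimits : ReflectsLimitsOfSize.{u, u} (U J) :=
  reflectsLimits_of_reflectsIsomorphisms

/-- pullback of sheaves of sets -/
abbrev pullT : Sheaf K (Type u) ⥤ Sheaf J (Type u) := u.sheafPullback (Type u) K J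
/-- pullback of abelian sheaves -/
abbrev pullA : Sheaf K AddCommGrpCat.{u} ⥤ Sheaf J AddCommGrpCat.{u} :=
  u.sheafPullback AddCommGrpCat.{u} K J

section
variable [PreservesFiniteLimits (pullT J K u)]

instance pullTBraided : (pullT J K u).Braided := Functor.Braided.ofChosenFiniteProducts _

/-- the candidate exact pullback on abelian sheaves -/
def Ψ : Sheaf K AddCommGrpCat.{u} ⥤ Sheaf J AddCommGrpCat.{u} :=
  toGrp K ⋙ (pullT J K u).mapCommGrp ⋙ (toGrp J).inv

/-- right adjoint iso -/
def rightIso : (toGrp J ⋙ (pushT J K u).mapCommGrp) ⋙ (toGrp K).inv ≅ pushA J K u :=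
  Functor.isoWhiskerRight (pushCompat J K u) (toGrp K).inv ≪≫
    Functor.associator _ _ _ ≪≫
    Functor.isoWhiskerLeft (pushA J K u) (toGrp K).asEquivalence.unitIso.symm ≪≫
    Functor.rightUnitor _

/-- `Ψ ⊣ u_*` -/
def adjΨ : Ψ J K u ⊣ pushA J K u :=
  (((toGrp K).asEquivalence.toAdjunction.comp
    (((u.sheafAdjunctionContinuous (Type u) K J).mapCommGrp).comp
      (toGrp J).asEquivalence.symm.toAdjunction))).ofNatIsoRight (rightIso J K u)

/-- `Ψ` is the pullback -/
def ΨIso : Ψ J K u ≅ pullA J K u :=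
  (adjΨ J K u).leftAdjointUniq (u.sheafAdjunctionContinuous AddCommGrpCat.{u} K J)

/-- underlying sheaf of sets of `Ψ` -/
def ΨUIso : Ψ J K u ⋙ U J ≅ U K ⋙ pullT J K u :=
  Functor.isoWhiskerLeft (toGrp K ⋙ (pullT J K u).mapCommGrp)
    (Functor.isoWhiskerLeft (toGrp J).inv (toGrpForgetIso J).symm ≪≫
      (Functor.associator _ _ _).symm ≪≫
      Functor.isoWhiskerRight (toGrp J).asEquivalence.counitIso (CommGrp.forget _) ≪≫
      Functor.leftUnitor _) ≪≫
    (Iso.refl _ : (toGrp K ⋙ (pullT J K u).mapCommGrp) ⋙ CommGrp.forget _ ≅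
      (toGrp K ⋙ CommGrp.forget _) ⋙ pullT J K u) ≪≫
    Functor.isoWhiskerRight (toGrpForgetIso K) (pullT J K u)

instance : PreservesFiniteLimits (Ψ J K u) := by
  have : PreservesFiniteLimits (Ψ J K u ⋙ U J) :=
    preservesFiniteLimits_of_natIso (ΨUIso J K u).symm
  exact preservesFiniteLimits_of_reflects_of_preserves (Ψ J K u) (U J)

theorem pullA_preservesFiniteLimits : PreservesFiniteLimits (pullA J K u) :=
  preservesFiniteLimits_of_natIso (ΨIso J K u)

end

end Groth.Agent.Helper24.ShGrp
end
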