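import Mathlib
import Groth.Agent.Lib.Helper24.WayOut6
import Groth.Agent.Lib.Helper24.RlimMap

/-!
# Unbounded dévissage for an adjunction `L ⊣ R` with `L` induced by an exact functor:
abstract form (derived limits of truncation towers)
-/

set_option autoImplicit false
universe w₁ w₂ u
open CategoryTheory CategoryTheory.Limits Pretriangulated

namespace Groth.Agent.Helper24.SiteEquiv

open DerivedCategory DerivedCategory.TStructure Groth.Agent.Helper24.WayOut
  Groth.Agent.Helper24.RlimTrunc Groth.Agent.Helper24.RlimMap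

section

variable {𝒜 : Type (u + 1)} [Category.{u} 𝒜] [Abelian 𝒜] [HasDerivedCategory.{w₁} 𝒜]
  {ℬ : Type (u + 1)} [Category.{u} ℬ] [Abelian ℬ] [HasDerivedCategory.{w₂} ℬ]
  (F : ℬ ⥤ 𝒜) [F.Additive] [PreservesFiniteLimits F] [PreservesFiniteColimits F]
  {R : DerivedCategory 𝒜 ⥤ DerivedCategory ℬ} (adj : F.mapDerivedCategory ⊣ R)
  (A : ObjectProperty 𝒜) [WSerre.IsWeakSerre A] (A' : ObjectProperty ℬ) [WSerre.IsWeakSerre A']

omit [HasDerivedCategory.{w₂} ℬ] in
theorem cohIn_truncGE (X : DerivedCategory 𝒜) (hX : WSerre.cohIn A X) (n : ℤ) :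
    WSerre.cohIn A ((t.truncGE n).obj X) := by
  intro q
  by_cases hq : n ≤ q
  · have := isIso_homologyMap_truncGEπ X n q hq
    exact A.prop_of_iso (asIso ((homologyFunctor 𝒜 q).map ((t.truncGEπ n).app X))) (hX q)
  · exact A.prop_of_isZero (isZero_of_isGE ((t.truncGE n).obj X) n q (by omega))

variable (h2c : ∀ M : 𝒜, A M → ∃ F' : ℬ, A' F' ∧ Nonempty (F.obj F' ≅ M))
  (h3 : ∀ F' : ℬ, A' F' → IsIso (adj.unit.app ((singleFunctor ℬ 0).obj F')))

include h2c in
/-- for `M ∈ A`: `M[0] ≅ L (F'[0])` with `F' ∈ A'` -/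
theorem exists_single_iso (M : 𝒜) (hM : A M) : ∃ F' : ℬ, A' F' ∧
    Nonempty (F.mapDerivedCategory.obj ((singleFunctor ℬ 0).obj F') ≅ (singleFunctor 𝒜 0).obj M) := by
  obtain ⟨F', hF', ⟨e⟩⟩ := h2c M hM
  exact ⟨F', hF', ⟨(F.mapDerivedCategorySingleFunctor 0).app F' ≪≫ (singleFunctor _ 0).mapIso e⟩⟩

include h2c h3 in
/-- for `M ∈ A`: `R (M[0]) ≅ F'[0]` with `F' ∈ A'` -/
theorem exists_R_single_iso (M : 𝒜) (hM : A M) : ∃ F' : ℬ, A' F' ∧
    Nonempty ((singleFunctor ℬ 0).obj F' ≅ R.obj ((singleFunctor 𝒜 0).obj M)) := by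
  obtain ⟨F', hF', ⟨e⟩⟩ := exists_single_iso F A A' h2c M hM
  have := h3 F' hF'
  exact ⟨F', hF', ⟨asIso (adj.unit.app ((singleFunctor ℬ 0).obj F')) ≪≫ R.mapIso e⟩⟩

include h2c h3 in
theorem isIso_counit_single (M : 𝒜) (hM : A M) :
    IsIso (adj.counit.app ((singleFunctor 𝒜 0).obj M)) := by
  obtain ⟨F', hF', ⟨e⟩⟩ := exists_single_iso F A A' h2c M hM
  exact isIso_app_of_iso adj.counit e (isIso_counit_app_obj_of_isIso_unit adj _ (h3 F' hF'))

include h2c h3 in
/-- the bounded below case -/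
theorem plus_case (X : DerivedCategory 𝒜) (hX : WSerre.cohIn A X) (n₀ : ℤ) (hn₀ : X.IsGE n₀) :
    (WSerre.cohIn A' (R.obj X) ∧ (R.obj X).IsGE n₀) ∧ IsIso (adj.counit.app X) := by
  have hL1 := leftTExact_mapDerivedCategory F
  have hL2 := rightTExact_mapDerivedCategory F
  refine ⟨cohIn_rightAdjoint_of_isGE adj A' hL2 X n₀ hn₀ (fun q q' => ?_),
    isIso_counit_app adj hL1 hL2 X n₀ hn₀ (fun q => isIso_counit_single F adj A A' h2c h3 _ (hX q))⟩
  obtain ⟨F', hF', ⟨e⟩⟩ := exists_R_single_iso F adj A A' h2c h3 _ (hX q)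
  exact A'.prop_of_iso ((homologyFunctor _ q').mapIso e) (prop_homology_single A' _ hF' q')

include h2c h3 in
/-- `R` of an object of `A` placed in degree `a` is concentrated in degrees `≤ a` -/
theorem isLE_R_single (M : 𝒜) (hM : A M) (a : ℤ) :
    (R.obj ((singleFunctor 𝒜 a).obj M)).IsLE a := by
  letI : R.CommShift ℤ := adj.rightAdjointCommShift ℤ
  obtain ⟨F', hF', ⟨e⟩⟩ := exists_R_single_iso F adj A A' h2c h3 M hM
  have h0 : (R.obj ((singleFunctor 𝒜 0).obj M)).IsLE 0 := t.isLE_of_iso e 0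
  have h1 : ((R.obj ((singleFunctor 𝒜 0).obj M))⟦-a⟧).IsLE a := t.isLE_shift _ 0 (-a) a (by omega)
  have e' : (R.obj ((singleFunctor 𝒜 0).obj M))⟦-a⟧ ≅ R.obj ((singleFunctor 𝒜 a).obj M) :=
    ((R.commShiftIso (-a)).app _).symm ≪≫
      R.mapIso (((singleFunctors 𝒜).shiftIso (-a) a 0 (by omega)).app M)
  exact t.isLE_of_iso e' a

include h2c h3 in
theorem isIso_homology_R_truncTowerMap (X : DerivedCategory 𝒜) (hX : WSerre.cohIn A X) (j : ℤ)
    (n : ℕ) (hn : -j ≤ n) :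
    IsIso ((homologyFunctor ℬ j).map (R.map (CohCx.truncTowerMap X n))) := by
  letI : R.CommShift ℤ := adj.rightAdjointCommShift ℤ
  haveI : adj.CommShift ℤ := adj.commShift_of_leftAdjoint ℤ
  haveI : R.IsTriangulated := adj.isTriangulated_rightAdjoint
  set a : ℤ := -((n + 1 : ℕ) : ℤ) with ha
  set b : ℤ := -(n : ℤ) with hb
  have hab : a + 1 = b := by rw [ha, hb]; push_cast; ring
  obtain ⟨e⟩ := exists_fib_iso X a b hab
  have hLE0 := isLE_R_single F adj A A' h2c h3 _ (hX a) a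
  have hLE : (R.obj (fib X a b)).IsLE a := t.isLE_of_iso (R.mapIso e.symm) a
  have hd := R.map_distinguished _ (t.triangleLTGE_distinguished b ((t.truncGE a).obj X))
  have h0 : IsZero (((homologyFunctor ℬ 0).shift j).obj
      (R.mapTriangle.obj ((t.triangleLTGE b).obj ((t.truncGE a).obj X))).obj₁) :=
    isZero_of_isLE (R.obj (fib X a b)) a j (by rw [ha]; push_cast; omega)
  have h1 : IsZero (((homologyFunctor ℬ 0).shift (j + 1)).obj
      (R.mapTriangle.obj ((t.triangleLTGE b).obj ((t.truncGE a).obj X))).obj₁) :=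
    isZero_of_isLE (R.obj (fib X a b)) a (j + 1) (by rw [ha]; push_cast; omega)
  have hiso : IsIso ((homologyFunctor ℬ j).map
      (R.map ((t.truncGEπ b).app ((t.truncGE a).obj X)))) :=
    isIso_shift_map_mor₂ (homologyFunctor ℬ 0) _ hd j (j + 1) rfl h0 h1
  have hc := isIso_cmp X a b hab
  have hn' : CohCx.truncTowerMap X n =
      (t.truncGEπ b).app ((t.truncGE a).obj X) ≫ inv (cmp X a b) := by
    rw [← natTrans_cmp X a b hab, Category.assoc, IsIso.hom_inv_id, Category.comp_id]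
  rw [hn', Functor.map_comp, Functor.map_comp]
  infer_instance

end

end Groth.Agent.Helper24.SiteEquiv
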