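import Mathlib
import Groth.Agent.Lib.Helper24.SiteEquiv1

/-!
# Unbounded dévissage for an adjunction `L ⊣ R` with `L` induced by an exact functor:
the equivalence on objects with cohomology in weak Serre subcategories (abstract form)
-/

set_option autoImplicit false
universe w₁ w₂ u
open CategoryTheory CategoryTheory.Limits Pretriangulated

namespace Groth.Agent.Helper24.SiteEquiv

open DerivedCategory DerivedCategory.TStructure Groth.Agent.Helper24.WayOut
  Groth.Agent.Helper24.RlimTrunc Groth.Agent.Helper24.RlimMap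

section

variable {𝒜 : Type (u + 1)} [Category.{u} 𝒜] [Abelian 𝒜] [HasDerivedCategory.{w₁} 𝒜]
  {ℬ : Type (u + 1)} [Category.{u} ℬ] [Abelian ℬ] [HasDerivedCategory.{w₂} ℬ]
  (F : ℬ ⥤ 𝒜) [F.Additive] [PreservesFiniteLimits F] [PreservesFiniteColimits F]
  {R : DerivedCategory 𝒜 ⥤ DerivedCategory ℬ} (adj : F.mapDerivedCategory ⊣ R)
  (A : ObjectProperty 𝒜) [WSerre.IsWeakSerre A] (A' : ObjectProperty ℬ) [WSerre.IsWeakSerre A']
  (h2c : ∀ M : 𝒜, A M → ∃ F' : ℬ, A' F' ∧ Nonempty (F.obj F' ≅ M))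
  (h3 : ∀ F' : ℬ, A' F' → IsIso (adj.unit.app ((singleFunctor ℬ 0).obj F')))
  (HA : ∀ X : DerivedCategory 𝒜, WSerre.cohIn A X → ∀ [HasProduct (CohCx.truncTower X)],
    CohCx.IsRlimVia (CohCx.truncTower X) (CohCx.truncTowerMap X) X (CohCx.toTruncTower X))
  (HA' : ∀ (K : ℕ → DerivedCategory ℬ) (t : ∀ n, K (n + 1) ⟶ K n) [HasProduct K],
    (∀ n, WSerre.cohInPlus A' (K n)) →
    (∀ j : ℤ, ∃ n₀ : ℕ, ∀ n, n₀ ≤ n → IsIso ((homologyFunctor ℬ j).map (t n))) →
    ∀ (L : DerivedCategory ℬ) (a : ∀ n, L ⟶ K n), CohCx.IsRlimVia K t L a →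
    ∀ j : ℤ, ∃ n₀ : ℕ, ∀ n, n₀ ≤ n → IsIso ((homologyFunctor ℬ j).map (a n)))
  (hpA : ∀ X : DerivedCategory 𝒜, HasProduct (CohCx.truncTower X))
  (hpB : ∀ X : DerivedCategory 𝒜, HasProduct (fun n => R.obj (CohCx.truncTower X n)))

include h2c h3 HA HA' hpA hpB in
theorem exists_isIso_homology_R_toTruncTower (X : DerivedCategory 𝒜) (hX : WSerre.cohIn A X)
    (j : ℤ) : ∃ n₀ : ℕ, ∀ n, n₀ ≤ n →
      IsIso ((homologyFunctor ℬ j).map (R.map (CohCx.toTruncTower X n))) := by
  letI : R.CommShift ℤ := adj.rightAdjointCommShift ℤ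
  haveI : adj.CommShift ℤ := adj.commShift_of_leftAdjoint ℤ
  haveI : R.IsTriangulated := adj.isTriangulated_rightAdjoint
  haveI := hpA X
  haveI := hpB X
  haveI := adj.rightAdjoint_preservesLimits
  have hL := HA X hX
  have hRL := isRlimVia_map R hL
  refine HA' (fun n => R.obj (CohCx.truncTower X n)) (fun n => R.map (CohCx.truncTowerMap X n))
    (fun n => ?_) (fun j => ?_) (R.obj X) (fun n => R.map (CohCx.toTruncTower X n)) hRL j
  · have h := (plus_case F adj A A' h2c h3 (CohCx.truncTower X n)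
      (cohIn_truncGE A X hX _) (-(n : ℤ)) inferInstance).1
    exact ⟨h.1, -(n : ℤ), h.2⟩
  · exact ⟨(-j).toNat, fun n hn =>
      isIso_homology_R_truncTowerMap F adj A A' h2c h3 X hX j n (by omega)⟩

include h2c h3 HA HA' hpA hpB in
theorem part2 (X : DerivedCategory 𝒜) (hX : WSerre.cohIn A X) :
    WSerre.cohIn A' (R.obj X) ∧ IsIso (adj.counit.app X) := by
  have key := exists_isIso_homology_R_toTruncTower F adj A A' h2c h3 HA HA' hpA hpB X hX
  constructor
  · intro q
    obtain ⟨n₀, hn₀⟩ := key q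
    have := hn₀ n₀ le_rfl
    have h := (plus_case F adj A A' h2c h3 (CohCx.truncTower X n₀)
      (cohIn_truncGE A X hX _) (-(n₀ : ℤ)) inferInstance).1.1 q
    exact A'.prop_of_iso
      (asIso ((homologyFunctor ℬ q).map (R.map (CohCx.toTruncTower X n₀)))).symm h
  · rw [DerivedCategory.isIso_iff]
    intro j
    obtain ⟨n₀, hn₀⟩ := key j
    obtain ⟨n, hn1, hn2⟩ : ∃ n : ℕ, n₀ ≤ n ∧ -j ≤ n := ⟨n₀ + (-j).toNat, by omega, by omega⟩
    have i1 := hn₀ n hn1
    have i2 : IsIso ((homologyFunctor 𝒜 j).map (CohCx.toTruncTower X n)) :=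
      isIso_homologyMap_truncGEπ X (-(n : ℤ)) j (by omega)
    have i3 : IsIso (adj.counit.app (CohCx.truncTower X n)) :=
      (plus_case F adj A A' h2c h3 (CohCx.truncTower X n)
        (cohIn_truncGE A X hX _) (-(n : ℤ)) inferInstance).2
    have i4 : IsIso ((homologyFunctor 𝒜 j).map
        (F.mapDerivedCategory.map (R.map (CohCx.toTruncTower X n)))) :=
      isIso_homologyMap_mapDerivedCategory_iff_of_reflects F _ j i1
    have sq : F.mapDerivedCategory.map (R.map (CohCx.toTruncTower X n)) ≫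
        adj.counit.app (CohCx.truncTower X n) = adj.counit.app X ≫ CohCx.toTruncTower X n :=
      adj.counit.naturality (CohCx.toTruncTower X n)
    have sq' := congrArg (fun f => (homologyFunctor 𝒜 j).map f) sq
    simp only [Functor.map_comp] at sq'
    have : (homologyFunctor 𝒜 j).map (adj.counit.app X) =
        ((homologyFunctor 𝒜 j).map (F.mapDerivedCategory.map (R.map (CohCx.toTruncTower X n))) ≫
          (homologyFunctor 𝒜 j).map (adj.counit.app (CohCx.truncTower X n))) ≫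
          inv ((homologyFunctor 𝒜 j).map (CohCx.toTruncTower X n)) := by
      rw [sq', Category.assoc, IsIso.hom_inv_id, Category.comp_id]
    rw [this]
    infer_instance

variable (h2a : ∀ F' : ℬ, A' F' → A (F.obj F'))
  (h2b : ∀ F' G' : ℬ, A' F' → A' G' → Function.Bijective (fun φ : F' ⟶ G' => F.map φ))

include h2b in
omit [HasDerivedCategory.{w₁} 𝒜] [HasDerivedCategory.{w₂} ℬ] [WSerre.IsWeakSerre A'] in
theorem isIso_of_isIso_map {P Q : ℬ} (hP : A' P) (hQ : A' Q) (g : P ⟶ Q) (h : IsIso (F.map g)) :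
    IsIso g := by
  obtain ⟨g', hg'⟩ := (h2b Q P hQ hP).2 (inv (F.map g))
  refine ⟨g', (h2b P P hP hP).1 ?_, (h2b Q Q hQ hQ).1 ?_⟩
  · change F.map (g ≫ g') = F.map (𝟙 P)
    rw [F.map_comp, F.map_id]
    change F.map g ≫ F.map g' = _
    rw [show F.map g' = inv (F.map g) from hg', IsIso.hom_inv_id]
  · change F.map (g' ≫ g) = F.map (𝟙 Q)
    rw [F.map_comp, F.map_id]
    change F.map g' ≫ F.map g = _
    rw [show F.map g' = inv (F.map g) from hg', IsIso.inv_hom_id]

include h2a h2b h2c h3 HA HA' hpA hpB in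
theorem part1 (Y : DerivedCategory ℬ) (hY : WSerre.cohIn A' Y) :
    WSerre.cohIn A (F.mapDerivedCategory.obj Y) ∧ IsIso (adj.unit.app Y) := by
  have hLY : WSerre.cohIn A (F.mapDerivedCategory.obj Y) := fun q =>
    A.prop_of_iso ((mapDerivedCategoryHomologyIso F q).app Y).symm (h2a _ (hY q))
  refine ⟨hLY, ?_⟩
  obtain ⟨hRLY, hε⟩ := part2 F adj A A' h2c h3 HA HA' hpA hpB _ hLY
  have h1 : F.mapDerivedCategory.map (adj.unit.app Y) ≫
      adj.counit.app (F.mapDerivedCategory.obj Y) = 𝟙 _ := adj.left_triangle_components Y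
  have h2 : IsIso (F.mapDerivedCategory.map (adj.unit.app Y)) := by
    have : F.mapDerivedCategory.map (adj.unit.app Y) =
        inv (adj.counit.app (F.mapDerivedCategory.obj Y)) := by
      rw [← cancel_mono (adj.counit.app (F.mapDerivedCategory.obj Y)), h1, IsIso.inv_hom_id]
    rw [this]
    infer_instance
  rw [DerivedCategory.isIso_iff]
  intro j
  have h3' : IsIso ((homologyFunctor 𝒜 j).map (F.mapDerivedCategory.map (adj.unit.app Y))) :=
    inferInstance
  have h4 : IsIso ((DerivedCategory.homologyFunctor ℬ j ⋙ F).map (adj.unit.app Y)) :=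
    (NatIso.isIso_map_iff (mapDerivedCategoryHomologyIso F j) (adj.unit.app Y)).1 h3'
  exact isIso_of_isIso_map F A' h2b (hY j) (hRLY j) _ h4

end

end Groth.Agent.Helper24.SiteEquiv
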