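import Mathlib
import Groth.Prelude.Def_SpSeq
import Groth.Agent.Lib.Helper24.DegSS

/-!
# The contractible augmented complex of a tower of split monomorphisms, and its spectral sequence
-/

set_option autoImplicit false

open CategoryTheory CategoryTheory.Limits

namespace Groth.Agent.Helper24.SplitCx

universe v u

variable {C : Type u} [Category.{v} C] [Abelian C]

/-- A short complex with a contracting homotopy in the middle is exact. -/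
lemma exact_of_homotopy (S : ShortComplex C) (s : S.X₂ ⟶ S.X₁) (t : S.X₃ ⟶ S.X₂)
    (h : s ≫ S.f + S.g ≫ t = 𝟙 _) : S.Exact := by
  rw [S.exact_iff_kernel_ι_comp_cokernel_π_zero]
  have h1 : kernel.ι S.g = kernel.ι S.g ≫ s ≫ S.f := by
    conv_lhs => rw [← Category.comp_id (kernel.ι S.g), ← h]
    rw [Preadditive.comp_add, kernel.condition_assoc, zero_comp, add_zero]
  rw [h1, Category.assoc, Category.assoc, cokernel.condition, comp_zero, comp_zero]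

lemma exact_of_homotopy' {X₁ X₂ X₃ : C} (f : X₁ ⟶ X₂) (g : X₂ ⟶ X₃) (w : f ≫ g = 0)
    (s : X₂ ⟶ X₁) (t : X₃ ⟶ X₂) (h : s ≫ f + g ≫ t = 𝟙 _) : (ShortComplex.mk f g w).Exact :=
  exact_of_homotopy _ s t h

/-- the shape on `ℕ × ℕ`: horizontal differentials -/
def cN : ComplexShape (ℕ × ℕ) where
  Rel a b := a.1 + 1 = b.1 ∧ a.2 = b.2
  next_eq := by
    rintro ⟨a1, a2⟩ ⟨b1, b2⟩ ⟨c1, c2⟩ ⟨h1, h2⟩ ⟨h3, h4⟩
    dsimp at *
    ext <;> dsimp <;> omega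
  prev_eq := by
    rintro ⟨a1, a2⟩ ⟨b1, b2⟩ ⟨c1, c2⟩ ⟨h1, h2⟩ ⟨h3, h4⟩
    dsimp at *
    ext <;> dsimp <;> omega

lemma cN_rel (p q : ℕ) : cN.Rel (p, q) (p + 1, q) := ⟨rfl, rfl⟩

/-- the embedding into `ℤ × ℤ` -/
def emb : cN.Embedding (ComplexShape.up' (⟨(1 : ℤ), 1 - 1⟩ : ℤ × ℤ)) where
  f a := (a.1, a.2)
  injective_f := by
    rintro ⟨a1, a2⟩ ⟨b1, b2⟩ h
    simp only [Prod.mk.injEq, Nat.cast_inj] at h
    ext <;> dsimp <;> omega
  rel := by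
    rintro ⟨a1, a2⟩ ⟨b1, b2⟩ ⟨h1, h2⟩
    dsimp at h1 h2
    subst h1 h2
    show ((a1 : ℤ), (a2 : ℤ)) + ((1 : ℤ), (1 : ℤ) - 1) = (((a1 + 1 : ℕ) : ℤ), (a2 : ℤ))
    ext <;> simp

instance : emb.IsRelIff where
  rel' := by
    rintro ⟨a1, a2⟩ ⟨b1, b2⟩ h
    have h' : ((a1 : ℤ), (a2 : ℤ)) + ((1 : ℤ), (1 : ℤ) - 1) = ((b1 : ℤ), (b2 : ℤ)) := h
    simp only [Prod.mk_add_mk, Prod.mk.injEq] at h'
    exact ⟨by dsimp; omega, by dsimp; omega⟩

section Tower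

variable (B : ℕ → ℕ → C) (A : ℕ → C)
  (i₀ : ∀ q, A q ⟶ B 0 q) (r₀ : ∀ q, B 0 q ⟶ A q) (h₀ : ∀ q, i₀ q ≫ r₀ q = 𝟙 _)
  (i : ∀ p q, B p q ⟶ B (p + 1) q) (r : ∀ p q, B (p + 1) q ⟶ B p q)
  (h : ∀ p q, i p q ≫ r p q = 𝟙 _)

/-- the differentials -/
noncomputable def dd (q : ℕ) : ∀ p, B p q ⟶ B (p + 1) q
  | 0 => (𝟙 _ - r₀ q ≫ i₀ q) ≫ i 0 q
  | p + 1 => (𝟙 _ - r p q ≫ dd q p) ≫ i (p + 1) q

include h in
lemma dd_zero_r (q : ℕ) : dd B A i₀ r₀ i r q 0 ≫ r 0 q = 𝟙 _ - r₀ q ≫ i₀ q := by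
  simp only [dd, Category.assoc, h, Category.comp_id]

include h in
lemma dd_succ_r (q p : ℕ) :
    dd B A i₀ r₀ i r q (p + 1) ≫ r (p + 1) q = 𝟙 _ - r p q ≫ dd B A i₀ r₀ i r q p := by
  simp only [dd, Category.assoc, h, Category.comp_id]

include h₀ in
lemma i₀_dd (q : ℕ) : i₀ q ≫ dd B A i₀ r₀ i r q 0 = 0 := by
  simp only [dd, Preadditive.sub_comp, Preadditive.comp_sub, Category.id_comp, Category.assoc]
  rw [reassoc_of% (h₀ q), sub_self]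

include h₀ h in
lemma dd_dd (q : ℕ) : ∀ p, dd B A i₀ r₀ i r q p ≫ dd B A i₀ r₀ i r q (p + 1) = 0
  | 0 => by
    have h1 := dd_zero_r B A i₀ r₀ i r h q
    have h2 := i₀_dd B A i₀ r₀ h₀ i r q
    rw [show dd B A i₀ r₀ i r q (0 + 1) =
      (𝟙 _ - r 0 q ≫ dd B A i₀ r₀ i r q 0) ≫ i (0 + 1) q from rfl]
    have h3 : dd B A i₀ r₀ i r q 0 ≫ (𝟙 _ - r 0 q ≫ dd B A i₀ r₀ i r q 0) = 0 := by
      rw [Preadditive.comp_sub, Category.comp_id, ← Category.assoc, h1, Preadditive.sub_comp,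
        Category.id_comp, Category.assoc, h2, comp_zero, sub_zero, sub_self]
    rw [← Category.assoc, h3, zero_comp]
  | p + 1 => by
    have h1 := dd_succ_r B A i₀ r₀ i r h q p
    have h2 := dd_dd q p
    rw [show dd B A i₀ r₀ i r q (p + 1 + 1) =
      (𝟙 _ - r (p + 1) q ≫ dd B A i₀ r₀ i r q (p + 1)) ≫ i (p + 1 + 1) q from rfl]
    have h3 : dd B A i₀ r₀ i r q (p + 1) ≫
        (𝟙 _ - r (p + 1) q ≫ dd B A i₀ r₀ i r q (p + 1)) = 0 := by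
      rw [Preadditive.comp_sub, Category.comp_id, ← Category.assoc, h1, Preadditive.sub_comp,
        Category.id_comp, Category.assoc, h2, comp_zero, sub_zero, sub_self]
    rw [← Category.assoc, h3, zero_comp]

/-- the complex on `ℕ × ℕ` -/
noncomputable def K : HomologicalComplex C cN where
  X a := B a.1 a.2
  d a b := if hab : a.1 + 1 = b.1 ∧ a.2 = b.2 then
      dd B A i₀ r₀ i r a.2 a.1 ≫ eqToHom (by
        obtain ⟨a1, a2⟩ := a
        obtain ⟨b1, b2⟩ := b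
        obtain ⟨h1, h2⟩ := hab
        dsimp at h1 h2
        subst h1 h2
        rfl)
    else 0
  shape a b hab := dif_neg hab
  d_comp_d' := by
    rintro ⟨a1, a2⟩ ⟨b1, b2⟩ ⟨c1, c2⟩ ⟨h1, h2⟩ ⟨h3, h4⟩
    dsimp at h1 h2 h3 h4
    subst h1 h2 h3 h4
    rw [dif_pos ⟨rfl, rfl⟩, dif_pos ⟨rfl, rfl⟩]
    simp only [eqToHom_refl, Category.comp_id]
    exact dd_dd B A i₀ r₀ h₀ i r h a2 a1

lemma K_d (p q : ℕ) :
    (K B A i₀ r₀ h₀ i r h).d (p, q) (p + 1, q) = dd B A i₀ r₀ i r q p := by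
  show dite _ _ _ = _
  rw [dif_pos ⟨rfl, rfl⟩]
  simp

lemma K_exactAt_succ (p q : ℕ) : (K B A i₀ r₀ h₀ i r h).ExactAt (p + 1, q) := by
  rw [HomologicalComplex.exactAt_iff' _ (p, q) (p + 1, q) (p + 1 + 1, q)
    (cN.prev_eq' (cN_rel p q)) (cN.next_eq' (cN_rel (p + 1) q))]
  have key : r p q ≫ dd B A i₀ r₀ i r q p + dd B A i₀ r₀ i r q (p + 1) ≫ r (p + 1) q =
      𝟙 (B (p + 1) q) := by
    rw [dd_succ_r B A i₀ r₀ i r h]
    abel
  exact exact_of_homotopy' ((K B A i₀ r₀ h₀ i r h).d (p, q) (p + 1, q))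
    ((K B A i₀ r₀ h₀ i r h).d (p + 1, q) (p + 1 + 1, q)) _ (r p q) (r (p + 1) q) (by
      rw [K_d, K_d]
      exact key)

lemma K_d_to_zero (a : ℕ × ℕ) (q : ℕ) : (K B A i₀ r₀ h₀ i r h).d a (0, q) = 0 :=
  (K B A i₀ r₀ h₀ i r h).shape _ _ (fun hh => by
    have := hh.1
    dsimp at this
    omega)

/-- `A q` is the kernel of the first differential. -/
noncomputable def isKernelA (q : ℕ) :
    IsLimit (KernelFork.ofι (f := (K B A i₀ r₀ h₀ i r h).d (0, q) (0 + 1, q)) (i₀ q)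
      (by rw [K_d]; exact i₀_dd B A i₀ r₀ h₀ i r q)) := by
  have hm : Mono (i₀ q) := (SplitMono.mk (r₀ q) (h₀ q)).mono
  let S : ShortComplex C := ShortComplex.mk (i₀ q) ((K B A i₀ r₀ h₀ i r h).d (0, q) (0 + 1, q))
    (by rw [K_d]; exact i₀_dd B A i₀ r₀ h₀ i r q)
  have hS : S.Exact := by
    have key : r₀ q ≫ i₀ q + dd B A i₀ r₀ i r q 0 ≫ r 0 q = 𝟙 (B 0 q) := by
      rw [dd_zero_r B A i₀ r₀ i r h]
      abel
    exact exact_of_homotopy' (i₀ q) ((K B A i₀ r₀ h₀ i r h).d (0, q) (0 + 1, q)) _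
      (r₀ q) (r 0 q) (by
        rw [K_d]
        exact key)
  haveI : Mono S.f := hm
  exact hS.fIsKernel

/-- homology in column zero -/
noncomputable def K_homology_zero (q : ℕ) : (K B A i₀ r₀ h₀ i r h).homology (0, q) ≅ A q :=
  ((K B A i₀ r₀ h₀ i r h).isoHomologyπ (cN.prev (0, q)) (0, q) rfl
      (K_d_to_zero B A i₀ r₀ h₀ i r h _ q)).symm ≪≫
    IsLimit.conePointUniqueUpToIso
      ((K B A i₀ r₀ h₀ i r h).cyclesIsKernel (0, q) (0 + 1, q) (cN.next_eq' (cN_rel 0 q)))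
      (isKernelA B A i₀ r₀ h₀ i r h q)

/-- the first page -/
noncomputable def P : HomologicalComplex C (ComplexShape.up' (⟨(1 : ℤ), 1 - 1⟩ : ℤ × ℤ)) :=
  (K B A i₀ r₀ h₀ i r h).extend emb

lemma emb_f_toNat (p q : ℤ) (hp : 0 ≤ p) (hq : 0 ≤ q) : emb.f (p.toNat, q.toNat) = (p, q) := by
  show (((p.toNat : ℕ) : ℤ), ((q.toNat : ℕ) : ℤ)) = (p, q)
  rw [Int.toNat_of_nonneg hp, Int.toNat_of_nonneg hq]

lemma emb_f_ne (pq : ℤ × ℤ) (hpq : ¬ (0 ≤ pq.1 ∧ 0 ≤ pq.2)) (a : ℕ × ℕ) : emb.f a ≠ pq := by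
  intro hh
  apply hpq
  rw [← hh]
  exact ⟨Int.natCast_nonneg _, Int.natCast_nonneg _⟩

/-- the objects of the first page inside the quadrant -/
noncomputable def P_X_iso (p q : ℤ) (hp : 0 ≤ p) (hq : 0 ≤ q) :
    (P B A i₀ r₀ h₀ i r h).X (p, q) ≅ B p.toNat q.toNat :=
  (K B A i₀ r₀ h₀ i r h).extendXIso emb (emb_f_toNat p q hp hq)

lemma P_X_isZero (pq : ℤ × ℤ) (hpq : ¬ (0 ≤ pq.1 ∧ 0 ≤ pq.2)) :
    IsZero ((P B A i₀ r₀ h₀ i r h).X pq) :=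
  (K B A i₀ r₀ h₀ i r h).isZero_extend_X emb pq (emb_f_ne pq hpq)

lemma P_homology_isZero (pq : ℤ × ℤ) (hp : pq.1 ≠ 0) :
    IsZero ((P B A i₀ r₀ h₀ i r h).homology pq) := by
  rw [← HomologicalComplex.exactAt_iff_isZero_homology]
  by_cases hpq : 0 ≤ pq.1 ∧ 0 ≤ pq.2
  · obtain ⟨p, q⟩ := pq
    dsimp at hp hpq
    obtain ⟨p', rfl⟩ := Int.eq_ofNat_of_zero_le hpq.1
    obtain ⟨q', rfl⟩ := Int.eq_ofNat_of_zero_le hpq.2
    obtain ⟨p'', rfl⟩ : ∃ p'', p' = p'' + 1 := ⟨p' - 1, by omega⟩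
    exact ((K B A i₀ r₀ h₀ i r h).extend_exactAt_iff emb
      (show emb.f (p'' + 1, q') = _ from rfl)).2 (K_exactAt_succ B A i₀ r₀ h₀ i r h p'' q')
  · exact (K B A i₀ r₀ h₀ i r h).extend_exactAt emb pq (emb_f_ne pq hpq)

/-- homology of the first page in column zero -/
noncomputable def P_homology_zero (q : ℕ) :
    (P B A i₀ r₀ h₀ i r h).homology (0, (q : ℤ)) ≅ A q :=
  (K B A i₀ r₀ h₀ i r h).extendHomologyIso emb (show emb.f (0, q) = _ from rfl) ≪≫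
    K_homology_zero B A i₀ r₀ h₀ i r h q

include h₀ h in
/-- The spectral sequence of a tower of split monomorphisms. -/
theorem exists_ss_of_split (Z : C) (hZ : IsZero Z) :
    ∃ (E : CohomologicalSpectralSequence C 1)
      (a : SpSeq.Abutment E (fun n : ℤ => if 0 ≤ n then A n.toNat else Z)),
      (∀ n, a.IsFinite n) ∧ SpSeq.IsBounded E ∧
      ∀ p q : ℤ, Nonempty ((E.page 1 le_rfl).X (p, q) ≅
        (if 0 ≤ p ∧ 0 ≤ q then B p.toNat q.toNat else Z)) := by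
  obtain ⟨E, a, ha, hb, hE⟩ := DegSS.exists_degenerate (P B A i₀ r₀ h₀ i r h)
    (fun n : ℤ => if 0 ≤ n then A n.toNat else Z)
    (P_homology_isZero B A i₀ r₀ h₀ i r h) (fun q => by
      by_cases hq : 0 ≤ q
      · obtain ⟨q', rfl⟩ := Int.eq_ofNat_of_zero_le hq
        refine ⟨P_homology_zero B A i₀ r₀ h₀ i r h q' ≪≫ eqToIso ?_⟩
        simp
      · refine ⟨IsZero.iso ?_ ?_⟩
        · rw [← HomologicalComplex.exactAt_iff_isZero_homology]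
          exact (K B A i₀ r₀ h₀ i r h).extend_exactAt emb _ (emb_f_ne _ (fun hh => hq hh.2))
        · show IsZero (if 0 ≤ q then A q.toNat else Z)
          rw [if_neg hq]
          exact hZ) (fun n => by
      refine Set.Finite.subset (Set.finite_Icc 0 n) ?_
      intro p hp
      by_contra hcon
      apply hp
      apply P_X_isZero
      intro hh
      apply hcon
      exact ⟨hh.1, by have := hh.2; omega⟩)
  refine ⟨E, a, ha, hb, fun p q => ?_⟩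
  rw [hE]
  by_cases hpq : 0 ≤ p ∧ 0 ≤ q
  · rw [if_pos hpq]
    exact ⟨P_X_iso B A i₀ r₀ h₀ i r h p q hpq.1 hpq.2⟩
  · rw [if_neg hpq]
    exact ⟨(P_X_isZero B A i₀ r₀ h₀ i r h (p, q) hpq).iso hZ⟩

end Tower

end Groth.Agent.Helper24.SplitCx
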