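import Mathlib
import Groth.Agent.Lib.Helper24.AffExt2

/-!
# `Ext` of modules: dimension shifting in the second variable, `R`-linearly (helper24)
-/

set_option autoImplicit false
set_option linter.style.haveILetI false
universe u
open CategoryTheory CategoryTheory.Limits CategoryTheory.Abelian

namespace Groth.Agent.Helper24.StalkExt

open Groth.Agent.Helper24.AffExt

variable {R : Type u} [CommRing R] (M : ModuleCat.{u} R)

/-- post-composition `Hom(M, N) ⟶ Hom(M, N')` -/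
noncomputable def postM {N N' : ModuleCat.{u} R} (v : N ⟶ N') : HomM R N M ⟶ HomM R N' M :=
  ModuleCat.ofHom (Linear.rightComp R M v)

lemma postM_apply {N N' : ModuleCat.{u} R} (v : N ⟶ N') (f : M ⟶ N) :
    (postM M v).hom f = f ≫ v := rfl

lemma postM_comp {N N' N'' : ModuleCat.{u} R} (v : N ⟶ N') (v' : N' ⟶ N'') :
    postM M (v ≫ v') = postM M v ≫ postM M v' := by
  apply ModuleCat.hom_ext
  apply LinearMap.ext
  intro f
  show f ≫ (v ≫ v') = (f ≫ v) ≫ v'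
  rw [Category.assoc]

section One

variable (T : ShortComplex (ModuleCat.{u} R)) (hT : T.ShortExact)

/-- the connecting map `Hom(M, X₃) ⟶ Ext¹(M, X₁)` -/
noncomputable def δ₀ : HomM R T.X₃ M ⟶ ExtM R T.X₁ 1 M :=
  ModuleCat.ofHom ((Ext.postcompOfLinear hT.extClass R M (show 0 + 1 = 1 from rfl)) ∘ₗ
    (Ext.linearEquiv₀ (R := R) (X := M) (Y := T.X₃)).symm.toLinearMap)

lemma δ₀_apply (f : M ⟶ T.X₃) :
    (δ₀ M T hT).hom f = (Ext.mk₀ f).comp hT.extClass (show 0 + 1 = 1 from rfl) := rfl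

lemma δ₀_surjective [Injective T.X₂] : Function.Surjective (δ₀ M T hT).hom := by
  intro x₁
  have h0 : (show Ext M T.X₁ 1 from x₁).comp (Ext.mk₀ T.f) (add_zero 1) = 0 :=
    Ext.eq_zero_of_injective _
  obtain ⟨x₃, hx₃⟩ := Ext.covariant_sequence_exact₁ M hT x₁ h0 (show 0 + 1 = 1 from rfl)
  refine ⟨Ext.linearEquiv₀ (R := R) x₃, ?_⟩
  rw [δ₀_apply, Ext.mk₀_linearEquiv₀_apply, hx₃]

lemma postM_δ₀ : postM M T.g ≫ δ₀ M T hT = 0 := by
  apply ModuleCat.hom_ext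
  apply LinearMap.ext
  intro g
  show (Ext.mk₀ (g ≫ T.g)).comp hT.extClass (show 0 + 1 = 1 from rfl) = 0
  rw [← Ext.mk₀_comp_mk₀, Ext.comp_assoc (Ext.mk₀ g) (Ext.mk₀ T.g) hT.extClass (zero_add 0)
    (zero_add 1) (show 0 + 0 + 1 = 1 from rfl), hT.comp_extClass, Ext.comp_zero]

lemma exact_postM_δ₀ : (ShortComplex.mk _ _ (postM_δ₀ M T hT)).Exact := by
  rw [ShortComplex.moduleCat_exact_iff]
  intro f hf
  have hf' : (Ext.mk₀ f).comp hT.extClass (show 0 + 1 = 1 from rfl) = 0 := hf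
  obtain ⟨x₂, hx₂⟩ := Ext.covariant_sequence_exact₃ M hT (Ext.mk₀ f) rfl hf'
  refine ⟨Ext.linearEquiv₀ (R := R) x₂, ?_⟩
  show Ext.linearEquiv₀ (R := R) x₂ ≫ T.g = f
  apply (Ext.addEquiv₀ (X := M) (Y := T.X₃)).symm.injective
  show Ext.mk₀ (Ext.linearEquiv₀ (R := R) x₂ ≫ T.g) = Ext.mk₀ f
  rw [← Ext.mk₀_comp_mk₀, Ext.mk₀_linearEquiv₀_apply, hx₂]

include hT in
/-- `Ext¹(M, X₁)` is the cokernel of `Hom(M, X₂) ⟶ Hom(M, X₃)` when `X₂` is injective -/
theorem nonempty_one_iso [Injective T.X₂] :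
    Nonempty (ExtM R T.X₁ 1 M ≅ cokernel (postM M T.g)) := by
  have hex := exact_postM_δ₀ M T hT
  haveI : Epi (ShortComplex.mk _ _ (postM_δ₀ M T hT)).g :=
    (ModuleCat.epi_iff_surjective _).2 (δ₀_surjective M T hT)
  exact ⟨IsColimit.coconePointUniqueUpToIso hex.gIsCokernel (colimit.isColimit _)⟩

include hT in
/-- dimension shifting: `Ext^{p+2}(M, X₁) ≅ Ext^{p+1}(M, X₃)` when `X₂` is injective -/
theorem nonempty_shift_iso [Injective T.X₂] (p : ℕ) :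
    Nonempty (ExtM R T.X₁ (p + 1 + 1) M ≅ ExtM R T.X₃ (p + 1) M) := by
  have h : (p + 1) + 1 = p + 1 + 1 := rfl
  let δ : Ext M T.X₃ (p + 1) →ₗ[R] Ext M T.X₁ (p + 1 + 1) :=
    Ext.postcompOfLinear hT.extClass R M h
  have hδ : ∀ x, δ x = x.comp hT.extClass h := fun _ => rfl
  have hinj : Function.Injective δ := by
    rw [← LinearMap.ker_eq_bot, LinearMap.ker_eq_bot']
    intro x₃ hx₃
    rw [hδ] at hx₃
    obtain ⟨x₂, hx₂⟩ := Ext.covariant_sequence_exact₃ M hT x₃ h hx₃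
    rw [← hx₂, Ext.eq_zero_of_injective x₂, Ext.zero_comp]
  have hsurj : Function.Surjective δ := by
    intro x₁
    have h0 : x₁.comp (Ext.mk₀ T.f) (add_zero (p + 1 + 1)) = 0 := Ext.eq_zero_of_injective _
    obtain ⟨x₃, hx₃⟩ := Ext.covariant_sequence_exact₁ M hT x₁ h0 h
    exact ⟨x₃, hx₃⟩
  exact ⟨(LinearEquiv.toModuleIso (X₁ := ExtM R T.X₃ (p + 1) M)
    (X₂ := ExtM R T.X₁ (p + 1 + 1) M) (LinearEquiv.ofBijective δ ⟨hinj, hsurj⟩)).symm⟩

end One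

end Groth.Agent.Helper24.StalkExt
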