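import Mathlib
import Groth.Agent.Lib.Helper29.SHomA
import Groth.Agent.Lib.Helper24.AffExt3
import Groth.Agent.Lib.Helper14.HomLimA
import Groth.Agent.Lib.Lead.HomSh4
import Groth.Agent.S16484
import Groth.Prelude.Def_DerSch
import Groth.Agent.Lib.Helper5.StalkCx1
import Groth.Agent.Lib.Helper24.StalkExt1

/-!
# The stalk of the sheaf Hom out of a finitely presented module, naturally in the target
(helper24)
-/

set_option autoImplicit false
set_option maxHeartbeats 400000
set_option linter.style.haveILetI false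
universe u
open CategoryTheory CategoryTheory.Limits AlgebraicGeometry Opposite TopologicalSpace
open RefHull Groth.Agent.Lead.HomSh Groth.Agent.Helper13.HomShAff
open Groth.Agent.Helper13.Tensor Groth.Agent.Helper13.TensorFunctor Groth.Agent.Helper13.TensorHom
open Groth.Agent.Helper29.SHomA Groth.Agent.Helper14.HomLim

namespace Groth.Agent.Helper24.StalkExt

open Groth.Agent.Helper24.AffExt

variable {X : Scheme.{u}}

/-- effect of `𝓗om(F, -)` on sections, evaluated -/
lemma evalSec_homFun_map (F : X.Modules) {G G' : X.Modules} (g : G ⟶ G') {U : X.Opens}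
    (h : Γ(homSh F G, U)) (m : Γ(F, U)) :
    evalSec (((homFun F).map g).app U h) m = g.app U (evalSec h m) := by
  rw [homFun_map]
  have h1 := uncurry_app_tmul (curry (ev F G ≫ g)) h m
  refine h1.symm.trans ?_
  rw [uncurry_curry, Scheme.Modules.Hom.comp_app, ConcreteCategory.comp_apply, ev_app_tmul]

lemma app_res {M N : X.Modules} (φ : M ⟶ N) {U W : X.Opens} (i : W ⟶ U) (s : Γ(M, U)) :
    N.presheaf.map i.op (φ.app U s) = φ.app W (M.presheaf.map i.op s) := by
  have h := φ.mapPresheaf.naturality i.op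
  exact (ConcreteCategory.congr_hom h s).symm

/-- effect of `𝓗om(F, -)` on sections: post-composition -/
lemma homFun_map_app (F : X.Modules) {G G' : X.Modules} (g : G ⟶ G') {U : X.Opens}
    (h : Γ(homSh F G, U)) :
    ((homFun F).map g).app U h = postcomp g h := by
  apply sec_ext
  intro y
  apply LinearMap.ext
  intro v
  obtain ⟨W₀, hy₀, m₀, rfl⟩ := TopCat.Presheaf.exists_germ_eq F.presheaf v
  have hyW : y.1 ∈ W₀ ⊓ U := ⟨hy₀, y.2⟩
  have hWU : W₀ ⊓ U ≤ U := inf_le_right
  have hm : F.presheaf.germ W₀ y.1 hy₀ m₀ =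
      F.presheaf.germ (W₀ ⊓ U) y.1 hyW (F.presheaf.map (homOfLE inf_le_left).op m₀) :=
    (TopCat.Presheaf.germ_res_apply F.presheaf (homOfLE inf_le_left) y.1 hyW m₀).symm
  rw [hm]
  have hnat := app_res ((homFun F).map g) (homOfLE hWU) h
  have hL : (((homFun F).map g).app U h).1 y =
      (((homFun F).map g).app (W₀ ⊓ U) (resH hWU h)).1 ⟨y.1, hyW⟩ :=
    congrArg (fun t : Γ(homSh F G', W₀ ⊓ U) => t.1 ⟨y.1, hyW⟩) hnat
  rw [hL, ← germ_evalSec, evalSec_homFun_map, postcomp_apply, LinearMap.comp_apply]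
  have hR : h.1 y = (resH hWU h).1 ⟨y.1, hyW⟩ := rfl
  rw [hR, ← germ_evalSec, stalkMapₗ_germ]

section Stalk

variable (x : X) (F G : X.Modules)

/-- evaluation of germs of the sheaf Hom, as a linear map into the Hom module -/
noncomputable def evSt : ↑((DerSch.stalkFunctor X x).obj (homSh F G)) →ₗ[↑(X.presheaf.stalk x)]
    ((DerSch.stalkFunctor X x).obj F ⟶ (DerSch.stalkFunctor X x).obj G) :=
  (ModuleCat.homLinearEquiv (S := ↑(X.presheaf.stalk x))).symm.toLinearMap ∘ₗ evalStalk F G x

lemma evSt_hom (θ : (homSh F G).presheaf.stalk x) : (evSt x F G θ).hom = evalStalk F G x θ := rfl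

theorem evSt_bijective [IsLocallyNoetherian X] (hF : Coh.IsCoh F) :
    Function.Bijective (evSt x F G) := by
  haveI : SheafOfModules.IsFinitePresentation (R := X.ringCatSheaf) F :=
    isFinitePresentation_of_isCoh hF
  constructor
  · intro θ θ' h
    apply Groth.Agent.S16484.result X F G hF.2 x
    have h2 : (evSt x F G θ).hom = (evSt x F G θ').hom := by rw [h]
    exact h2
  · intro φ
    obtain ⟨W, hxW, g, hg⟩ := exists_sec_eq (F := F) (G := G) x φ.hom
    refine ⟨(homSh F G).presheaf.germ W x hxW g, ?_⟩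
    apply ModuleCat.hom_ext
    rw [evSt_hom, evalStalk_germ]
    exact hg

lemma stalkFunctor_map_hom {G G' : X.Modules} (g : G ⟶ G') :
    ((DerSch.stalkFunctor X x).map g).hom = RefHull.stalkMapₗ g x := by
  apply LinearMap.ext
  intro v
  obtain ⟨W, hy, m, rfl⟩ := TopCat.Presheaf.exists_germ_eq G.presheaf v
  exact (DerSch.stalkFunctor_map_germ x g W hy m).trans (stalkMapₗ_germ g x hy m).symm

/-- the stalk of the sheaf Hom out of a coherent module -/
noncomputable def ψ₀ [IsLocallyNoetherian X] (hF : Coh.IsCoh F) :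
    (DerSch.stalkFunctor X x).obj (homSh F G) ≅
      HomM ↑(X.presheaf.stalk x) ((DerSch.stalkFunctor X x).obj G)
        ((DerSch.stalkFunctor X x).obj F) :=
  LinearEquiv.toModuleIso (X₁ := (DerSch.stalkFunctor X x).obj (homSh F G))
    (X₂ := HomM ↑(X.presheaf.stalk x) ((DerSch.stalkFunctor X x).obj G)
        ((DerSch.stalkFunctor X x).obj F))
    (LinearEquiv.ofBijective (evSt x F G) (evSt_bijective x F G hF))

lemma ψ₀_hom_apply [IsLocallyNoetherian X] (hF : Coh.IsCoh F)
    (θ : (homSh F G).presheaf.stalk x) : (ψ₀ x F G hF).hom.hom θ = evSt x F G θ := rfl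

/-- naturality of `ψ₀` in the second variable -/
theorem ψ₀_natural [IsLocallyNoetherian X] (hF : Coh.IsCoh F) {G G' : X.Modules} (g : G ⟶ G') :
    (DerSch.stalkFunctor X x).map ((homFun F).map g) ≫ (ψ₀ x F G' hF).hom =
      (ψ₀ x F G hF).hom ≫
        postM ((DerSch.stalkFunctor X x).obj F) ((DerSch.stalkFunctor X x).map g) := by
  apply ModuleCat.hom_ext
  apply LinearMap.ext
  intro θ
  obtain ⟨U, hxU, h, rfl⟩ := TopCat.Presheaf.exists_germ_eq (homSh F G).presheaf θ
  show evSt x F G' ((DerSch.stalkFunctor X x).map ((homFun F).map g)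
      ((homSh F G).presheaf.germ U x hxU h)) =
    evSt x F G ((homSh F G).presheaf.germ U x hxU h) ≫ (DerSch.stalkFunctor X x).map g
  have h1 := DerSch.stalkFunctor_map_germ x ((homFun F).map g) U hxU h
  refine (congrArg (evSt x F G') h1).trans ?_
  have e1 : (evSt x F G' ((homSh F G').presheaf.germ U x hxU
      (((homFun F).map g).app U h))).hom = (((homFun F).map g).app U h).1 ⟨x, hxU⟩ :=
    evalStalk_germ F G' x hxU _
  have e2 : (evSt x F G ((homSh F G).presheaf.germ U x hxU h)).hom = h.1 ⟨x, hxU⟩ :=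
    evalStalk_germ F G x hxU h
  have e3 : (((homFun F).map g).app U h).1 ⟨x, hxU⟩ =
      (stalkMapₗ g x).comp (h.1 ⟨x, hxU⟩) := by
    rw [homFun_map_app]
    rfl
  apply ModuleCat.hom_ext
  refine e1.trans (e3.trans ?_)
  rw [ModuleCat.hom_comp, e2, stalkFunctor_map_hom]
  rfl

open Groth.Agent.Helper24.RelExt

attribute [local instance] hasSheafHom'

/-- the stalk of the chosen sheaf Hom out of a coherent module -/
noncomputable def Ψ [IsLocallyNoetherian X] (hF : Coh.IsCoh F) :
    (DerSch.stalkFunctor X x).obj ((SH F).obj G) ≅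
      HomM ↑(X.presheaf.stalk x) ((DerSch.stalkFunctor X x).obj G)
        ((DerSch.stalkFunctor X x).obj F) :=
  (DerSch.stalkFunctor X x).mapIso ((sheafHomIso F).app G) ≪≫ ψ₀ x F G hF

/-- naturality of `Ψ` in the second variable -/
theorem Ψ_natural [IsLocallyNoetherian X] (hF : Coh.IsCoh F) {G G' : X.Modules} (g : G ⟶ G') :
    (DerSch.stalkFunctor X x).map ((SH F).map g) ≫ (Ψ x F G' hF).hom =
      (Ψ x F G hF).hom ≫
        postM ((DerSch.stalkFunctor X x).obj F) ((DerSch.stalkFunctor X x).map g) := by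
  have h0 : (SH F).map g ≫ (sheafHomIso F).hom.app G' =
      (sheafHomIso F).hom.app G ≫ (homFun F).map g := (sheafHomIso F).hom.naturality g
  have h1 : (DerSch.stalkFunctor X x).map ((SH F).map g) ≫
      (DerSch.stalkFunctor X x).map ((sheafHomIso F).hom.app G') =
      (DerSch.stalkFunctor X x).map ((sheafHomIso F).hom.app G) ≫
        (DerSch.stalkFunctor X x).map ((homFun F).map g) := by
    rw [← Functor.map_comp, ← Functor.map_comp, h0]
    rfl
  show (DerSch.stalkFunctor X x).map ((SH F).map g) ≫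
      ((DerSch.stalkFunctor X x).map ((sheafHomIso F).hom.app G') ≫ (ψ₀ x F G' hF).hom) =
    ((DerSch.stalkFunctor X x).map ((sheafHomIso F).hom.app G) ≫ (ψ₀ x F G hF).hom) ≫ _
  rw [← Category.assoc, h1]
  refine (Category.assoc _ _ _).trans ?_
  refine Eq.trans ?_ (Category.assoc _ _ _).symm
  exact congrArg (fun t => (DerSch.stalkFunctor X x).map ((sheafHomIso F).hom.app G) ≫ t)
    (ψ₀_natural x F hF g)

end Stalk

end Groth.Agent.Helper24.StalkExt
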