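import Mathlib
import Groth.Prelude.Def_RDerDelta
import Groth.Agent.Lib.Helper24.Horseshoe3

/-!
# Dimension shifting for right derived functors along `0 ⟶ G ⟶ I ⟶ Q ⟶ 0`, `I` injective
(helper24)
-/

set_option autoImplicit false
set_option linter.style.haveILetI false
universe v u v' u' v'' u''
open CategoryTheory CategoryTheory.Limits

namespace Groth.Agent.Helper24.StalkExt

section Shift

variable {C : Type u} [Category.{v} C] [Abelian C] [HasInjectiveResolutions C] [EnoughInjectives C]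
  {D : Type u'} [Category.{v'} D] [Abelian D] (T : C ⥤ D) [T.Additive]
  (S : ShortComplex C) (hS : S.ShortExact)

include hS in
/-- `R^{p+1}T(X₃) ≅ R^{p+2}T(X₁)` when `X₂` is injective -/
theorem nonempty_shift_rightDerived [Injective S.X₂] (p : ℕ) :
    Nonempty ((T.rightDerived (p + 1 + 1)).obj S.X₁ ≅ (T.rightDerived (p + 1)).obj S.X₃) := by
  let Δ := Groth.Agent.Helper24.Horseshoe.derivedLES T
  have hz1 : IsZero ((T.rightDerived (p + 1)).obj S.X₂) :=
    Functor.isZero_rightDerived_obj_injective_succ T p S.X₂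
  have hz2 : IsZero ((T.rightDerived (p + 1 + 1)).obj S.X₂) :=
    Functor.isZero_rightDerived_obj_injective_succ T (p + 1) S.X₂
  have h3 := Δ.exact₃ S hS (p + 1) (p + 1 + 1) rfl
  have h1 := Δ.exact₁ S hS (p + 1) (p + 1 + 1) rfl
  haveI : Mono (Δ.δ S hS (p + 1) (p + 1 + 1) rfl) := h3.mono_g (hz1.eq_of_src _ _)
  haveI : Epi (Δ.δ S hS (p + 1) (p + 1 + 1) rfl) := h1.epi_f (hz2.eq_of_tgt _ _)
  haveI : IsIso (Δ.δ S hS (p + 1) (p + 1 + 1) rfl) := isIso_of_mono_of_epi _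
  exact ⟨(asIso (Δ.δ S hS (p + 1) (p + 1 + 1) rfl)).symm⟩

variable {E : Type u''} [Category.{v''} E] [Abelian E] (St : D ⥤ E) [St.Additive]
  [PreservesFiniteLimits St] [PreservesFiniteColimits St]

include hS in
/-- `St(R¹T(X₁)) ≅ coker(St(T X₂) ⟶ St(T X₃))` when `X₂` is injective, `T` left exact and
`St` exact -/
theorem nonempty_one_rightDerived [Injective S.X₂] [PreservesFiniteLimits T] :
    Nonempty (St.obj ((T.rightDerived 1).obj S.X₁) ≅ cokernel (St.map (T.map S.g))) := by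
  let Δ := Groth.Agent.Helper24.Horseshoe.derivedLES T
  have hz2 : IsZero ((T.rightDerived 1).obj S.X₂) :=
    Functor.isZero_rightDerived_obj_injective_succ T 0 S.X₂
  have h3 := Δ.exact₃ S hS 0 1 rfl
  have h1 := Δ.exact₁ S hS 0 1 rfl
  haveI : Epi (Δ.δ S hS 0 1 rfl) := h1.epi_f (hz2.eq_of_tgt _ _)
  let e : T.rightDerived 0 ≅ T := T.rightDerivedZeroIsoSelf
  let S₁ : ShortComplex D :=
    ShortComplex.mk ((T.rightDerived 0).map S.g) (Δ.δ S hS 0 1 rfl) (Δ.comp_δ S hS 0 1 rfl)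
  have hw : T.map S.g ≫ (e.inv.app S.X₃ ≫ Δ.δ S hS 0 1 rfl) = 0 := by
    have hn : T.map S.g ≫ e.inv.app S.X₃ = e.inv.app S.X₂ ≫ (T.rightDerived 0).map S.g :=
      e.inv.naturality S.g
    rw [← Category.assoc, hn, Category.assoc, Δ.comp_δ S hS 0 1 rfl, comp_zero]
  let S₂ : ShortComplex D := ShortComplex.mk (T.map S.g) (e.inv.app S.X₃ ≫ Δ.δ S hS 0 1 rfl) hw
  let φ : S₁ ≅ S₂ := ShortComplex.isoMk (e.app S.X₂) (e.app S.X₃) (Iso.refl _)
    (by
      show e.hom.app S.X₂ ≫ T.map S.g = (T.rightDerived 0).map S.g ≫ e.hom.app S.X₃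
      exact (e.hom.naturality S.g).symm)
    (by
      show e.hom.app S.X₃ ≫ e.inv.app S.X₃ ≫ Δ.δ S hS 0 1 rfl = Δ.δ S hS 0 1 rfl ≫ 𝟙 _
      rw [Category.comp_id, ← Category.assoc, Iso.hom_inv_id_app, Category.id_comp])
  have hex₂ : S₂.Exact := ShortComplex.exact_of_iso φ h3
  haveI : Epi S₂.g := by
    show Epi (e.inv.app S.X₃ ≫ Δ.δ S hS 0 1 rfl)
    infer_instance
  have hex₃ : (S₂.map St).Exact := hex₂.map St
  haveI : Epi (S₂.map St).g := by
    show Epi (St.map S₂.g)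
    infer_instance
  exact ⟨IsColimit.coconePointUniqueUpToIso hex₃.gIsCokernel (colimit.isColimit _)⟩

end Shift

end Groth.Agent.Helper24.StalkExt
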