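import Mathlib
import Groth.Agent.Lib.Helper24.StalkExt2
import Groth.Agent.Lib.Helper24.StalkExt3
import Groth.Agent.Lib.Helper24.StalkInj4
import Groth.Agent.Lib.Helper5.StalkCx1
import Groth.Agent.Lib.Helper24.LC6

/-!
# Stalks of the Ext sheaves out of a coherent module (stalks on the topological space; helper24)
-/

set_option autoImplicit false
set_option maxHeartbeats 400000
set_option linter.style.haveILetI false
universe u
open CategoryTheory CategoryTheory.Limits CategoryTheory.Abelian AlgebraicGeometry Opposite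

namespace Groth.Agent.Helper24.StalkExt

open Groth.Agent.Helper24.AffExt Groth.Agent.Helper24.RelExt

variable {X : Scheme.{u}} [IsLocallyNoetherian X] (x : X) (F : X.Modules) (hF : Coh.IsCoh F)

attribute [local instance] hasSheafHom'

/-- the short exact sequence `0 ⟶ G ⟶ I ⟶ Q ⟶ 0` with `I` injective -/
noncomputable def embSeq (G : X.Modules) : ShortComplex X.Modules :=
  ShortComplex.mk (Injective.ι G) (cokernel.π (Injective.ι G)) (cokernel.condition _)

omit [IsLocallyNoetherian X] in
lemma embSeq_shortExact (G : X.Modules) : (embSeq G).ShortExact where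
  exact := ShortComplex.exact_cokernel _
  mono_f := inferInstanceAs (Mono (Injective.ι G))
  epi_g := inferInstanceAs (Epi (cokernel.π (Injective.ι G)))

instance (G : X.Modules) : Injective (embSeq G).X₂ :=
  inferInstanceAs (Injective (Injective.under G))

lemma injective_stalk (I : X.Modules) [Injective I] :
    Injective ((DerSch.stalkFunctor X x).obj I) := by
  haveI : Module.Injective (X.presheaf.stalk x) (I.presheaf.stalk x) :=
    Groth.Agent.Helper24.StalkInj.main11155 I inferInstance x
  exact Module.injective_object_of_injective_module (X.presheaf.stalk x) (I.presheaf.stalk x)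

include hF in
theorem main_zero (G : X.Modules) :
    Nonempty ((DerSch.stalkFunctor X x).obj (((SH F).rightDerived 0).obj G) ≅
      ExtM ↑(X.presheaf.stalk x) ((DerSch.stalkFunctor X x).obj G) 0
        ((DerSch.stalkFunctor X x).obj F)) := by
  let e1 := (DerSch.stalkFunctor X x).mapIso ((SH F).rightDerivedZeroIsoSelf.app G)
  let e2 := Ψ x F G hF
  let e3 := (LinearEquiv.toModuleIso
    (X₁ := ExtM ↑(X.presheaf.stalk x) ((DerSch.stalkFunctor X x).obj G) 0
        ((DerSch.stalkFunctor X x).obj F))
    (X₂ := HomM ↑(X.presheaf.stalk x) ((DerSch.stalkFunctor X x).obj G)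
        ((DerSch.stalkFunctor X x).obj F))
    (Ext.linearEquiv₀ (R := ↑(X.presheaf.stalk x)) (X := (DerSch.stalkFunctor X x).obj F)
      (Y := (DerSch.stalkFunctor X x).obj G))).symm
  exact ⟨e1 ≪≫ e2 ≪≫ e3⟩

include hF in
theorem main_succ (p : ℕ) : ∀ (G : X.Modules),
    Nonempty ((DerSch.stalkFunctor X x).obj (((SH F).rightDerived (p + 1)).obj G) ≅
      ExtM ↑(X.presheaf.stalk x) ((DerSch.stalkFunctor X x).obj G) (p + 1)
        ((DerSch.stalkFunctor X x).obj F)) := by
  induction p with
  | zero =>
    intro G
    have hS := embSeq_shortExact G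
    have hSt : ((embSeq G).map (DerSch.stalkFunctor X x)).ShortExact :=
      hS.map_of_exact (DerSch.stalkFunctor X x)
    haveI : Injective ((embSeq G).map (DerSch.stalkFunctor X x)).X₂ :=
      injective_stalk x (embSeq G).X₂
    obtain ⟨ea⟩ := nonempty_one_rightDerived (SH F) (embSeq G) hS (DerSch.stalkFunctor X x)
    obtain ⟨eb⟩ := nonempty_one_iso ((DerSch.stalkFunctor X x).obj F)
      ((embSeq G).map (DerSch.stalkFunctor X x)) hSt
    let ec : cokernel ((DerSch.stalkFunctor X x).map ((SH F).map (embSeq G).g)) ≅
        cokernel (postM ((DerSch.stalkFunctor X x).obj F)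
          ((DerSch.stalkFunctor X x).map (embSeq G).g)) :=
      cokernel.mapIso _ _ (Ψ x F (embSeq G).X₂ hF) (Ψ x F (embSeq G).X₃ hF)
        (Ψ_natural x F hF (embSeq G).g)
    exact ⟨ea ≪≫ ec ≪≫ eb.symm⟩
  | succ p ih =>
    intro G
    have hS := embSeq_shortExact G
    have hSt : ((embSeq G).map (DerSch.stalkFunctor X x)).ShortExact :=
      hS.map_of_exact (DerSch.stalkFunctor X x)
    haveI : Injective ((embSeq G).map (DerSch.stalkFunctor X x)).X₂ :=
      injective_stalk x (embSeq G).X₂
    obtain ⟨ea⟩ := nonempty_shift_rightDerived (SH F) (embSeq G) hS p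
    obtain ⟨eb⟩ := ih (embSeq G).X₃
    obtain ⟨ec⟩ := nonempty_shift_iso ((DerSch.stalkFunctor X x).obj F)
      ((embSeq G).map (DerSch.stalkFunctor X x)) hSt p
    exact ⟨(DerSch.stalkFunctor X x).mapIso ea ≪≫ eb ≪≫ ec.symm⟩

include hF in
/-- **stalks of the Ext sheaves** (stalks on the underlying space) -/
theorem main_stalk (i : ℕ) (G : X.Modules) :
    Nonempty ((DerSch.stalkFunctor X x).obj (((SH F).rightDerived i).obj G) ≅
      ExtM ↑(X.presheaf.stalk x) ((DerSch.stalkFunctor X x).obj G) i
        ((DerSch.stalkFunctor X x).obj F)) := by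
  cases i with
  | zero => exact main_zero x F hF G
  | succ p => exact main_succ x F hF p G

end Groth.Agent.Helper24.StalkExt
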