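import Mathlib

/-!
# Transport of `Ext` of modules along a ring isomorphism (helper24)
-/

set_option autoImplicit false
set_option linter.style.haveILetI false
universe u
open CategoryTheory CategoryTheory.Limits CategoryTheory.Abelian

namespace Groth.Agent.Helper24.StalkExt

section Transport

variable {R₁ R : Type u} [CommRing R₁] [CommRing R] (e : R₁ ≃+* R)

/-- restriction of scalars along a ring isomorphism -/
noncomputable abbrev Φ : ModuleCat.{u} R ⥤ ModuleCat.{u} R₁ :=
  ModuleCat.restrictScalars e.toRingHom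

instance : (Φ e).IsEquivalence :=
  (ModuleCat.restrictScalarsEquivalenceOfRingEquiv e).isEquivalence_functor

instance : (Φ e).PreservesProjectiveObjects :=
  Functor.preservesProjectiveObjects_of_adjunction_of_preservesEpimorphisms
    (Φ e).asEquivalence.toAdjunction

theorem mapExt_bijective (M N : ModuleCat.{u} R) (n : ℕ) :
    Function.Bijective ((Φ e).mapExtAddHom M N n) :=
  Functor.mapExt_bijective_of_preservesProjectiveObjects (Φ e) M N n

lemma Φ_map_smul_id (N : ModuleCat.{u} R) (r₁ : R₁) :
    (Φ e).map (e r₁ • 𝟙 N) = r₁ • 𝟙 ((Φ e).obj N) := by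
  ext x
  rfl

lemma mapExt_smul (M N : ModuleCat.{u} R) (n : ℕ) (r₁ : R₁) (x : Ext M N n) :
    (e r₁ • x).mapExactFunctor (Φ e) = r₁ • x.mapExactFunctor (Φ e) := by
  rw [Ext.smul_eq_comp_mk₀, Ext.smul_eq_comp_mk₀, Ext.mapExactFunctor_comp,
    Ext.mapExactFunctor_mk₀, Φ_map_smul_id]

/-- transport of an `R`-linear identification with an `Ext` module along `e` -/
noncomputable def transportLin {A M N : ModuleCat.{u} R} (i : ℕ) (L : A ≃ₗ[R] Ext M N i) :
    ((Φ e).obj A) →ₗ[R₁] Ext ((Φ e).obj M) ((Φ e).obj N) i where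
  toFun a := (L a).mapExactFunctor (Φ e)
  map_add' a b := by
    have h : L ((show ↑A from a) + (show ↑A from b)) = L a + L b := map_add L _ _
    show (L ((show ↑A from a) + (show ↑A from b))).mapExactFunctor (Φ e) = _
    rw [h, Ext.mapExactFunctor_add]
  map_smul' r₁ a := by
    have h : L (e r₁ • (show ↑A from a)) = e r₁ • L a := map_smul L _ _
    show (L (e r₁ • (show ↑A from a))).mapExactFunctor (Φ e) = r₁ • (L a).mapExactFunctor (Φ e)
    rw [h, mapExt_smul]

theorem transportLin_bijective {A M N : ModuleCat.{u} R} (i : ℕ) (L : A ≃ₗ[R] Ext M N i) :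
    Function.Bijective (transportLin e i L) := by
  have h := (mapExt_bijective e M N i).comp L.bijective
  exact h

/-- the transported identification -/
noncomputable def transportEquiv {A M N : ModuleCat.{u} R} (i : ℕ) (L : A ≃ₗ[R] Ext M N i) :
    ((Φ e).obj A) ≃ₗ[R₁] Ext ((Φ e).obj M) ((Φ e).obj N) i :=
  LinearEquiv.ofBijective (transportLin e i L) (transportLin_bijective e i L)

end Transport

end Groth.Agent.Helper24.StalkExt
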