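import Mathlib
import Groth.Prelude.Def_ModSite
import Groth.Prelude.Def_ModSite2
import Groth.Prelude.Def_DerSch
import Groth.Prelude.Def_MeroDiv
import Groth.Agent.Lib.Helper10.GermSp
import Groth.Agent.Lib.Helper24.StalkExt6

/-!
# Stalks at a point of the site of opens versus stalks on the space (helper24)
-/

set_option autoImplicit false
set_option maxHeartbeats 400000
set_option linter.style.haveILetI false
universe u
open CategoryTheory CategoryTheory.Limits AlgebraicGeometry Opposite TopologicalSpace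

namespace Groth.Agent.Helper24.StalkExt

open Groth.Agent.Helper17.GN

variable {X : Scheme.{u}} (x : X)

/-- the point of the site of opens -/
noncomputable abbrev px : GrothendieckTopology.Point.{u} (Opens.grothendieckTopology X) :=
  Opens.pointGrothendieckTopology x

section Mod

variable (M : X.Modules)

/-- site stalk to topological stalk -/
noncomputable def dM : ModSite.stalkAb (O := X.sheaf) (px x) M ⟶ M.presheaf.stalk x :=
  (px x).presheafFiberDesc (P := (ModSite.toAb (O := X.sheaf) M).obj)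
    (fun U y => M.presheaf.germ U x (mem_of_fib x U y))
    (fun U _ f y => TopCat.Presheaf.germ_res M.presheaf f x (mem_of_fib x U y))

lemma dM_germ (U : X.Opens) (y : (px x).fiber.obj U) (s : Γ(M, U)) :
    (dM x M).hom (ModSite.germ (O := X.sheaf) (px x) M U y s) =
      M.presheaf.germ U x (mem_of_fib x U y) s := by
  have h := (px x).toPresheafFiber_presheafFiberDesc
    (P := (ModSite.toAb (O := X.sheaf) M).obj)
    (fun U y => M.presheaf.germ U x (mem_of_fib x U y))
    (fun U _ f y => TopCat.Presheaf.germ_res M.presheaf f x (mem_of_fib x U y)) U y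
  exact ConcreteCategory.congr_hom h s

theorem dM_surjective : Function.Surjective (dM x M).hom := by
  intro m
  obtain ⟨U, hxU, s, rfl⟩ := TopCat.Presheaf.exists_germ_eq M.presheaf m
  exact ⟨ModSite.germ (O := X.sheaf) (px x) M U (fibElt x U hxU) s, dM_germ x M U _ s⟩

theorem dM_injective : Function.Injective (dM x M).hom := by
  intro z₁ z₂ h
  obtain ⟨U, y, s₁, s₂, rfl, rfl⟩ := (px x).toPresheafFiber_jointly_surjective₂
    (P := (ModSite.toAb (O := X.sheaf) M).obj) z₁ z₂
  have h1 : M.presheaf.germ U x (mem_of_fib x U y) s₁ =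
      M.presheaf.germ U x (mem_of_fib x U y) s₂ :=
    (dM_germ x M U y s₁).symm.trans (h.trans (dM_germ x M U y s₂))
  obtain ⟨W, hxW, i₁, i₂, hW⟩ := TopCat.Presheaf.germ_eq M.presheaf x _ _ s₁ s₂ h1
  have hi : i₂ = i₁ := Subsingleton.elim _ _
  rw [hi] at hW
  exact ((px x).toPresheafFiber_eq_iff' (P := (ModSite.toAb (O := X.sheaf) M).obj) U y s₁ s₂).2
    ⟨W, i₁, fibElt x W hxW, Subsingleton.elim _ _, hW⟩

end Mod

section Ring

/-- site stalk to topological stalk, for the structure sheaf -/
noncomputable def dO : ModSite.stalkRing (px x) X.sheaf ⟶ X.presheaf.stalk x :=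
  (px x).presheafFiberDesc (P := X.sheaf.obj)
    (fun U y => X.presheaf.germ U x (mem_of_fib x U y))
    (fun U _ f y => TopCat.Presheaf.germ_res X.presheaf f x (mem_of_fib x U y))

lemma dO_germ (U : X.Opens) (y : (px x).fiber.obj U) (a : Γ(X, U)) :
    (dO x).hom (ModSite.germRing (O := X.sheaf) (px x) U y a) =
      X.presheaf.germ U x (mem_of_fib x U y) a := by
  have h := (px x).toPresheafFiber_presheafFiberDesc (P := X.sheaf.obj)
    (fun U y => X.presheaf.germ U x (mem_of_fib x U y))
    (fun U _ f y => TopCat.Presheaf.germ_res X.presheaf f x (mem_of_fib x U y)) U y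
  exact ConcreteCategory.congr_hom h a

theorem dO_surjective : Function.Surjective (dO x).hom := by
  intro m
  obtain ⟨U, hxU, s, rfl⟩ := TopCat.Presheaf.exists_germ_eq X.presheaf m
  exact ⟨ModSite.germRing (O := X.sheaf) (px x) U (fibElt x U hxU) s, dO_germ x U _ s⟩

theorem dO_injective : Function.Injective (dO x).hom := by
  intro z₁ z₂ h
  obtain ⟨U, y, s₁, s₂, rfl, rfl⟩ := (px x).toPresheafFiber_jointly_surjective₂
    (P := X.sheaf.obj) z₁ z₂
  have h1 : X.presheaf.germ U x (mem_of_fib x U y) s₁ =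
      X.presheaf.germ U x (mem_of_fib x U y) s₂ :=
    (dO_germ x U y s₁).symm.trans (h.trans (dO_germ x U y s₂))
  obtain ⟨W, hxW, i₁, i₂, hW⟩ := TopCat.Presheaf.germ_eq X.presheaf x _ _ s₁ s₂ h1
  have hi : i₂ = i₁ := Subsingleton.elim _ _
  rw [hi] at hW
  exact ((px x).toPresheafFiber_eq_iff' (P := X.sheaf.obj) U y s₁ s₂).2
    ⟨W, i₁, fibElt x W hxW, Subsingleton.elim _ _, hW⟩

/-- the two local rings agree -/
noncomputable def eO : ↑(ModSite.stalkRing (px x) X.sheaf) ≃+* ↑(X.presheaf.stalk x) :=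
  RingEquiv.ofBijective (dO x).hom ⟨dO_injective x, dO_surjective x⟩

lemma eO_apply (r : ModSite.stalkRing (px x) X.sheaf) : eO x r = (dO x).hom r := rfl

end Ring

section Semilinear

open Groth.Agent.Helper10.GermSp Groth.Agent.Helper17.MT

variable (M : X.Modules)

lemma dM_gm {U : X.Opens} (hx : x ∈ U) (s : Γ(M, U)) :
    (dM x M).hom (gm (O := X.sheaf) x M hx s) = M.presheaf.germ U x hx s :=
  dM_germ x M U (fibElt x U hx) s

lemma dO_gr {U : X.Opens} (hx : x ∈ U) (a : Γ(X, U)) :
    (dO x).hom (gr (O := X.sheaf) x hx a) = X.presheaf.germ U x hx a :=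
  dO_germ x U (fibElt x U hx) a

theorem dM_smul (r : ModSite.stalkRing (px x) X.sheaf)
    (m : ModSite.stalkAb (O := X.sheaf) (px x) M) :
    (dM x M).hom (r • m) = (dO x).hom r • (dM x M).hom m := by
  obtain ⟨U, y, a, rfl⟩ := (px x).toPresheafFiber_jointly_surjective (P := X.sheaf.obj) r
  obtain ⟨V, y', s, rfl⟩ := (px x).toPresheafFiber_jointly_surjective
    (P := (ModSite.toAb (O := X.sheaf) M).obj) m
  have hxU : x ∈ U := mem_of_fib x U y
  have hxV : x ∈ V := mem_of_fib x V y'
  obtain rfl : y = fibElt x U hxU := Subsingleton.elim _ _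
  obtain rfl : y' = fibElt x V hxV := Subsingleton.elim _ _
  have hxW : x ∈ U ⊓ V := ⟨hxU, hxV⟩
  have ha : ((px x).toPresheafFiber U (fibElt x U hxU) X.sheaf.obj).hom a =
      gr (O := X.sheaf) x hxW (rres (O := X.sheaf) (homOfLE inf_le_left : U ⊓ V ⟶ U) a) :=
    (gr_res (O := X.sheaf) x (homOfLE inf_le_left : U ⊓ V ⟶ U) hxW hxU a).symm
  have hs : ((px x).toPresheafFiber V (fibElt x V hxV)
        (ModSite.toAb (O := X.sheaf) M).obj).hom s =
      gm (O := X.sheaf) x M hxW (res (O := X.sheaf) M (homOfLE inf_le_right : U ⊓ V ⟶ V) s) :=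
    (gm_res (O := X.sheaf) x M (homOfLE inf_le_right : U ⊓ V ⟶ V) hxW hxV s).symm
  rw [ha, hs, ← gm_smul, dM_gm, dO_gr, dM_gm]
  exact Mero.germ_smul M (U ⊓ V) x hxW _ _

/-- the comparison map as a linear map -/
noncomputable def cMlin : ↑(ModSite.stalkMod (O := X.sheaf) (px x) M) →ₗ[↑(ModSite.stalkRing (px x) X.sheaf)]
    ↑((Φ (eO x)).obj ((DerSch.stalkFunctor X x).obj M)) where
  toFun m := (dM x M).hom m
  map_add' a b := map_add (dM x M).hom a b
  map_smul' r m := dM_smul x M r m

/-- the site stalk of a module is the topological stalk, with scalars restricted along `eO` -/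
noncomputable def cM : ↑(ModSite.stalkMod (O := X.sheaf) (px x) M) ≃ₗ[↑(ModSite.stalkRing (px x) X.sheaf)]
    ↑((Φ (eO x)).obj ((DerSch.stalkFunctor X x).obj M)) :=
  LinearEquiv.ofBijective (cMlin x M) ⟨dM_injective x M, dM_surjective x M⟩

/-- the same, as an isomorphism of modules -/
noncomputable def cMIso : ModSite.stalkMod (O := X.sheaf) (px x) M ≅
    (Φ (eO x)).obj ((DerSch.stalkFunctor X x).obj M) :=
  (cM x M).toModuleIso

end Semilinear

end Groth.Agent.Helper24.StalkExt
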