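import Mathlib
import Groth.Agent.Lib.Helper24.StalkExt4
import Groth.Agent.Lib.Helper24.StalkExt5
import Groth.Agent.Lib.Helper24.AffExt7

/-!
# Stalks of the Ext sheaves out of a coherent module, at the point of the site of opens (helper24)
-/

set_option autoImplicit false
set_option maxHeartbeats 400000
set_option linter.style.haveILetI false
universe u
open CategoryTheory CategoryTheory.Limits CategoryTheory.Abelian AlgebraicGeometry Opposite

namespace Groth.Agent.Helper24.StalkExt

open Groth.Agent.Helper24.AffExt Groth.Agent.Helper24.RelExt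

attribute [local instance] hasSheafHom'

/-- **S11323**: the stalk of `ℰxt^i(F, G)` is `Ext^i` of the stalks, for `F` coherent on a locally
Noetherian scheme -/
theorem main11323 (X : Scheme.{u}) [IsLocallyNoetherian X] (F G : X.Modules) (hF : Coh.IsCoh F)
    (x : X) (i : ℕ) :
    Nonempty (ModSite.stalkMod (O := X.sheaf) (px x) (((SH F).rightDerived i).obj G)
      ≃ₗ[ModSite.stalkRing (px x) X.sheaf]
      Ext (ModSite.stalkMod (O := X.sheaf) (px x) F)
        (ModSite.stalkMod (O := X.sheaf) (px x) G) i) := by
  obtain ⟨L⟩ := main_stalk x F hF i G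
  let T := transportEquiv (eO x) i L.toLinearEquiv
  exact ⟨(cM x (((SH F).rightDerived i).obj G)).trans
    (T.trans (extLinEquiv (cMIso x F).symm (cMIso x G).symm i))⟩

end Groth.Agent.Helper24.StalkExt
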