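import Mathlib
import Groth.Prelude.Def_LocCohZ
import Groth.Agent.Lib.Helper24.ExtMV
import Groth.Agent.Lib.Helper24.GlueTwo
import Groth.Agent.Lib.Helper24.Flasque
import Groth.Agent.Lib.Helper9.ShfSupp

/-!
# Mayer–Vietoris for cohomology with closed supports (helper24)
-/

set_option autoImplicit false
set_option linter.unusedSectionVars false
universe u
open CategoryTheory CategoryTheory.Limits Opposite TopologicalSpace

namespace Groth.Agent.Helper24.SuppMV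

open Groth.Agent.Helper24.GlueTwo Groth.Agent.Helper24.ExtMV CategoryTheory.Abelian

variable {X : TopCat.{u}}

/-- the quotient map `ℤ_X/ℤ_U ⟶ ℤ_X/ℤ_{U'}` for `U ≤ U'` -/
noncomputable abbrev q {U U' : Opens X} (hle : U ≤ U') :
    LocCohZ.zq (le_top : U ≤ ⊤) ⟶ LocCohZ.zq (le_top : U' ≤ ⊤) :=
  LocCohZ.zqMap (le_top : U' ≤ ⊤) (le_top : U ≤ ⊤) hle le_rfl

/-- the global section attached to a morphism out of `ℤ_X/ℤ_U` -/
noncomputable def sec (F : CohTop.Ab X) (U : Opens X) :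
    (LocCohZ.zq (le_top : U ≤ ⊤) ⟶ F) →+ F.obj.obj (op ⊤) :=
  (AddSubgroup.subtype _).comp ((LocCohZ.sect0Equiv F (le_top : U ≤ ⊤)).toAddMonoidHom.comp
    (Ext.addEquiv₀ (X := LocCohZ.zq (le_top : U ≤ ⊤)) (Y := F)).symm.toAddMonoidHom)

lemma sec_apply (F : CohTop.Ab X) (U : Opens X) (φ : LocCohZ.zq (le_top : U ≤ ⊤) ⟶ F) :
    sec F U φ = (LocCohZ.sect0Equiv F (le_top : U ≤ ⊤) (Ext.mk₀ φ)).1 := rfl

lemma sec_injective (F : CohTop.Ab X) (U : Opens X) : Function.Injective (sec F U) := by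
  intro a b hab
  have h1 : (LocCohZ.sect0Equiv F (le_top : U ≤ ⊤)) (Ext.mk₀ a) =
      (LocCohZ.sect0Equiv F (le_top : U ≤ ⊤)) (Ext.mk₀ b) := Subtype.ext hab
  have h2 := (LocCohZ.sect0Equiv F (le_top : U ≤ ⊤)).injective h1
  exact (Ext.mk₀_bijective _ _).1 h2

lemma sec_res (F : CohTop.Ab X) (U : Opens X) (φ : LocCohZ.zq (le_top : U ≤ ⊤) ⟶ F) :
    res F (le_top : U ≤ ⊤) (sec F U φ) = 0 :=
  (LocCohZ.sect0Equiv F (le_top : U ≤ ⊤) (Ext.mk₀ φ)).2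

lemma sec_surj (F : CohTop.Ab X) (U : Opens X) (s : F.obj.obj (op ⊤))
    (hs : res F (le_top : U ≤ ⊤) s = 0) : ∃ φ, sec F U φ = s := by
  refine ⟨Ext.addEquiv₀ ((LocCohZ.sect0Equiv F (le_top : U ≤ ⊤)).symm ⟨s, hs⟩), ?_⟩
  rw [sec_apply, Ext.mk₀_addEquiv₀_apply, AddEquiv.apply_symm_apply]

lemma sec_q (F : CohTop.Ab X) {U U' : Opens X} (hle : U ≤ U')
    (φ : LocCohZ.zq (le_top : U' ≤ ⊤) ⟶ F) : sec F U (q hle ≫ φ) = sec F U' φ := by
  have h := Groth.Agent.Helper9.ShfSupp.sect0Equiv_resZ F (le_top : U' ≤ ⊤) (le_top : U ≤ ⊤) hle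
    le_rfl (Ext.mk₀ φ)
  rw [sec_apply, sec_apply]
  have h2 : LocCohZ.resZ F 0 (le_top : U' ≤ ⊤) (le_top : U ≤ ⊤) hle le_rfl (Ext.mk₀ φ) =
      Ext.mk₀ (q hle ≫ φ) := by
    show (Ext.mk₀ _).comp (Ext.mk₀ φ) (zero_add 0) = _
    rw [Ext.mk₀_comp_mk₀]
  rw [h2] at h
  rw [h]
  exact res_self F _

variable (U U' : Opens X)

lemma hw : q (inf_le_left : U ⊓ U' ≤ U) ≫ q (le_sup_left : U ≤ U ⊔ U') =
    q (inf_le_right : U ⊓ U' ≤ U') ≫ q (le_sup_right : U' ≤ U ⊔ U') := by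
  apply Ext.addEquiv₀.symm.injective
  apply (LocCohZ.sect0Equiv _ (le_top : U ⊓ U' ≤ ⊤)).injective
  apply Subtype.ext
  have h1 := sec_q (LocCohZ.zq (le_top : U ⊔ U' ≤ ⊤)) (inf_le_left : U ⊓ U' ≤ U)
    (q (le_sup_left : U ≤ U ⊔ U'))
  have h2 := sec_q (LocCohZ.zq (le_top : U ⊔ U' ≤ ⊤)) (inf_le_right : U ⊓ U' ≤ U')
    (q (le_sup_right : U' ≤ U ⊔ U'))
  have h3 := sec_q (LocCohZ.zq (le_top : U ⊔ U' ≤ ⊤)) (le_sup_left : U ≤ U ⊔ U') (𝟙 _)
  have h4 := sec_q (LocCohZ.zq (le_top : U ⊔ U' ≤ ⊤)) (le_sup_right : U' ≤ U ⊔ U') (𝟙 _)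
  rw [Category.comp_id] at h3 h4
  exact (h1.trans h3).trans (h2.trans h4).symm

theorem mv_shortExact :
    (mvSC (q (le_sup_left : U ≤ U ⊔ U')) (q (le_sup_right : U' ≤ U ⊔ U'))
      (q (inf_le_left : U ⊓ U' ≤ U)) (q (inf_le_right : U ⊓ U' ≤ U')) (hw U U')).ShortExact := by
  apply shortExact_of_hom
  · intro I _ φ hφ
    suffices h : ∀ φ' : LocCohZ.zq (le_top : U ⊔ U' ≤ ⊤) ⟶ I,
        biprod.desc (q (le_sup_left : U ≤ U ⊔ U')) (q (le_sup_right : U' ≤ U ⊔ U')) ≫ φ' = 0 →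
          φ' = 0 from h φ hφ
    clear hφ φ
    intro φ hφ'
    have h1 : q (le_sup_left : U ≤ U ⊔ U') ≫ φ = 0 := by
      have := congrArg (fun k => biprod.inl ≫ k) hφ'
      simpa using this
    apply sec_injective I (U ⊔ U')
    rw [← sec_q I (le_sup_left : U ≤ U ⊔ U') φ, h1, map_zero, map_zero]
  · intro I _ ψ hψ
    have hψ' : biprod.lift (q (inf_le_left : U ⊓ U' ≤ U)) (-q (inf_le_right : U ⊓ U' ≤ U')) ≫ ψ
        = 0 := hψ
    have h0 : q (inf_le_left : U ⊓ U' ≤ U) ≫ (biprod.inl ≫ ψ) =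
        q (inf_le_right : U ⊓ U' ≤ U') ≫ (biprod.inr ≫ ψ) := by
      rw [biprod.lift_eq, Preadditive.add_comp, Category.assoc, Category.assoc,
        Preadditive.neg_comp, ← sub_eq_add_neg, sub_eq_zero] at hψ'
      exact hψ'
    have hab : sec I U (biprod.inl ≫ ψ) = sec I U' (biprod.inr ≫ ψ) := by
      rw [← sec_q I (inf_le_left : U ⊓ U' ≤ U), ← sec_q I (inf_le_right : U ⊓ U' ≤ U'), h0]
    have hs : res I (le_top : U ⊔ U' ≤ ⊤) (sec I U (biprod.inl ≫ ψ)) = 0 := by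
      apply ext_two I (le_sup_left : U ≤ U ⊔ U') (le_sup_right : U' ≤ U ⊔ U') le_rfl
      · rw [res_res, map_zero]
        exact sec_res I U _
      · rw [res_res, map_zero, hab]
        exact sec_res I U' _
    obtain ⟨φ, hφ⟩ := sec_surj I (U ⊔ U') _ hs
    refine ⟨φ, ?_⟩
    show biprod.desc (q (le_sup_left : U ≤ U ⊔ U')) (q (le_sup_right : U' ≤ U ⊔ U')) ≫ φ = ψ
    apply biprod.hom_ext'
    · rw [biprod.inl_desc_assoc]
      apply sec_injective I U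
      rw [sec_q, hφ]
    · rw [biprod.inr_desc_assoc]
      apply sec_injective I U'
      rw [sec_q, hφ, hab]
  · intro I _ χ
    -- the section `s` vanishing on `U ⊓ U'`
    have hs := sec_res I (U ⊓ U') χ
    -- glue `0` on `U` and `s|_{U'}` on `U'`
    obtain ⟨t, ht1, ht2⟩ := glue_two I (le_sup_left : U ≤ U ⊔ U') (le_sup_right : U' ≤ U ⊔ U')
      le_rfl (0 : I.obj.obj (op U)) (res I (le_top : U' ≤ ⊤) (sec I (U ⊓ U') χ)) (by
        rw [map_zero, res_res]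
        exact hs.symm)
    have : Mono (homOfLE (le_top : U ⊔ U' ≤ ⊤)) := ⟨fun _ _ _ => Subsingleton.elim _ _⟩
    obtain ⟨a, ha⟩ := Groth.Agent.Helper24.Flasque.restrict_surjective_of_injective
      (Opens.grothendieckTopology X) I (homOfLE (le_top : U ⊔ U' ≤ ⊤)) t
    have ha' : res I (le_top : U ⊔ U' ≤ ⊤) a = t := ha
    have haU : res I (le_top : U ≤ ⊤) a = 0 := by
      have := congrArg (res I (le_sup_left : U ≤ U ⊔ U')) ha'
      rw [res_res, ht1] at this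
      exact this
    have hbU' : res I (le_top : U' ≤ ⊤) (a - sec I (U ⊓ U') χ) = 0 := by
      have := congrArg (res I (le_sup_right : U' ≤ U ⊔ U')) ha'
      rw [res_res, ht2] at this
      rw [map_sub, this, sub_self]
    obtain ⟨ψa, hψa⟩ := sec_surj I U a haU
    obtain ⟨ψb, hψb⟩ := sec_surj I U' _ hbU'
    refine ⟨biprod.desc ψa ψb, ?_⟩
    show biprod.lift (q (inf_le_left : U ⊓ U' ≤ U)) (-q (inf_le_right : U ⊓ U' ≤ U')) ≫
      biprod.desc ψa ψb = χ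
    rw [biprod.lift_desc, Preadditive.neg_comp, ← sub_eq_add_neg]
    apply sec_injective I (U ⊓ U')
    rw [map_sub, sec_q, sec_q, hψa, hψb, sub_sub_cancel]

end Groth.Agent.Helper24.SuppMV
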