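import Mathlib

namespace Groth.Agent.Helper24.TensorChase
open TensorProduct LinearMap

universe v
variable {R : Type v} [CommRing R]
  {C₀ C₁ C₂ P₀ P₁ P₂ G : Type v}
  [AddCommGroup C₀] [Module R C₀] [AddCommGroup C₁] [Module R C₁] [AddCommGroup C₂] [Module R C₂]
  [AddCommGroup P₀] [Module R P₀] [AddCommGroup P₁] [Module R P₁] [AddCommGroup P₂] [Module R P₂]
  [AddCommGroup G] [Module R G]
  (c₁ : C₁ →ₗ[R] C₀) (c₂ : C₂ →ₗ[R] C₁) (p₁ : P₁ →ₗ[R] P₀) (p₂ : P₂ →ₗ[R] P₁) (π₀ : P₀ →ₗ[R] G)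

lemma comm_lr {M N M' N' : Type v} [AddCommGroup M] [Module R M] [AddCommGroup N] [Module R N]
    [AddCommGroup M'] [Module R M'] [AddCommGroup N'] [Module R N']
    (f : M →ₗ[R] M') (g : N →ₗ[R] N') (x : M ⊗[R] N) :
    (g.lTensor M') ((f.rTensor N) x) = (f.rTensor N') ((g.lTensor M) x) := by
  induction x using TensorProduct.induction_on with
  | zero => simp
  | tmul a b => simp
  | add a b ha hb => rw [map_add, map_add, map_add, map_add, ha, hb]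

include c₁ p₁ π₀ in
theorem chase_surj (hπ : Function.Surjective π₀) (h1 : Function.Exact p₁ π₀)
    (z₁ : C₁ ⊗[R] G) (hz : (c₁.rTensor G) z₁ = 0) :
    ∃ (v : C₀ ⊗[R] P₁) (w : C₁ ⊗[R] P₀),
      (p₁.lTensor C₀) v + (c₁.rTensor P₀) w = 0 ∧ (π₀.lTensor C₁) w = z₁ := by
  obtain ⟨w, hw⟩ := lTensor_surjective C₁ hπ z₁
  have hex := lTensor_exact C₀ h1 hπ
  have h2 : (π₀.lTensor C₀) ((c₁.rTensor P₀) w) = 0 := by
    rw [comm_lr, hw, hz]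
  obtain ⟨v, hv⟩ := (hex _).mp h2
  exact ⟨-v, w, by rw [map_neg, hv, neg_add_cancel], hw⟩

include c₁ c₂ p₁ p₂ π₀ in
theorem chase_inj [Module.Flat R C₀] (hc : c₁ ∘ₗ c₂ = 0)
    (hπ : Function.Surjective π₀) (h1 : Function.Exact p₁ π₀) (h2 : Function.Exact p₂ p₁)
    (v : C₀ ⊗[R] P₁) (w : C₁ ⊗[R] P₀) (hvw : (p₁.lTensor C₀) v + (c₁.rTensor P₀) w = 0)
    (u : C₂ ⊗[R] G) (hu : (c₂.rTensor G) u = (π₀.lTensor C₁) w) :
    ∃ (s : C₀ ⊗[R] P₂) (t : C₁ ⊗[R] P₁) (u' : C₂ ⊗[R] P₀),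
      v = (p₂.lTensor C₀) s + (c₁.rTensor P₁) t ∧
      w = -(p₁.lTensor C₁) t + (c₂.rTensor P₀) u' := by
  obtain ⟨u', hu'⟩ := lTensor_surjective C₂ hπ u
  have hex1 := lTensor_exact C₁ h1 hπ
  have h3 : (π₀.lTensor C₁) (w - (c₂.rTensor P₀) u') = 0 := by
    rw [map_sub, comm_lr, hu', hu, sub_self]
  obtain ⟨t₀, ht₀⟩ := (hex1 _).mp h3
  have hw : w = -(p₁.lTensor C₁) (-t₀) + (c₂.rTensor P₀) u' := by
    rw [map_neg, neg_neg, ht₀]; abel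
  have hex0 := Module.Flat.lTensor_exact C₀ h2
  have h4 : (p₁.lTensor C₀) (v - (c₁.rTensor P₁) (-t₀)) = 0 := by
    have e1 : (p₁.lTensor C₀) v = -(c₁.rTensor P₀) w := eq_neg_of_add_eq_zero_left hvw
    have e2 : (c₁.rTensor P₀) ((c₂.rTensor P₀) u') = 0 := by
      rw [← LinearMap.comp_apply, ← rTensor_comp, hc]; simp
    rw [map_sub, comm_lr, e1, map_neg, ht₀, map_neg, map_sub, e2]
    abel
  obtain ⟨s, hs⟩ := (hex0 _).mp h4
  exact ⟨s, -t₀, u', by rw [hs]; abel, hw⟩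

end Groth.Agent.Helper24.TensorChase
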