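import Mathlib

namespace Groth.Agent.Helper24.TensorLow
open CategoryTheory MonoidalCategory HomologicalComplex Limits

universe v
variable {R : Type v} [CommRing R] (K L : ChainComplex (ModuleCat.{v} R) ℕ)

/-- The inclusion of a summand of the tensor product of chain complexes. -/
noncomputable abbrev ι (i j n : ℕ) (h : i + j = n) : K.X i ⊗ L.X j ⟶ (K ⊗ L).X n :=
  ιTensorObj K L i j n h

/-- The projection to a summand of the tensor product of chain complexes. -/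
noncomputable def pr (i j n : ℕ) : (K ⊗ L).X n ⟶ K.X i ⊗ L.X j :=
  mapBifunctorDesc (K₁ := K) (K₂ := L) (F := curriedTensor (ModuleCat.{v} R))
    (c := ComplexShape.down ℕ) (j := n)
    (fun i' j' _ => if h : i' = i ∧ j' = j then eqToHom (by rw [h.1, h.2]; rfl) else 0)

@[reassoc (attr := simp)]
lemma ι_pr (i j n : ℕ) (h : i + j = n) : ι K L i j n h ≫ pr K L i j n = 𝟙 _ := by
  unfold pr ι ιTensorObj
  rw [ι_mapBifunctorDesc, dif_pos ⟨rfl, rfl⟩]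
  rfl

@[reassoc]
lemma ι_pr_ne (i j i' j' n : ℕ) (h : i' + j' = n) (hne : ¬ (i' = i ∧ j' = j)) :
    ι K L i' j' n h ≫ pr K L i j n = 0 := by
  unfold pr ι ιTensorObj
  rw [ι_mapBifunctorDesc, dif_neg hne]


lemma hom_ext' {n : ℕ} {Y : ModuleCat.{v} R} {f g : (K ⊗ L).X n ⟶ Y}
    (h : ∀ (i j : ℕ) (h : i + j = n), ι K L i j n h ≫ f = ι K L i j n h ≫ g) : f = g :=
  mapBifunctor.hom_ext (K₁ := K) (K₂ := L) (F := curriedTensor (ModuleCat.{v} R))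
    (c := ComplexShape.down ℕ) h

lemma decomp0 : 𝟙 ((K ⊗ L).X 0) = pr K L 0 0 0 ≫ ι K L 0 0 0 rfl := by
  apply hom_ext'
  intro i j h
  obtain ⟨rfl, rfl⟩ : i = 0 ∧ j = 0 := by omega
  rw [ι_pr_assoc, Category.comp_id]

lemma decomp1 : 𝟙 ((K ⊗ L).X 1) = pr K L 0 1 1 ≫ ι K L 0 1 1 rfl + pr K L 1 0 1 ≫ ι K L 1 0 1 rfl := by
  apply hom_ext'
  intro i j h
  obtain ⟨rfl, rfl⟩ | ⟨rfl, rfl⟩ : (i = 0 ∧ j = 1) ∨ (i = 1 ∧ j = 0) := by omega
  · rw [Preadditive.comp_add, ι_pr_assoc, ι_pr_ne_assoc _ _ 1 0 0 1 1 rfl (by omega),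
      Category.comp_id, zero_comp, add_zero]
  · rw [Preadditive.comp_add, ι_pr_assoc, ι_pr_ne_assoc _ _ 0 1 1 0 1 rfl (by omega),
      Category.comp_id, zero_comp, zero_add]

lemma decomp2 : 𝟙 ((K ⊗ L).X 2) = pr K L 0 2 2 ≫ ι K L 0 2 2 rfl + pr K L 1 1 2 ≫ ι K L 1 1 2 rfl
    + pr K L 2 0 2 ≫ ι K L 2 0 2 rfl := by
  apply hom_ext'
  intro i j h
  obtain ⟨rfl, rfl⟩ | ⟨rfl, rfl⟩ | ⟨rfl, rfl⟩ :
    (i = 0 ∧ j = 2) ∨ (i = 1 ∧ j = 1) ∨ (i = 2 ∧ j = 0) := by omega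
  · rw [Preadditive.comp_add, Preadditive.comp_add, ι_pr_assoc,
      ι_pr_ne_assoc _ _ 1 1 0 2 2 rfl (by omega), ι_pr_ne_assoc _ _ 2 0 0 2 2 rfl (by omega),
      Category.comp_id, zero_comp, zero_comp, add_zero, add_zero]
  · rw [Preadditive.comp_add, Preadditive.comp_add, ι_pr_assoc,
      ι_pr_ne_assoc _ _ 0 2 1 1 2 rfl (by omega), ι_pr_ne_assoc _ _ 2 0 1 1 2 rfl (by omega),
      Category.comp_id, zero_comp, zero_comp, add_zero, zero_add]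
  · rw [Preadditive.comp_add, Preadditive.comp_add, ι_pr_assoc,
      ι_pr_ne_assoc _ _ 0 2 2 0 2 rfl (by omega), ι_pr_ne_assoc _ _ 1 1 2 0 2 rfl (by omega),
      Category.comp_id, zero_comp, zero_comp, zero_add, zero_add]


lemma ι_d_succ_succ (i j n : ℕ) (h : (i + 1) + (j + 1) = n + 1) :
    ι K L (i + 1) (j + 1) (n + 1) h ≫ (K ⊗ L).d (n + 1) n =
      (K.d (i + 1) i ▷ L.X (j + 1)) ≫ ι K L i (j + 1) n (by omega) +
        ((-1 : ℤˣ) ^ (i + 1)) • ((K.X (i + 1) ◁ L.d (j + 1) j) ≫ ι K L (i + 1) j n (by omega)) := by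
  have h1 : (K ⊗ L).d (n + 1) n = mapBifunctor.D₁ K L (curriedTensor (ModuleCat.{v} R))
      (ComplexShape.down ℕ) (n + 1) n + mapBifunctor.D₂ K L (curriedTensor (ModuleCat.{v} R))
      (ComplexShape.down ℕ) (n + 1) n := rfl
  rw [h1, Preadditive.comp_add]
  unfold ι ιTensorObj
  rw [mapBifunctor.ι_D₁, mapBifunctor.ι_D₂,
    mapBifunctor.d₁_eq K L _ _ (show (ComplexShape.down ℕ).Rel (i + 1) i from rfl) (j + 1) n
      (show i + (j + 1) = n by omega),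
    mapBifunctor.d₂_eq K L _ _ (i + 1) (show (ComplexShape.down ℕ).Rel (j + 1) j from rfl) n
      (show (i + 1) + j = n by omega)]
  simp

lemma ι_d_zero_succ (j n : ℕ) (h : 0 + (j + 1) = n + 1) :
    ι K L 0 (j + 1) (n + 1) h ≫ (K ⊗ L).d (n + 1) n =
      (K.X 0 ◁ L.d (j + 1) j) ≫ ι K L 0 j n (by omega) := by
  have h1 : (K ⊗ L).d (n + 1) n = mapBifunctor.D₁ K L (curriedTensor (ModuleCat.{v} R))
      (ComplexShape.down ℕ) (n + 1) n + mapBifunctor.D₂ K L (curriedTensor (ModuleCat.{v} R))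
      (ComplexShape.down ℕ) (n + 1) n := rfl
  rw [h1, Preadditive.comp_add]
  unfold ι ιTensorObj
  rw [mapBifunctor.ι_D₁, mapBifunctor.ι_D₂,
    mapBifunctor.d₁_eq_zero K L _ _ 0 (j + 1) n (by simp),
    mapBifunctor.d₂_eq K L _ _ 0 (show (ComplexShape.down ℕ).Rel (j + 1) j from rfl) n
      (show 0 + j = n by omega)]
  simp

lemma ι_d_succ_zero (i n : ℕ) (h : (i + 1) + 0 = n + 1) :
    ι K L (i + 1) 0 (n + 1) h ≫ (K ⊗ L).d (n + 1) n =
      (K.d (i + 1) i ▷ L.X 0) ≫ ι K L i 0 n (by omega) := by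
  have h1 : (K ⊗ L).d (n + 1) n = mapBifunctor.D₁ K L (curriedTensor (ModuleCat.{v} R))
      (ComplexShape.down ℕ) (n + 1) n + mapBifunctor.D₂ K L (curriedTensor (ModuleCat.{v} R))
      (ComplexShape.down ℕ) (n + 1) n := rfl
  rw [h1, Preadditive.comp_add]
  unfold ι ιTensorObj
  rw [mapBifunctor.ι_D₁, mapBifunctor.ι_D₂,
    mapBifunctor.d₂_eq_zero K L _ _ (i + 1) 0 n (by simp),
    mapBifunctor.d₁_eq K L _ _ (show (ComplexShape.down ℕ).Rel (i + 1) i from rfl) 0 n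
      (show i + 0 = n by omega)]
  simp


variable {L} in
lemma ι_whiskerLeft {L' : ChainComplex (ModuleCat.{v} R) ℕ} (f : L ⟶ L') (i j n : ℕ)
    (h : i + j = n) :
    ι K L i j n h ≫ (K ◁ f).f n = (K.X i ◁ f.f j) ≫ ι K L' i j n h := by
  have h1 : (K ◁ f) = mapBifunctorMap (𝟙 K) f (curriedTensor (ModuleCat.{v} R))
      (ComplexShape.down ℕ) := rfl
  rw [h1]
  unfold ι ιTensorObj
  rw [ι_mapBifunctorMap]
  simp

lemma ι_single₀_succ (G : ModuleCat.{v} R) (i j n : ℕ) (h : i + (j + 1) = n) :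
    ι K ((ChainComplex.single₀ (ModuleCat.{v} R)).obj G) i (j + 1) n h = 0 := by
  apply IsZero.eq_of_src
  have hz : IsZero (((ChainComplex.single₀ (ModuleCat.{v} R)).obj G).X (j + 1)) :=
    HomologicalComplex.isZero_single_obj_X _ _ _ _ (by simp)
  exact Functor.map_isZero ((curriedTensor (ModuleCat.{v} R)).obj (K.X i)) hz


section Elem

lemma app {M N : ModuleCat.{v} R} {f g : M ⟶ N} (h : f = g) (x : M) :
    f.hom x = g.hom x := by rw [h]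

lemma pr_ι_apply (i j n : ℕ) (h : i + j = n) (x : (K.X i ⊗ L.X j : ModuleCat.{v} R)) :
    (pr K L i j n).hom ((ι K L i j n h).hom x) = x :=
  app (ι_pr K L i j n h) x

lemma d_ι_zero_succ_apply (j n : ℕ) (h : 0 + (j + 1) = n + 1)
    (x : (K.X 0 ⊗ L.X (j + 1) : ModuleCat.{v} R)) :
    ((K ⊗ L).d (n + 1) n).hom ((ι K L 0 (j + 1) (n + 1) h).hom x) =
      (ι K L 0 j n (by omega)).hom (((L.d (j + 1) j).hom.lTensor (K.X 0)) x) :=
  app (ι_d_zero_succ K L j n h) x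

lemma d_ι_succ_zero_apply (i n : ℕ) (h : (i + 1) + 0 = n + 1)
    (x : (K.X (i + 1) ⊗ L.X 0 : ModuleCat.{v} R)) :
    ((K ⊗ L).d (n + 1) n).hom ((ι K L (i + 1) 0 (n + 1) h).hom x) =
      (ι K L i 0 n (by omega)).hom (((K.d (i + 1) i).hom.rTensor (L.X 0)) x) :=
  app (ι_d_succ_zero K L i n h) x

lemma d_ι_succ_succ_apply (i j n : ℕ) (h : (i + 1) + (j + 1) = n + 1)
    (x : (K.X (i + 1) ⊗ L.X (j + 1) : ModuleCat.{v} R)) :
    ((K ⊗ L).d (n + 1) n).hom ((ι K L (i + 1) (j + 1) (n + 1) h).hom x) =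
      (ι K L i (j + 1) n (by omega)).hom (((K.d (i + 1) i).hom.rTensor (L.X (j + 1))) x) +
        ((-1 : ℤˣ) ^ (i + 1)) •
          (ι K L (i + 1) j n (by omega)).hom (((L.d (j + 1) j).hom.lTensor (K.X (i + 1))) x) :=
  app (ι_d_succ_succ K L i j n h) x

variable {L} in
lemma whiskerLeft_ι_apply {L' : ChainComplex (ModuleCat.{v} R) ℕ} (f : L ⟶ L') (i j n : ℕ)
    (h : i + j = n) (x : (K.X i ⊗ L.X j : ModuleCat.{v} R)) :
    ((K ◁ f).f n).hom ((ι K L i j n h).hom x) =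
      (ι K L' i j n h).hom (((f.f j).hom.lTensor (K.X i)) x) :=
  app (ι_whiskerLeft K f i j n h) x

lemma ι_single₀_succ_apply (G : ModuleCat.{v} R) (i j n : ℕ) (h : i + (j + 1) = n)
    (x : (K.X i ⊗ ((ChainComplex.single₀ (ModuleCat.{v} R)).obj G).X (j + 1) : ModuleCat.{v} R)) :
    (ι K ((ChainComplex.single₀ (ModuleCat.{v} R)).obj G) i (j + 1) n h).hom x = 0 := by
  rw [ι_single₀_succ]; rfl

lemma decomp0_apply (z : (K ⊗ L).X 0) :
    z = (ι K L 0 0 0 rfl).hom ((pr K L 0 0 0).hom z) := app (decomp0 K L) z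

lemma decomp1_apply (z : (K ⊗ L).X 1) :
    z = (ι K L 0 1 1 rfl).hom ((pr K L 0 1 1).hom z) +
      (ι K L 1 0 1 rfl).hom ((pr K L 1 0 1).hom z) := app (decomp1 K L) z

lemma decomp2_apply (z : (K ⊗ L).X 2) :
    z = (ι K L 0 2 2 rfl).hom ((pr K L 0 2 2).hom z) +
      (ι K L 1 1 2 rfl).hom ((pr K L 1 1 2).hom z) +
      (ι K L 2 0 2 rfl).hom ((pr K L 2 0 2).hom z) := app (decomp2 K L) z

end Elem

end Groth.Agent.Helper24.TensorLow
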