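import Groth.Agent.Lib.Helper24.RFQc10

/-!
# `f_* (M~) ≅ (M_A)~` for a morphism of affine schemes, naturally in `M`
-/

set_option autoImplicit false
universe u
open CategoryTheory CategoryTheory.Limits AlgebraicGeometry Opposite

namespace Groth.Agent.Helper24.TildePush

variable {R S : CommRingCat.{u}} (φ : R ⟶ S)

/-- global sections of the pushforward -/
noncomputable def gammaPushIso :
    Scheme.Modules.pushforward (Spec.map φ) ⋙ moduleSpecΓFunctor (R := R) ≅
      moduleSpecΓFunctor (R := S) ⋙ ModuleCat.restrictScalars φ.hom :=
  Functor.isoWhiskerRight (pushforwardCompModulesSpecToSheafIso φ)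
    (TopCat.Sheaf.forget _ _ ⋙ (evaluation _ _).obj (op ⊤))

/-- the comparison `(M_R)~ ⟶ f_* (M~)` -/
noncomputable def θ : ModuleCat.restrictScalars φ.hom ⋙ tilde.functor R ⟶
    tilde.functor S ⋙ Scheme.Modules.pushforward (Spec.map φ) where
  app N := (tilde.functor R).map
      ((ModuleCat.restrictScalars φ.hom).map ((tilde.adjunction (R := S)).unit.app N) ≫
        (gammaPushIso φ).inv.app ((tilde.functor S).obj N)) ≫
    (tilde.adjunction (R := R)).counit.app
      ((Scheme.Modules.pushforward (Spec.map φ)).obj ((tilde.functor S).obj N))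
  naturality N N' g := by
    have h1 := (tilde.adjunction (R := S)).unit.naturality g
    have h2 := (gammaPushIso φ).inv.naturality ((tilde.functor S).map g)
    have h3 := (tilde.adjunction (R := R)).counit.naturality
      ((Scheme.Modules.pushforward (Spec.map φ)).map ((tilde.functor S).map g))
    simp only [Functor.comp_map, Functor.id_map, Functor.comp_obj, Functor.id_obj] at h1 h2 h3 ⊢
    rw [Category.assoc, ← h3, ← Category.assoc, ← Category.assoc, ← Functor.map_comp,
      ← Functor.map_comp]
    congr 2
    rw [← Category.assoc, ← Functor.map_comp, h1, Functor.map_comp, Category.assoc, Category.assoc,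
      h2]

instance (N : ModuleCat.{u} S) : IsIso ((θ φ).app N) := by
  haveI : IsIso ((tilde.functor S).obj N).fromTildeΓ := inferInstance
  haveI : IsIso ((Scheme.Modules.pushforward (Spec.map φ)).obj
      ((tilde.functor S).obj N)).fromTildeΓ :=
    isIso_fromTildeΓ_pushforward φ ((tilde.functor S).obj N)
  haveI : IsIso ((tilde.adjunction (R := R)).counit.app
      ((Scheme.Modules.pushforward (Spec.map φ)).obj ((tilde.functor S).obj N))) :=
    inferInstanceAs (IsIso ((Scheme.Modules.pushforward (Spec.map φ)).obj
      ((tilde.functor S).obj N)).fromTildeΓ)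
  dsimp only [θ]
  infer_instance

instance : IsIso (θ φ) := NatIso.isIso_of_isIso_app _

/-- `(M_R)~ ≅ f_* (M~)` naturally in `M` -/
noncomputable def tildePushIso : ModuleCat.restrictScalars φ.hom ⋙ tilde.functor R ≅
    tilde.functor S ⋙ Scheme.Modules.pushforward (Spec.map φ) := asIso (θ φ)

end Groth.Agent.Helper24.TildePush
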