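import Groth.Agent.Lib.Helper24.TildePush1

/-!
# `Rf_* ∘ ~ ≅ ~ ∘ restriction of scalars` on derived categories, for a morphism of affine schemes
-/

set_option autoImplicit false
universe u
open CategoryTheory CategoryTheory.Limits AlgebraicGeometry Opposite

attribute [local instance] HasDerivedCategory.standard

namespace Groth.Agent.Helper24.TildePush

open DerivedCategory Groth.Agent.Helper24.RFQc

variable {R S : CommRingCat.{u}} (φ : R ⟶ S)

/-- termwise: `(M_R)~ ≅ f_* (M~)` for complexes -/
noncomputable def cxIso :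
    (tilde.functor S).mapHomologicalComplex (ComplexShape.up ℤ) ⋙
      (Scheme.Modules.pushforward (Spec.map φ)).mapHomologicalComplex (ComplexShape.up ℤ) ≅
    (ModuleCat.restrictScalars φ.hom).mapHomologicalComplex (ComplexShape.up ℤ) ⋙
      (tilde.functor R).mapHomologicalComplex (ComplexShape.up ℤ) :=
  NatIso.ofComponents (fun L => HomologicalComplex.Hom.isoOfComponents
    (fun i => (tildePushIso φ).symm.app (L.X i))
    (fun i j _ => ((tildePushIso φ).inv.naturality (L.d i j)).symm))
    (fun {L L'} g => HomologicalComplex.hom_ext _ _ (fun i =>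
      (tildePushIso φ).inv.naturality (g.f i)))

variable [DCoh.HasRpush (Spec.map φ)]

/-- the unit of `Rf_*` on complexes of the form `M~` -/
noncomputable def unitTilde :
    ((tilde.functor S).mapHomologicalComplex (ComplexShape.up ℤ) ⋙
      (Scheme.Modules.pushforward (Spec.map φ)).mapHomologicalComplex (ComplexShape.up ℤ)) ⋙
      (Q : CochainComplex (Spec R).Modules ℤ ⥤ _) ⟶
    ((tilde.functor S).mapHomologicalComplex (ComplexShape.up ℤ) ⋙
      (Q : CochainComplex (Spec S).Modules ℤ ⥤ _)) ⋙ DCoh.Rpush (Spec.map φ) where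
  app L := (βf (Spec.map φ)).app ((HomotopyCategory.quotient _ _).obj
    (((tilde.functor S).mapHomologicalComplex (ComplexShape.up ℤ)).obj L))
  naturality L L' g := (βf (Spec.map φ)).naturality ((HomotopyCategory.quotient _ _).map
    (((tilde.functor S).mapHomologicalComplex (ComplexShape.up ℤ)).map g))

instance (L : CochainComplex (ModuleCat.{u} S) ℤ) : IsIso ((unitTilde φ).app L) :=
  isIso_unit_of_acyclic_qcoh (Spec.map φ)
    (((tilde.functor S).mapHomologicalComplex (ComplexShape.up ℤ)).obj L)
    (fun n => inferInstanceAs ((tilde.functor S).obj (L.X n)).IsQuasicoherent)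
    (fun n => acyc_of_affine (Spec.map φ) _
      (inferInstanceAs ((tilde.functor S).obj (L.X n)).IsQuasicoherent))

instance : IsIso (unitTilde φ) := NatIso.isIso_of_isIso_app _

variable [PreservesFiniteLimits (tilde.functor R)] [PreservesFiniteLimits (tilde.functor S)]

/-- `Rf_* (M~) ≅ (M_R)~` on derived categories -/
theorem nonempty_iso :
    Nonempty ((tilde.functor S).mapDerivedCategory ⋙ DCoh.Rpush (Spec.map φ) ≅
      (ModuleCat.restrictScalars φ.hom).mapDerivedCategory ⋙ (tilde.functor R).mapDerivedCategory) := by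
  let e : ((tilde.functor S).mapHomologicalComplex (ComplexShape.up ℤ) ⋙
      (Q : CochainComplex (Spec S).Modules ℤ ⥤ _)) ⋙ DCoh.Rpush (Spec.map φ) ≅
      ((ModuleCat.restrictScalars φ.hom).mapHomologicalComplex (ComplexShape.up ℤ) ⋙
        (Q : CochainComplex (ModuleCat.{u} R) ℤ ⥤ _)) ⋙ (tilde.functor R).mapDerivedCategory :=
    (asIso (unitTilde φ)).symm ≪≫ Functor.isoWhiskerRight (cxIso φ) Q ≪≫
      Functor.isoWhiskerLeft ((ModuleCat.restrictScalars φ.hom).mapHomologicalComplex
        (ComplexShape.up ℤ)) (tilde.functor R).mapDerivedCategoryFactors.symm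
  exact ⟨Localization.liftNatIso Q (HomologicalComplex.quasiIso _ (ComplexShape.up ℤ)) _ _ _ _ e⟩

end Groth.Agent.Helper24.TildePush
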