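import Groth.Prelude.Def_NonAbH1
import Mathlib

/-!
# The standard torsor attached to a Čech 1-cocycle on a site, and comparison of torsors
(helper24).  `stdG γ hU` is a `G`-torsor with sections `stdSec` cutting out the cocycle `γ`;
`isoOf` identifies two pseudo-torsors with sections cutting out the same cocycle.
-/

set_option autoImplicit false
universe w' w v u
open CategoryTheory Opposite

namespace Groth.Agent.Helper24.TorsorCech

variable {C : Type u} [Category.{v} C] {J : GrothendieckTopology C}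

/-- the group representing the forgetful functor -/
abbrev E : GrpCat.{w} := GrpCat.of (FreeGroup PUnit.{w+1})

/-- `Hom(E, H) ≃ H` -/
def homEquiv (H : GrpCat.{w}) : (E.{w} ⟶ H) ≃ H where
  toFun f := f.hom (FreeGroup.of PUnit.unit)
  invFun h := GrpCat.ofHom (FreeGroup.lift fun _ => h)
  left_inv f := by
    ext x
    cases x
    simp
  right_inv h := by simp

theorem isSheaf_forget (G : Sheaf J GrpCat.{w}) :
    Presieve.IsSheaf J (G.obj ⋙ forget GrpCat.{w}) := by
  have h := G.property E.{w}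
  refine Presieve.isSheaf_of_nat_equiv (fun X => homEquiv (G.obj.obj (op X))) ?_ h
  intro X Y f x
  rfl

theorem G_sep (G : Sheaf J GrpCat.{w}) {T : C} (R : Sieve T) (hR : R ∈ J T)
    (y y' : G.obj.obj (op T))
    (h : ∀ ⦃T' : C⦄ (f : T' ⟶ T), R f → G.obj.map f.op y = G.obj.map f.op y') : y = y' :=
  ((isSheaf_forget G).isSeparated R hR).ext (fun _ f hf => h f hf)

theorem G_glue (G : Sheaf J GrpCat.{w}) {T : C} (R : Sieve T) (hR : R ∈ J T)
    (x : ∀ ⦃T' : C⦄ (f : T' ⟶ T), R f → G.obj.obj (op T'))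
    (hx : ∀ ⦃T' T'' : C⦄ (g : T'' ⟶ T') (f : T' ⟶ T) (hf : R f),
      G.obj.map g.op (x f hf) = x (g ≫ f) (R.downward_closed hf g)) :
    ∃ y : G.obj.obj (op T), ∀ ⦃T' : C⦄ (f : T' ⟶ T) (hf : R f), G.obj.map f.op y = x f hf := by
  let x' : Presieve.FamilyOfElements (G.obj ⋙ forget GrpCat.{w}) R.arrows :=
    fun T' f hf => x f hf
  have hx' : x'.Compatible := by
    rw [Presieve.compatible_iff_sieveCompatible]
    intro T' T'' f g hf
    exact (hx g f hf).symm
  refine ⟨(isSheaf_forget G R hR).amalgamate x' hx', fun T' f hf => ?_⟩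
  exact (isSheaf_forget G R hR).valid_glue hx' f hf

theorem P_sep (P : Sheaf J (Type w)) {T : C} (R : Sieve T) (hR : R ∈ J T)
    (y y' : P.obj.obj (op T))
    (h : ∀ ⦃T' : C⦄ (f : T' ⟶ T), R f → P.obj.map f.op y = P.obj.map f.op y') : y = y' :=
  ((((isSheaf_iff_isSheaf_of_type _ _).1 P.property)).isSeparated R hR).ext (fun _ f hf => h f hf)

theorem P_glue (P : Sheaf J (Type w)) {T : C} (R : Sieve T) (hR : R ∈ J T)
    (x : ∀ ⦃T' : C⦄ (f : T' ⟶ T), R f → P.obj.obj (op T'))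
    (hx : ∀ ⦃T' T'' : C⦄ (g : T'' ⟶ T') (f : T' ⟶ T) (hf : R f),
      P.obj.map g.op (x f hf) = x (g ≫ f) (R.downward_closed hf g)) :
    ∃ y : P.obj.obj (op T), ∀ ⦃T' : C⦄ (f : T' ⟶ T) (hf : R f), P.obj.map f.op y = x f hf := by
  have hP := (isSheaf_iff_isSheaf_of_type _ _).1 P.property
  let x' : Presieve.FamilyOfElements P.obj R.arrows :=
    fun T' f hf => x f hf
  have hx' : x'.Compatible := by
    rw [Presieve.compatible_iff_sieveCompatible]
    intro T' T'' f g hf
    exact (hx g f hf).symm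
  refine ⟨(hP R hR).amalgamate x' hx', fun T' f hf => ?_⟩
  exact (hP R hR).valid_glue hx' f hf

section Big
variable {G : Sheaf J GrpCat.{w}} {I : Type w'} {U : I → C}

/-- sections of the standard torsor attached to a cocycle -/
@[ext]
structure BigP (γ : PresheafOfGroups.OneCocycle G.obj U) (T : C) where
  x : ∀ ⦃T' : C⦄ (_ : T' ⟶ T) (i : I) (_ : T' ⟶ U i), G.obj.obj (op T')
  res : ∀ ⦃T' T'' : C⦄ (g : T'' ⟶ T') (f : T' ⟶ T) (i : I) (a : T' ⟶ U i),
    G.obj.map g.op (x f i a) = x (g ≫ f) i (g ≫ a)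
  coc : ∀ ⦃T' : C⦄ (f : T' ⟶ T) (i j : I) (a : T' ⟶ U i) (b : T' ⟶ U j),
    x f i a * γ.ev i j a b = x f j b

variable (γ : PresheafOfGroups.OneCocycle G.obj U)

/-- restriction -/
def BigP.restr {T S : C} (h : S ⟶ T) (p : BigP γ T) : BigP γ S where
  x T' f i a := p.x (f ≫ h) i a
  res T' T'' g f i a := by
    rw [p.res g (f ≫ h) i a, Category.assoc]
  coc T' f i j a b := p.coc (f ≫ h) i j a b

/-- the action -/
def BigP.smul {T : C} (g : G.obj.obj (op T)) (p : BigP γ T) : BigP γ T where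
  x T' f i a := G.obj.map f.op g * p.x f i a
  res T' T'' k f i a := by
    rw [map_mul, p.res k f i a, op_comp, Functor.map_comp]
    rfl
  coc T' f i j a b := by
    rw [mul_assoc, p.coc f i j a b]

/-- the presheaf -/
def bigP : Cᵒᵖ ⥤ Type (max u v w w') where
  obj T := BigP γ T.unop
  map h := TypeCat.ofHom (BigP.restr γ h.unop)
  map_id T := by
    ext p T' f i a
    simp [BigP.restr]
  map_comp h k := by
    ext p T' f i a
    simp [BigP.restr]


@[simp] theorem BigP.restr_x {T S : C} (h : S ⟶ T) (p : BigP γ T) {T' : C} (f : T' ⟶ S) (i : I)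
    (a : T' ⟶ U i) : (BigP.restr γ h p).x f i a = p.x (f ≫ h) i a := rfl

@[simp] theorem BigP.smul_x {T : C} (g : G.obj.obj (op T)) (p : BigP γ T) {T' : C} (f : T' ⟶ T)
    (i : I) (a : T' ⟶ U i) : (BigP.smul γ g p).x f i a = G.obj.map f.op g * p.x f i a := rfl

theorem bigP_map {T S : Cᵒᵖ} (h : T ⟶ S) (p : BigP γ T.unop) :
    (bigP γ).map h p = BigP.restr γ h.unop p := rfl

theorem G_map_comp {T T' T'' : C} (g : T'' ⟶ T') (f : T' ⟶ T) (y : G.obj.obj (op T)) :
    G.obj.map (g ≫ f).op y = G.obj.map g.op (G.obj.map f.op y) := by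
  rw [op_comp, Functor.map_comp]
  rfl

theorem G_map_id {T : C} (y : G.obj.obj (op T)) : G.obj.map (𝟙 T).op y = y := by
  simp

/-- the sheaf property of the standard torsor -/
theorem bigP_isSheaf : Presieve.IsSheaf J (bigP γ) := by
  intro T R hR x hx
  have hx' := (Presieve.compatible_iff_sieveCompatible x).1 hx
  have hxx : ∀ ⦃Y Z : C⦄ (f : Y ⟶ T) (g : Z ⟶ Y) (hf : R f) (f' : Z ⟶ T) (hf' : R f')
      (_ : f' = g ≫ f) ⦃T' : C⦄ (k : T' ⟶ Z) (i : I)
      (a : T' ⟶ U i), (x f' hf').x k i a = (x f hf).x (k ≫ g) i a := by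
    intro Y Z f g hf f' hf' e T' k i a
    subst e
    rw [hx' f g hf]
    rfl
  have key : ∀ ⦃T' : C⦄ (f : T' ⟶ T) (i : I) (a : T' ⟶ U i), ∃ y : G.obj.obj (op T'),
      ∀ ⦃T'' : C⦄ (g : T'' ⟶ T') (hg : R (g ≫ f)),
        G.obj.map g.op y = (x (g ≫ f) hg).x (𝟙 _) i (g ≫ a) := by
    intro T' f i a
    refine G_glue G (R.pullback f) (J.pullback_stable f hR)
      (fun T'' g hg => (x (g ≫ f) hg).x (𝟙 _) i (g ≫ a)) ?_
    intro T'' T3 k g hg
    rw [(x (g ≫ f) hg).res k (𝟙 _) i (g ≫ a)]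
    refine Eq.trans ?_
      (hxx (g ≫ f) k hg ((k ≫ g) ≫ f) _ (Category.assoc _ _ _) (𝟙 _) i ((k ≫ g) ≫ a)).symm
    simp only [Category.assoc, Category.comp_id, Category.id_comp]
  choose y hy using key
  have hres : ∀ ⦃T' T'' : C⦄ (g : T'' ⟶ T') (f : T' ⟶ T) (i : I) (a : T' ⟶ U i),
      G.obj.map g.op (y f i a) = y (g ≫ f) i (g ≫ a) := by
    intro T' T'' g f i a
    apply G_sep G (R.pullback (g ≫ f)) (J.pullback_stable (g ≫ f) hR)
    intro T3 k hk
    rw [hy (g ≫ f) i (g ≫ a) k hk, ← G_map_comp]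
    have hk' : R ((k ≫ g) ≫ f) := by simpa using hk
    rw [hy f i a (k ≫ g) hk']
    rw [hxx (k ≫ g ≫ f) (𝟙 _) hk ((k ≫ g) ≫ f) hk' (by simp)]
    simp only [Category.assoc, Category.comp_id]
  have hcoc : ∀ ⦃T' : C⦄ (f : T' ⟶ T) (i j : I) (a : T' ⟶ U i) (b : T' ⟶ U j),
      y f i a * γ.ev i j a b = y f j b := by
    intro T' f i j a b
    apply G_sep G (R.pullback f) (J.pullback_stable f hR)
    intro T'' g hg
    rw [map_mul, hy f i a g hg, hy f j b g hg, γ.ev_precomp]
    exact (x (g ≫ f) hg).coc (𝟙 _) i j (g ≫ a) (g ≫ b)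
  have hyx : ∀ ⦃T' : C⦄ (f : T' ⟶ T) (hf : R f) (i : I) (a : T' ⟶ U i),
      y f i a = (x f hf).x (𝟙 _) i a := by
    intro T' f hf i a
    have h1 := hy f i a (𝟙 _) (by simpa using hf)
    rw [G_map_id] at h1
    rw [h1, hxx f (𝟙 _) hf (𝟙 _ ≫ f) _ rfl]
    simp only [Category.id_comp, Category.comp_id]
  refine ⟨⟨y, hres, hcoc⟩, ?_, ?_⟩
  · intro T' f hf
    rw [bigP_map]
    apply BigP.ext
    funext T'' k i a
    simp only [BigP.restr_x, Quiver.Hom.unop_op]
    rw [hyx (k ≫ f) (R.downward_closed hf k), hxx f k hf (k ≫ f) _ rfl]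
    simp
  · intro t' ht'
    apply BigP.ext
    funext T' f i a
    apply G_sep G (R.pullback f) (J.pullback_stable f hR)
    intro T'' g hg
    rw [hy f i a g hg, t'.res g f i a]
    have h2 : BigP.restr γ (g ≫ f) t' = x (g ≫ f) hg := ht' (g ≫ f) hg
    rw [← h2]
    change t'.x (g ≫ f) i (g ≫ a) = t'.x (𝟙 _ ≫ (g ≫ f)) i (g ≫ a)
    rw [Category.id_comp]


theorem BigP.indep {T : C} (p q : BigP γ T) ⦃T' : C⦄ (f : T' ⟶ T) (i j : I) (a : T' ⟶ U i)
    (b : T' ⟶ U j) : q.x f i a * (p.x f i a)⁻¹ = q.x f j b * (p.x f j b)⁻¹ := by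
  rw [← q.coc f i j a b, ← p.coc f i j a b]
  group

/-- the standard torsor is a pseudo-torsor -/
theorem bigP_pseudo (hU : J.CoversTop U) {T : C} (p q : BigP γ T) :
    ∃! g : G.obj.obj (op T), BigP.smul γ g p = q := by
  have hS := hU T
  -- the local differences
  have hloc : ∀ ⦃T' : C⦄ (f : T' ⟶ T), Sieve.ofObjects U T f → ∃ g : G.obj.obj (op T'),
      ∀ (i : I) (a : T' ⟶ U i), g = q.x f i a * (p.x f i a)⁻¹ := by
    rintro T' f ⟨i, ⟨a⟩⟩
    exact ⟨q.x f i a * (p.x f i a)⁻¹, fun j b => BigP.indep γ p q f i j a b⟩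
  choose d hd using hloc
  obtain ⟨g, hg⟩ := G_glue G (Sieve.ofObjects U T) hS d (by
    intro T' T'' k f hf
    obtain ⟨i, ⟨a⟩⟩ := hf
    rw [hd f ⟨i, ⟨a⟩⟩ i a, hd (k ≫ f) _ i (k ≫ a), map_mul, map_inv, q.res, p.res])
  have hg' : ∀ ⦃T' : C⦄ (f : T' ⟶ T) (i : I) (a : T' ⟶ U i),
      G.obj.map f.op g = q.x f i a * (p.x f i a)⁻¹ := by
    intro T' f i a
    rw [hg f ⟨i, ⟨a⟩⟩, hd f ⟨i, ⟨a⟩⟩ i a]
  refine ⟨g, ?_, ?_⟩
  · apply BigP.ext
    funext T' f i a
    rw [BigP.smul_x, hg' f i a]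
    group
  · intro g' hg''
    apply G_sep G (Sieve.ofObjects U T) hS
    rintro T' f ⟨i, ⟨a⟩⟩
    rw [hg' f i a]
    have := congrArg (fun r : BigP γ T => r.x f i a) hg''
    simp only [BigP.smul_x] at this
    rw [← this]
    group

/-- the canonical sections -/
def sec (i : I) : BigP γ (U i) where
  x T' f j b := γ.ev i j f b
  res T' T'' g f j b := γ.ev_precomp i j g f b
  coc T' f j l b c := γ.ev_trans i j l f b c

@[simp] theorem sec_x (i : I) ⦃T' : C⦄ (f : T' ⟶ U i) (j : I) (b : T' ⟶ U j) :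
    (sec γ i).x f j b = γ.ev i j f b := rfl

theorem sec_cocycle (i j : I) ⦃T : C⦄ (a : T ⟶ U i) (b : T ⟶ U j) :
    BigP.smul γ (γ.ev i j a b) (BigP.restr γ b (sec γ j)) = BigP.restr γ a (sec γ i) := by
  apply BigP.ext
  funext T' f l c
  simp only [BigP.smul_x, BigP.restr_x, sec_x]
  rw [γ.ev_precomp, γ.ev_trans]

theorem bigP_locallyNonempty (hU : J.CoversTop U) (T : C) :
    ∃ S ∈ J T, ∀ ⦃V : C⦄ (f : V ⟶ T), S f → Nonempty (BigP γ V) := by
  refine ⟨Sieve.ofObjects U T, hU T, ?_⟩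
  rintro V f ⟨i, ⟨a⟩⟩
  exact ⟨BigP.restr γ a (sec γ i)⟩

theorem bigP_small (hU : J.CoversTop U) (T : C) : Small.{w} (BigP γ T) := by
  by_cases h : Nonempty (BigP γ T)
  · obtain ⟨p₀⟩ := h
    apply small_of_surjective (f := fun g : G.obj.obj (op T) => BigP.smul γ g p₀)
    intro q
    obtain ⟨g, hg, -⟩ := bigP_pseudo γ hU p₀ q
    exact ⟨g, hg⟩
  · have : IsEmpty (BigP γ T) := not_nonempty_iff.mp h
    infer_instance


theorem BigP.one_smul {T : C} (p : BigP γ T) : BigP.smul γ 1 p = p := by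
  apply BigP.ext
  funext T' f i a
  simp

theorem BigP.mul_smul {T : C} (g h : G.obj.obj (op T)) (p : BigP γ T) :
    BigP.smul γ (g * h) p = BigP.smul γ g (BigP.smul γ h p) := by
  apply BigP.ext
  funext T' f i a
  simp [mul_assoc]

theorem BigP.restr_smul {T S : C} (h : S ⟶ T) (g : G.obj.obj (op T)) (p : BigP γ T) :
    BigP.restr γ h (BigP.smul γ g p) = BigP.smul γ (G.obj.map h.op g) (BigP.restr γ h p) := by
  apply BigP.ext
  funext T' f i a
  simp only [BigP.restr_x, BigP.smul_x]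
  rw [G_map_comp]

theorem BigP.restr_restr {T S R : C} (h : S ⟶ T) (k : R ⟶ S) (p : BigP γ T) :
    BigP.restr γ k (BigP.restr γ h p) = BigP.restr γ (k ≫ h) p := by
  apply BigP.ext
  funext T' f i a
  simp

section Shrink
variable (hU : J.CoversTop U)
include hU

theorem bigP_functorSmall : FunctorToTypes.Small.{w} (bigP γ) := fun T => bigP_small γ hU T.unop

/-- the standard torsor as a presheaf in `Type w` -/
noncomputable def stdPre : Cᵒᵖ ⥤ Type w :=
  @FunctorToTypes.shrink.{w} _ _ (bigP γ) (bigP_functorSmall γ hU)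

/-- comparison with the big version -/
noncomputable def toStd (T : C) : BigP γ T ≃ (stdPre γ hU).obj (op T) :=
  @equivShrink (BigP γ T) (bigP_small γ hU T)

theorem toStd_map {T S : C} (h : S ⟶ T) (p : BigP γ T) :
    (stdPre γ hU).map h.op (toStd γ hU T p) = toStd γ hU S (BigP.restr γ h p) := by
  have := bigP_functorSmall γ hU
  exact congrArg (equivShrink ((bigP γ).obj (op S))) (congrArg ((bigP γ).map h.op)
    (Equiv.symm_apply_apply (equivShrink ((bigP γ).obj (op T))) p))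

theorem toStd_symm_map {T S : C} (h : S ⟶ T) (p : (stdPre γ hU).obj (op T)) :
    (toStd γ hU S).symm ((stdPre γ hU).map h.op p) = BigP.restr γ h ((toStd γ hU T).symm p) := by
  obtain ⟨q, rfl⟩ := (toStd γ hU T).surjective p
  rw [toStd_map, Equiv.symm_apply_apply, Equiv.symm_apply_apply]

/-- the standard torsor as a sheaf -/
noncomputable def stdSheaf : Sheaf J (Type w) :=
  ⟨stdPre γ hU, (isSheaf_iff_isSheaf_of_type _ _).2
    (Presieve.isSheaf_of_nat_equiv (fun X => toStd γ hU X)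
      (fun _ _ f x => (toStd_map γ hU f x).symm) (bigP_isSheaf γ))⟩

/-- the standard torsor as a `G`-sheaf -/
noncomputable def stdG : NonAbH1.GSheaf G where
  P := stdSheaf γ hU
  smul {T} g p := toStd γ hU T.unop (BigP.smul γ g ((toStd γ hU T.unop).symm p))
  one_smul {T} p := by
    rw [BigP.one_smul]
    exact (toStd γ hU T.unop).apply_symm_apply p
  mul_smul {T} g h p := by
    rw [BigP.mul_smul, Equiv.symm_apply_apply]
  map_smul {T S} f g p := by
    have h1 := toStd_map γ hU f.unop (BigP.smul γ g ((toStd γ hU T.unop).symm p))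
    have h2 := toStd_symm_map γ hU f.unop p
    rw [BigP.restr_smul] at h1
    rw [← h2] at h1
    exact h1

theorem stdG_smul {T : C} (g : G.obj.obj (op T)) (p : BigP γ T) :
    (stdG γ hU).smul g (toStd γ hU T p) = toStd γ hU T (BigP.smul γ g p) := by
  change toStd γ hU T (BigP.smul γ g ((toStd γ hU T).symm (toStd γ hU T p))) = _
  rw [Equiv.symm_apply_apply]

theorem stdG_isTorsor : (stdG γ hU).IsTorsor := by
  refine ⟨?_, ?_⟩
  · intro T p q
    obtain ⟨p', rfl⟩ := (toStd γ hU T.unop).surjective p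
    obtain ⟨q', rfl⟩ := (toStd γ hU T.unop).surjective q
    obtain ⟨g, hg, hg'⟩ := bigP_pseudo γ hU p' q'
    refine ⟨g, ?_, ?_⟩
    · change (stdG γ hU).smul g (toStd γ hU T.unop p') = _
      rw [stdG_smul, hg]
    · intro g' h'
      apply hg'
      change (stdG γ hU).smul g' (toStd γ hU T.unop p') = _ at h'
      rw [stdG_smul] at h'
      exact (toStd γ hU T.unop).injective h'
  · intro T
    obtain ⟨S, hS, h⟩ := bigP_locallyNonempty γ hU T
    exact ⟨S, hS, fun V f hf => (h f hf).map (toStd γ hU V)⟩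

/-- the canonical sections of the standard torsor -/
noncomputable def stdSec (i : I) : (stdG γ hU).P.obj.obj (op (U i)) := toStd γ hU (U i) (sec γ i)

theorem stdG_isCocycleOf : (stdG γ hU).IsCocycleOf U (stdSec γ hU) γ := by
  intro i j T a b
  change (stdG γ hU).smul (γ.ev i j a b) ((stdPre γ hU).map b.op (toStd γ hU (U j) (sec γ j))) =
    (stdPre γ hU).map a.op (toStd γ hU (U i) (sec γ i))
  rw [toStd_map, toStd_map, stdG_smul, sec_cocycle]

end Shrink


section Compare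
variable {γ}
variable (P : NonAbH1.GSheaf G) (pt : P.IsPseudoTorsor) (s : ∀ i, P.P.obj.obj (op (U i)))
  (hs : P.IsCocycleOf U s γ)

theorem P_map_comp {T T' T'' : C} (g : T'' ⟶ T') (f : T' ⟶ T) (y : P.P.obj.obj (op T)) :
    P.P.obj.map (g ≫ f).op y = P.P.obj.map g.op (P.P.obj.map f.op y) := by
  rw [op_comp, Functor.map_comp]
  rfl

theorem P_map_id {T : C} (y : P.P.obj.obj (op T)) : P.P.obj.map (𝟙 T).op y = y := by
  simp

/-- the coordinate of a section with respect to a trivialisation -/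
noncomputable def coord {T : C} (p : P.P.obj.obj (op T)) ⦃T' : C⦄ (f : T' ⟶ T) (i : I)
    (a : T' ⟶ U i) : G.obj.obj (op T') :=
  (pt (op T') (P.P.obj.map a.op (s i)) (P.P.obj.map f.op p)).exists.choose

theorem coord_spec {T : C} (p : P.P.obj.obj (op T)) ⦃T' : C⦄ (f : T' ⟶ T) (i : I)
    (a : T' ⟶ U i) :
    P.smul (coord P pt s p f i a) (P.P.obj.map a.op (s i)) = P.P.obj.map f.op p :=
  (pt (op T') (P.P.obj.map a.op (s i)) (P.P.obj.map f.op p)).exists.choose_spec

theorem coord_unique {T : C} (p : P.P.obj.obj (op T)) ⦃T' : C⦄ (f : T' ⟶ T) (i : I)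
    (a : T' ⟶ U i) (g : G.obj.obj (op T'))
    (hg : P.smul g (P.P.obj.map a.op (s i)) = P.P.obj.map f.op p) : g = coord P pt s p f i a :=
  (pt (op T') (P.P.obj.map a.op (s i)) (P.P.obj.map f.op p)).unique hg (coord_spec P pt s p f i a)

include hs in
/-- the comparison map to the standard torsor -/
noncomputable def toBig {T : C} (p : P.P.obj.obj (op T)) : BigP γ T where
  x T' f i a := coord P pt s p f i a
  res T' T'' g f i a := by
    apply coord_unique
    rw [P_map_comp, P_map_comp, ← P.map_smul, coord_spec]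
  coc T' f i j a b := by
    apply coord_unique
    rw [P.mul_smul, hs i j a b, coord_spec]

theorem toBig_x {T : C} (p : P.P.obj.obj (op T)) ⦃T' : C⦄ (f : T' ⟶ T) (i : I)
    (a : T' ⟶ U i) : (toBig P pt s hs p).x f i a = coord P pt s p f i a := rfl

theorem toBig_restr {T S : C} (h : S ⟶ T) (p : P.P.obj.obj (op T)) :
    toBig P pt s hs (P.P.obj.map h.op p) = BigP.restr γ h (toBig P pt s hs p) := by
  apply BigP.ext
  funext T' f i a
  rw [BigP.restr_x, toBig_x, toBig_x]
  symm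
  apply coord_unique
  rw [coord_spec, P_map_comp]

theorem toBig_smul {T : C} (g : G.obj.obj (op T)) (p : P.P.obj.obj (op T)) :
    toBig P pt s hs (P.smul g p) = BigP.smul γ g (toBig P pt s hs p) := by
  apply BigP.ext
  funext T' f i a
  rw [BigP.smul_x, toBig_x, toBig_x]
  symm
  apply coord_unique
  rw [P.mul_smul, coord_spec, P.map_smul]

theorem toBig_injective (hU : J.CoversTop U) {T : C} :
    Function.Injective (toBig P pt s hs (T := T)) := by
  intro p q hpq
  apply P_sep P.P (Sieve.ofObjects U T) (hU T)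
  rintro T' f ⟨i, ⟨a⟩⟩
  rw [← coord_spec P pt s p f i a, ← coord_spec P pt s q f i a]
  have := congrArg (fun r : BigP γ T => r.x f i a) hpq
  simp only [toBig_x] at this
  rw [this]

theorem toBig_surjective (hU : J.CoversTop U) {T : C} :
    Function.Surjective (toBig P pt s hs (T := T)) := by
  intro y
  have hloc : ∀ ⦃T' : C⦄ (f : T' ⟶ T), Sieve.ofObjects U T f → ∃ q : P.P.obj.obj (op T'),
      ∀ (i : I) (a : T' ⟶ U i), q = P.smul (y.x f i a) (P.P.obj.map a.op (s i)) := by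
    rintro T' f ⟨i, ⟨a⟩⟩
    refine ⟨P.smul (y.x f i a) (P.P.obj.map a.op (s i)), fun j b => ?_⟩
    rw [← y.coc f j i b a, P.mul_smul, hs j i b a]
  choose d hd using hloc
  obtain ⟨p, hp⟩ := P_glue P.P (Sieve.ofObjects U T) (hU T) d (by
    intro T' T'' k f hf
    obtain ⟨i, ⟨a⟩⟩ := hf
    rw [hd f ⟨i, ⟨a⟩⟩ i a, hd (k ≫ f) _ i (k ≫ a), P.map_smul, y.res, P_map_comp])
  refine ⟨p, ?_⟩
  apply BigP.ext
  funext T' f i a
  rw [toBig_x]
  symm
  apply coord_unique
  rw [hp f ⟨i, ⟨a⟩⟩, hd f ⟨i, ⟨a⟩⟩ i a]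

end Compare


section Iso
variable {γ}
variable (P Q : NonAbH1.GSheaf G) (ptP : P.IsPseudoTorsor) (ptQ : Q.IsPseudoTorsor)
  (s : ∀ i, P.P.obj.obj (op (U i))) (t : ∀ i, Q.P.obj.obj (op (U i)))
  (hs : P.IsCocycleOf U s γ) (ht : Q.IsCocycleOf U t γ) (hU : J.CoversTop U)

/-- the comparison between two torsors with the same cocycle -/
noncomputable def eqv (T : C) : P.P.obj.obj (op T) ≃ Q.P.obj.obj (op T) :=
  (Equiv.ofBijective _ ⟨toBig_injective P ptP s hs hU (T := T),
    toBig_surjective P ptP s hs hU⟩).trans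
  (Equiv.ofBijective _ ⟨toBig_injective Q ptQ t ht hU (T := T),
    toBig_surjective Q ptQ t ht hU⟩).symm

theorem eqv_spec (T : C) (p : P.P.obj.obj (op T)) :
    toBig Q ptQ t ht (eqv P Q ptP ptQ s t hs ht hU T p) = toBig P ptP s hs p := by
  unfold eqv
  rw [Equiv.trans_apply]
  exact Equiv.apply_symm_apply (Equiv.ofBijective _ ⟨toBig_injective Q ptQ t ht hU (T := T),
    toBig_surjective Q ptQ t ht hU⟩) _

theorem eqv_map {T S : C} (h : S ⟶ T) (p : P.P.obj.obj (op T)) :
    eqv P Q ptP ptQ s t hs ht hU S (P.P.obj.map h.op p) =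
      Q.P.obj.map h.op (eqv P Q ptP ptQ s t hs ht hU T p) := by
  apply toBig_injective Q ptQ t ht hU
  rw [eqv_spec, toBig_restr, toBig_restr, eqv_spec]

theorem eqv_smul {T : C} (g : G.obj.obj (op T)) (p : P.P.obj.obj (op T)) :
    eqv P Q ptP ptQ s t hs ht hU T (P.smul g p) =
      Q.smul g (eqv P Q ptP ptQ s t hs ht hU T p) := by
  apply toBig_injective Q ptQ t ht hU
  rw [eqv_spec, toBig_smul, toBig_smul, eqv_spec]

theorem eqv_eqv (T : C) (p : P.P.obj.obj (op T)) :
    eqv Q P ptQ ptP t s ht hs hU T (eqv P Q ptP ptQ s t hs ht hU T p) = p := by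
  apply toBig_injective P ptP s hs hU
  rw [eqv_spec, eqv_spec]

/-- the morphism of `G`-sheaves -/
noncomputable def homOf : P ⟶ Q where
  hom := ⟨{ app := fun T => TypeCat.ofHom (eqv P Q ptP ptQ s t hs ht hU T.unop)
            naturality := fun T S h => by
              ext p
              exact eqv_map P Q ptP ptQ s t hs ht hU h.unop p }⟩
  map_smul {T} g p := eqv_smul P Q ptP ptQ s t hs ht hU g p

/-- the isomorphism of `G`-sheaves -/
noncomputable def isoOf : P ≅ Q where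
  hom := homOf P Q ptP ptQ s t hs ht hU
  inv := homOf Q P ptQ ptP t s ht hs hU
  hom_inv_id := by
    apply NonAbH1.GSheaf.hom_ext
    ext T p
    exact eqv_eqv P Q ptP ptQ s t hs ht hU T.unop p
  inv_hom_id := by
    apply NonAbH1.GSheaf.hom_ext
    ext T p
    exact eqv_eqv Q P ptQ ptP t s ht hs hU T.unop p

end Iso

section Adjust
variable {γ}

/-- changing the sections by a zero-cochain changes the cocycle to a cohomologous one -/
theorem isCocycleOf_adjust (Q : NonAbH1.GSheaf G) (t : ∀ i, Q.P.obj.obj (op (U i)))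
    {γ' : PresheafOfGroups.OneCocycle G.obj U} (ht : Q.IsCocycleOf U t γ')
    (α : PresheafOfGroups.ZeroCochain G.obj U)
    (hα : PresheafOfGroups.OneCohomologyRelation γ'.toOneCochain γ.toOneCochain α) :
    Q.IsCocycleOf U (fun i => Q.smul (α i) (t i)) γ := by
  intro i j T a b
  rw [Q.map_smul, Q.map_smul, ← Q.mul_smul, ← hα i j a b, Q.mul_smul, ht i j a b]

end Adjust

end Big

end Groth.Agent.Helper24.TorsorCech
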