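import Mathlib
import Groth.Prelude.Def_ModSite
import Groth.Prelude.Def_CohCx
import Groth.Agent.Lib.Helper17.MT20
import Groth.Agent.Lib.Helper10.QcObj
import Groth.Agent.Lib.Helper24.RlimTruncMod

/-!
# Modules of "type A": cokernels of maps between finite sums of `j_! O_U`, `U` quasi-compact
-/

open CategoryTheory Limits Opposite
universe u
set_option linter.unusedSectionVars false
set_option autoImplicit false
namespace Groth.Agent.Helper24.TypeA

open Groth.Agent.Helper24.FrMod Groth.Agent.Helper17.MT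

variable {C : Type u} [SmallCategory C] {J : GrothendieckTopology C}
variable (O : Sheaf J CommRingCat.{u})

lemma freeOnHomEquiv_zero (U : C) (M : ModSite.Mod O) : freeOnHomEquiv O U M 0 = 0 :=
  (freeOnAddEquiv O U M).map_zero

lemma freeOnHomEquiv_eq_zero_iff (U : C) (M : ModSite.Mod O) (f : ModSite.freeOn O U ⟶ M) :
    freeOnHomEquiv O U M f = 0 ↔ f = 0 := by
  constructor
  · intro h
    apply (freeOnHomEquiv O U M).injective
    rw [h, freeOnHomEquiv_zero]
  · rintro rfl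
    exact freeOnHomEquiv_zero O U M

/-- an epimorphism of modules is locally surjective on sections -/
lemma imageSieve_mem_of_epi {P G : ModSite.Mod O} (p : P ⟶ G) [Epi p] (U : C)
    (s : G.val.obj (op U)) :
    ∃ S ∈ J U, ∀ {W : C} (g : W ⟶ U), S g →
      ∃ t : P.val.obj (op W), p.val.app (op W) t = G.val.map g.op s := by
  have h1 : Epi ((toAbF O).map p) := inferInstance
  have h2 : Sheaf.IsLocallySurjective ((toAbF O).map p) :=
    (Sheaf.isLocallySurjective_iff_epi' _ _).2 h1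
  refine ⟨_, Presheaf.imageSieve_mem J ((toAbF O).map p).hom s, fun {W} g hg => ?_⟩
  obtain ⟨t, ht⟩ := hg
  exact ⟨t, ht⟩

/-- local finite lifting of a section through an epimorphism, with quasi-compact `U` -/
theorem exists_finite_lift (B : Set C)
    (hB₁ : ∀ X : C, ∃ (κ : Type u) (Y : κ → C) (g : ∀ k, Y k ⟶ X),
      Sieve.ofArrows Y g ∈ J X ∧ ∀ k, Y k ∈ B)
    {P G : ModSite.Mod O} (p : P ⟶ G) [Epi p] (U : C)
    (hU : CohCx.IsQcObject ((presheafToSheaf J (Type u)).obj (yoneda.obj U)))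
    (s : G.val.obj (op U)) :
    ∃ (r : ℕ) (W : Fin r → C) (g : ∀ k, W k ⟶ U) (t : ∀ k, P.val.obj (op (W k))),
      (∀ k, W k ∈ B) ∧ (∀ k, p.val.app (op (W k)) (t k) = G.val.map (g k).op s) ∧
      (∀ (T : ModSite.Mod O) (x : T.val.obj (op U)),
        (∀ k, T.val.map (g k).op x = 0) → x = 0) := by
  obtain ⟨S, hS, hlift⟩ := imageSieve_mem_of_epi O p U s
  obtain ⟨ι, Y, f, hfS, hcov, hY⟩ := RlimTrunc.exists_cover_in B hB₁ U S hS
  obtain ⟨t, ht⟩ := Groth.Agent.Helper10.QcObj.exists_finite_separating J hU _ hcov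
  have hfac : ∀ i : Helper10.QcObj.Idx (Sieve.ofArrows Y f),
      ∃ (k : ι) (a : i.1 ⟶ Y k), i.2.1 = a ≫ f k := by
    intro i
    have := i.2.2
    rw [Sieve.mem_ofArrows_iff] at this
    obtain ⟨k, a, h⟩ := this
    exact ⟨k, a, h⟩
  choose kk aa haa using hfac
  let e : (↥t) ≃ Fin (Fintype.card ↥t) := Fintype.equivFin _
  have hl : ∀ k : ι, ∃ t' : P.val.obj (op (Y k)), p.val.app (op (Y k)) t' =
      G.val.map (f k).op s := fun k => hlift (f k) (hfS k)
  choose tt htt using hl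
  refine ⟨Fintype.card ↥t, fun j => Y (kk (e.symm j).1), fun j => f (kk (e.symm j).1),
    fun j => tt _, fun j => hY _, fun j => htt _, ?_⟩
  intro T x hx
  have := ht ((toAbF O).obj T) x 0 ?_
  · exact this
  · intro i hi
    have h0 : ∀ (j : Fin (Fintype.card ↥t)) (i' : ↥t), e.symm j = i' →
        T.val.map (f (kk i'.1)).op x = 0 := by
      rintro j _ rfl
      exact hx j
    have h1 := h0 (e ⟨i, hi⟩) ⟨i, hi⟩ (e.symm_apply_apply _)
    have h2 : T.val.map (i.2.1).op x = T.val.map (aa i).op (T.val.map (f (kk i)).op x) := by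
      rw [← PresheafOfModules.map_comp_apply, ← op_comp, ← haa i]
    rw [h1] at h2
    have h4 : T.val.map (aa i).op (0 : T.val.obj (op (Y (kk i)))) = 0 :=
      (T.val.map (aa i).op).hom.map_zero
    have h3 : (((toAbF O).obj T).obj.map i.2.1.op).hom x = T.val.map (i.2.1).op x := rfl
    exact h3.trans (h2.trans (h4.trans
      ((((toAbF O).obj T).obj.map i.2.1.op).hom.map_zero).symm))

/-- modules of type A -/
def IsTypeA (B : Set C) (F : ModSite.Mod O) : Prop :=
  ∃ (m' n' : ℕ) (V' : Fin m' → C) (U' : Fin n' → C)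
    (ψ : (∐ fun j => ModSite.freeOn O (V' j)) ⟶ ∐ fun i => ModSite.freeOn O (U' i)),
    (∀ j, V' j ∈ B) ∧ (∀ i, U' i ∈ B) ∧ Nonempty (F ≅ cokernel ψ)

/-- a presentation by finite families (indexed by arbitrary finite types) gives type A -/
theorem isTypeA_of_family (B : Set C) {ι κ : Type} [Finite ι] [Finite κ] (V : ι → C) (U : κ → C)
    (hV : ∀ j, V j ∈ B) (hU : ∀ i, U i ∈ B) (M : ModSite.Mod O)
    (c : ∀ j, ModSite.freeOn O (V j) ⟶ ∐ fun i => ModSite.freeOn O (U i))
    (q : (∐ fun i => ModSite.freeOn O (U i)) ⟶ M) [Epi q]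
    (h1 : ∀ j, c j ≫ q = 0)
    (h2 : ∀ (T : ModSite.Mod O) (h : (∐ fun i => ModSite.freeOn O (U i)) ⟶ T),
      (∀ j, c j ≫ h = 0) → ∃ l : M ⟶ T, q ≫ l = h) :
    IsTypeA O B M := by
  classical
  have : Fintype ι := Fintype.ofFinite ι
  have : Fintype κ := Fintype.ofFinite κ
  let eι : ι ≃ Fin (Fintype.card ι) := Fintype.equivFin ι
  let eκ : κ ≃ Fin (Fintype.card κ) := Fintype.equivFin κ
  let f : κ → ModSite.Mod O := fun i => ModSite.freeOn O (U i)
  let r : (∐ fun i : Fin (Fintype.card κ) => ModSite.freeOn O (U (eκ.symm i))) ≅ ∐ f :=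
    Sigma.reindex eκ.symm f
  let ψ : (∐ fun j : Fin (Fintype.card ι) => ModSite.freeOn O (V (eι.symm j))) ⟶
      ∐ fun i : Fin (Fintype.card κ) => ModSite.freeOn O (U (eκ.symm i)) :=
    Sigma.desc (fun j => c (eι.symm j) ≫ r.inv)
  have hψ : ∀ j, Sigma.ι (fun j : Fin (Fintype.card ι) => ModSite.freeOn O (V (eι.symm j))) j ≫ ψ =
      c (eι.symm j) ≫ r.inv := fun j => Sigma.ι_desc _ _
  have w : ψ ≫ (r.hom ≫ q) = 0 := by
    apply Sigma.hom_ext
    intro j
    rw [reassoc_of% (hψ j), Iso.inv_hom_id_assoc, h1, comp_zero]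
  have hdesc : ∀ (T : ModSite.Mod O)
      (h : (∐ fun i : Fin (Fintype.card κ) => ModSite.freeOn O (U (eκ.symm i))) ⟶ T),
      ψ ≫ h = 0 → ∃ l : M ⟶ T, (r.hom ≫ q) ≫ l = h := by
    intro T h hh
    obtain ⟨l, hl⟩ := h2 T (r.inv ≫ h) (fun j => by
      obtain ⟨j', rfl⟩ := eι.symm.surjective j
      rw [← Category.assoc, ← hψ j', Category.assoc, hh, comp_zero])
    exact ⟨l, by rw [Category.assoc, hl, Iso.hom_inv_id_assoc]⟩
  choose dd hdd using hdesc
  have : Epi (r.hom ≫ q) := epi_comp _ _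
  let hcol : IsColimit (CokernelCofork.ofπ (r.hom ≫ q) w) :=
    CokernelCofork.IsColimit.ofπ _ _ (fun {T} h hh => dd T h hh) (fun {T} h hh => hdd T h hh)
      (fun {T} h hh m hm => by
        rw [← cancel_epi (r.hom ≫ q), hm, hdd T h hh])
  exact ⟨_, _, fun j => V (eι.symm j), fun i => U (eκ.symm i), ψ, fun j => hV _, fun i => hU _,
    ⟨hcol.coconePointUniqueUpToIso (colimit.isColimit (parallelPair ψ 0))⟩⟩

/-- unpacking a type A module -/
theorem IsTypeA.exists_pres {B : Set C} {M : ModSite.Mod O} (h : IsTypeA O B M) :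
    ∃ (m n : ℕ) (V : Fin m → C) (U : Fin n → C)
      (ψ : (∐ fun j => ModSite.freeOn O (V j)) ⟶ ∐ fun i => ModSite.freeOn O (U i))
      (q : (∐ fun i => ModSite.freeOn O (U i)) ⟶ M),
      (∀ j, V j ∈ B) ∧ (∀ i, U i ∈ B) ∧ Epi q ∧ ψ ≫ q = 0 ∧
      ∀ (T : ModSite.Mod O) (h : (∐ fun i => ModSite.freeOn O (U i)) ⟶ T),
        ψ ≫ h = 0 → ∃ l : M ⟶ T, q ≫ l = h := by
  obtain ⟨m, n, V, U, ψ, hV, hU, ⟨e⟩⟩ := h
  refine ⟨m, n, V, U, ψ, cokernel.π ψ ≫ e.inv, hV, hU, epi_comp _ _, by simp, ?_⟩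
  intro T h hh
  exact ⟨e.hom ≫ cokernel.desc ψ h hh, by simp⟩

/-- cokernels of maps between type A modules are of type A -/
theorem isTypeA_cokernel (B : Set C)
    (hB₁ : ∀ X : C, ∃ (κ : Type u) (Y : κ → C) (g : ∀ k, Y k ⟶ X),
      Sieve.ofArrows Y g ∈ J X ∧ ∀ k, Y k ∈ B)
    (hB₂ : ∀ U ∈ B, CohCx.IsQcObject ((presheafToSheaf J (Type u)).obj (yoneda.obj U)))
    {F G : ModSite.Mod O} (α : F ⟶ G) (hF : IsTypeA O B F) (hG : IsTypeA O B G) :
    IsTypeA O B (cokernel α) := by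
  obtain ⟨mF, nF, VF, UF, ψF, pF, hVF, hUF, hpF, hF0, -⟩ := hF.exists_pres
  obtain ⟨mG, nG, VG, UG, ψG, pG, hVG, hUG, hpG, hG0, hGd⟩ := hG.exists_pres
  -- the sections of `G` given by the generators of `F`
  let s : ∀ i : Fin nF, G.val.obj (op (UF i)) := fun i =>
    freeOnHomEquiv O (UF i) G (Sigma.ι (fun i => ModSite.freeOn O (UF i)) i ≫ pF ≫ α)
  have hl := fun i : Fin nF => exists_finite_lift O B hB₁ pG (UF i) (hB₂ _ (hUF i)) (s i)
  choose r W g t hW ht hsep using hl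
  let ι' : Type := Fin mG ⊕ (Σ i : Fin nF, Fin (r i))
  let V'' : ι' → C := Sum.elim VG (fun x => W x.1 x.2)
  let c : ∀ x : ι', ModSite.freeOn O (V'' x) ⟶ ∐ fun i => ModSite.freeOn O (UG i) := fun x =>
    match x with
    | Sum.inl j => Sigma.ι (fun j => ModSite.freeOn O (VG j)) j ≫ ψG
    | Sum.inr x => (freeOnHomEquiv O (W x.1 x.2) _).symm (t x.1 x.2)
  have : Epi (pG ≫ cokernel.π α) := epi_comp _ _
  refine isTypeA_of_family O B V'' UG ?_ hUG (cokernel α) c (pG ≫ cokernel.π α) ?_ ?_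
  · rintro (j | ⟨i, k⟩)
    · exact hVG j
    · exact hW i k
  · rintro (j | ⟨i, k⟩)
    · change (Sigma.ι (fun j => ModSite.freeOn O (VG j)) j ≫ ψG) ≫ pG ≫ cokernel.π α = 0
      rw [Category.assoc, reassoc_of% hG0, zero_comp, comp_zero]
    · change (freeOnHomEquiv O (W i k) _).symm (t i k) ≫ pG ≫ cokernel.π α = 0
      rw [← freeOnHomEquiv_eq_zero_iff, freeOnHomEquiv_comp, Equiv.apply_symm_apply]
      change (cokernel.π α).val.app (op (W i k)) (pG.val.app (op (W i k)) (t i k)) = 0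
      rw [ht i k]
      have e1 := PresheafOfModules.naturality_apply (cokernel.π α).val (g i k).op (s i)
      have e2 : (cokernel.π α).val.app (op (UF i)) (s i) = 0 := by
        have := freeOnHomEquiv_comp O (UF i)
          (Sigma.ι (fun i => ModSite.freeOn O (UF i)) i ≫ pF ≫ α) (cokernel.π α)
        rw [← this, freeOnHomEquiv_eq_zero_iff]
        simp
      rw [e2] at e1
      exact e1.trans ((cokernel α).val.map (g i k).op).hom.map_zero
  · intro T h hh
    obtain ⟨h', hh'⟩ := hGd T h (by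
      apply Sigma.hom_ext
      intro j
      have := hh (Sum.inl j)
      rw [comp_zero]
      rw [← Category.assoc]
      exact this)
    have hα : α ≫ h' = 0 := by
      rw [← cancel_epi pF, comp_zero]
      apply Sigma.hom_ext
      intro i
      rw [comp_zero, ← freeOnHomEquiv_eq_zero_iff]
      apply hsep i T
      intro k
      have e1 : freeOnHomEquiv O (UF i) T
          (Sigma.ι (fun i => ModSite.freeOn O (UF i)) i ≫ pF ≫ α ≫ h') =
          h'.val.app (op (UF i)) (s i) := by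
        rw [← freeOnHomEquiv_comp]
        simp
      rw [e1]
      have e2 := PresheafOfModules.naturality_apply h'.val (g i k).op (s i)
      rw [← e2, ← ht i k]
      have e3 := hh (Sum.inr ⟨i, k⟩)
      change (freeOnHomEquiv O (W i k) _).symm (t i k) ≫ h = 0 at e3
      rw [← freeOnHomEquiv_eq_zero_iff, freeOnHomEquiv_comp, Equiv.apply_symm_apply, ← hh'] at e3
      exact e3
    exact ⟨cokernel.desc α h' hα, by rw [Category.assoc, cokernel.π_desc, hh']⟩

end Groth.Agent.Helper24.TypeA
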