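import Mathlib
import Groth.Prelude.Def_ModSite
import Groth.Prelude.Def_CohCx
import Groth.Agent.Lib.Helper24.TypeA

/-!
# Modules of "type A", part 2: finite coverings of quasi-compact objects, refinements of
finite free modules, and the Čech relations
-/

open CategoryTheory Limits Opposite
universe u
set_option linter.unusedSectionVars false
set_option autoImplicit false
namespace Groth.Agent.Helper24.TypeA

open Groth.Agent.Helper24.FrMod Groth.Agent.Helper17.MT Groth.Agent.Helper10.QcObj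

variable {C : Type u} [SmallCategory C] {J : GrothendieckTopology C}

/-- in a covering sieve of a quasi-compact object one finds a finite subfamily generating a
covering sieve -/
theorem exists_finset_covering {W : C} (hW : CohCx.IsQcObject (hS J W)) (S : Sieve W)
    (hS' : S ∈ J W) :
    ∃ t : Finset (Idx S),
      Sieve.ofArrows (fun i : ↥t => i.1.1) (fun i : ↥t => i.1.2.1) ∈ J W := by
  obtain ⟨t, ht⟩ := hW (Idx S) (fun i => hS J i.1) (fun i => hMap J i.2.1)
    (jointly_surj J S hS')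
  refine ⟨t, ?_⟩
  set R := Sieve.ofArrows (fun i : ↥t => i.1.1) (fun i : ↥t => i.1.2.1) with hR
  obtain ⟨S₃, hS₃, h3⟩ := ht W ((η J W).app (op W) (𝟙 W))
  refine J.transitive hS₃ R (fun V g hg => ?_)
  obtain ⟨⟨i, hi⟩, x', hx'⟩ := h3 V g hg
  have h4 : Presheaf.imageSieve (η J i.1) x' ∈ J V := Presheaf.imageSieve_mem J (η J i.1) x'
  refine J.transitive h4 (R.pullback g) (fun V' g' hg' => ?_)
  obtain ⟨a, ha⟩ := hg'
  have h5 : (η J W).app (op V') (a ≫ i.2.1) = (η J W).app (op V') (g' ≫ g) := by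
    have e1 := hMap_η J i.2.1 V' a
    rw [ha] at e1
    have e2 : (hMap J i.2.1).hom.app (op V') ((hS J i.1).obj.map g'.op x') =
        (hS J W).obj.map g'.op ((hMap J i.2.1).hom.app (op V) x') :=
      NatTrans.naturality_apply (hMap J i.2.1).hom g'.op x'
    rw [e2] at e1
    have e3 : (hMap J i.2.1).hom.app (op V) x' =
        (hS J W).obj.map g.op ((η J W).app (op W) (𝟙 W)) := hx'
    rw [e3, η_res, η_res, Category.comp_id] at e1
    exact e1.symm
  have h6 : Presheaf.equalizerSieve (F := yoneda.obj W) (X := op V') (a ≫ i.2.1) (g' ≫ g) ∈ J V' :=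
    Presheaf.equalizerSieve_mem J (η J W) _ _ h5
  refine J.superset_covering ?_ h6
  intro V'' g'' hg''
  have h7 : g'' ≫ a ≫ i.2.1 = g'' ≫ g' ≫ g := hg''
  change R ((g'' ≫ g') ≫ g)
  rw [Category.assoc, ← h7, ← Category.assoc]
  exact R.downward_closed (Sieve.ofArrows_mk (fun i : ↥t => i.1.1) (fun i : ↥t => i.1.2.1)
    ⟨i, hi⟩) _

/-- finite covering families by members of `B` inside a covering sieve of a quasi-compact object -/
theorem exists_finite_cover (B : Set C)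
    (hB₁ : ∀ X : C, ∃ (κ : Type u) (Y : κ → C) (g : ∀ k, Y k ⟶ X),
      Sieve.ofArrows Y g ∈ J X ∧ ∀ k, Y k ∈ B)
    (U : C) (hU : CohCx.IsQcObject ((presheafToSheaf J (Type u)).obj (yoneda.obj U)))
    (S : Sieve U) (hS : S ∈ J U) :
    ∃ (r : ℕ) (W : Fin r → C) (g : ∀ k, W k ⟶ U),
      (∀ k, W k ∈ B) ∧ (∀ k, S (g k)) ∧ Sieve.ofArrows W g ∈ J U := by
  obtain ⟨ι, Y, f, hfS, hcov, hY⟩ := RlimTrunc.exists_cover_in B hB₁ U S hS
  obtain ⟨t, ht⟩ := exists_finset_covering hU _ hcov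
  have hfac : ∀ i : Idx (Sieve.ofArrows Y f), ∃ (k : ι) (a : i.1 ⟶ Y k), i.2.1 = a ≫ f k := by
    intro i
    have := i.2.2
    rw [Sieve.mem_ofArrows_iff] at this
    obtain ⟨k, a, h⟩ := this
    exact ⟨k, a, h⟩
  choose kk aa haa using hfac
  let e : (↥t) ≃ Fin (Fintype.card ↥t) := Fintype.equivFin _
  refine ⟨Fintype.card ↥t, fun j => Y (kk (e.symm j).1), fun j => f (kk (e.symm j).1),
    fun j => hY _, fun j => hfS _, ?_⟩
  refine J.superset_covering ?_ ht
  intro V a hVa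
  rw [Sieve.mem_ofArrows_iff] at hVa
  obtain ⟨i, a', rfl⟩ := hVa
  have h0 : ∀ (i' : ↥t) (j : Fin (Fintype.card ↥t)), e.symm j = i' →
      Sieve.ofArrows (fun j => Y (kk (e.symm j).1)) (fun j => f (kk (e.symm j).1))
        (aa i'.1 ≫ f (kk i'.1)) := by
    rintro _ j rfl
    exact Sieve.downward_closed _ (Sieve.ofArrows_mk _ _ j) _
  have := h0 i (e i) (e.symm_apply_apply i)
  change Sieve.ofArrows _ _ (a' ≫ i.1.2.1)
  rw [haa i.1]
  exact Sieve.downward_closed _ this _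

variable (O : Sheaf J CommRingCat.{u})

/-- functoriality of `j_! O_U` in `U` -/
noncomputable def freeOnMap {W U : C} (g : W ⟶ U) : ModSite.freeOn O W ⟶ ModSite.freeOn O U :=
  (freeOnHomEquiv O W _).symm ((ModSite.freeOn O U).val.map g.op (freeOnGen O U))

lemma freeOnHomEquiv_freeOnMap_comp {W U : C} (g : W ⟶ U) {T : ModSite.Mod O}
    (f : ModSite.freeOn O U ⟶ T) :
    freeOnHomEquiv O W T (freeOnMap O g ≫ f) = T.val.map g.op (freeOnHomEquiv O U T f) := by
  rw [freeOnHomEquiv_comp, freeOnMap, Equiv.apply_symm_apply, freeOnHomEquiv_apply]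
  exact PresheafOfModules.naturality_apply f.val g.op _

section Sec

variable {κ : Type} [Finite κ] (U : κ → C)

/-- the sections classifying a morphism out of a finite sum of free modules -/
noncomputable def secOf {T : ModSite.Mod O} (h : (∐ fun i => ModSite.freeOn O (U i)) ⟶ T) (i : κ) :
    T.val.obj (op (U i)) :=
  freeOnHomEquiv O (U i) T (Sigma.ι (fun i => ModSite.freeOn O (U i)) i ≫ h)

/-- the morphism out of a finite sum of free modules classified by a family of sections -/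
noncomputable def ofSec {T : ModSite.Mod O} (x : ∀ i, T.val.obj (op (U i))) :
    (∐ fun i => ModSite.freeOn O (U i)) ⟶ T :=
  Sigma.desc (fun i => (freeOnHomEquiv O (U i) T).symm (x i))

lemma secOf_ofSec {T : ModSite.Mod O} (x : ∀ i, T.val.obj (op (U i))) (i : κ) :
    secOf O U (ofSec O U x) i = x i := by
  unfold secOf ofSec
  rw [Sigma.ι_desc, Equiv.apply_symm_apply]

lemma hom_ext_sec {T : ModSite.Mod O} {h h' : (∐ fun i => ModSite.freeOn O (U i)) ⟶ T}
    (e : ∀ i, secOf O U h i = secOf O U h' i) : h = h' := by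
  apply Sigma.hom_ext
  intro i
  exact (freeOnHomEquiv O (U i) T).injective (e i)

lemma secOf_comp {T T' : ModSite.Mod O} (h : (∐ fun i => ModSite.freeOn O (U i)) ⟶ T)
    (f : T ⟶ T') (i : κ) :
    secOf O U (h ≫ f) i = f.val.app (op (U i)) (secOf O U h i) := by
  unfold secOf
  rw [← Category.assoc, freeOnHomEquiv_comp]

lemma secOf_zero {T : ModSite.Mod O} (i : κ) :
    secOf O U (0 : (∐ fun i => ModSite.freeOn O (U i)) ⟶ T) i = 0 := by
  unfold secOf
  rw [comp_zero, freeOnHomEquiv_zero]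

lemma eq_zero_of_secOf {T : ModSite.Mod O} {h : (∐ fun i => ModSite.freeOn O (U i)) ⟶ T}
    (e : ∀ i, secOf O U h i = 0) : h = 0 :=
  hom_ext_sec O U (fun i => by rw [e i, secOf_zero])

end Sec

theorem isSheaf_val' (N : ModSite.Mod O) :
    Presieve.IsSheaf J (N.val.presheaf ⋙ forget Ab) :=
  (isSheaf_iff_isSheaf_of_type _ _).mp
    ((Presheaf.isSheaf_iff_isSheaf_forget J N.val.presheaf (forget Ab)).mp N.isSheaf)

/-- sections of a module are determined by their restrictions to a covering family -/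
lemma sec_ext {T : ModSite.Mod O} {X : C} {ι : Type*} (Y : ι → C) (f : ∀ i, Y i ⟶ X)
    (hcov : Sieve.ofArrows Y f ∈ J X) (x y : T.val.obj (op X))
    (h : ∀ i, T.val.map (f i).op x = T.val.map (f i).op y) : x = y := by
  refine (isSeparated_val' O T _ hcov).ext (fun Z k hk => ?_)
  rw [Sieve.mem_ofArrows_iff] at hk
  obtain ⟨i, a, rfl⟩ := hk
  have e3 := congrArg (T.val.map a.op) (h i)
  rw [← PresheafOfModules.map_comp_apply, ← PresheafOfModules.map_comp_apply] at e3
  exact e3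

section Refine

variable {κ : Type} [Finite κ] (U : κ → C) (r : κ → ℕ) (W : ∀ i, Fin (r i) → C)
  (g : ∀ i k, W i k ⟶ U i)

/-- the refinement map `⊕_{i,k} j_! O_{W_{ik}} ⟶ ⊕_i j_! O_{U_i}` -/
noncomputable def refMap :
    (∐ fun x : (Σ i : κ, Fin (r i)) => ModSite.freeOn O (W x.1 x.2)) ⟶
      ∐ fun i => ModSite.freeOn O (U i) :=
  Sigma.desc (fun x => freeOnMap O (g x.1 x.2) ≫ Sigma.ι (fun i => ModSite.freeOn O (U i)) x.1)

lemma secOf_refMap_comp {T : ModSite.Mod O} (h : (∐ fun i => ModSite.freeOn O (U i)) ⟶ T)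
    (x : Σ i : κ, Fin (r i)) :
    secOf O (fun x : (Σ i : κ, Fin (r i)) => W x.1 x.2) (refMap O U r W g ≫ h) x =
      T.val.map (g x.1 x.2).op (secOf O U h x.1) := by
  unfold secOf refMap
  rw [Sigma.ι_desc_assoc, Category.assoc, freeOnHomEquiv_freeOnMap_comp]

lemma epi_refMap (hcov : ∀ i, Sieve.ofArrows (W i) (g i) ∈ J (U i)) :
    Epi (refMap O U r W g) := by
  apply Preadditive.epi_of_cancel_zero
  intro T h hh
  apply eq_zero_of_secOf
  intro i
  refine sec_ext O (W i) (g i) (hcov i) _ _ (fun k => ?_)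
  have := secOf_refMap_comp O U r W g h ⟨i, k⟩
  rw [hh, secOf_zero] at this
  rw [← this]
  exact ((T.val.map (g i k).op).hom.map_zero).symm

end Refine

/-- refinement of a finite free module along an epimorphism -/
theorem exists_refinement (B : Set C)
    (hB₁ : ∀ X : C, ∃ (κ : Type u) (Y : κ → C) (g : ∀ k, Y k ⟶ X),
      Sieve.ofArrows Y g ∈ J X ∧ ∀ k, Y k ∈ B)
    (hB₂ : ∀ U ∈ B, CohCx.IsQcObject ((presheafToSheaf J (Type u)).obj (yoneda.obj U)))
    {A M : ModSite.Mod O} (p : A ⟶ M) [Epi p] {κ : Type} [Finite κ] (U : κ → C)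
    (hU : ∀ i, U i ∈ B) (a : (∐ fun i => ModSite.freeOn O (U i)) ⟶ M) :
    ∃ (r : κ → ℕ) (W : ∀ i, Fin (r i) → C) (g : ∀ i k, W i k ⟶ U i)
      (b : (∐ fun x : (Σ i : κ, Fin (r i)) => ModSite.freeOn O (W x.1 x.2)) ⟶ A),
      (∀ i k, W i k ∈ B) ∧ (∀ i, Sieve.ofArrows (W i) (g i) ∈ J (U i)) ∧
      b ≫ p = refMap O U r W g ≫ a := by
  have hl : ∀ i, ∃ (r : ℕ) (W : Fin r → C) (g : ∀ k, W k ⟶ U i) (t : ∀ k, A.val.obj (op (W k))),
      (∀ k, W k ∈ B) ∧ Sieve.ofArrows W g ∈ J (U i) ∧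
      ∀ k, p.val.app (op (W k)) (t k) = M.val.map (g k).op (secOf O U a i) := by
    intro i
    obtain ⟨S, hS, hlift⟩ := imageSieve_mem_of_epi O p (U i) (secOf O U a i)
    obtain ⟨r, W, g, hW, hgS, hcov⟩ := exists_finite_cover B hB₁ (U i) (hB₂ _ (hU i)) S hS
    choose t ht using fun k => hlift (g k) (hgS k)
    exact ⟨r, W, g, t, hW, hcov, ht⟩
  choose r W g t hW hcov ht using hl
  refine ⟨r, W, g, ofSec O (fun x : (Σ i : κ, Fin (r i)) => W x.1 x.2) (fun x => t x.1 x.2),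
    hW, hcov, ?_⟩
  apply hom_ext_sec
  intro x
  rw [secOf_comp, secOf_ofSec, secOf_refMap_comp, ht]

lemma freeOnHomEquiv_sub (U : C) (M : ModSite.Mod O) (f f' : ModSite.freeOn O U ⟶ M) :
    freeOnHomEquiv O U M (f - f') = freeOnHomEquiv O U M f - freeOnHomEquiv O U M f' :=
  (freeOnAddEquiv O U M).map_sub f f'

/-- restriction of sections (with the expected type) -/
noncomputable def res (T : ModSite.Mod O) {V V' : C} (f : V' ⟶ V) (x : T.val.obj (op V)) :
    T.val.obj (op V') := T.val.map f.op x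

section Cech

variable [HasPullbacks C]
variable {κ : Type} [Finite κ] (U : κ → C) (r : κ → ℕ) (W : ∀ i, Fin (r i) → C)
  (g : ∀ i k, W i k ⟶ U i)
  (s : ∀ i, Fin (r i) → Fin (r i) → ℕ)
  (Z : ∀ i (k l : Fin (r i)), Fin (s i k l) → C)
  (z : ∀ i (k l : Fin (r i)) (c : Fin (s i k l)), Z i k l c ⟶ pullback (g i k) (g i l))

/-- the Čech relations -/
noncomputable def cechMap :
    (∐ fun y : (Σ i : κ, Σ k : Fin (r i), Σ l : Fin (r i), Fin (s i k l)) =>
      ModSite.freeOn O (Z y.1 y.2.1 y.2.2.1 y.2.2.2)) ⟶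
    ∐ fun x : (Σ i : κ, Fin (r i)) => ModSite.freeOn O (W x.1 x.2) :=
  Sigma.desc (fun y =>
    freeOnMap O (z y.1 y.2.1 y.2.2.1 y.2.2.2 ≫ pullback.fst _ _) ≫
        Sigma.ι (fun x : (Σ i : κ, Fin (r i)) => ModSite.freeOn O (W x.1 x.2)) ⟨y.1, y.2.1⟩ -
      freeOnMap O (z y.1 y.2.1 y.2.2.1 y.2.2.2 ≫ pullback.snd _ _) ≫
        Sigma.ι (fun x : (Σ i : κ, Fin (r i)) => ModSite.freeOn O (W x.1 x.2)) ⟨y.1, y.2.2.1⟩)

lemma secOf_cechMap_comp {T : ModSite.Mod O}
    (h : (∐ fun x : (Σ i : κ, Fin (r i)) => ModSite.freeOn O (W x.1 x.2)) ⟶ T)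
    (y : Σ i : κ, Σ k : Fin (r i), Σ l : Fin (r i), Fin (s i k l)) :
    secOf O (fun y : (Σ i : κ, Σ k : Fin (r i), Σ l : Fin (r i), Fin (s i k l)) =>
        Z y.1 y.2.1 y.2.2.1 y.2.2.2) (cechMap O U r W g s Z z ≫ h) y =
      res O T (z y.1 y.2.1 y.2.2.1 y.2.2.2 ≫ pullback.fst _ _)
          (secOf O (fun x : (Σ i : κ, Fin (r i)) => W x.1 x.2) h ⟨y.1, y.2.1⟩) -
        res O T (z y.1 y.2.1 y.2.2.1 y.2.2.2 ≫ pullback.snd _ _)
          (secOf O (fun x : (Σ i : κ, Fin (r i)) => W x.1 x.2) h ⟨y.1, y.2.2.1⟩) := by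
  unfold secOf cechMap res
  rw [Sigma.ι_desc_assoc, Preadditive.sub_comp, freeOnHomEquiv_sub, Category.assoc,
    Category.assoc, freeOnHomEquiv_freeOnMap_comp, freeOnHomEquiv_freeOnMap_comp]

lemma cechMap_refMap : cechMap O U r W g s Z z ≫ refMap O U r W g = 0 := by
  apply eq_zero_of_secOf
  intro y
  rw [secOf_cechMap_comp]
  have e1 := secOf_refMap_comp O U r W g (𝟙 _) ⟨y.1, y.2.1⟩
  have e2 := secOf_refMap_comp O U r W g (𝟙 _) ⟨y.1, y.2.2.1⟩
  rw [Category.comp_id] at e1 e2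
  rw [e1, e2]
  unfold res
  rw [← PresheafOfModules.map_comp_apply, ← PresheafOfModules.map_comp_apply,
    ← op_comp, ← op_comp, Category.assoc, Category.assoc, pullback.condition]
  exact sub_self _

lemma exists_desc_of_cech (hcov : ∀ i, Sieve.ofArrows (W i) (g i) ∈ J (U i))
    (hcovZ : ∀ i k l, Sieve.ofArrows (Z i k l) (z i k l) ∈ J (pullback (g i k) (g i l)))
    {T : ModSite.Mod O}
    (h : (∐ fun x : (Σ i : κ, Fin (r i)) => ModSite.freeOn O (W x.1 x.2)) ⟶ T)
    (hh : cechMap O U r W g s Z z ≫ h = 0) :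
    ∃ l : (∐ fun i => ModSite.freeOn O (U i)) ⟶ T, refMap O U r W g ≫ l = h := by
  have hy : ∀ i, ∃ y : T.val.obj (op (U i)), ∀ k, T.val.map (g i k).op y =
      secOf O (fun x : (Σ i : κ, Fin (r i)) => W x.1 x.2) h ⟨i, k⟩ := by
    intro i
    have hsh : Presieve.IsSheafFor (T.val.presheaf ⋙ forget Ab)
        (Presieve.ofArrows (W i) (g i)) :=
      (Presieve.isSheafFor_iff_generate _).2 (isSheaf_val' O T _ (hcov i))
    have := (Presieve.isSheafFor_arrows_iff_pullbacks _ _).1 hsh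
      (fun k => secOf O (fun x : (Σ i : κ, Fin (r i)) => W x.1 x.2) h ⟨i, k⟩) ?_
    · obtain ⟨y, hy, -⟩ := this
      exact ⟨y, hy⟩
    · intro k l
      refine sec_ext O (Z i k l) (z i k l) (hcovZ i k l) _ _ (fun c => ?_)
      have e := secOf_cechMap_comp O U r W g s Z z h ⟨i, k, l, c⟩
      rw [hh, secOf_zero] at e
      have e' := sub_eq_zero.1 e.symm
      unfold res at e'
      change T.val.map (z i k l c).op (T.val.map (pullback.fst (g i k) (g i l)).op _) =
        T.val.map (z i k l c).op (T.val.map (pullback.snd (g i k) (g i l)).op _)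
      rw [← PresheafOfModules.map_comp_apply, ← PresheafOfModules.map_comp_apply,
        ← op_comp, ← op_comp]
      exact e'
  choose y hy using hy
  refine ⟨ofSec O U y, ?_⟩
  apply hom_ext_sec
  intro x
  rw [secOf_refMap_comp, secOf_ofSec, hy]

end Cech

end Groth.Agent.Helper24.TypeA
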