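import Mathlib
import Groth.Prelude.Def_ModSite
import Groth.Prelude.Def_CohCx
import Groth.Agent.Lib.Helper24.TypeA2

/-!
# Modules of "type A", part 3: finite free modules up to isomorphism, cokernel presentations,
closure under extensions
-/

open CategoryTheory Limits Opposite
universe u
set_option linter.unusedSectionVars false
set_option autoImplicit false
namespace Groth.Agent.Helper24.TypeA

open Groth.Agent.Helper24.FrMod Groth.Agent.Helper17.MT Groth.Agent.Helper10.QcObj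

section General

variable {𝒜 : Type*} [Category 𝒜] [Abelian 𝒜]

/-- coproducts over a sum type -/
noncomputable def sigmaSumIso {κ κ' : Type} [Finite κ] [Finite κ'] (g : κ ⊕ κ' → 𝒜) :
    (∐ fun i => g (Sum.inl i)) ⊞ (∐ fun i => g (Sum.inr i)) ≅ ∐ g where
  hom := biprod.desc (Sigma.desc fun i => Sigma.ι g (Sum.inl i))
    (Sigma.desc fun i => Sigma.ι g (Sum.inr i))
  inv := Sigma.desc (fun x => match x with
    | Sum.inl i => Sigma.ι (fun i => g (Sum.inl i)) i ≫ biprod.inl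
    | Sum.inr i => Sigma.ι (fun i => g (Sum.inr i)) i ≫ biprod.inr)
  hom_inv_id := by
    apply biprod.hom_ext' <;> apply Sigma.hom_ext <;> intro i <;> simp
  inv_hom_id := by
    apply Sigma.hom_ext
    rintro (i | i) <;> simp

/-- `q` is a cokernel of `d` -/
structure IsCokerOf {Q P M : 𝒜} (d : Q ⟶ P) (q : P ⟶ M) : Prop where
  zero : d ≫ q = 0
  epi : Epi q
  desc : ∀ {T : 𝒜} (h : P ⟶ T), d ≫ h = 0 → ∃ l : M ⟶ T, q ≫ l = h

namespace IsCokerOf

variable {Q P M : 𝒜} {d : Q ⟶ P} {q : P ⟶ M}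

/-- the colimit cofork -/
noncomputable def isColimit (h : IsCokerOf d q) : IsColimit (CokernelCofork.ofπ q h.zero) :=
  CokernelCofork.IsColimit.ofπ _ _ (fun {T} k hk => (h.desc k hk).choose)
    (fun {T} k hk => (h.desc k hk).choose_spec)
    (fun {T} k hk m hm => by
      have := h.epi
      rw [← cancel_epi q, hm, (h.desc k hk).choose_spec])

lemma nonempty_iso (h : IsCokerOf d q) : Nonempty (M ≅ cokernel d) :=
  ⟨h.isColimit.coconePointUniqueUpToIso (colimit.isColimit (parallelPair d 0))⟩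

lemma exact (h : IsCokerOf d q) : (ShortComplex.mk d q h.zero).Exact :=
  ShortComplex.exact_of_g_is_cokernel _ h.isColimit

lemma precomp_epi (h : IsCokerOf d q) {Q' : 𝒜} (σ : Q' ⟶ Q) [Epi σ] : IsCokerOf (σ ≫ d) q where
  zero := by rw [Category.assoc, h.zero, comp_zero]
  epi := h.epi
  desc k hk := h.desc k (by rwa [Category.assoc, ← comp_zero (f := σ), cancel_epi] at hk)

lemma of_cokernel {Q P : 𝒜} (d : Q ⟶ P) : IsCokerOf d (cokernel.π d) where
  zero := cokernel.condition d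
  epi := inferInstance
  desc k hk := ⟨cokernel.desc d k hk, cokernel.π_desc _ _ _⟩

lemma comp_iso (h : IsCokerOf d q) {M' : 𝒜} (e : M ≅ M') : IsCokerOf d (q ≫ e.hom) where
  zero := by rw [← Category.assoc, h.zero, zero_comp]
  epi := by have := h.epi; exact epi_comp _ _
  desc k hk := by
    obtain ⟨l, hl⟩ := h.desc k hk
    exact ⟨e.inv ≫ l, by simp [hl]⟩

end IsCokerOf

/-- the middle term of an extension as a cokernel -/
theorem isCokerOf_of_shortExact (S : ShortComplex 𝒜) (hS : S.ShortExact) {P Q : 𝒜}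
    (lam : P ⟶ S.X₂) (d : Q ⟶ P) (hd : IsCokerOf d (lam ≫ S.g)) :
    ∃ mu : Q ⟶ S.X₁, IsCokerOf (biprod.lift (-mu) d) (biprod.desc S.f lam) := by
  have := hS.mono_f
  have := hS.epi_g
  have hdz : (d ≫ lam) ≫ S.g = 0 := by rw [Category.assoc]; exact hd.zero
  let mu : Q ⟶ S.X₁ := hS.exact.lift (d ≫ lam) hdz
  have hmu : mu ≫ S.f = d ≫ lam := hS.exact.lift_f _ _
  have hepi : Epi (biprod.desc S.f lam) := by
    apply Preadditive.epi_of_cancel_zero
    intro T z hz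
    have h1 : S.f ≫ z = 0 := by
      have := congrArg (fun t => biprod.inl ≫ t) hz
      simpa using this
    have h2 : lam ≫ z = 0 := by
      have := congrArg (fun t => biprod.inr ≫ t) hz
      simpa using this
    have h3 : z = S.g ≫ hS.exact.desc z h1 := (hS.exact.g_desc z h1).symm
    have h4 : (lam ≫ S.g) ≫ hS.exact.desc z h1 = 0 := by
      rw [Category.assoc, ← h3, h2]
    have := hd.epi
    have h5 : hS.exact.desc z h1 = 0 := by
      rwa [← comp_zero (f := lam ≫ S.g), cancel_epi] at h4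
    rw [h3, h5, comp_zero]
  refine ⟨mu, ⟨?_, hepi, ?_⟩⟩
  · rw [biprod.lift_desc, Preadditive.neg_comp, hmu, neg_add_cancel]
  · intro T h hh
    -- it suffices to show that `h` kills the kernel of `biprod.desc S.f lam`
    have key : ∀ {K : 𝒜} (x : K ⟶ S.X₁ ⊞ P), x ≫ biprod.desc S.f lam = 0 → x ≫ h = 0 := by
      intro K x hx0
      have hx1 : (x ≫ biprod.fst) ≫ S.f + (x ≫ biprod.snd) ≫ lam = 0 := by
        rw [← hx0, biprod.desc_eq, Preadditive.comp_add]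
        simp
      have h6 : (x ≫ biprod.snd) ≫ lam = -((x ≫ biprod.fst) ≫ S.f) :=
        eq_neg_of_add_eq_zero_right hx1
      have h6' : (x ≫ biprod.fst) ≫ S.f = -((x ≫ biprod.snd) ≫ lam) :=
        eq_neg_of_add_eq_zero_left hx1
      have hx2 : (x ≫ biprod.snd) ≫ (lam ≫ S.g) = 0 := by
        rw [← Category.assoc, h6, Preadditive.neg_comp, Category.assoc, S.zero, comp_zero,
          neg_zero]
      obtain ⟨K', π, hπ, y, hy⟩ := hd.exact.exact_up_to_refinements (x ≫ biprod.snd) hx2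
      dsimp at y hy
      have h7 : π ≫ x ≫ biprod.fst = -(y ≫ mu) := by
        rw [← cancel_mono S.f]
        calc (π ≫ x ≫ biprod.fst) ≫ S.f = π ≫ ((x ≫ biprod.fst) ≫ S.f) := by simp
          _ = π ≫ (-((x ≫ biprod.snd) ≫ lam)) := by rw [h6']
          _ = -((π ≫ x ≫ biprod.snd) ≫ lam) := by simp
          _ = -((y ≫ d) ≫ lam) := by rw [hy]
          _ = -(y ≫ mu ≫ S.f) := by rw [hmu]; simp
          _ = (-(y ≫ mu)) ≫ S.f := by simp
      have h8 : π ≫ x = y ≫ biprod.lift (-mu) d := by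
        apply biprod.hom_ext
        · rw [Category.assoc, h7]; simp
        · rw [Category.assoc, hy]; simp
      rw [← cancel_epi π, comp_zero, ← Category.assoc, h8, Category.assoc, hh, comp_zero]
    have hker : kernel.ι (biprod.desc S.f lam) ≫ h = 0 := key _ (kernel.condition _)
    exact ⟨(Abelian.epiIsCokernelOfKernel _ (kernelIsKernel (biprod.desc S.f lam))).desc
      (CokernelCofork.ofπ h hker),
      (Abelian.epiIsCokernelOfKernel _ (kernelIsKernel (biprod.desc S.f lam))).fac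
        (CokernelCofork.ofπ h hker) WalkingParallelPair.one⟩

/-- direct sum of a cokernel presentation with an object -/
theorem IsCokerOf.biprod_right {Q P M : 𝒜} {d : Q ⟶ P} {q : P ⟶ M} (h : IsCokerOf d q) (P' : 𝒜) :
    IsCokerOf (d ≫ (biprod.inl : P ⟶ P ⊞ P')) (biprod.map q (𝟙 P')) where
  zero := by rw [Category.assoc, biprod.inl_map, reassoc_of% h.zero, zero_comp]
  epi := by
    have := h.epi
    apply Preadditive.epi_of_cancel_zero
    intro T z hz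
    apply biprod.hom_ext'
    · have := congrArg (fun t => biprod.inl ≫ t) hz
      simp only [biprod.inl_map_assoc, comp_zero] at this
      rw [comp_zero, ← cancel_epi q, this, comp_zero]
    · have := congrArg (fun t => biprod.inr ≫ t) hz
      simpa using this
  desc k hk := by
    obtain ⟨l₁, hl₁⟩ := h.desc (biprod.inl ≫ k) (by rwa [Category.assoc] at hk)
    refine ⟨biprod.desc l₁ (biprod.inr ≫ k), ?_⟩
    apply biprod.hom_ext' <;> simp [hl₁]

end General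

variable {C : Type u} [SmallCategory C] {J : GrothendieckTopology C}
variable (O : Sheaf J CommRingCat.{u})

/-- finite free modules on members of `B`, up to isomorphism -/
def FinFree (B : Set C) (P : ModSite.Mod O) : Prop :=
  ∃ (κ : Type) (_ : Finite κ) (U : κ → C), (∀ i, U i ∈ B) ∧
    Nonempty (P ≅ ∐ fun i => ModSite.freeOn O (U i))

variable {O} {B : Set C}

lemma FinFree.of_iso {P P' : ModSite.Mod O} (h : FinFree O B P) (e : P' ≅ P) : FinFree O B P' := by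
  obtain ⟨κ, hκ, U, hU, ⟨e'⟩⟩ := h
  exact ⟨κ, hκ, U, hU, ⟨e ≪≫ e'⟩⟩

lemma finFree_sigma {κ : Type} [Finite κ] (U : κ → C) (hU : ∀ i, U i ∈ B) :
    FinFree O B (∐ fun i => ModSite.freeOn O (U i)) :=
  ⟨κ, inferInstance, U, hU, ⟨Iso.refl _⟩⟩

lemma FinFree.biprod {P P' : ModSite.Mod O} (h : FinFree O B P) (h' : FinFree O B P') :
    FinFree O B (P ⊞ P') := by
  obtain ⟨κ, hκ, U, hU, ⟨e⟩⟩ := h
  obtain ⟨κ', hκ', U', hU', ⟨e'⟩⟩ := h'
  refine ⟨κ ⊕ κ', inferInstance, Sum.elim U U', ?_, ⟨biprod.mapIso e e' ≪≫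
    sigmaSumIso (fun x : κ ⊕ κ' => ModSite.freeOn O (Sum.elim U U' x))⟩⟩
  rintro (i | i)
  · exact hU i
  · exact hU' i

variable (O B) in
/-- type A in terms of cokernel presentations by finite free modules -/
theorem isTypeA_iff (M : ModSite.Mod O) :
    IsTypeA O B M ↔ ∃ (P Q : ModSite.Mod O) (d : Q ⟶ P) (q : P ⟶ M),
      FinFree O B P ∧ FinFree O B Q ∧ IsCokerOf d q := by
  constructor
  · intro h
    obtain ⟨m, n, V, U, ψ, q, hV, hU, hq, h0, hd⟩ := h.exists_pres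
    exact ⟨_, _, ψ, q, finFree_sigma U hU, finFree_sigma V hV, ⟨h0, hq, fun {T} k hk => hd T k hk⟩⟩
  · rintro ⟨P, Q, d, q, ⟨κ, hκ, U, hU, ⟨eP⟩⟩, ⟨ι, hι, V, hV, ⟨eQ⟩⟩, hdq⟩
    have := hdq.epi
    have : Epi (eP.inv ≫ q) := epi_comp _ _
    refine isTypeA_of_family O B V U hV hU M
      (fun j => Sigma.ι (fun j => ModSite.freeOn O (V j)) j ≫ eQ.inv ≫ d ≫ eP.hom)
      (eP.inv ≫ q) ?_ ?_
    · intro j
      simp only [Category.assoc, Iso.hom_inv_id_assoc, hdq.zero, comp_zero]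
    · intro T h hh
      have h1 : d ≫ (eP.hom ≫ h) = 0 := by
        rw [← cancel_epi eQ.inv, comp_zero]
        apply Sigma.hom_ext
        intro j
        rw [comp_zero]
        simpa using hh j
      obtain ⟨l, hl⟩ := hdq.desc _ h1
      exact ⟨l, by rw [Category.assoc, hl, Iso.inv_hom_id_assoc]⟩

lemma FinFree.isTypeA {P : ModSite.Mod O} (h : FinFree O B P) : IsTypeA O B P := by
  rw [isTypeA_iff]
  refine ⟨P, ∐ fun i : Empty => ModSite.freeOn O (i.elim), 0, 𝟙 P, h,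
    ⟨Empty, inferInstance, fun i => i.elim, fun i => i.elim, ⟨Iso.refl _⟩⟩, ⟨by simp, inferInstance,
      fun {T} k _ => ⟨k, by simp⟩⟩⟩

lemma IsTypeA.of_iso {M M' : ModSite.Mod O} (h : IsTypeA O B M) (e : M ≅ M') :
    IsTypeA O B M' := by
  rw [isTypeA_iff] at h ⊢
  obtain ⟨P, Q, d, q, hP, hQ, hdq⟩ := h
  exact ⟨P, Q, d, q ≫ e.hom, hP, hQ, hdq.comp_iso e⟩

lemma IsTypeA.biprod_finFree {M P' : ModSite.Mod O} (h : IsTypeA O B M) (h' : FinFree O B P') :
    IsTypeA O B (M ⊞ P') := by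
  rw [isTypeA_iff] at h ⊢
  obtain ⟨P, Q, d, q, hP, hQ, hdq⟩ := h
  exact ⟨P ⊞ P', Q, _, _, hP.biprod h', hQ, hdq.biprod_right P'⟩

/-- refinement of a finite free module along an epimorphism (no fibre products needed) -/
theorem FinFree.exists_refinement₀
    (hB₁ : ∀ X : C, ∃ (κ : Type u) (Y : κ → C) (g : ∀ k, Y k ⟶ X),
      Sieve.ofArrows Y g ∈ J X ∧ ∀ k, Y k ∈ B)
    (hB₂ : ∀ U ∈ B, CohCx.IsQcObject ((presheafToSheaf J (Type u)).obj (yoneda.obj U)))
    {P : ModSite.Mod O} (hP : FinFree O B P) {A M : ModSite.Mod O} (p : A ⟶ M) [Epi p]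
    (a : P ⟶ M) :
    ∃ (P' : ModSite.Mod O) (ρ : P' ⟶ P) (b : P' ⟶ A),
      FinFree O B P' ∧ Epi ρ ∧ b ≫ p = ρ ≫ a := by
  obtain ⟨κ, hκ, U, hU, ⟨e⟩⟩ := hP
  obtain ⟨r, W, g, b, hW, hcov, hb⟩ := exists_refinement O B hB₁ hB₂ p U hU (e.inv ≫ a)
  have := epi_refMap O U r W g hcov
  refine ⟨_, refMap O U r W g ≫ e.inv, b,
    finFree_sigma (fun x : (Σ i : κ, Fin (r i)) => W x.1 x.2) (fun x => hW x.1 x.2),
    epi_comp _ _, ?_⟩
  rw [hb, Category.assoc]

/-- refinement of a finite free module along an epimorphism, with finitely generated kernel -/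
theorem FinFree.exists_refinement [HasPullbacks C]
    (hB₁ : ∀ X : C, ∃ (κ : Type u) (Y : κ → C) (g : ∀ k, Y k ⟶ X),
      Sieve.ofArrows Y g ∈ J X ∧ ∀ k, Y k ∈ B)
    (hB₂ : ∀ U ∈ B, CohCx.IsQcObject ((presheafToSheaf J (Type u)).obj (yoneda.obj U)))
    (hB₃ : ∀ (U U₁ U₂ : C) (f₁ : U₁ ⟶ U) (f₂ : U₂ ⟶ U), U ∈ B → U₁ ∈ B → U₂ ∈ B →
      CohCx.IsQcObject ((presheafToSheaf J (Type u)).obj (yoneda.obj (pullback f₁ f₂))))
    {P : ModSite.Mod O} (hP : FinFree O B P) {A M : ModSite.Mod O} (p : A ⟶ M) [Epi p]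
    (a : P ⟶ M) :
    ∃ (P' Q : ModSite.Mod O) (ρ : P' ⟶ P) (b : P' ⟶ A) (d : Q ⟶ P'),
      FinFree O B P' ∧ FinFree O B Q ∧ b ≫ p = ρ ≫ a ∧ IsCokerOf d ρ := by
  obtain ⟨κ, hκ, U, hU, ⟨e⟩⟩ := hP
  obtain ⟨r, W, g, b, hW, hcov, hb⟩ := TypeA.exists_refinement O B hB₁ hB₂ p U hU (e.inv ≫ a)
  have hZ : ∀ i (k l : Fin (r i)), ∃ (s : ℕ) (Z : Fin s → C)
      (z : ∀ c, Z c ⟶ pullback (g i k) (g i l)),
      (∀ c, Z c ∈ B) ∧ Sieve.ofArrows Z z ∈ J (pullback (g i k) (g i l)) := by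
    intro i k l
    obtain ⟨s, Z, z, hZ, -, hcovZ⟩ := exists_finite_cover B hB₁ (pullback (g i k) (g i l))
      (hB₃ _ _ _ _ _ (hU i) (hW i k) (hW i l)) ⊤ (J.top_mem _)
    exact ⟨s, Z, z, hZ, hcovZ⟩
  choose s Z z hZ hcovZ using hZ
  have hepi := epi_refMap O U r W g hcov
  refine ⟨_, _, refMap O U r W g ≫ e.inv, b, cechMap O U r W g s Z z,
    finFree_sigma (fun x : (Σ i : κ, Fin (r i)) => W x.1 x.2) (fun x => hW x.1 x.2),
    finFree_sigma (fun y : (Σ i : κ, Σ k : Fin (r i), Σ l : Fin (r i), Fin (s i k l)) =>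
      Z y.1 y.2.1 y.2.2.1 y.2.2.2) (fun y => hZ _ _ _ _), ?_, ?_⟩
  · rw [hb, Category.assoc]
  · have h0 : IsCokerOf (cechMap O U r W g s Z z) (refMap O U r W g) :=
      ⟨cechMap_refMap O U r W g s Z z, hepi,
        fun {T} h hh => exists_desc_of_cech O U r W g s Z z hcov hcovZ h hh⟩
    exact h0.comp_iso e.symm

/-- composition of cokernel presentations along an epimorphic refinement -/
theorem IsCokerOf.comp_refinement
    (hB₁ : ∀ X : C, ∃ (κ : Type u) (Y : κ → C) (g : ∀ k, Y k ⟶ X),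
      Sieve.ofArrows Y g ∈ J X ∧ ∀ k, Y k ∈ B)
    (hB₂ : ∀ U ∈ B, CohCx.IsQcObject ((presheafToSheaf J (Type u)).obj (yoneda.obj U)))
    {P' P M Q₁ Q₂ : ModSite.Mod O} {ρ : P' ⟶ P} {q : P ⟶ M} {d₁ : Q₁ ⟶ P'} {d₂ : Q₂ ⟶ P}
    (h₁ : IsCokerOf d₁ ρ) (h₂ : IsCokerOf d₂ q) (hQ₁ : FinFree O B Q₁) (hQ₂ : FinFree O B Q₂) :
    ∃ (Q : ModSite.Mod O) (d : Q ⟶ P'), FinFree O B Q ∧ IsCokerOf d (ρ ≫ q) := by
  have := h₁.epi
  have := h₂.epi
  obtain ⟨Q₂', σ, b, hQ₂', hσ, hb⟩ := hQ₂.exists_refinement₀ hB₁ hB₂ ρ d₂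
  refine ⟨Q₁ ⊞ Q₂', biprod.desc d₁ b, hQ₁.biprod hQ₂', ⟨?_, epi_comp _ _, ?_⟩⟩
  · apply biprod.hom_ext'
    · rw [biprod.inl_desc_assoc, reassoc_of% h₁.zero, zero_comp, comp_zero]
    · rw [biprod.inr_desc_assoc, reassoc_of% hb, h₂.zero, comp_zero, comp_zero]
  · intro T h hh
    have e1 : d₁ ≫ h = 0 := by
      have := congrArg (fun t => biprod.inl ≫ t) hh
      simpa using this
    have e2 : b ≫ h = 0 := by
      have := congrArg (fun t => biprod.inr ≫ t) hh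
      simpa using this
    obtain ⟨h', hh'⟩ := h₁.desc h e1
    have e3 : d₂ ≫ h' = 0 := by
      rw [← cancel_epi σ, comp_zero, ← Category.assoc, ← hb, Category.assoc, hh', e2]
    obtain ⟨l, hl⟩ := h₂.desc h' e3
    exact ⟨l, by rw [Category.assoc, hl, hh']⟩

/-- modules of type A are closed under extensions -/
theorem isTypeA_of_shortExact [HasPullbacks C]
    (hB₁ : ∀ X : C, ∃ (κ : Type u) (Y : κ → C) (g : ∀ k, Y k ⟶ X),
      Sieve.ofArrows Y g ∈ J X ∧ ∀ k, Y k ∈ B)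
    (hB₂ : ∀ U ∈ B, CohCx.IsQcObject ((presheafToSheaf J (Type u)).obj (yoneda.obj U)))
    (hB₃ : ∀ (U U₁ U₂ : C) (f₁ : U₁ ⟶ U) (f₂ : U₂ ⟶ U), U ∈ B → U₁ ∈ B → U₂ ∈ B →
      CohCx.IsQcObject ((presheafToSheaf J (Type u)).obj (yoneda.obj (pullback f₁ f₂))))
    (S : ShortComplex (ModSite.Mod O)) (hS : S.ShortExact)
    (h₁ : IsTypeA O B S.X₁) (h₃ : IsTypeA O B S.X₃) : IsTypeA O B S.X₂ := by
  have := hS.epi_g
  obtain ⟨P₃, Q₃, d₃, q₃, hP₃, hQ₃, hdq₃⟩ := (isTypeA_iff O B _).1 h₃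
  obtain ⟨P', Qρ, ρ, lam, dρ, hP', hQρ, hlam, hρ⟩ :=
    hP₃.exists_refinement hB₁ hB₂ hB₃ S.g q₃
  obtain ⟨Q, d, hQ, hd⟩ := hρ.comp_refinement hB₁ hB₂ hdq₃ hQρ hQ₃
  rw [← hlam] at hd
  obtain ⟨mu, hmu⟩ := isCokerOf_of_shortExact S hS lam d hd
  obtain ⟨e⟩ := hmu.nonempty_iso
  exact (isTypeA_cokernel O B hB₁ hB₂ _ hQ.isTypeA (h₁.biprod_finFree hP')).of_iso e.symm

end Groth.Agent.Helper24.TypeA
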