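import Mathlib
import Groth.Prelude.Def_ModSite
import Groth.Prelude.Def_CohCx
import Groth.Agent.Lib.Helper24.TypeA3

/-!
# Modules of "type A", part 4: closure under kernels (given kernels of maps of finite free modules)
-/

open CategoryTheory Limits Opposite
universe u
set_option linter.unusedSectionVars false
set_option autoImplicit false
namespace Groth.Agent.Helper24.TypeA

open Groth.Agent.Helper24.FrMod Groth.Agent.Helper17.MT Groth.Agent.Helper10.QcObj

section General

variable {𝒜 : Type*} [Category 𝒜] [Abelian 𝒜]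

/-- an epimorphism is a cokernel of its kernel -/
lemma isCokerOf_kernel_ι {X Y : 𝒜} (e : X ⟶ Y) [Epi e] : IsCokerOf (kernel.ι e) e where
  zero := kernel.condition e
  epi := inferInstance
  desc k hk :=
    ⟨(Abelian.epiIsCokernelOfKernel _ (kernelIsKernel e)).desc (CokernelCofork.ofπ k hk),
      (Abelian.epiIsCokernelOfKernel _ (kernelIsKernel e)).fac (CokernelCofork.ofπ k hk)
        WalkingParallelPair.one⟩

/-- for `q` epi, `ker α` is the cokernel of `ker q ⟶ ker (q ≫ α)` -/
theorem isCokerOf_kernel_comp {P F G : 𝒜} (q : P ⟶ F) [Epi q] (α : F ⟶ G) :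
    IsCokerOf (kernel.lift (q ≫ α) (kernel.ι q) (by rw [reassoc_of% kernel.condition q, zero_comp]))
      (kernel.lift α (kernel.ι (q ≫ α) ≫ q) (by rw [Category.assoc, kernel.condition])) := by
  set f := kernel.lift (q ≫ α) (kernel.ι q)
    (by rw [reassoc_of% kernel.condition q, zero_comp]) with hf
  set g := kernel.lift α (kernel.ι (q ≫ α) ≫ q) (by rw [Category.assoc, kernel.condition]) with hg
  have hfι : f ≫ kernel.ι (q ≫ α) = kernel.ι q := kernel.lift_ι _ _ _
  have hgι : g ≫ kernel.ι α = kernel.ι (q ≫ α) ≫ q := kernel.lift_ι _ _ _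
  have zero : f ≫ g = 0 := by
    rw [← cancel_mono (kernel.ι α), Category.assoc, hgι, reassoc_of% hfι, kernel.condition,
      zero_comp]
  have hepi : Epi g := by
    rw [epi_iff_surjective_up_to_refinements]
    intro A x
    obtain ⟨A', π, hπ, y, hy⟩ := surjective_up_to_refinements_of_epi q (x ≫ kernel.ι α)
    have hy0 : y ≫ q ≫ α = 0 := by
      rw [← Category.assoc, ← hy, Category.assoc, Category.assoc, kernel.condition, comp_zero,
        comp_zero]
    refine ⟨A', π, hπ, kernel.lift (q ≫ α) y hy0, ?_⟩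
    rw [← cancel_mono (kernel.ι α), Category.assoc, Category.assoc, hgι, kernel.lift_ι_assoc, hy]
  have hex : (ShortComplex.mk f g zero).Exact := by
    rw [ShortComplex.exact_iff_exact_up_to_refinements]
    intro A x₂ hx₂
    dsimp at x₂ hx₂
    have h1 : (x₂ ≫ kernel.ι (q ≫ α)) ≫ q = 0 := by
      rw [Category.assoc, ← hgι, reassoc_of% hx₂, zero_comp]
    refine ⟨A, 𝟙 A, inferInstance, kernel.lift q (x₂ ≫ kernel.ι (q ≫ α)) h1, ?_⟩
    dsimp
    rw [Category.id_comp, ← cancel_mono (kernel.ι (q ≫ α)), Category.assoc, hfι, kernel.lift_ι]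
  refine ⟨zero, hepi, fun {T} k hk => ?_⟩
  have : Epi (ShortComplex.mk f g zero).g := hepi
  exact ⟨hex.desc k hk, hex.g_desc k hk⟩

/-- the kernel of `q` maps to the pullback of `a` and `q` -/
noncomputable def kerToPullback {P F G : 𝒜} (a : P ⟶ G) (q : F ⟶ G) : kernel q ⟶ pullback a q :=
  pullback.lift 0 (kernel.ι q) (by rw [zero_comp, kernel.condition])

@[reassoc (attr := simp)]
lemma kerToPullback_fst {P F G : 𝒜} (a : P ⟶ G) (q : F ⟶ G) :
    kerToPullback a q ≫ pullback.fst a q = 0 := pullback.lift_fst _ _ _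

@[reassoc (attr := simp)]
lemma kerToPullback_snd {P F G : 𝒜} (a : P ⟶ G) (q : F ⟶ G) :
    kerToPullback a q ≫ pullback.snd a q = kernel.ι q := pullback.lift_snd _ _ _

/-- the pullback of an epimorphism as an extension -/
theorem shortExact_pullback {P F G : 𝒜} (a : P ⟶ G) (q : F ⟶ G) [Epi q] :
    (ShortComplex.mk (kerToPullback a q) (pullback.fst a q) (kerToPullback_fst a q)).ShortExact := by
  have hm : Mono (kerToPullback a q) := mono_of_mono_fac (kerToPullback_snd a q)
  refine ShortComplex.ShortExact.mk' ?_ hm (by dsimp; infer_instance)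
  rw [ShortComplex.exact_iff_exact_up_to_refinements]
  intro A x hx
  dsimp at x hx
  have h1 : (x ≫ pullback.snd a q) ≫ q = 0 := by
    rw [Category.assoc, ← pullback.condition, reassoc_of% hx, zero_comp]
  refine ⟨A, 𝟙 A, inferInstance, kernel.lift q (x ≫ pullback.snd a q) h1, ?_⟩
  dsimp
  rw [Category.id_comp]
  apply pullback.hom_ext
  · rw [Category.assoc, kerToPullback_fst, comp_zero, hx]
  · rw [Category.assoc, kerToPullback_snd, kernel.lift_ι]

/-- the kernel of `a` maps to the pullback of `a` and `q` -/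
noncomputable def kerToPullback' {P F G : 𝒜} (a : P ⟶ G) (q : F ⟶ G) : kernel a ⟶ pullback a q :=
  pullback.lift (kernel.ι a) 0 (by rw [zero_comp, kernel.condition])

@[reassoc (attr := simp)]
lemma kerToPullback'_fst {P F G : 𝒜} (a : P ⟶ G) (q : F ⟶ G) :
    kerToPullback' a q ≫ pullback.fst a q = kernel.ι a := pullback.lift_fst _ _ _

@[reassoc (attr := simp)]
lemma kerToPullback'_snd {P F G : 𝒜} (a : P ⟶ G) (q : F ⟶ G) :
    kerToPullback' a q ≫ pullback.snd a q = 0 := pullback.lift_snd _ _ _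

/-- the kernel of the second projection of a pullback -/
noncomputable def kernelPullbackSndIso {P F G : 𝒜} (a : P ⟶ G) (q : F ⟶ G) :
    kernel (pullback.snd a q) ≅ kernel a where
  hom := kernel.lift a (kernel.ι (pullback.snd a q) ≫ pullback.fst a q) (by
    rw [Category.assoc, pullback.condition, reassoc_of% kernel.condition, zero_comp])
  inv := kernel.lift (pullback.snd a q) (kerToPullback' a q) (kerToPullback'_snd a q)
  hom_inv_id := by
    rw [← cancel_mono (kernel.ι (pullback.snd a q))]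
    apply pullback.hom_ext
    · simp
    · simp
  inv_hom_id := by
    rw [← cancel_mono (kernel.ι a)]
    simp

end General

variable {C : Type u} [SmallCategory C] {J : GrothendieckTopology C}
variable {O : Sheaf J CommRingCat.{u}} {B : Set C}

section Kernel

variable [HasPullbacks C]
  (hB₁ : ∀ X : C, ∃ (κ : Type u) (Y : κ → C) (g : ∀ k, Y k ⟶ X),
    Sieve.ofArrows Y g ∈ J X ∧ ∀ k, Y k ∈ B)
  (hB₂ : ∀ U ∈ B, CohCx.IsQcObject ((presheafToSheaf J (Type u)).obj (yoneda.obj U)))
  (hB₃ : ∀ (U U₁ U₂ : C) (f₁ : U₁ ⟶ U) (f₂ : U₂ ⟶ U), U ∈ B → U₁ ∈ B → U₂ ∈ B →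
    CohCx.IsQcObject ((presheafToSheaf J (Type u)).obj (yoneda.obj (pullback f₁ f₂))))
  (hker : ∀ (m n : ℕ) (V : Fin m → C) (U : Fin n → C)
    (φ : (∐ fun j => ModSite.freeOn O (V j)) ⟶ ∐ fun i => ModSite.freeOn O (U i)),
    (∀ j, V j ∈ B) → (∀ i, U i ∈ B) → IsTypeA O B (kernel φ))

include hker in
/-- kernels of maps between finite free modules -/
lemma isTypeA_kernel_finFree {Q P : ModSite.Mod O} (hQ : FinFree O B Q) (hP : FinFree O B P)
    (φ : Q ⟶ P) : IsTypeA O B (kernel φ) := by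
  classical
  obtain ⟨ι, hι, V, hV, ⟨eQ⟩⟩ := hQ
  obtain ⟨κ, hκ, U, hU, ⟨eP⟩⟩ := hP
  have : Fintype ι := Fintype.ofFinite ι
  have : Fintype κ := Fintype.ofFinite κ
  let eι : ι ≃ Fin (Fintype.card ι) := Fintype.equivFin ι
  let eκ : κ ≃ Fin (Fintype.card κ) := Fintype.equivFin κ
  let rQ : (∐ fun j : Fin (Fintype.card ι) => ModSite.freeOn O (V (eι.symm j))) ≅
      ∐ fun j => ModSite.freeOn O (V j) :=
    Sigma.reindex eι.symm (fun j => ModSite.freeOn O (V j))
  let rP : (∐ fun i : Fin (Fintype.card κ) => ModSite.freeOn O (U (eκ.symm i))) ≅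
      ∐ fun i => ModSite.freeOn O (U i) :=
    Sigma.reindex eκ.symm (fun i => ModSite.freeOn O (U i))
  let φ' : (∐ fun j : Fin (Fintype.card ι) => ModSite.freeOn O (V (eι.symm j))) ⟶
      ∐ fun i : Fin (Fintype.card κ) => ModSite.freeOn O (U (eκ.symm i)) :=
    rQ.hom ≫ eQ.inv ≫ φ ≫ eP.hom ≫ rP.inv
  have h := hker _ _ (fun j => V (eι.symm j)) (fun i => U (eκ.symm i)) φ' (fun j => hV _)
    (fun i => hU _)
  refine h.of_iso (kernel.mapIso φ' φ (rQ ≪≫ eQ.symm) (rP ≪≫ eP.symm) ?_)
  simp [φ']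

include hB₁ hB₂ in
/-- the target of an epimorphism from a type A module with type A kernel is of type A -/
lemma isTypeA_of_epi {X Y : ModSite.Mod O} (e : X ⟶ Y) [Epi e] (hX : IsTypeA O B X)
    (hK : IsTypeA O B (kernel e)) : IsTypeA O B Y := by
  obtain ⟨i⟩ := (isCokerOf_kernel_ι e).nonempty_iso
  exact (isTypeA_cokernel O B hB₁ hB₂ (kernel.ι e) hK hX).of_iso i.symm

include hB₁ hB₂ in
lemma isTypeA_kernel_of_epi {P F G : ModSite.Mod O} (q : P ⟶ F) [Epi q] (α : F ⟶ G)
    (h1 : IsTypeA O B (kernel q)) (h2 : IsTypeA O B (kernel (q ≫ α))) :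
    IsTypeA O B (kernel α) := by
  obtain ⟨i⟩ := (isCokerOf_kernel_comp q α).nonempty_iso
  exact (isTypeA_cokernel O B hB₁ hB₂ _ h1 h2).of_iso i.symm

include hB₁ hB₂ hker in
/-- the kernel of a cokernel presentation by finite free modules is of type A -/
lemma isTypeA_kernel_of_isCokerOf {Q P M : ModSite.Mod O} {d : Q ⟶ P} {q : P ⟶ M}
    (hQ : FinFree O B Q) (hP : FinFree O B P) (h : IsCokerOf d q) : IsTypeA O B (kernel q) := by
  have hepi : Epi (kernel.lift q d h.zero) := by
    have := h.exact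
    rwa [ShortComplex.exact_iff_epi_kernel_lift] at this
  refine isTypeA_of_epi hB₁ hB₂ (kernel.lift q d h.zero) hQ.isTypeA ?_
  have e : d = kernel.lift q d h.zero ≫ kernel.ι q := (kernel.lift_ι _ _ _).symm
  exact (isTypeA_kernel_finFree hker hQ hP d).of_iso (kernelIsoOfEq e ≪≫ kernelCompMono _ _)

include hB₁ hB₂ hker in
/-- kernels of maps from a type A module to a finite free module -/
lemma isTypeA_kernel_to_finFree {E P : ModSite.Mod O} (hE : IsTypeA O B E) (hP : FinFree O B P)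
    (β : E ⟶ P) : IsTypeA O B (kernel β) := by
  obtain ⟨PE, QE, dE, qE, hPE, hQE, hdq⟩ := (isTypeA_iff O B _).1 hE
  have := hdq.epi
  exact isTypeA_kernel_of_epi hB₁ hB₂ qE β (isTypeA_kernel_of_isCokerOf hB₁ hB₂ hker hQE hPE hdq)
    (isTypeA_kernel_finFree hker hPE hP _)

include hB₁ hB₂ hB₃ hker in
/-- modules of type A are closed under kernels -/
theorem isTypeA_kernel {F G : ModSite.Mod O} (α : F ⟶ G) (hF : IsTypeA O B F)
    (hG : IsTypeA O B G) : IsTypeA O B (kernel α) := by
  obtain ⟨PF, QF, dF, qF, hPF, hQF, hF'⟩ := (isTypeA_iff O B _).1 hF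
  obtain ⟨PG, QG, dG, qG, hPG, hQG, hG'⟩ := (isTypeA_iff O B _).1 hG
  have := hF'.epi
  have := hG'.epi
  refine isTypeA_kernel_of_epi hB₁ hB₂ qF α
    (isTypeA_kernel_of_isCokerOf hB₁ hB₂ hker hQF hPF hF') ?_
  -- the pullback `E` of `PF ⟶ G ⟵ PG` is an extension of `PF` by `ker qG`
  have hE : IsTypeA O B (pullback (qF ≫ α) qG) :=
    isTypeA_of_shortExact hB₁ hB₂ hB₃ _ (shortExact_pullback (qF ≫ α) qG)
      (isTypeA_kernel_of_isCokerOf hB₁ hB₂ hker hQG hPG hG') hPF.isTypeA
  exact (isTypeA_kernel_to_finFree hB₁ hB₂ hker hE hPG (pullback.snd (qF ≫ α) qG)).of_iso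
    (kernelPullbackSndIso _ _)

end Kernel

end Groth.Agent.Helper24.TypeA
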