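import Mathlib
import Groth.Prelude.Def_ModSite
import Groth.Prelude.Def_CohCx
import Groth.Agent.Lib.Helper24.TypeA3
import Groth.Agent.Lib.Helper17.MP2

/-!
# Modules of "type A", part 5: every module is a filtered colimit of modules of type A
-/

open CategoryTheory Limits Opposite
universe u
set_option linter.unusedSectionVars false
set_option autoImplicit false
namespace Groth.Agent.Helper24.TypeA

open Groth.Agent.Helper24.FrMod Groth.Agent.Helper17.MT Groth.Agent.Helper10.QcObj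

section General

variable {ℳ : Type*} [Category ℳ] [Abelian ℳ] {Λ : Type*} [Category Λ] [IsFiltered Λ]
  [HasColimitsOfShape Λ ℳ] [HasExactColimitsOfShape Λ ℳ]

/-- a criterion for a cocone over a filtered diagram in an abelian category with exact filtered
colimits to be a colimit cocone -/
theorem nonempty_isColimit_of_filtered (D : Λ ⥤ ℳ) (c : Cocone D) (𝒢 : ObjectProperty ℳ)
    (h𝒢 : 𝒢.IsSeparating)
    (hE : ∀ ⦃T : ℳ⦄ (z : c.pt ⟶ T), (∀ σ, c.ι.app σ ≫ z = 0) → z = 0)
    (hM : ∀ (σ : Λ) (G : ℳ), 𝒢 G → ∀ x : G ⟶ D.obj σ, x ≫ c.ι.app σ = 0 →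
      ∃ (σ' : Λ) (t : σ ⟶ σ'), x ≫ D.map t = 0) :
    Nonempty (IsColimit c) := by
  have : IsConnected Λ := IsFiltered.isConnected Λ
  let φ : colimit D ⟶ c.pt := colimit.desc D c
  have hφ : ∀ σ, colimit.ι D σ ≫ φ = c.ι.app σ := fun σ => colimit.ι_desc _ _
  have hepi : Epi φ := by
    apply Preadditive.epi_of_cancel_zero
    intro T z hz
    apply hE
    intro σ
    rw [← hφ, Category.assoc, hz, comp_zero]
  -- the kernel of `D ⟶ const F`
  let ι' : D ⟶ (Functor.const Λ).obj c.pt := c.ι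
  let S : ShortComplex (Λ ⥤ ℳ) := ShortComplex.mk (kernel.ι ι') ι' (kernel.condition ι')
  have hS : S.Exact := ShortComplex.exact_of_f_is_kernel _ (kernelIsKernel ι')
  have : PreservesFiniteLimits (colim (J := Λ) (C := ℳ)) :=
    HasExactColimitsOfShape.preservesFiniteLimits
  have hS' : (S.map (colim (J := Λ) (C := ℳ))).Exact := hS.map _
  have hmono_app : ∀ σ, Mono ((kernel.ι ι').app σ) := fun σ =>
    (NatTrans.mono_iff_mono_app (kernel.ι ι')).1 inferInstance σ
  have hzero : ∀ σ, colimit.ι (kernel ι') σ = 0 := by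
    intro σ
    apply h𝒢
    intro G hG x
    rw [comp_zero]
    have hx : (x ≫ (kernel.ι ι').app σ) ≫ c.ι.app σ = 0 := by
      have := congrArg (fun t => t.app σ) (kernel.condition ι')
      dsimp at this
      rw [Category.assoc]
      change x ≫ (kernel.ι ι').app σ ≫ ι'.app σ = 0
      rw [this, comp_zero]
    obtain ⟨σ', t, ht⟩ := hM σ G hG _ hx
    have h1 : x ≫ (kernel ι').map t = 0 := by
      have := hmono_app σ'
      rw [← cancel_mono ((kernel.ι ι').app σ'), Category.assoc, zero_comp,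
        (kernel.ι ι').naturality t, ← Category.assoc, ht]
    rw [← colimit.w (kernel ι') t, ← Category.assoc, h1, zero_comp]
  have hf0 : (S.map (colim (J := Λ) (C := ℳ))).f = 0 := by
    change colimMap (kernel.ι ι') = 0
    apply colimit.hom_ext
    intro σ
    rw [hzero, zero_comp, zero_comp]
  have hmono : Mono (colimMap ι') := hS'.mono_g hf0
  let e : colimit ((Functor.const Λ).obj c.pt) ≅ c.pt :=
    (colimit.isColimit _).coconePointUniqueUpToIso (isColimitConstCocone Λ c.pt)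
  have hfac : φ = colimMap ι' ≫ e.hom := by
    apply colimit.hom_ext
    intro σ
    rw [hφ, ι_colimMap_assoc]
    have : colimit.ι ((Functor.const Λ).obj c.pt) σ ≫ e.hom = 𝟙 _ :=
      IsColimit.comp_coconePointUniqueUpToIso_hom (colimit.isColimit _)
        (isColimitConstCocone Λ c.pt) σ
    rw [this, Category.comp_id]
  have hmono' : Mono φ := by
    rw [hfac]
    exact mono_comp _ _
  have : IsIso φ := isIso_of_mono_of_epi φ
  have : IsIso ((colimit.isColimit D).desc c) := this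
  exact ⟨IsColimit.ofPointIso (colimit.isColimit D)⟩

/-- direct sums of cokernel presentations -/
theorem IsCokerOf.biprod_map {Q P M Q' P' M' : ℳ} {d : Q ⟶ P} {q : P ⟶ M} {d' : Q' ⟶ P'}
    {q' : P' ⟶ M'} (h : IsCokerOf d q) (h' : IsCokerOf d' q') :
    IsCokerOf (biprod.map d d') (biprod.map q q') where
  zero := by
    apply biprod.hom_ext'
    · rw [biprod.inl_map_assoc, biprod.inl_map, reassoc_of% h.zero, zero_comp, comp_zero]
    · rw [biprod.inr_map_assoc, biprod.inr_map, reassoc_of% h'.zero, zero_comp, comp_zero]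
  epi := by
    have := h.epi
    have := h'.epi
    apply Preadditive.epi_of_cancel_zero
    intro T z hz
    apply biprod.hom_ext'
    · have := congrArg (fun t => biprod.inl ≫ t) hz
      simp only [biprod.inl_map_assoc, comp_zero] at this
      rw [comp_zero, ← cancel_epi q, this, comp_zero]
    · have := congrArg (fun t => biprod.inr ≫ t) hz
      simp only [biprod.inr_map_assoc, comp_zero] at this
      rw [comp_zero, ← cancel_epi q', this, comp_zero]
  desc k hk := by
    obtain ⟨l₁, hl₁⟩ := h.desc (biprod.inl ≫ k) (by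
      have := congrArg (fun t => biprod.inl ≫ t) hk
      simpa using this)
    obtain ⟨l₂, hl₂⟩ := h'.desc (biprod.inr ≫ k) (by
      have := congrArg (fun t => biprod.inr ≫ t) hk
      simpa using this)
    refine ⟨biprod.desc l₁ l₂, ?_⟩
    apply biprod.hom_ext' <;> simp [hl₁, hl₂]

end General

variable {C : Type u} [SmallCategory C] {J : GrothendieckTopology C}
variable {O : Sheaf J CommRingCat.{u}} {B : Set C}

lemma IsTypeA.biprod {M M' : ModSite.Mod O} (h : IsTypeA O B M) (h' : IsTypeA O B M') :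
    IsTypeA O B (M ⊞ M') := by
  rw [isTypeA_iff] at h h' ⊢
  obtain ⟨P, Q, d, q, hP, hQ, hdq⟩ := h
  obtain ⟨P', Q', d', q', hP', hQ', hdq'⟩ := h'
  exact ⟨P ⊞ P', Q ⊞ Q', _, _, hP.biprod hP', hQ.biprod hQ', hdq.biprod_map hdq'⟩

lemma finFree_freeOn {U : C} (hU : U ∈ B) : FinFree O B (ModSite.freeOn O U) :=
  ⟨Unit, inferInstance, fun _ => U, fun _ => hU,
    ⟨(coproductUniqueIso (fun _ : Unit => ModSite.freeOn O U)).symm⟩⟩

variable (O B) in
/-- presentations of type A mapping to `F` -/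
structure PresOver (F : ModSite.Mod O) where
  m : ℕ
  n : ℕ
  V : Fin m → C
  U : Fin n → C
  ψ : (∐ fun j => ModSite.freeOn O (V j)) ⟶ ∐ fun i => ModSite.freeOn O (U i)
  hV : ∀ j, V j ∈ B
  hU : ∀ i, U i ∈ B
  a : cokernel ψ ⟶ F

variable {F : ModSite.Mod O}

/-- morphisms of presentations over `F` -/
@[ext]
structure PresOver.Hom (σ τ : PresOver O B F) where
  f : cokernel σ.ψ ⟶ cokernel τ.ψ
  w : f ≫ τ.a = σ.a

noncomputable instance : Category (PresOver O B F) where
  Hom := PresOver.Hom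
  id σ := ⟨𝟙 _, Category.id_comp _⟩
  comp f g := ⟨f.f ≫ g.f, by rw [Category.assoc, g.w, f.w]⟩
  id_comp f := PresOver.Hom.ext (Category.id_comp _)
  comp_id f := PresOver.Hom.ext (Category.comp_id _)
  assoc f g h := PresOver.Hom.ext (Category.assoc _ _ _)

lemma PresOver.comp_f {σ τ ρ : PresOver O B F} (f : σ ⟶ τ) (g : τ ⟶ ρ) : (f ≫ g).f = f.f ≫ g.f :=
  rfl

lemma PresOver.isTypeA (σ : PresOver O B F) : IsTypeA O B (cokernel σ.ψ) :=
  ⟨σ.m, σ.n, σ.V, σ.U, σ.ψ, σ.hV, σ.hU, ⟨Iso.refl _⟩⟩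

lemma exists_presOver {A : ModSite.Mod O} (hA : IsTypeA O B A) (a : A ⟶ F) :
    ∃ (σ : PresOver O B F) (e : A ≅ cokernel σ.ψ), e.hom ≫ σ.a = a := by
  obtain ⟨m, n, V, U, ψ, hV, hU, ⟨e⟩⟩ := hA
  exact ⟨⟨m, n, V, U, ψ, hV, hU, e.inv ≫ a⟩, e, by simp⟩

variable (O B F) in
/-- the diagram of type A modules over `F` -/
noncomputable def presOverFunctor : PresOver O B F ⥤ ModSite.Mod O where
  obj σ := cokernel σ.ψ
  map f := f.f

variable (O B F) in
/-- the tautological cocone -/
noncomputable def presOverι : presOverFunctor O B F ⟶ (Functor.const (PresOver O B F)).obj F where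
  app σ := σ.a
  naturality σ τ f := by
    change f.f ≫ τ.a = σ.a ≫ 𝟙 F
    rw [f.w, Category.comp_id]

section Filtered

variable
  (hB₁ : ∀ X : C, ∃ (κ : Type u) (Y : κ → C) (g : ∀ k, Y k ⟶ X),
    Sieve.ofArrows Y g ∈ J X ∧ ∀ k, Y k ∈ B)
  (hB₂ : ∀ U ∈ B, CohCx.IsQcObject ((presheafToSheaf J (Type u)).obj (yoneda.obj U)))

include hB₁ hB₂ in
theorem isFiltered_presOver : IsFiltered (PresOver O B F) where
  nonempty := ⟨⟨0, 0, Fin.elim0, Fin.elim0, 0, fun j => j.elim0, fun i => i.elim0, 0⟩⟩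
  cocone_objs σ τ := by
    obtain ⟨ρ, e, he⟩ := exists_presOver (σ.isTypeA.biprod τ.isTypeA) (biprod.desc σ.a τ.a)
    refine ⟨ρ, ⟨biprod.inl ≫ e.hom, ?_⟩, ⟨biprod.inr ≫ e.hom, ?_⟩, trivial⟩
    · rw [Category.assoc, he, biprod.inl_desc]
    · rw [Category.assoc, he, biprod.inr_desc]
  cocone_maps σ τ f g := by
    have h0 : (f.f - g.f) ≫ τ.a = 0 := by rw [Preadditive.sub_comp, f.w, g.w, sub_self]
    obtain ⟨ρ, e, he⟩ := exists_presOver
      (isTypeA_cokernel O B hB₁ hB₂ (f.f - g.f) σ.isTypeA τ.isTypeA)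
      (cokernel.desc (f.f - g.f) τ.a h0)
    refine ⟨ρ, ⟨cokernel.π _ ≫ e.hom, ?_⟩, ?_⟩
    · rw [Category.assoc, he, cokernel.π_desc]
    · apply PresOver.Hom.ext
      rw [PresOver.comp_f, PresOver.comp_f]
      change f.f ≫ cokernel.π (f.f - g.f) ≫ e.hom = g.f ≫ cokernel.π (f.f - g.f) ≫ e.hom
      rw [← sub_eq_zero, ← Preadditive.sub_comp, ← Category.assoc, cokernel.condition, zero_comp]

include hB₁ hB₂ in
/-- every module is a filtered colimit of modules of type A -/
theorem exists_filtered_colimit_typeA (F : ModSite.Mod O) :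
    ∃ (Λ : Type u) (_ : SmallCategory Λ) (_ : IsFiltered Λ) (D : Λ ⥤ ModSite.Mod O)
      (ι : D ⟶ (Functor.const Λ).obj F),
      (∀ l, IsTypeA O B (D.obj l)) ∧ Nonempty (IsColimit (Cocone.mk F ι)) := by
  have hfil : IsFiltered (PresOver O B F) := isFiltered_presOver hB₁ hB₂
  refine ⟨PresOver O B F, inferInstance, hfil, presOverFunctor O B F, presOverι O B F,
    fun σ => σ.isTypeA, ?_⟩
  have : HasExactColimitsOfShape (PresOver O B F) (ModSite.Mod O) :=
    Groth.Agent.Helper17.MP.hasExactColimitsOfShape_filtered (ModSite.ringSh O) _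
  refine nonempty_isColimit_of_filtered (presOverFunctor O B F) (Cocone.mk F (presOverι O B F))
    (ObjectProperty.ofObj fun X : B => ModSite.freeOn O (X : C)) (main6152 O B hB₁).2 ?_ ?_
  · intro T z hz
    apply (main6152 O B hB₁).2
    rintro G ⟨⟨U, hU⟩⟩ h
    rw [comp_zero]
    obtain ⟨σ, e, he⟩ := exists_presOver (finFree_freeOn (O := O) hU).isTypeA h
    have := hz σ
    change σ.a ≫ z = 0 at this
    rw [← he, Category.assoc, this, comp_zero]
  · rintro σ G ⟨⟨U, hU⟩⟩ x hx
    change x ≫ σ.a = 0 at hx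
    obtain ⟨ρ, e, he⟩ := exists_presOver
      (isTypeA_cokernel O B hB₁ hB₂ x (finFree_freeOn (O := O) hU).isTypeA σ.isTypeA)
      (cokernel.desc x σ.a hx)
    refine ⟨ρ, ⟨cokernel.π x ≫ e.hom, ?_⟩, ?_⟩
    · rw [Category.assoc, he]
      exact cokernel.π_desc _ _ _
    · change x ≫ cokernel.π x ≫ e.hom = 0
      rw [← Category.assoc, cokernel.condition, zero_comp]

end Filtered

end Groth.Agent.Helper24.TypeA
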