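import Groth.Agent.Lib.Helper24.HDLocal
import Groth.Agent.Lib.Helper24.FrPull
import Groth.Agent.Lib.Helper24.RlimTruncMod
import Groth.Agent.Lib.Helper24.WayOut1
import Groth.Agent.Lib.Helper24.ModGroth

/-!
# The derived unit `F'[0] → Rf_* f^* F'[0]` for a flat morphism of ringed sites

If the module unit `F' → f_* f^* F'` is invertible and `H^k(u W, f^* F') = 0` for `k > 0` and `W` in a
covering class of objects of the target site, the derived unit at `F'[0]` is invertible.
-/

set_option autoImplicit false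
set_option linter.style.haveILetI false
universe u
open CategoryTheory CategoryTheory.Limits Opposite
attribute [local instance] HasDerivedCategory.standard

namespace Groth.Agent.Helper24.UnitInD

open Groth.Agent.Helper24.FrMod Groth.Agent.Helper24.HDMod Groth.Agent.Helper24.FrPull
  Groth.Agent.Helper24.HDLocal Groth.Agent.Helper24.RlimTrunc Groth.Agent.Helper24.ModGroth
  DerivedCategory

variable {C : Type u} [SmallCategory C] {J : GrothendieckTopology C} {O_C : Sheaf J CommRingCat.{u}}
  {D : Type u} [SmallCategory D] {K : GrothendieckTopology D} {O_D : Sheaf K CommRingCat.{u}}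
  (f : ModSite.RMor O_C O_D)

/-- `f^*` is bijective on morphisms into a module at which the unit is invertible -/
lemma bijective_pull_map (a F' : ModSite.Mod O_D) [IsIso (f.adj.unit.app F')] :
    Function.Bijective (fun ψ : a ⟶ F' => f.pull.map ψ) := by
  have h1 : ∀ ψ : a ⟶ F', f.adj.homEquiv _ _ (f.pull.map ψ) = ψ ≫ f.adj.unit.app F' := by
    intro ψ
    rw [Adjunction.homEquiv_unit]
    exact (f.adj.unit.naturality ψ).symm
  constructor
  · intro ψ₁ ψ₂ h12
    have := congrArg (f.adj.homEquiv _ _) h12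
    simp only [h1] at this
    exact (cancel_mono _).1 this
  · intro θ
    refine ⟨f.adj.homEquiv _ _ θ ≫ inv (f.adj.unit.app F'), ?_⟩
    apply (f.adj.homEquiv _ _).injective
    change f.adj.homEquiv _ _ (f.pull.map _) = _
    rw [h1, Category.assoc, IsIso.inv_hom_id, Category.comp_id]

variable [PreservesFiniteLimits f.pull]

/-- the derived inverse image is bijective on morphisms between modules placed in degree `0`
when the module unit at the target is invertible -/
lemma bijective_pullD_map (a F' : ModSite.Mod O_D) [IsIso (f.adj.unit.app F')] :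
    Function.Bijective (fun φ : (singleFunctor _ 0).obj a ⟶ (singleFunctor _ 0).obj F' =>
      (SiteCmp.pullD f).map φ) := by
  let e := f.pull.mapDerivedCategorySingleFunctor 0
  have hnat : ∀ ψ : a ⟶ F', (SiteCmp.pullD f).map ((singleFunctor _ 0).map ψ) =
      e.hom.app a ≫ (singleFunctor _ 0).map (f.pull.map ψ) ≫ e.inv.app F' := by
    intro ψ
    have := e.hom.naturality ψ
    simp only [Functor.comp_map] at this
    rw [← Category.assoc, ← this, Category.assoc, Iso.hom_inv_id_app, Category.comp_id]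
  constructor
  · intro φ₁ φ₂ h12
    obtain ⟨ψ₁, rfl⟩ := (singleFunctor (ModSite.Mod O_D) 0).map_surjective φ₁
    obtain ⟨ψ₂, rfl⟩ := (singleFunctor (ModSite.Mod O_D) 0).map_surjective φ₂
    change (SiteCmp.pullD f).map _ = (SiteCmp.pullD f).map _ at h12
    rw [hnat, hnat, cancel_epi, cancel_mono] at h12
    have h3 := (singleFunctor (ModSite.Mod O_C) 0).map_injective h12
    rw [(bijective_pull_map f a F').1 h3]
  · intro θ
    obtain ⟨ρ, hρ⟩ := (singleFunctor (ModSite.Mod O_C) 0).map_surjective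
      (e.inv.app a ≫ θ ≫ e.hom.app F')
    obtain ⟨ψ, hψ⟩ := (bijective_pull_map f a F').2 ρ
    refine ⟨(singleFunctor _ 0).map ψ, ?_⟩
    change (SiteCmp.pullD f).map _ = _
    rw [hnat]
    have hψ' : f.pull.map ψ = ρ := hψ
    rw [hψ', hρ]
    simp

variable [SiteCmp.HasRpushD f] (adj : SiteCmp.pullD f ⊣ SiteCmp.RpushD f)

/-- composition with the derived unit is bijective on morphisms out of a module in degree `0` -/
lemma bijective_comp_unit (a F' : ModSite.Mod O_D) [IsIso (f.adj.unit.app F')] :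
    Function.Bijective (fun φ : (singleFunctor _ 0).obj a ⟶ SiteCmp.inD O_D F' =>
      φ ≫ adj.unit.app (SiteCmp.inD O_D F')) := by
  have h1 : ∀ φ : (singleFunctor _ 0).obj a ⟶ SiteCmp.inD O_D F',
      φ ≫ adj.unit.app (SiteCmp.inD O_D F') = adj.homEquiv _ _ ((SiteCmp.pullD f).map φ) := by
    intro φ
    rw [Adjunction.homEquiv_unit]
    exact adj.unit.naturality φ
  have h2 := bijective_pullD_map f a F'
  constructor
  · intro φ₁ φ₂ h12
    simp only [h1] at h12
    exact h2.1 ((adj.homEquiv _ _).injective h12)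
  · intro θ
    obtain ⟨φ, hφ⟩ := h2.2 ((adj.homEquiv _ _).symm θ)
    refine ⟨φ, ?_⟩
    change φ ≫ adj.unit.app (SiteCmp.inD O_D F') = θ
    have hφ' : (SiteCmp.pullD f).map φ = (adj.homEquiv _ _).symm θ := hφ
    rw [h1, hφ', Equiv.apply_symm_apply]

/-- morphisms from a module in degree `0` to a negative shift of a module in degree `0` vanish -/
lemma subsingleton_hom_negShift {𝒜 : Type*} [Category 𝒜] [Abelian 𝒜] [HasDerivedCategory 𝒜]
    (Z M : 𝒜) (q : ℤ) (hq : q < 0) :
    Subsingleton ((singleFunctor 𝒜 0).obj Z ⟶ ((singleFunctor 𝒜 0).obj M)⟦q⟧) := by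
  refine ⟨fun a b => ?_⟩
  haveI : (((singleFunctor 𝒜 0).obj M)⟦q⟧).IsGE (-q) :=
    DerivedCategory.TStructure.t.isGE_shift _ 0 q (-q) (by omega)
  have ha := DerivedCategory.TStructure.t.zero_of_isLE_of_isGE a 0 (-q) (by omega) inferInstance
    inferInstance
  have hb := DerivedCategory.TStructure.t.zero_of_isLE_of_isGE b 0 (-q) (by omega) inferInstance
    inferInstance
  rw [ha, hb]

include adj in
/-- vanishing of the hypercohomology of `Rf_* f^* F'[0]` in nonzero degrees over suitable objects -/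
lemma subsingleton_HDUM (F' : ModSite.Mod O_D) (W : D) (q : ℤ) (hq : q ≠ 0)
    (hv : ∀ k : ℕ, 0 < k → Subsingleton (ModSite.HU O_C (f.pull.obj F') k (f.fn.obj W))) :
    Subsingleton (HDUM O_D
      ((SiteCmp.RpushD f).obj ((SiteCmp.pullD f).obj (SiteCmp.inD O_D F'))) q W) := by
  letI : (SiteCmp.RpushD f).CommShift ℤ := adj.rightAdjointCommShift ℤ
  -- the target of the reduction
  have h0 : Subsingleton ((singleFunctor _ 0).obj (ZM O_C (f.fn.obj W)) ⟶
      ((singleFunctor _ 0).obj (f.pull.obj F'))⟦q⟧) := by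
    by_cases hpos : 0 < q
    · obtain ⟨k, rfl⟩ : ∃ k : ℕ, q = (k : ℤ) := ⟨q.toNat, (Int.toNat_of_nonneg hpos.le).symm⟩
      have hk : 0 < k := by exact_mod_cast hpos
      exact subsingleton_hom_shift (Iso.refl _) (ZM O_C (f.fn.obj W)) k (k : ℤ) (by simp)
        (subsingleton_ext_ZM O_C _ _ k (hv k hk))
    · exact subsingleton_hom_negShift _ _ q (by omega)
  let e1 : (SiteCmp.pullD f).obj ((singleFunctor _ 0).obj (ZM O_D W)) ≅
      (singleFunctor _ 0).obj (ZM O_C (f.fn.obj W)) :=
    (f.pull.mapDerivedCategorySingleFunctor 0).app _ ≪≫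
      (singleFunctor _ 0).mapIso (pullZMIso f W).symm
  let e2 : ((SiteCmp.pullD f).obj (SiteCmp.inD O_D F'))⟦q⟧ ≅
      ((singleFunctor _ 0).obj (f.pull.obj F'))⟦q⟧ :=
    (shiftFunctor _ q).mapIso ((f.pull.mapDerivedCategorySingleFunctor 0).app _)
  have h1 : Subsingleton ((SiteCmp.pullD f).obj ((singleFunctor _ 0).obj (ZM O_D W)) ⟶
      ((SiteCmp.pullD f).obj (SiteCmp.inD O_D F'))⟦q⟧) :=
    (Iso.homCongr e1 e2).subsingleton
  have h2 : Subsingleton ((singleFunctor _ 0).obj (ZM O_D W) ⟶
      (SiteCmp.RpushD f).obj (((SiteCmp.pullD f).obj (SiteCmp.inD O_D F'))⟦q⟧)) :=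
    (adj.homEquiv _ _).symm.subsingleton
  let e3 : ((SiteCmp.RpushD f).obj ((SiteCmp.pullD f).obj (SiteCmp.inD O_D F')))⟦q⟧ ≅
      (SiteCmp.RpushD f).obj (((SiteCmp.pullD f).obj (SiteCmp.inD O_D F'))⟦q⟧) :=
    (((SiteCmp.RpushD f).commShiftIso q).app _).symm
  exact (Iso.homCongr (Iso.refl _) e3).subsingleton

lemma ZMmap_comp {𝒞 : Type u} [SmallCategory 𝒞] {J₀ : GrothendieckTopology 𝒞}
    (O : Sheaf J₀ CommRingCat.{u}) {U V W : 𝒞} (k : W ⟶ V) (g : V ⟶ U) :
    ZMmap O (k ≫ g) = ZMmap O k ≫ ZMmap O g := by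
  unfold ZMmap
  rw [← Functor.map_comp]
  congr 1
  unfold CohCx.freeSheafMap
  rw [← Functor.map_comp]
  congr 1
  rw [yoneda.map_comp, Functor.whiskerRight_comp]

include adj in
/-- the derived unit at a module in degree `0` is invertible -/
theorem isIso_unit_inD (F' : ModSite.Mod O_D) [IsIso (f.adj.unit.app F')] (B' : Set D)
    (hB' : ∀ U : D, ∃ (ι : Type u) (Y : ι → D) (g : ∀ i, Y i ⟶ U),
      Sieve.ofArrows Y g ∈ K U ∧ ∀ i, Y i ∈ B')
    (hv : ∀ W ∈ B', ∀ k : ℕ, 0 < k →
      Subsingleton (ModSite.HU O_C (f.pull.obj F') k (f.fn.obj W))) :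
    IsIso (adj.unit.app (SiteCmp.inD O_D F')) := by
  rw [DerivedCategory.isIso_iff]
  intro q
  apply isIso_homologyMap_of_local O_D
  · -- local surjectivity
    intro U ψ
    by_cases hq : q = 0
    · subst hq
      refine ⟨⊤, K.top_mem U, fun {V} g _ => ?_⟩
      obtain ⟨φ₀, hφ₀⟩ := (bijective_comp_unit f adj (ZM O_D V) F').2
        (HDUMres O_D _ 0 g ψ ≫ (shiftFunctorZero _ ℤ).hom.app _)
      refine ⟨φ₀ ≫ (shiftFunctorZero _ ℤ).inv.app _, ?_⟩
      have hφ₀' : φ₀ ≫ adj.unit.app (SiteCmp.inD O_D F') =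
        HDUMres O_D _ 0 g ψ ≫ (shiftFunctorZero _ ℤ).hom.app _ := hφ₀
      rw [Category.assoc]
      have hn := (shiftFunctorZero (DerivedCategory (ModSite.Mod O_D)) ℤ).inv.naturality
        (adj.unit.app (SiteCmp.inD O_D F'))
      simp only [Functor.id_map] at hn
      erw [← hn]
      rw [← Category.assoc, hφ₀', Category.assoc, Iso.hom_inv_id_app, Category.comp_id]
    · obtain ⟨ι, Yi, gi, hcov, hY⟩ := hB' U
      refine ⟨Sieve.ofArrows Yi gi, hcov, ?_⟩
      rintro V g' ⟨Z, k, g'', ⟨i⟩, rfl⟩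
      refine ⟨0, ?_⟩
      rw [zero_comp]
      have hsub := subsingleton_HDUM f adj F' (Yi i) q hq (hv _ (hY i))
      have h0 : HDUMres O_D _ q (gi i) ψ = 0 := @Subsingleton.elim _ hsub _ _
      unfold HDUMres at h0 ⊢
      rw [ZMmap_comp, Functor.map_comp, Category.assoc, h0, comp_zero]
  · -- local injectivity
    intro U φ hφ
    by_cases hq : q = 0
    · subst hq
      refine ⟨⊤, K.top_mem U, fun {V} g _ => ?_⟩
      have h1 : (φ ≫ (shiftFunctorZero _ ℤ).hom.app _) ≫ adj.unit.app (SiteCmp.inD O_D F') =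
          (0 : (singleFunctor _ 0).obj (ZM O_D U) ⟶ SiteCmp.inD O_D F') ≫
            adj.unit.app (SiteCmp.inD O_D F') := by
        rw [zero_comp, Category.assoc]
        have hn := (shiftFunctorZero (DerivedCategory (ModSite.Mod O_D)) ℤ).hom.naturality
          (adj.unit.app (SiteCmp.inD O_D F'))
        simp only [Functor.id_map] at hn
        erw [← hn]
        rw [← Category.assoc, hφ, zero_comp]
      have h2 := (bijective_comp_unit f adj (ZM O_D U) F').1 h1
      have h3 : φ = 0 := by
        rw [← cancel_mono ((shiftFunctorZero _ ℤ).hom.app _), h2, zero_comp]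
      unfold HDUMres
      rw [h3, comp_zero]
    · -- the cohomology sheaf of a module in degree `0` vanishes in degree `q ≠ 0`
      have hz : IsZero ((homologyFunctor (ModSite.Mod O_D) q).obj (SiteCmp.inD O_D F')) := by
        by_cases hpos : 0 < q
        · exact isZero_of_isLE (SiteCmp.inD O_D F') 0 q hpos
        · exact isZero_of_isGE (SiteCmp.inD O_D F') 0 q (by omega)
      have hc : cSecM O_D (SiteCmp.inD O_D F') q U φ = 0 := by
        have hz' : IsZero ((((toAbF O_D).obj ((homologyFunctor (ModSite.Mod O_D) q).obj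
            (SiteCmp.inD O_D F'))).obj.obj (op U))) := by
          have h1 : IsZero ((toAbF O_D).obj ((homologyFunctor (ModSite.Mod O_D) q).obj
            (SiteCmp.inD O_D F'))) := Functor.map_isZero _ hz
          have h2 := Functor.map_isZero (sheafToPresheaf K AddCommGrpCat.{u}) h1
          exact Functor.map_isZero ((evaluation _ _).obj (op U)) h2
        haveI := (AddCommGrpCat.isZero_iff_subsingleton).1 hz'  -- placeholder
        exact Subsingleton.elim _ _
      exact cSecM_locally_inj O_D _ q U φ hc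

end Groth.Agent.Helper24.UnitInD
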