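import Mathlib
import Groth.Prelude.Def_WeakSerre

/-!
# The essential image of a weak Serre subcategory under a fully faithful right adjoint

`F ⊣ G` with `F` exact and `G` fully faithful, `P` a weak Serre class in the source of `G` such that
`G` carries epimorphisms between members of `P` with kernel in `P` to epimorphisms.  Then the
essential image `P.map G` is a weak Serre class.
-/

set_option autoImplicit false
open CategoryTheory CategoryTheory.Limits ZeroObject
set_option linter.style.haveILetI false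
universe v₁ v₂ u₁ u₂

namespace Groth.Agent.Helper24.WSerreImage

variable {𝒜 : Type u₁} [Category.{v₁} 𝒜] [Abelian 𝒜] {ℬ : Type u₂} [Category.{v₂} ℬ] [Abelian ℬ]
  {F : ℬ ⥤ 𝒜} {G : 𝒜 ⥤ ℬ} (adj : F ⊣ G) [G.Full] [G.Faithful] [F.Additive] [G.Additive]
  [PreservesFiniteLimits F]
  (P : ObjectProperty 𝒜) [WSerre.IsWeakSerre P]
  (hE : ∀ {X Y : 𝒜} (p : X ⟶ Y), Epi p → P (kernel p) → P X → P Y → Epi (G.map p))

include adj in
lemma prop_F_obj {Y : ℬ} (hY : P.map G Y) : P (F.obj Y) := by
  obtain ⟨X, hX, ⟨e⟩⟩ := hY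
  exact P.prop_of_iso ((asIso (adj.counit.app X)).symm ≪≫ F.mapIso e) hX

include adj in
lemma isIso_unit_of_map {Y : ℬ} (hY : P.map G Y) : IsIso (adj.unit.app Y) := by
  obtain ⟨X, hX, ⟨e⟩⟩ := hY
  exact Adjunction.isIso_unit_app_of_iso adj e.symm

include adj in
lemma containsZero : (P.map G).ContainsZero where
  exists_zero := ⟨G.obj (0 : 𝒜), G.map_isZero (isZero_zero 𝒜), (0 : 𝒜), P.prop_zero, ⟨Iso.refl _⟩⟩

include adj in
lemma closedUnderKernels : (P.map G).IsClosedUnderKernels where
  kernels_le := by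
    rintro _ ⟨f, k, hk, ⟨hY₁, hY₂⟩⟩
    obtain ⟨X₁, hX₁, ⟨e₁⟩⟩ := hY₁
    obtain ⟨X₂, hX₂, ⟨e₂⟩⟩ := hY₂
    haveI : PreservesLimitsOfSize.{0, 0} G := adj.rightAdjoint_preservesLimits
    let g : X₁ ⟶ X₂ := G.preimage (e₁.hom ≫ f ≫ e₂.inv)
    have hg : G.map g = e₁.hom ≫ f ≫ e₂.inv := G.map_preimage _
    let i₁ : k.pt ≅ kernel f := IsLimit.conePointUniqueUpToIso hk (limit.isLimit _)
    let i₂ : kernel f ≅ kernel (G.map g) := kernel.mapIso f (G.map g) e₁.symm e₂.symm (by
      rw [hg]; simp)
    let i₃ : G.obj (kernel g) ≅ kernel (G.map g) := PreservesKernel.iso G g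
    exact ⟨kernel g, P.prop_kernel g hX₁ hX₂, ⟨i₃ ≪≫ i₂.symm ≪≫ i₁.symm⟩⟩

include adj hE in
lemma closedUnderCokernels : (P.map G).IsClosedUnderCokernels where
  cokernels_le := by
    rintro _ ⟨f, k, hk, ⟨hY₁, hY₂⟩⟩
    obtain ⟨X₁, hX₁, ⟨e₁⟩⟩ := hY₁
    obtain ⟨X₂, hX₂, ⟨e₂⟩⟩ := hY₂
    haveI : PreservesLimitsOfSize.{0, 0} G := adj.rightAdjoint_preservesLimits
    let g : X₁ ⟶ X₂ := G.preimage (e₁.hom ≫ f ≫ e₂.inv)
    have hg : G.map g = e₁.hom ≫ f ≫ e₂.inv := G.map_preimage _
    have hQ : P (cokernel g) := P.prop_cokernel g hX₁ hX₂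
    have hI : P (Abelian.image g) := P.prop_kernel (cokernel.π g) hX₂ hQ
    have hπ : Epi (G.map (cokernel.π g)) := hE (cokernel.π g) inferInstance hI hX₂ hQ
    have he : Epi (G.map (Abelian.factorThruImage g)) :=
      hE (Abelian.factorThruImage g) inferInstance
        (P.prop_kernel (Abelian.factorThruImage g) hX₁ hI) hX₁ hI
    -- `G` preserves the kernel of `cokernel.π g`
    let kf : KernelFork (cokernel.π g) := KernelFork.ofι (kernel.ι (cokernel.π g)) (kernel.condition _)
    have hkf : IsLimit kf := kernelIsKernel (cokernel.π g)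
    have hkG : IsLimit (kf.map G) := KernelFork.mapIsLimit kf hkf G
    have hc := Abelian.epiIsCokernelOfKernel (kf.map G) hkG
    have hfac : G.map g = G.map (Abelian.factorThruImage g) ≫ Fork.ι (kf.map G) := by
      change G.map g = G.map (Abelian.factorThruImage g) ≫ G.map (Abelian.image.ι g)
      rw [← G.map_comp, Abelian.image.fac]
    have hc' := isCokernelEpiComp (hg := he) hc (G.map (Abelian.factorThruImage g)) hfac
    let j₁ : k.pt ≅ cokernel f := IsColimit.coconePointUniqueUpToIso hk (colimit.isColimit _)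
    let j₂ : cokernel f ≅ cokernel (G.map g) := cokernel.mapIso f (G.map g) e₁.symm e₂.symm (by
      rw [hg]; simp)
    let j₃ : cokernel (G.map g) ≅ G.obj (cokernel g) :=
      IsColimit.coconePointUniqueUpToIso (cokernelIsCokernel (G.map g)) hc'
    exact ⟨cokernel g, hQ, ⟨(j₁ ≪≫ j₂ ≪≫ j₃).symm⟩⟩

include adj hE in
lemma closedUnderExtensions : (P.map G).IsClosedUnderExtensions where
  prop_X₂_of_shortExact {S} hS h₁ h₃ := by
    haveI : PreservesLimitsOfSize.{0, 0} G := adj.rightAdjoint_preservesLimits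
    haveI : PreservesColimitsOfSize.{0, 0} F := adj.leftAdjoint_preservesColimits
    have hFS : (S.map F).ShortExact := hS.map_of_exact F
    have hP₁ : P (S.map F).X₁ := prop_F_obj adj P h₁
    have hP₃ : P (S.map F).X₃ := prop_F_obj adj P h₃
    have hP₂ : P (S.map F).X₂ := P.prop_X₂_of_shortExact hFS hP₁ hP₃
    haveI := hFS.epi_g
    haveI := hFS.mono_f
    have hK : P (kernel (S.map F).g) :=
      P.prop_of_iso (IsLimit.conePointUniqueUpToIso hFS.fIsKernel (limit.isLimit _)) hP₁
    have hepi : Epi (G.map (S.map F).g) := hE (S.map F).g inferInstance hK hP₂ hP₃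
    have hGFS : ((S.map F).map G).ShortExact := by
      have hex : ((S.map F).map G).Exact := hFS.exact.map_of_mono_of_preservesKernel G
        hFS.mono_f inferInstance
      exact { exact := hex
              mono_f := by
                change Mono (G.map (F.map S.f))
                haveI : Mono (F.map S.f) := hFS.mono_f
                infer_instance
              epi_g := hepi }
    let φ : S ⟶ (S.map F).map G :=
      { τ₁ := adj.unit.app S.X₁
        τ₂ := adj.unit.app S.X₂
        τ₃ := adj.unit.app S.X₃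
        comm₁₂ := (adj.unit.naturality S.f).symm
        comm₂₃ := (adj.unit.naturality S.g).symm }
    haveI : IsIso φ.τ₁ := isIso_unit_of_map adj P h₁
    haveI : IsIso φ.τ₃ := isIso_unit_of_map adj P h₃
    have h2 : IsIso φ.τ₂ := ShortComplex.isIso₂_of_shortExact_of_isIso₁₃ φ hS hGFS
    exact ⟨F.obj S.X₂, hP₂, ⟨(asIso φ.τ₂).symm⟩⟩

include adj hE in
theorem isWeakSerre_map : WSerre.IsWeakSerre (P.map G) :=
  { containsZero adj P, closedUnderKernels adj P, closedUnderCokernels adj P hE,
    closedUnderExtensions adj P hE with }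

end Groth.Agent.Helper24.WSerreImage
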