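import Groth.Prelude.Def_W4c3truncdispsmoothDesc
import Mathlib

set_option autoImplicit false
universe u t v' u' v₁ u₁
open CategoryTheory Opposite W4c3truncdispsmooth TensorProduct ModuleCat
open ChangeOfRings

namespace Groth.Agent.Helper24.WittDescent

section PT
variable {R S T : Type u} [CommRing R] [CommRing S] [CommRing T]

/-- `B` as `A`-module through `f` -/
noncomputable abbrev Bf (f : R →+* S) : ModuleCat.{u} R := (restrictScalars f).obj (ModuleCat.of S S)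

/-- pure tensor in `extendScalars f` -/
noncomputable def pt (f : R →+* S) (M : ModuleCat.{u} R) (s : S) (m : M) : (extendScalars f).obj M :=
  s ⊗ₜ[R,f] m

lemma pt_eq (f : R →+* S) (M : ModuleCat.{u} R) (s : S) (m : M) :
    pt f M s m = (show Bf f from s) ⊗ₜ[R] m := rfl

lemma map_pt (f : R →+* S) {M N : ModuleCat.{u} R} (φ : M ⟶ N) (s : S) (m : M) :
    ((extendScalars f).map φ).hom (pt f M s m) = pt f N s (φ.hom m) := rfl

lemma smul_pt (f : R →+* S) (M : ModuleCat.{u} R) (s' s : S) (m : M) :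
    s' • pt f M s m = pt f M (s' * s) m := rfl

lemma pt_add (f : R →+* S) (M : ModuleCat.{u} R) (s : S) (m m' : M) :
    pt f M s (m + m') = pt f M s m + pt f M s m' := TensorProduct.tmul_add _ _ _

lemma pt_smul (f : R →+* S) (M : ModuleCat.{u} R) (s : S) (r : R) (m : M) :
    pt f M s (r • m) = pt f M (s * f r) m := by
  change (show Bf f from s) ⊗ₜ[R] (r • m) = (show Bf f from (s * f r)) ⊗ₜ[R] m
  rw [← TensorProduct.smul_tmul]
  congr 1
  change f r * s = s * f r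
  exact mul_comm _ _

lemma pt_induction (f : R →+* S) (M : ModuleCat.{u} R) {P : (extendScalars f).obj M → Prop}
    (h0 : P 0) (h1 : ∀ s m, P (pt f M s m)) (h2 : ∀ x y, P x → P y → P (x + y)) : ∀ x, P x := by
  intro x
  induction x using TensorProduct.induction_on with
  | zero => exact h0
  | tmul s m => exact h1 s m
  | add x y hx hy => exact h2 x y hx hy

lemma comp_pt (f : R →+* S) (g : S →+* T) (M : ModuleCat.{u} R) (m : M) :
    ((extendScalarsComp f g).hom.app M).hom (pt (g.comp f) M 1 m) = pt g _ 1 (pt f M 1 m) :=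
  extendScalarsComp_hom_app_one_tmul f g M m

lemma eqToHom_pt (f f' : R →+* S) (e : f = f') (M : ModuleCat.{u} R) (s : S) (m : M) :
    (eqToHom (by rw [e]) : (extendScalars f).obj M ⟶ (extendScalars f').obj M).hom (pt f M s m) =
      pt f' M s m := by
  subst e; rfl

end PT

section G
variable {A B C : Type u} [CommRing A] [CommRing B] [CommRing C]

noncomputable def iota (f : A →+* B) : A →ₗ[A] Bf f where
  toFun a := (f a : B)
  map_add' a b := f.map_add a b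
  map_smul' a b := by
    change f (a * b) = f a * f b
    exact f.map_mul a b

lemma iota_one (f : A →+* B) : iota f 1 = (show Bf f from (1 : B)) := f.map_one

noncomputable def psiL (f : A →+* B) (q : A →+* C) (ψ : B →+* C) (h : ψ.comp f = q) : Bf f →ₗ[A] Bf q where
  toFun b := (ψ (show B from b) : C)
  map_add' a b := ψ.map_add a b
  map_smul' a b := by
    change ψ (f a * (show B from b)) = q a * ψ (show B from b)
    rw [map_mul, ← h]
    rfl

noncomputable def rT (f : A →+* B) (q : A →+* C) (ψ : B →+* C) (h : ψ.comp f = q) (N : ModuleCat.{u} A) :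
    (extendScalars f).obj N →+ (extendScalars q).obj N :=
  ((psiL f q ψ h).rTensor N).toAddMonoidHom

lemma rT_pt (f : A →+* B) (q : A →+* C) (ψ : B →+* C) (h : ψ.comp f = q) (N : ModuleCat.{u} A)
    (b : B) (n : N) :
    rT f q ψ h N (pt f N b n) = pt q N (ψ b) n := rfl

lemma rT_unique (f : A →+* B) (q : A →+* C) (ψ : B →+* C) (h : ψ.comp f = q) (N : ModuleCat.{u} A)
    (Λ : (extendScalars f).obj N →+ (extendScalars q).obj N)
    (hΛ : ∀ b n, Λ (pt f N b n) = pt q N (ψ b) n) : Λ = rT f q ψ h N := by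
  ext y
  induction y using pt_induction with
  | h0 => rw [map_zero, map_zero]
  | h1 s m => rw [hΛ, rT_pt]
  | h2 x y hx hy => rw [map_add, map_add, hx, hy]

lemma G1 (f : A →+* B) (hinj : Function.Injective f) (N : ModuleCat.{u} A) [Module.Flat A N] :
    Function.Injective (fun n : N => pt f N 1 n) := by
  have hfun : (fun n : N => pt f N 1 n) =
      fun n => ((iota f).rTensor N) ((TensorProduct.lid A N).symm n) := by
    funext n
    simp only [TensorProduct.lid_symm_apply, LinearMap.rTensor_tmul]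
    rw [iota_one]
    rfl
  rw [hfun]
  exact (Module.Flat.rTensor_preserves_injective_linearMap (M := N) (iota f) hinj).comp
    (TensorProduct.lid A N).symm.injective

lemma G2' (f : A →+* B) (q : A →+* C) (ψ₁ ψ₂ : B →+* C) (h₁ : ψ₁.comp f = q) (h₂ : ψ₂.comp f = q)
    (hex : ∀ b, ψ₁ b = ψ₂ b → b ∈ Set.range f)
    (N : ModuleCat.{u} A) [Module.Flat A N]
    (y : Bf f ⊗[A] N) (hy : ((psiL f q ψ₁ h₁).rTensor N) y = ((psiL f q ψ₂ h₂).rTensor N) y) :
    ∃ n : N, y = pt f N 1 n := by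
  have hexact : Function.Exact (iota f) (psiL f q ψ₁ h₁ - psiL f q ψ₂ h₂) := by
    intro b
    constructor
    · intro hb
      rw [LinearMap.sub_apply, sub_eq_zero] at hb
      obtain ⟨a, ha⟩ := hex b hb
      exact ⟨a, ha⟩
    · rintro ⟨a, rfl⟩
      rw [LinearMap.sub_apply, sub_eq_zero]
      change ψ₁ (f a) = ψ₂ (f a)
      rw [← RingHom.comp_apply, ← RingHom.comp_apply, h₁, h₂]
  have hexact' := Module.Flat.rTensor_exact N hexact
  have h0 : ((psiL f q ψ₁ h₁ - psiL f q ψ₂ h₂).rTensor N) y = 0 := by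
    rw [LinearMap.rTensor_sub, LinearMap.sub_apply, hy, sub_self]
  obtain ⟨z, rfl⟩ := (hexact' y).1 h0
  refine ⟨TensorProduct.lid A N z, ?_⟩
  obtain ⟨n, rfl⟩ := (TensorProduct.lid A N).symm.surjective z
  simp only [TensorProduct.lid_symm_apply, LinearMap.rTensor_tmul, TensorProduct.lid_tmul, one_smul]
  rw [iota_one]
  rfl

lemma G2 (f : A →+* B) (q : A →+* C) (ψ₁ ψ₂ : B →+* C) (h₁ : ψ₁.comp f = q) (h₂ : ψ₂.comp f = q)
    (hex : ∀ b, ψ₁ b = ψ₂ b → b ∈ Set.range f)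
    (N : ModuleCat.{u} A) [Module.Flat A N]
    (Λ₁ Λ₂ : (extendScalars f).obj N →+ (extendScalars q).obj N)
    (hΛ₁ : ∀ b n, Λ₁ (pt f N b n) = pt q N (ψ₁ b) n)
    (hΛ₂ : ∀ b n, Λ₂ (pt f N b n) = pt q N (ψ₂ b) n)
    (y : (extendScalars f).obj N) (hy : Λ₁ y = Λ₂ y) : ∃ n : N, y = pt f N 1 n := by
  rw [rT_unique f q ψ₁ h₁ N Λ₁ hΛ₁, rT_unique f q ψ₂ h₂ N Λ₂ hΛ₂] at hy
  exact G2' f q ψ₁ ψ₂ h₁ h₂ hex N y hy

end G

section K
variable (p : ℕ) [Fact p.Prime] (n : ℕ)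

/-- the strict part -/
noncomputable abbrev TT : Pseudofunctor (LocallyDiscrete (CommRingCat.{u}ᵒᵖ)ᵒᵖ)
    (LocallyDiscrete CommRingCat.{u}) :=
  ((unopUnop CommRingCat.{u}) ⋙ wittTrunc p n).toPseudofunctor

lemma wittModPF_mapComp {a b c : LocallyDiscrete (CommRingCat.{u}ᵒᵖ)ᵒᵖ} (f : a ⟶ b) (g : b ⟶ c) :
    (wittModPF.{u} p n).mapComp f g =
      CommRingCat.moduleCatExtendScalarsPseudofunctor.map₂Iso ((TT p n).mapComp f g) ≪≫
        CommRingCat.moduleCatExtendScalarsPseudofunctor.mapComp ((TT p n).map f) ((TT p n).map g) :=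
  rfl

set_option backward.isDefEq.respectTransparency false in
lemma map2iso_pt {a b : LocallyDiscrete CommRingCat.{u}} (f f' : a ⟶ b) (η : f ≅ f')
    (M : ModuleCat.{u} a.as) (s : b.as) (m : M) :
    ((CommRingCat.moduleCatExtendScalarsPseudofunctor.map₂Iso η).hom.toNatTrans.app M).hom
      (pt f.as.hom M s m) = pt f'.as.hom M s m := by
  obtain rfl : f = f' := LocallyDiscrete.eq_of_hom η.hom
  have : η = Iso.refl f := Subsingleton.elim _ _
  subst this
  simp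
  rfl

set_option backward.isDefEq.respectTransparency false in
lemma kappa' (A B C : CommRingCat.{u}) (g : A ⟶ B) (h : B ⟶ C)
    (M : ModuleCat.{u} (TruncatedWittVector p n A)) (m : M) :
    ((CommRingCat.moduleCatExtendScalarsPseudofunctor.map₂Iso
        ((TT p n).mapComp g.op.op.toLoc h.op.op.toLoc) ≪≫
        CommRingCat.moduleCatExtendScalarsPseudofunctor.mapComp ((TT p n).map g.op.op.toLoc)
          ((TT p n).map h.op.op.toLoc)).hom.toNatTrans.app M).hom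
      (pt (WittGrp.truncMap p n (g ≫ h).hom) M 1 m) =
      pt (WittGrp.truncMap p n h.hom) _ 1 (pt (WittGrp.truncMap p n g.hom) M 1 m) := by
  rw [Iso.trans_hom, Cat.Hom₂.comp_app, ModuleCat.hom_comp, LinearMap.comp_apply]
  have h1 := map2iso_pt _ _ ((TT p n).mapComp g.op.op.toLoc h.op.op.toLoc) M 1 m
  erw [h1]
  exact comp_pt _ _ M m

set_option backward.isDefEq.respectTransparency false in
lemma kappa (A B C : CommRingCat.{u}) (g : A ⟶ B) (h : B ⟶ C)
    (M : ModuleCat.{u} (TruncatedWittVector p n A)) (m : M) :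
    (((wittModPF.{u} p n).mapComp g.op.op.toLoc h.op.op.toLoc).hom.toNatTrans.app M).hom
      (pt (WittGrp.truncMap p n (g ≫ h).hom) M 1 m) =
      pt (WittGrp.truncMap p n h.hom) _ 1 (pt (WittGrp.truncMap p n g.hom) M 1 m) := by
  rw [wittModPF_mapComp]
  exact kappa' p n A B C g h M m

set_option backward.isDefEq.respectTransparency false in
lemma F_map2iso_pt {a b : LocallyDiscrete (CommRingCat.{u}ᵒᵖ)ᵒᵖ} (f f' : a ⟶ b) (η : f ≅ f')
    (M : ModuleCat.{u} (TruncatedWittVector p n a.as.unop.unop))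
    (s : TruncatedWittVector p n b.as.unop.unop) (m : M) :
    (((wittModPF.{u} p n).map₂Iso η).hom.toNatTrans.app M).hom
      (pt (WittGrp.truncMap p n f.as.unop.unop.hom) M s m) =
      pt (WittGrp.truncMap p n f'.as.unop.unop.hom) M s m := by
  obtain rfl : f = f' := LocallyDiscrete.eq_of_hom η.hom
  have : η = Iso.refl f := Subsingleton.elim _ _
  subst this
  simp
  rfl

set_option backward.isDefEq.respectTransparency false in
lemma kappa_gen (A B C : CommRingCat.{u}) (g : A ⟶ B) (h : B ⟶ C) (gh : A ⟶ C) (e : g ≫ h = gh)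
    (M : ModuleCat.{u} (TruncatedWittVector p n A)) (m : M) :
    (((wittModPF.{u} p n).mapComp' g.op.op.toLoc h.op.op.toLoc gh.op.op.toLoc
        (by rw [← e]; rfl)).hom.toNatTrans.app M).hom
      (pt (WittGrp.truncMap p n gh.hom) M 1 m) =
      pt (WittGrp.truncMap p n h.hom) _ 1 (pt (WittGrp.truncMap p n g.hom) M 1 m) := by
  subst e
  unfold Pseudofunctor.mapComp'
  rw [Iso.trans_hom, Cat.Hom₂.comp_app, ModuleCat.hom_comp, LinearMap.comp_apply]
  have h1 := F_map2iso_pt p n ((g ≫ h).op.op.toLoc) (g.op.op.toLoc ≫ h.op.op.toLoc)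
    (eqToIso rfl) M 1 m
  have h2 := kappa p n A B C g h M m
  refine Eq.trans (congrArg _ h1) h2

end K

section W
variable (p : ℕ) [Fact p.Prime] (n : ℕ)
  (R R' : Type u) [CommRing R] [CommRing R'] [Algebra R R'] [Module.FaithfullyFlat R R']

lemma W_inj : Function.Injective (WittGrp.truncMap p n (algebraMap R R')) := by
  intro a b hab
  apply TruncatedWittVector.ext
  intro i
  have := congrArg (fun z => z.coeff i) hab
  simp only [WittGrp.coeff_truncMap] at this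
  exact FaithfulSMul.algebraMap_injective R R' this

lemma W_ex (y : TruncatedWittVector p n R')
    (hy : WittGrp.truncMap p n
        (Algebra.TensorProduct.includeLeftRingHom : R' →+* TensorProduct R R' R') y =
      WittGrp.truncMap p n
        ((Algebra.TensorProduct.includeRight : R' →ₐ[R] TensorProduct R R' R') :
          R' →+* TensorProduct R R' R') y) :
    y ∈ Set.range (WittGrp.truncMap p n (algebraMap R R')) := by
  have heff := Algebra.IsEffective.of_faithfullyFlat R R'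
  have hcoef : ∀ i : Fin n, ∃ r : R, algebraMap R R' r = y.coeff i := by
    intro i
    have := congrArg (fun z => z.coeff i) hy
    simp only [WittGrp.coeff_truncMap] at this
    have h3 : Algebra.TensorProduct.includeLeftSubRight R R' (y.coeff i) = 0 := by
      rw [Algebra.TensorProduct.includeLeftSubRight_apply, sub_eq_zero]
      exact this
    obtain ⟨r, hr⟩ := (heff (y.coeff i)).1 h3
    exact ⟨r, hr⟩
  choose r hr using hcoef
  refine ⟨TruncatedWittVector.mk p r, ?_⟩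
  apply TruncatedWittVector.ext
  intro i
  rw [WittGrp.coeff_truncMap, TruncatedWittVector.coeff_mk, hr]

lemma W_comp₁ : (WittGrp.truncMap p n
        (Algebra.TensorProduct.includeLeftRingHom : R' →+* TensorProduct R R' R')).comp
      (WittGrp.truncMap p n (algebraMap R R')) =
    WittGrp.truncMap p n (algebraMap R (TensorProduct R R' R')) := by
  rw [← WittGrp.truncMap_comp]
  congr 1

lemma W_comp₂ : (WittGrp.truncMap p n
        ((Algebra.TensorProduct.includeRight : R' →ₐ[R] TensorProduct R R' R') :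
          R' →+* TensorProduct R R' R')).comp
      (WittGrp.truncMap p n (algebraMap R R')) =
    WittGrp.truncMap p n (algebraMap R (TensorProduct R R' R')) := by
  rw [← WittGrp.truncMap_comp]
  congr 1
  exact (Algebra.TensorProduct.includeRight : R' →ₐ[R] TensorProduct R R' R').comp_algebraMap

end W

section Core
variable {A B C : Type u} [CommRing A] [CommRing B] [CommRing C]

lemma pt_one_smul (f : A →+* B) (M : ModuleCat.{u} A) (b : B) (m : M) :
    pt f M b m = b • pt f M 1 m := by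
  rw [smul_pt, mul_one]

lemma pt_pt (f : A →+* B) (ψ : B →+* C) (M : ModuleCat.{u} A) (b : B) (m : M) :
    pt ψ ((extendScalars f).obj M) 1 (pt f M b m) = pt ψ ((extendScalars f).obj M) (ψ b) (pt f M 1 m) := by
  rw [pt_one_smul f M b m, pt_smul, one_mul]

lemma core (f : A →+* B) (q : A →+* C) (ψ₁ ψ₂ : B →+* C) (h₁ : ψ₁.comp f = q) (h₂ : ψ₂.comp f = q)
    (hinj : Function.Injective f) (hex : ∀ b, ψ₁ b = ψ₂ b → b ∈ Set.range f)
    (M N : ModuleCat.{u} A) [Module.Flat A N]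
    (hΨ : (extendScalars f).obj M ⟶ (extendScalars f).obj N)
    (c1M : (extendScalars q).obj M ⟶ (extendScalars ψ₁).obj ((extendScalars f).obj M))
    (c1M' : (extendScalars ψ₁).obj ((extendScalars f).obj M) ⟶ (extendScalars q).obj M)
    (c2M : (extendScalars q).obj M ⟶ (extendScalars ψ₂).obj ((extendScalars f).obj M))
    (c1N : (extendScalars q).obj N ⟶ (extendScalars ψ₁).obj ((extendScalars f).obj N))
    (c1N' : (extendScalars ψ₁).obj ((extendScalars f).obj N) ⟶ (extendScalars q).obj N)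
    (c2N : (extendScalars q).obj N ⟶ (extendScalars ψ₂).obj ((extendScalars f).obj N))
    (c2N' : (extendScalars ψ₂).obj ((extendScalars f).obj N) ⟶ (extendScalars q).obj N)
    (e1M : c1M ≫ c1M' = 𝟙 _) (e1N : c1N ≫ c1N' = 𝟙 _) (e2N : c2N ≫ c2N' = 𝟙 _)
    (e2N' : c2N' ≫ c2N = 𝟙 _)
    (κ1M : ∀ m, c1M.hom (pt q M 1 m) = pt ψ₁ _ 1 (pt f M 1 m))
    (κ2M : ∀ m, c2M.hom (pt q M 1 m) = pt ψ₂ _ 1 (pt f M 1 m))
    (κ1N : ∀ m, c1N.hom (pt q N 1 m) = pt ψ₁ _ 1 (pt f N 1 m))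
    (κ2N : ∀ m, c2N.hom (pt q N 1 m) = pt ψ₂ _ 1 (pt f N 1 m))
    (comm : (extendScalars ψ₁).map hΨ ≫ (c1N' ≫ c2N) =
      (c1M' ≫ c2M) ≫ (extendScalars ψ₂).map hΨ) :
    ∃ φ : M ⟶ N, (extendScalars f).map φ = hΨ := by
  -- the two additive maps
  let Λ₁ : (extendScalars f).obj N →+ (extendScalars q).obj N :=
    AddMonoidHom.mk' (fun y => c1N'.hom (pt ψ₁ _ 1 y)) (by
      intro y y'
      rw [pt_add, map_add])
  let Λ₂ : (extendScalars f).obj N →+ (extendScalars q).obj N :=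
    AddMonoidHom.mk' (fun y => c2N'.hom (pt ψ₂ _ 1 y)) (by
      intro y y'
      rw [pt_add, map_add])
  have inv1N : ∀ z, c1N'.hom (c1N.hom z) = z := by
    intro z
    rw [← ModuleCat.comp_apply, e1N]
    rfl
  have inv1M : ∀ z, c1M'.hom (c1M.hom z) = z := by
    intro z
    rw [← ModuleCat.comp_apply, e1M]
    rfl
  have inv2N : ∀ z, c2N'.hom (c2N.hom z) = z := by
    intro z
    rw [← ModuleCat.comp_apply, e2N]
    rfl
  have inv2N' : ∀ z, c2N.hom (c2N'.hom z) = z := by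
    intro z
    rw [← ModuleCat.comp_apply, e2N']
    rfl
  have hΛ₁ : ∀ b n', Λ₁ (pt f N b n') = pt q N (ψ₁ b) n' := by
    intro b n'
    change c1N'.hom (pt ψ₁ _ 1 (pt f N b n')) = _
    have : pt ψ₁ _ 1 (pt f N b n') = c1N.hom (pt q N (ψ₁ b) n') := by
      rw [pt_pt, pt_one_smul q N (ψ₁ b) n', map_smul, κ1N, smul_pt, mul_one]
    rw [this, inv1N]
  have hΛ₂ : ∀ b n', Λ₂ (pt f N b n') = pt q N (ψ₂ b) n' := by
    intro b n'
    change c2N'.hom (pt ψ₂ _ 1 (pt f N b n')) = _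
    have : pt ψ₂ _ 1 (pt f N b n') = c2N.hom (pt q N (ψ₂ b) n') := by
      rw [pt_pt, pt_one_smul q N (ψ₂ b) n', map_smul, κ2N, smul_pt, mul_one]
    rw [this, inv2N]
  have key : ∀ m : M, ∃ n' : N, hΨ.hom (pt f M 1 m) = pt f N 1 n' := by
    intro m
    apply G2 f q ψ₁ ψ₂ h₁ h₂ hex N Λ₁ Λ₂ hΛ₁ hΛ₂
    have hc := congrArg (fun k => k.hom (pt ψ₁ _ 1 (pt f M 1 m))) comm
    simp only [ModuleCat.hom_comp, LinearMap.comp_apply] at hc
    rw [map_pt, ← κ1M, inv1M, κ2M, map_pt] at hc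
    have h3 := congrArg c2N'.hom hc
    rw [inv2N] at h3
    rw [← inv2N' (pt ψ₂ _ 1 (hΨ.hom (pt f M 1 m))), inv2N] at h3
    exact h3
  choose φ₀ hφ₀ using key
  have hG1 := G1 f hinj N
  have hadd : ∀ m m', φ₀ (m + m') = φ₀ m + φ₀ m' := by
    intro m m'
    apply hG1
    change pt f N 1 (φ₀ (m + m')) = pt f N 1 (φ₀ m + φ₀ m')
    rw [pt_add, ← hφ₀, ← hφ₀, ← hφ₀, pt_add, map_add]
  have hsmul : ∀ (a : A) m, φ₀ (a • m) = a • φ₀ m := by
    intro a m
    apply hG1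
    change pt f N 1 (φ₀ (a • m)) = pt f N 1 (a • φ₀ m)
    rw [← hφ₀, pt_smul, pt_smul, one_mul, pt_one_smul f M (f a) m, map_smul, hφ₀, smul_pt, mul_one]
  let φL : M →ₗ[A] N := { toFun := φ₀, map_add' := hadd, map_smul' := hsmul }
  refine ⟨ModuleCat.ofHom φL, ?_⟩
  apply ModuleCat.hom_ext
  apply LinearMap.ext
  intro x
  induction x using pt_induction with
  | h0 => rw [map_zero, map_zero]
  | h1 s m =>
    rw [map_pt, pt_one_smul f M s m, map_smul, hφ₀, smul_pt, mul_one]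
    rfl
  | h2 x y hx hy => rw [map_add, map_add, hx, hy]

end Core

section Gen
variable {C : Type u₁} [Category.{v₁} C] (F : Pseudofunctor (LocallyDiscrete Cᵒᵖ) Cat.{v', u'})
  {S X₀ : C} (f₀ : X₀ ⟶ S) (M N : F.obj (.mk (op S)))

set_option backward.isDefEq.respectTransparency false in
lemma comm_general
    (Ψ : (F.toDescentData (fun _ : PUnit.{t + 1} => f₀)).obj M ⟶
      (F.toDescentData (fun _ : PUnit.{t + 1} => f₀)).obj N)
    {Y : C} (q : Y ⟶ S) (f₁ f₂ : Y ⟶ X₀) (hf₁ : f₁ ≫ f₀ = q) (hf₂ : f₂ ≫ f₀ = q)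
    (h₁ : f₀.op.toLoc ≫ f₁.op.toLoc = q.op.toLoc) (h₂ : f₀.op.toLoc ≫ f₂.op.toLoc = q.op.toLoc) :
    ∃ (hΨ : (F.map f₀.op.toLoc).toFunctor.obj M ⟶ (F.map f₀.op.toLoc).toFunctor.obj N)
      (c1M : (F.map q.op.toLoc).toFunctor.obj M ⟶
        (F.map f₀.op.toLoc ≫ F.map f₁.op.toLoc).toFunctor.obj M)
      (c1M' : (F.map f₀.op.toLoc ≫ F.map f₁.op.toLoc).toFunctor.obj M ⟶
        (F.map q.op.toLoc).toFunctor.obj M)
      (c2M : (F.map q.op.toLoc).toFunctor.obj M ⟶
        (F.map f₀.op.toLoc ≫ F.map f₂.op.toLoc).toFunctor.obj M)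
      (c1N : (F.map q.op.toLoc).toFunctor.obj N ⟶
        (F.map f₀.op.toLoc ≫ F.map f₁.op.toLoc).toFunctor.obj N)
      (c1N' : (F.map f₀.op.toLoc ≫ F.map f₁.op.toLoc).toFunctor.obj N ⟶
        (F.map q.op.toLoc).toFunctor.obj N)
      (c2N : (F.map q.op.toLoc).toFunctor.obj N ⟶
        (F.map f₀.op.toLoc ≫ F.map f₂.op.toLoc).toFunctor.obj N)
      (c2N' : (F.map f₀.op.toLoc ≫ F.map f₂.op.toLoc).toFunctor.obj N ⟶
        (F.map q.op.toLoc).toFunctor.obj N),
      hΨ = Ψ.hom PUnit.unit ∧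
      c1M = (F.mapComp' f₀.op.toLoc f₁.op.toLoc q.op.toLoc h₁).hom.toNatTrans.app M ∧
      c2M = (F.mapComp' f₀.op.toLoc f₂.op.toLoc q.op.toLoc h₂).hom.toNatTrans.app M ∧
      c1N = (F.mapComp' f₀.op.toLoc f₁.op.toLoc q.op.toLoc h₁).hom.toNatTrans.app N ∧
      c2N = (F.mapComp' f₀.op.toLoc f₂.op.toLoc q.op.toLoc h₂).hom.toNatTrans.app N ∧
      c1M ≫ c1M' = 𝟙 _ ∧ c1N ≫ c1N' = 𝟙 _ ∧ c2N ≫ c2N' = 𝟙 _ ∧ c2N' ≫ c2N = 𝟙 _ ∧
      (F.map f₁.op.toLoc).toFunctor.map hΨ ≫ (c1N' ≫ c2N) =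
        (c1M' ≫ c2M) ≫ (F.map f₂.op.toLoc).toFunctor.map hΨ := by
  refine ⟨Ψ.hom PUnit.unit,
    (F.mapComp' f₀.op.toLoc f₁.op.toLoc q.op.toLoc h₁).hom.toNatTrans.app M,
    (F.mapComp' f₀.op.toLoc f₁.op.toLoc q.op.toLoc h₁).inv.toNatTrans.app M,
    (F.mapComp' f₀.op.toLoc f₂.op.toLoc q.op.toLoc h₂).hom.toNatTrans.app M,
    (F.mapComp' f₀.op.toLoc f₁.op.toLoc q.op.toLoc h₁).hom.toNatTrans.app N,
    (F.mapComp' f₀.op.toLoc f₁.op.toLoc q.op.toLoc h₁).inv.toNatTrans.app N,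
    (F.mapComp' f₀.op.toLoc f₂.op.toLoc q.op.toLoc h₂).hom.toNatTrans.app N,
    (F.mapComp' f₀.op.toLoc f₂.op.toLoc q.op.toLoc h₂).inv.toNatTrans.app N,
    rfl, rfl, rfl, rfl, rfl,
    Cat.Hom.hom_inv_id_toNatTrans_app _ _, Cat.Hom.hom_inv_id_toNatTrans_app _ _,
    Cat.Hom.hom_inv_id_toNatTrans_app _ _, Cat.Hom.inv_hom_id_toNatTrans_app _ _, ?_⟩
  exact Ψ.comm (Y := Y) q (i₁ := PUnit.unit) (i₂ := PUnit.unit) f₁ f₂ hf₁ hf₂

end Gen

section K2
variable (p : ℕ) [Fact p.Prime] (n : ℕ)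

set_option backward.isDefEq.respectTransparency false in
lemma kappa_gen' (A B C : CommRingCat.{u}) (g : A ⟶ B) (h : B ⟶ C) (gh : A ⟶ C) (e : g ≫ h = gh)
    (hcomp : g.op.op.toLoc ≫ h.op.op.toLoc = gh.op.op.toLoc)
    (M : ModuleCat.{u} (TruncatedWittVector p n A)) (m : M) :
    (((wittModPF.{u} p n).mapComp' g.op.op.toLoc h.op.op.toLoc gh.op.op.toLoc
        hcomp).hom.toNatTrans.app M).hom
      (pt (WittGrp.truncMap p n gh.hom) M 1 m) =
      pt (WittGrp.truncMap p n h.hom) _ 1 (pt (WittGrp.truncMap p n g.hom) M 1 m) := by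
  subst e
  unfold Pseudofunctor.mapComp'
  rw [Iso.trans_hom, Cat.Hom₂.comp_app, ModuleCat.hom_comp, LinearMap.comp_apply]
  have h1 := F_map2iso_pt p n ((g ≫ h).op.op.toLoc) (g.op.op.toLoc ≫ h.op.op.toLoc)
    (eqToIso hcomp.symm) M 1 m
  have h2 := kappa p n A B C g h M m
  refine Eq.trans (congrArg _ h1) h2

end K2

section GenB
variable (F : Pseudofunctor (LocallyDiscrete (Opposite.{u + 2} (Opposite.{u + 2} CommRingCat.{u})))
    Cat.{v', u'})
  {A B C : CommRingCat.{u}} (g : A ⟶ B) (h₁ h₂ : B ⟶ C) (gh : A ⟶ C)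

set_option backward.isDefEq.respectTransparency false in
lemma comm_general_B (e₁ : g ≫ h₁ = gh) (e₂ : g ≫ h₂ = gh)
    (hq₁ : g.op.op.toLoc ≫ h₁.op.op.toLoc = gh.op.op.toLoc)
    (hq₂ : g.op.op.toLoc ≫ h₂.op.op.toLoc = gh.op.op.toLoc)
    (M N : F.obj (LocallyDiscrete.mk (Opposite.op.{u + 2} (Opposite.op.{u + 2} A))))
    (Ψ : (F.toDescentData (fun _ : PUnit.{t + 1} => g.op)).obj M ⟶
      (F.toDescentData (fun _ : PUnit.{t + 1} => g.op)).obj N) :
    ∃ (hΨ : (F.map g.op.op.toLoc).toFunctor.obj M ⟶ (F.map g.op.op.toLoc).toFunctor.obj N)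
      (c1M : (F.map gh.op.op.toLoc).toFunctor.obj M ⟶
        (F.map g.op.op.toLoc ≫ F.map h₁.op.op.toLoc).toFunctor.obj M)
      (c1M' : (F.map g.op.op.toLoc ≫ F.map h₁.op.op.toLoc).toFunctor.obj M ⟶
        (F.map gh.op.op.toLoc).toFunctor.obj M)
      (c2M : (F.map gh.op.op.toLoc).toFunctor.obj M ⟶
        (F.map g.op.op.toLoc ≫ F.map h₂.op.op.toLoc).toFunctor.obj M)
      (c1N : (F.map gh.op.op.toLoc).toFunctor.obj N ⟶
        (F.map g.op.op.toLoc ≫ F.map h₁.op.op.toLoc).toFunctor.obj N)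
      (c1N' : (F.map g.op.op.toLoc ≫ F.map h₁.op.op.toLoc).toFunctor.obj N ⟶
        (F.map gh.op.op.toLoc).toFunctor.obj N)
      (c2N : (F.map gh.op.op.toLoc).toFunctor.obj N ⟶
        (F.map g.op.op.toLoc ≫ F.map h₂.op.op.toLoc).toFunctor.obj N)
      (c2N' : (F.map g.op.op.toLoc ≫ F.map h₂.op.op.toLoc).toFunctor.obj N ⟶
        (F.map gh.op.op.toLoc).toFunctor.obj N),
      hΨ = Ψ.hom PUnit.unit ∧
      c1M = (F.mapComp' g.op.op.toLoc h₁.op.op.toLoc gh.op.op.toLoc hq₁).hom.toNatTrans.app M ∧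
      c2M = (F.mapComp' g.op.op.toLoc h₂.op.op.toLoc gh.op.op.toLoc hq₂).hom.toNatTrans.app M ∧
      c1N = (F.mapComp' g.op.op.toLoc h₁.op.op.toLoc gh.op.op.toLoc hq₁).hom.toNatTrans.app N ∧
      c2N = (F.mapComp' g.op.op.toLoc h₂.op.op.toLoc gh.op.op.toLoc hq₂).hom.toNatTrans.app N ∧
      c1M ≫ c1M' = 𝟙 _ ∧ c1N ≫ c1N' = 𝟙 _ ∧ c2N ≫ c2N' = 𝟙 _ ∧ c2N' ≫ c2N = 𝟙 _ ∧
      (F.map h₁.op.op.toLoc).toFunctor.map hΨ ≫ (c1N' ≫ c2N) =
        (c1M' ≫ c2M) ≫ (F.map h₂.op.op.toLoc).toFunctor.map hΨ ∧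
      ∀ φ : M ⟶ N, ((F.toDescentData (fun _ : PUnit.{t + 1} => g.op)).map φ).hom PUnit.unit =
        (F.map g.op.op.toLoc).toFunctor.map φ := by
  refine ⟨Ψ.hom PUnit.unit,
    (F.mapComp' g.op.op.toLoc h₁.op.op.toLoc gh.op.op.toLoc hq₁).hom.toNatTrans.app M,
    (F.mapComp' g.op.op.toLoc h₁.op.op.toLoc gh.op.op.toLoc hq₁).inv.toNatTrans.app M,
    (F.mapComp' g.op.op.toLoc h₂.op.op.toLoc gh.op.op.toLoc hq₂).hom.toNatTrans.app M,
    (F.mapComp' g.op.op.toLoc h₁.op.op.toLoc gh.op.op.toLoc hq₁).hom.toNatTrans.app N,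
    (F.mapComp' g.op.op.toLoc h₁.op.op.toLoc gh.op.op.toLoc hq₁).inv.toNatTrans.app N,
    (F.mapComp' g.op.op.toLoc h₂.op.op.toLoc gh.op.op.toLoc hq₂).hom.toNatTrans.app N,
    (F.mapComp' g.op.op.toLoc h₂.op.op.toLoc gh.op.op.toLoc hq₂).inv.toNatTrans.app N,
    rfl, rfl, rfl, rfl, rfl,
    Cat.Hom.hom_inv_id_toNatTrans_app _ _, Cat.Hom.hom_inv_id_toNatTrans_app _ _,
    Cat.Hom.hom_inv_id_toNatTrans_app _ _, Cat.Hom.inv_hom_id_toNatTrans_app _ _, ?_, ?_⟩
  · exact Ψ.comm (Y := op C) gh.op (i₁ := PUnit.unit) (i₂ := PUnit.unit) h₁.op h₂.op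
      (by rw [← op_comp, e₁]) (by rw [← op_comp, e₂])
  · intro φ
    rfl

end GenB

end Groth.Agent.Helper24.WittDescent
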